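import Cfsg.Agent.H6.DA1c0
import Cfsg.Agent.H6.DA1c1
import Cfsg.Agent.H6.DA1c2
import Cfsg.Agent.H6.DA1c3
import Cfsg.Agent.H6.DA1c4
import Cfsg.Agent.H6.DA1c5
import Cfsg.Agent.H6.DA1c6
import Cfsg.Agent.H6.DA1c7
import Cfsg.Agent.H6.DA1c8
import Cfsg.Agent.H6.DA1c9
import Cfsg.Agent.H6.DA1c10
import Cfsg.Agent.H6.DA1c11
import Cfsg.Agent.H6.DA1c12
import Cfsg.Agent.H6.DA1c13
import Cfsg.Agent.H6.DA1c14
import Cfsg.Agent.H6.DA1c15
import Cfsg.Agent.H6.DA1c16
import Cfsg.Agent.H6.DHS

/-! Assembly of the certificates. -/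

set_option autoImplicit false
set_option maxRecDepth 100000
set_option Elab.async false
set_option linter.all false

namespace H6.HS.A1
noncomputable section
universe u
theorem d7 : Dd.{u} p g7 := dd .nil e7
theorem d8 : Dd.{u} p g8 := dd .nil e8
theorem d9 : Dd.{u} p g9 := dd .nil e9
theorem d10 : Dd.{u} p g10 := dd .nil e10
theorem d11 : Dd.{u} p g11 := dd .nil e11
theorem d1 : Dd.{u} p g1 := dd (.cons d7 (.cons d8 (.cons d9 (.cons d10 (.cons d11 .nil))))) e1
theorem d70 : Dd.{u} p g70 := dd .nil e70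
theorem d71 : Dd.{u} p g71 := dd .nil e71
theorem d72 : Dd.{u} p g72 := dd .nil e72
theorem d73 : Dd.{u} p g73 := dd .nil e73
theorem d74 : Dd.{u} p g74 := dd .nil e74
theorem d75 : Dd.{u} p g75 := dd .nil e75
theorem d76 : Dd.{u} p g76 := dd .nil e76
theorem d77 : Dd.{u} p g77 := dd .nil e77
theorem d78 : Dd.{u} p g78 := dd .nil e78
theorem d79 : Dd.{u} p g79 := dd .nil e79
theorem d80 : Dd.{u} p g80 := dd .nil e80
theorem d81 : Dd.{u} p g81 := dd .nil e81
theorem d82 : Dd.{u} p g82 := dd .nil e82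
theorem d83 : Dd.{u} p g83 := dd .nil e83
theorem d36 : Dd.{u} p g36 := dd (.cons d70 (.cons d71 (.cons d72 (.cons d73 (.cons d74 (.cons d75 (.cons d76 (.cons d77 (.cons d78 (.cons d79 (.cons d80 (.cons d81 (.cons d82 (.cons d83 .nil)))))))))))))) e36
theorem d84 : Dd.{u} p g84 := dd .nil e84
theorem d85 : Dd.{u} p g85 := dd .nil e85
theorem d86 : Dd.{u} p g86 := dd (.cons d85 .nil) e86
theorem d87 : Dd.{u} p g87 := dd .nil e87
theorem d88 : Dd.{u} p g88 := dd .nil e88
theorem d89 : Dd.{u} p g89 := dd (.cons d88 .nil) e89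
theorem d90 : Dd.{u} p g90 := dd (.cons d87 .nil) e90
theorem d91 : Dd.{u} p g91 := dd .nil e91
theorem d92 : Dd.{u} p g92 := dd .nil e92
theorem d93 : Dd.{u} p g93 := dd (.cons d91 .nil) e93
theorem d94 : Dd.{u} p g94 := dd .nil e94
theorem d95 : Dd.{u} p g95 := dd .nil e95
theorem d96 : Dd.{u} p g96 := dd (.cons d95 .nil) e96
theorem d37 : Dd.{u} p g37 := dd (.cons d84 (.cons d85 (.cons d86 (.cons d87 (.cons d88 (.cons d89 (.cons d90 (.cons d91 (.cons d92 (.cons d93 (.cons d94 (.cons d95 (.cons d96 .nil))))))))))))) e37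
theorem d39 : Dd.{u} p g39 := dd .nil e39
theorem d40 : Dd.{u} p g40 := dd .nil e40
theorem d41 : Dd.{u} p g41 := dd .nil e41
theorem d97 : Dd.{u} p g97 := dd .nil e97
theorem d98 : Dd.{u} p g98 := dd (.cons d97 .nil) e98
theorem d99 : Dd.{u} p g99 := dd (.cons d97 .nil) e99
theorem d100 : Dd.{u} p g100 := dd (.cons d97 .nil) e100
theorem d101 : Dd.{u} p g101 := dd .nil e101
theorem d102 : Dd.{u} p g102 := dd (.cons d101 .nil) e102
theorem d103 : Dd.{u} p g103 := dd (.cons d101 .nil) e103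
theorem d104 : Dd.{u} p g104 := dd (.cons d101 .nil) e104
theorem d105 : Dd.{u} p g105 := dd .nil e105
theorem d106 : Ds.{u} p g106 := ds .nil .nil e106
theorem d107 : Dd.{u} p g107 := dn .nil (.cons d106 .nil) e107
theorem d108 : Dd.{u} p g108 := dn .nil (.cons d106 .nil) e108
theorem d109 : Dd.{u} p g109 := dn .nil (.cons d106 .nil) e109
theorem d42 : Dd.{u} p g42 := dn (.cons d97 (.cons d98 (.cons d99 (.cons d100 (.cons d101 (.cons d102 (.cons d103 (.cons d104 (.cons d105 (.cons d107 (.cons d108 (.cons d109 .nil)))))))))))) (.cons d106 .nil) e42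
theorem d38 : Ds.{u} p g38 := ds .nil .nil e38
theorem d12 : Dd.{u} p g12 := dn (.cons d36 (.cons d37 (.cons d39 (.cons d40 (.cons d41 (.cons d42 .nil)))))) (.cons d38 .nil) e12
theorem d13 : Dd.{u} p g13 := dd .nil e13
theorem d14 : Dd.{u} p g14 := dd .nil e14
theorem d15 : Dd.{u} p g15 := dd .nil e15
theorem d149 : Dd.{u} p g149 := dd .nil e149
theorem d150 : Dd.{u} p g150 := dd .nil e150
theorem d151 : Dd.{u} p g151 := dd .nil e151
theorem d152 : Dd.{u} p g152 := dd .nil e152
theorem d153 : Dd.{u} p g153 := dd .nil e153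
theorem d154 : Dd.{u} p g154 := dd .nil e154
theorem d155 : Dd.{u} p g155 := dd .nil e155
theorem d156 : Dd.{u} p g156 := dd .nil e156
theorem d157 : Dd.{u} p g157 := dd .nil e157
theorem d158 : Dd.{u} p g158 := dd .nil e158
theorem d159 : Dd.{u} p g159 := dd .nil e159
theorem d160 : Dd.{u} p g160 := dd .nil e160
theorem d161 : Dd.{u} p g161 := dd .nil e161
theorem d162 : Dd.{u} p g162 := dd .nil e162
theorem d110 : Dd.{u} p g110 := dd (.cons d149 (.cons d150 (.cons d151 (.cons d152 (.cons d153 (.cons d154 (.cons d155 (.cons d156 (.cons d157 (.cons d158 (.cons d159 (.cons d160 (.cons d161 (.cons d162 .nil)))))))))))))) e110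
theorem d163 : Dd.{u} p g163 := dd .nil e163
theorem d164 : Dd.{u} p g164 := dd .nil e164
theorem d165 : Dd.{u} p g165 := dd (.cons d164 .nil) e165
theorem d166 : Dd.{u} p g166 := dd .nil e166
theorem d167 : Dd.{u} p g167 := dd .nil e167
theorem d168 : Dd.{u} p g168 := dd (.cons d167 .nil) e168
theorem d169 : Dd.{u} p g169 := dd .nil e169
theorem d170 : Dd.{u} p g170 := dd .nil e170
theorem d171 : Dd.{u} p g171 := dd .nil e171
theorem d172 : Dd.{u} p g172 := dd (.cons d170 .nil) e172
theorem d173 : Dd.{u} p g173 := dd .nil e173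
theorem d174 : Dd.{u} p g174 := dd .nil e174
theorem d175 : Dd.{u} p g175 := dd .nil e175
theorem d111 : Dd.{u} p g111 := dd (.cons d163 (.cons d164 (.cons d165 (.cons d166 (.cons d167 (.cons d168 (.cons d169 (.cons d170 (.cons d171 (.cons d172 (.cons d173 (.cons d174 (.cons d175 .nil))))))))))))) e111
theorem d112 : Dd.{u} p g112 := dd .nil e112
theorem d43 : Dd.{u} p g43 := dd (.cons d110 (.cons d111 (.cons d112 .nil))) e43
theorem d113 : Dd.{u} p g113 := dd .nil e113
theorem d44 : Dd.{u} p g44 := dd (.cons d113 .nil) e44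
theorem d45 : Dd.{u} p g45 := dd .nil e45
theorem d16 : Dd.{u} p g16 := dd (.cons d43 (.cons d44 (.cons d45 .nil))) e16
theorem d2 : Dd.{u} p g2 := dd (.cons d12 (.cons d13 (.cons d14 (.cons d15 (.cons d16 .nil))))) e2
theorem d46 : Dd.{u} p g46 := dd .nil e46
theorem d17 : Dd.{u} p g17 := dd (.cons d46 .nil) e17
theorem d47 : Dd.{u} p g47 := dd .nil e47
theorem d48 : Dd.{u} p g48 := dd .nil e48
theorem d49 : Dd.{u} p g49 := dd .nil e49
theorem d50 : Dd.{u} p g50 := dd .nil e50
theorem d18 : Dd.{u} p g18 := dd (.cons d47 (.cons d48 (.cons d49 (.cons d50 .nil)))) e18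
theorem d19 : Dd.{u} p g19 := dd .nil e19
theorem d20 : Dd.{u} p g20 := dd .nil e20
theorem d21 : Dd.{u} p g21 := dd .nil e21
theorem d22 : Dd.{u} p g22 := dd .nil e22
theorem d23 : Dd.{u} p g23 := dd .nil e23
theorem d51 : Dd.{u} p g51 := dd (.cons d47 (.cons d48 (.cons d49 (.cons d50 .nil)))) e51
theorem d24 : Dd.{u} p g24 := dd (.cons d51 (.cons d19 (.cons d20 (.cons d21 (.cons d22 (.cons d23 .nil)))))) e24
theorem d114 : Dd.{u} p g114 := dd (.cons d47 (.cons d48 (.cons d49 (.cons d50 .nil)))) e114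
theorem d52 : Dd.{u} p g52 := dd (.cons d114 (.cons d19 (.cons d20 (.cons d21 (.cons d22 (.cons d23 .nil)))))) e52
theorem d53 : Dd.{u} p g53 := dd (.cons d47 (.cons d48 (.cons d49 (.cons d50 .nil)))) e53
theorem d25 : Dd.{u} p g25 := dd (.cons d52 (.cons d53 (.cons d19 (.cons d20 (.cons d21 (.cons d22 (.cons d23 .nil))))))) e25
theorem d26 : Dd.{u} p g26 := dd .nil e26
theorem d258 : Dd.{u} p g258 := dd .nil e258
theorem d259 : Dd.{u} p g259 := dd .nil e259
theorem d297 : Dd.{u} p g297 := dd .nil e297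
theorem d260 : Dd.{u} p g260 := dd (.cons d297 .nil) e260
theorem d261 : Dd.{u} p g261 := dd .nil e261
theorem d252 : Dd.{u} p g252 := dd (.cons d258 (.cons d259 (.cons d260 (.cons d261 .nil)))) e252
theorem d253 : Dd.{u} p g253 := dd .nil e253
theorem d254 : Dd.{u} p g254 := dd .nil e254
theorem d255 : Dd.{u} p g255 := dd .nil e255
theorem d256 : Dd.{u} p g256 := dd .nil e256
theorem d179 : Dd.{u} p g179 := dd .nil e179
theorem d180 : Dd.{u} p g180 := dd .nil e180
theorem d181 : Dd.{u} p g181 := dd .nil e181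
theorem d182 : Dd.{u} p g182 := dd .nil e182
theorem d298 : Dd.{u} p g298 := dd .nil e298
theorem d262 : Dd.{u} p g262 := dd (.cons d298 .nil) e262
theorem d263 : Dd.{u} p g263 := dd .nil e263
theorem d264 : Dd.{u} p g264 := dd .nil e264
theorem d265 : Dd.{u} p g265 := dd .nil e265
theorem d257 : Dd.{u} p g257 := dd (.cons d262 (.cons d263 (.cons d264 (.cons d265 .nil)))) e257
theorem d176 : Dd.{u} p g176 := dd (.cons d252 (.cons d253 (.cons d254 (.cons d255 (.cons d256 (.cons d179 (.cons d180 (.cons d181 (.cons d182 (.cons d257 .nil)))))))))) e176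
theorem d177 : Dd.{u} p g177 := dd (.cons d258 (.cons d259 (.cons d260 (.cons d261 .nil)))) e177
theorem d178 : Dd.{u} p g178 := dd (.cons d253 (.cons d254 (.cons d255 (.cons d256 .nil)))) e178
theorem d183 : Dd.{u} p g183 := dd (.cons d262 (.cons d263 (.cons d264 (.cons d265 .nil)))) e183
theorem d299 : Dd.{u} p g299 := dd (.cons d258 (.cons d259 (.cons d260 (.cons d261 .nil)))) e299
theorem d300 : Dd.{u} p g300 := dd (.cons d253 (.cons d254 (.cons d255 (.cons d256 .nil)))) e300
theorem d301 : Dd.{u} p g301 := dd (.cons d262 (.cons d263 (.cons d264 (.cons d265 .nil)))) e301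
theorem d266 : Dd.{u} p g266 := dd (.cons d299 (.cons d300 (.cons d179 (.cons d180 (.cons d181 (.cons d182 (.cons d301 .nil))))))) e266
theorem d267 : Dd.{u} p g267 := dd (.cons d258 (.cons d259 (.cons d260 (.cons d261 .nil)))) e267
theorem d268 : Dd.{u} p g268 := dd (.cons d253 (.cons d254 (.cons d255 (.cons d256 .nil)))) e268
theorem d269 : Dd.{u} p g269 := dd (.cons d262 (.cons d263 (.cons d264 (.cons d265 .nil)))) e269
theorem d184 : Dd.{u} p g184 := dd (.cons d266 (.cons d267 (.cons d268 (.cons d179 (.cons d180 (.cons d181 (.cons d182 (.cons d269 .nil)))))))) e184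
theorem d185 : Dd.{u} p g185 := dd .nil e185
theorem d115 : Dd.{u} p g115 := dd (.cons d176 (.cons d177 (.cons d178 (.cons d179 (.cons d180 (.cons d181 (.cons d182 (.cons d183 (.cons d184 (.cons d185 .nil)))))))))) e115
theorem d186 : Dd.{u} p g186 := dd .nil e186
theorem d116 : Dd.{u} p g116 := dd (.cons d186 .nil) e116
theorem d117 : Dd.{u} p g117 := dd .nil e117
theorem d272 : Dd.{u} p g272 := dd .nil e272
theorem d194 : Dd.{u} p g194 := dd (.cons d272 .nil) e194
theorem d195 : Dd.{u} p g195 := dd .nil e195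
theorem d273 : Dd.{u} p g273 := dd .nil e273
theorem d196 : Dd.{u} p g196 := dd (.cons d273 .nil) e196
theorem d197 : Dd.{u} p g197 := dd .nil e197
theorem d270 : Dd.{u} p g270 := dd (.cons d194 (.cons d195 (.cons d196 (.cons d197 .nil)))) e270
theorem d121 : Dd.{u} p g121 := dd .nil e121
theorem d122 : Dd.{u} p g122 := dd .nil e122
theorem d123 : Dd.{u} p g123 := dd .nil e123
theorem d124 : Dd.{u} p g124 := dd .nil e124
theorem d198 : Dd.{u} p g198 := dd .nil e198
theorem d199 : Dd.{u} p g199 := dd .nil e199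
theorem d200 : Dd.{u} p g200 := dd .nil e200
theorem d201 : Dd.{u} p g201 := dd .nil e201
theorem d202 : Dd.{u} p g202 := dd .nil e202
theorem d274 : Dd.{u} p g274 := dd .nil e274
theorem d203 : Dd.{u} p g203 := dd (.cons d274 .nil) e203
theorem d275 : Dd.{u} p g275 := dd .nil e275
theorem d204 : Dd.{u} p g204 := dd (.cons d275 .nil) e204
theorem d205 : Dd.{u} p g205 := dd .nil e205
theorem d271 : Dd.{u} p g271 := dd (.cons d202 (.cons d203 (.cons d204 (.cons d205 .nil)))) e271
theorem d187 : Dd.{u} p g187 := dd (.cons d270 (.cons d121 (.cons d122 (.cons d123 (.cons d124 (.cons d198 (.cons d199 (.cons d200 (.cons d201 (.cons d271 .nil)))))))))) e187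
theorem d188 : Dd.{u} p g188 := dd (.cons d194 (.cons d195 (.cons d196 (.cons d197 .nil)))) e188
theorem d189 : Dd.{u} p g189 := dd (.cons d198 (.cons d199 (.cons d200 (.cons d201 .nil)))) e189
theorem d190 : Dd.{u} p g190 := dd (.cons d202 (.cons d203 (.cons d204 (.cons d205 .nil)))) e190
theorem d118 : Dd.{u} p g118 := dd (.cons d187 (.cons d188 (.cons d121 (.cons d122 (.cons d123 (.cons d124 (.cons d189 (.cons d190 .nil)))))))) e118
theorem d191 : Dd.{u} p g191 := dd (.cons d194 (.cons d195 (.cons d196 (.cons d197 .nil)))) e191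
theorem d192 : Dd.{u} p g192 := dd (.cons d198 (.cons d199 (.cons d200 (.cons d201 .nil)))) e192
theorem d193 : Dd.{u} p g193 := dd (.cons d202 (.cons d203 (.cons d204 (.cons d205 .nil)))) e193
theorem d119 : Dd.{u} p g119 := dd (.cons d191 (.cons d121 (.cons d122 (.cons d123 (.cons d124 (.cons d192 (.cons d193 .nil))))))) e119
theorem d120 : Dd.{u} p g120 := dd (.cons d194 (.cons d195 (.cons d196 (.cons d197 .nil)))) e120
theorem d125 : Dd.{u} p g125 := dd (.cons d198 (.cons d199 (.cons d200 (.cons d201 .nil)))) e125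
theorem d126 : Dd.{u} p g126 := dd (.cons d202 (.cons d203 (.cons d204 (.cons d205 .nil)))) e126
theorem d206 : Dd.{u} p g206 := dd .nil e206
theorem d127 : Dd.{u} p g127 := dd (.cons d206 .nil) e127
theorem d54 : Dd.{u} p g54 := dd (.cons d115 (.cons d116 (.cons d117 (.cons d118 (.cons d119 (.cons d120 (.cons d121 (.cons d122 (.cons d123 (.cons d124 (.cons d125 (.cons d126 (.cons d127 .nil))))))))))))) e54
theorem d128 : Dd.{u} p g128 := dd .nil e128
theorem d55 : Dd.{u} p g55 := dd (.cons d128 .nil) e55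
theorem d130 : Dd.{u} p g130 := dd .nil e130
theorem d131 : Dd.{u} p g131 := dd .nil e131
theorem d132 : Dd.{u} p g132 := dd .nil e132
theorem d133 : Dd.{u} p g133 := dd .nil e133
theorem d278 : Dd.{u} p g278 := dd .nil e278
theorem d211 : Dd.{u} p g211 := dd (.cons d278 .nil) e211
theorem d212 : Dd.{u} p g212 := dd .nil e212
theorem d213 : Dd.{u} p g213 := dd .nil e213
theorem d214 : Dd.{u} p g214 := dd .nil e214
theorem d276 : Dd.{u} p g276 := dd (.cons d211 (.cons d212 (.cons d213 (.cons d214 .nil)))) e276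
theorem d279 : Dd.{u} p g279 := dd .nil e279
theorem d215 : Dd.{u} p g215 := dd (.cons d279 .nil) e215
theorem d216 : Dd.{u} p g216 := dd .nil e216
theorem d217 : Dd.{u} p g217 := dd .nil e217
theorem d218 : Dd.{u} p g218 := dd .nil e218
theorem d277 : Dd.{u} p g277 := dd (.cons d215 (.cons d216 (.cons d217 (.cons d218 .nil)))) e277
theorem d219 : Dd.{u} p g219 := dd .nil e219
theorem d220 : Dd.{u} p g220 := dd .nil e220
theorem d221 : Dd.{u} p g221 := dd .nil e221
theorem d222 : Dd.{u} p g222 := dd .nil e222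
theorem d207 : Dd.{u} p g207 := dd (.cons d130 (.cons d131 (.cons d132 (.cons d133 (.cons d276 (.cons d277 (.cons d219 (.cons d220 (.cons d221 (.cons d222 .nil)))))))))) e207
theorem d208 : Dd.{u} p g208 := dd (.cons d211 (.cons d212 (.cons d213 (.cons d214 .nil)))) e208
theorem d209 : Dd.{u} p g209 := dd (.cons d215 (.cons d216 (.cons d217 (.cons d218 .nil)))) e209
theorem d210 : Dd.{u} p g210 := dd (.cons d219 (.cons d220 (.cons d221 (.cons d222 .nil)))) e210
theorem d129 : Dd.{u} p g129 := dd (.cons d207 (.cons d130 (.cons d131 (.cons d132 (.cons d133 (.cons d208 (.cons d209 (.cons d210 .nil)))))))) e129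
theorem d134 : Dd.{u} p g134 := dd (.cons d211 (.cons d212 (.cons d213 (.cons d214 .nil)))) e134
theorem d135 : Dd.{u} p g135 := dd (.cons d215 (.cons d216 (.cons d217 (.cons d218 .nil)))) e135
theorem d136 : Dd.{u} p g136 := dd (.cons d219 (.cons d220 (.cons d221 (.cons d222 .nil)))) e136
theorem d223 : Dd.{u} p g223 := dd .nil e223
theorem d224 : Dd.{u} p g224 := dd .nil e224
theorem d225 : Dd.{u} p g225 := dd .nil e225
theorem d226 : Dd.{u} p g226 := dd .nil e226
theorem d302 : Dd.{u} p g302 := dd .nil e302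
theorem d280 : Dd.{u} p g280 := dd (.cons d302 .nil) e280
theorem d281 : Dd.{u} p g281 := dd .nil e281
theorem d282 : Dd.{u} p g282 := dd .nil e282
theorem d283 : Dd.{u} p g283 := dd .nil e283
theorem d227 : Dd.{u} p g227 := dd (.cons d280 (.cons d281 (.cons d282 (.cons d283 .nil)))) e227
theorem d303 : Dd.{u} p g303 := dd .nil e303
theorem d284 : Dd.{u} p g284 := dd (.cons d303 .nil) e284
theorem d285 : Dd.{u} p g285 := dd .nil e285
theorem d286 : Dd.{u} p g286 := dd .nil e286
theorem d287 : Dd.{u} p g287 := dd .nil e287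
theorem d228 : Dd.{u} p g228 := dd (.cons d284 (.cons d285 (.cons d286 (.cons d287 .nil)))) e228
theorem d229 : Dd.{u} p g229 := dd .nil e229
theorem d230 : Dd.{u} p g230 := dd .nil e230
theorem d231 : Dd.{u} p g231 := dd .nil e231
theorem d232 : Dd.{u} p g232 := dd .nil e232
theorem d137 : Dd.{u} p g137 := dd (.cons d223 (.cons d224 (.cons d225 (.cons d226 (.cons d227 (.cons d228 (.cons d229 (.cons d230 (.cons d231 (.cons d232 .nil)))))))))) e137
theorem d56 : Dd.{u} p g56 := dd (.cons d129 (.cons d130 (.cons d131 (.cons d132 (.cons d133 (.cons d134 (.cons d135 (.cons d136 (.cons d137 .nil))))))))) e56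
theorem d304 : Ds.{u} p g304 := ds .nil .nil e304
theorem d305 : Ds.{u} p g305 := ds .nil .nil e305
theorem d306 : Ds.{u} p g306 := ds .nil .nil e306
theorem d307 : Ds.{u} p g307 := ds .nil .nil e307
theorem d290 : Ds.{u} p g290 := ds .nil (.cons d304 (.cons d305 (.cons d306 (.cons d307 .nil)))) e290
theorem d239 : Dd.{u} p g239 := dn .nil (.cons d290 .nil) e239
theorem d240 : Dd.{u} p g240 := dd .nil e240
theorem d291 : Dd.{u} p g291 := dd .nil e291
theorem d241 : Dd.{u} p g241 := dd (.cons d291 .nil) e241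
theorem d242 : Dd.{u} p g242 := dd .nil e242
theorem d233 : Dd.{u} p g233 := dd (.cons d239 (.cons d240 (.cons d241 (.cons d242 .nil)))) e233
theorem d140 : Dd.{u} p g140 := dd .nil e140
theorem d141 : Dd.{u} p g141 := dd .nil e141
theorem d142 : Dd.{u} p g142 := dd .nil e142
theorem d143 : Dd.{u} p g143 := dd .nil e143
theorem d288 : Ds.{u} p g288 := ds .nil .nil e288
theorem d234 : Dd.{u} p g234 := dn .nil (.cons d288 .nil) e234
theorem d289 : Ds.{u} p g289 := ds .nil .nil e289
theorem d235 : Dd.{u} p g235 := dn .nil (.cons d289 .nil) e235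
theorem d236 : Dd.{u} p g236 := dd .nil e236
theorem d237 : Dd.{u} p g237 := dd .nil e237
theorem d243 : Dd.{u} p g243 := dd .nil e243
theorem d308 : Ds.{u} p g308 := ds .nil .nil e308
theorem d309 : Ds.{u} p g309 := ds .nil .nil e309
theorem d292 : Ds.{u} p g292 := ds .nil (.cons d308 (.cons d309 .nil)) e292
theorem d244 : Dd.{u} p g244 := dn .nil (.cons d292 .nil) e244
theorem d245 : Dd.{u} p g245 := dd .nil e245
theorem d293 : Dd.{u} p g293 := dd .nil e293
theorem d246 : Dd.{u} p g246 := dd (.cons d293 .nil) e246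
theorem d238 : Dd.{u} p g238 := dd (.cons d243 (.cons d244 (.cons d245 (.cons d246 .nil)))) e238
theorem d138 : Dd.{u} p g138 := dd (.cons d233 (.cons d140 (.cons d141 (.cons d142 (.cons d143 (.cons d234 (.cons d235 (.cons d236 (.cons d237 (.cons d238 .nil)))))))))) e138
theorem d139 : Dd.{u} p g139 := dd (.cons d239 (.cons d240 (.cons d241 (.cons d242 .nil)))) e139
theorem d144 : Dd.{u} p g144 := dd (.cons d234 (.cons d235 (.cons d236 (.cons d237 .nil)))) e144
theorem d145 : Dd.{u} p g145 := dd (.cons d243 (.cons d244 (.cons d245 (.cons d246 .nil)))) e145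
theorem d294 : Dd.{u} p g294 := dd (.cons d239 (.cons d240 (.cons d241 (.cons d242 .nil)))) e294
theorem d295 : Dd.{u} p g295 := dd (.cons d234 (.cons d235 (.cons d236 (.cons d237 .nil)))) e295
theorem d296 : Dd.{u} p g296 := dd (.cons d243 (.cons d244 (.cons d245 (.cons d246 .nil)))) e296
theorem d247 : Dd.{u} p g247 := dd (.cons d294 (.cons d140 (.cons d141 (.cons d142 (.cons d143 (.cons d295 (.cons d296 .nil))))))) e247
theorem d248 : Dd.{u} p g248 := dd (.cons d239 (.cons d240 (.cons d241 (.cons d242 .nil)))) e248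
theorem d249 : Dd.{u} p g249 := dd (.cons d234 (.cons d235 (.cons d236 (.cons d237 .nil)))) e249
theorem d250 : Dd.{u} p g250 := dd (.cons d243 (.cons d244 (.cons d245 (.cons d246 .nil)))) e250
theorem d146 : Dd.{u} p g146 := dd (.cons d247 (.cons d248 (.cons d140 (.cons d141 (.cons d142 (.cons d143 (.cons d249 (.cons d250 .nil)))))))) e146
theorem d57 : Dd.{u} p g57 := dd (.cons d138 (.cons d139 (.cons d140 (.cons d141 (.cons d142 (.cons d143 (.cons d144 (.cons d145 (.cons d146 .nil))))))))) e57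
theorem d147 : Dd.{u} p g147 := dd .nil e147
theorem d58 : Dd.{u} p g58 := dd (.cons d147 .nil) e58
theorem d27 : Dd.{u} p g27 := dd (.cons d54 (.cons d55 (.cons d56 (.cons d57 (.cons d58 .nil))))) e27
theorem d3 : Dd.{u} p g3 := dd (.cons d17 (.cons d18 (.cons d19 (.cons d20 (.cons d21 (.cons d22 (.cons d23 (.cons d24 (.cons d25 (.cons d26 (.cons d27 .nil))))))))))) e3
theorem d59 : Dd.{u} p g59 := dd .nil e59
theorem d28 : Dd.{u} p g28 := dd (.cons d59 .nil) e28
theorem d29 : Dd.{u} p g29 := dd .nil e29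
theorem d30 : Dd.{u} p g30 := dd .nil e30
theorem d31 : Dd.{u} p g31 := dd .nil e31
theorem d32 : Dd.{u} p g32 := dd .nil e32
theorem d33 : Dd.{u} p g33 := dd .nil e33
theorem d34 : Dd.{u} p g34 := dd .nil e34
theorem d60 : Dd.{u} p g60 := dd .nil e60
theorem d61 : Dd.{u} p g61 := dd .nil e61
theorem d62 : Dd.{u} p g62 := dd .nil e62
theorem d63 : Dd.{u} p g63 := dd .nil e63
theorem d64 : Dd.{u} p g64 := dd .nil e64
theorem d65 : Dd.{u} p g65 := dd .nil e65
theorem d66 : Dd.{u} p g66 := dd .nil e66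
theorem d67 : Dd.{u} p g67 := dd .nil e67
theorem d251 : Dd.{u} p g251 := dd .nil e251
theorem d148 : Dd.{u} p g148 := dd (.cons d251 .nil) e148
theorem d68 : Dd.{u} p g68 := dd (.cons d148 .nil) e68
theorem d69 : Dd.{u} p g69 := dd .nil e69
theorem d35 : Dd.{u} p g35 := dd (.cons d60 (.cons d61 (.cons d62 (.cons d63 (.cons d64 (.cons d65 (.cons d66 (.cons d67 (.cons d68 (.cons d69 .nil)))))))))) e35
theorem d4 : Dd.{u} p g4 := dd (.cons d28 (.cons d29 (.cons d30 (.cons d31 (.cons d32 (.cons d33 (.cons d34 (.cons d35 .nil)))))))) e4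
theorem d5 : Dd.{u} p g5 := dd .nil e5
theorem d6 : Dd.{u} p g6 := dd .nil e6
theorem d0 : Dd.{u} p g0 := dd (.cons d1 (.cons d2 (.cons d3 (.cons d4 (.cons d5 (.cons d6 .nil)))))) e0
end
end H6.HS.A1
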