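import Cfsg.Agent.H27.MS2

/-! S5899, chunk `TD`: the tall case with dihedral Sylow subgroups. -/

set_option autoImplicit false
set_option linter.unusedVariables false

universe u

namespace H6.MS
open Subgroup H17.GS
open H19 hiding eq_bot_mono
open H29.PU (bm bm_le nrm_bm)
open H27.MS

section dih
variable {X : Type*} [Group X] {a b g : X}

theorem inv_ab (ha : a * a = 1) (hb : b * b = 1) (i : ℤ) : a * (a * b) ^ i = (a * b) ^ (-i) * a := by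
  have e : a * (a * b) * a⁻¹ = (a * b)⁻¹ := by
    rw [← mul_assoc, ha, one_mul, mul_inv_rev, inv_eq_of_mul_eq_one_right hb]
  rw [zpow_neg, ← inv_zpow, ← e, conj_zpow]; group

theorem nf (ha : a * a = 1) (hb : b * b = 1) (hg : g ∈ zpowers a ⊔ zpowers b) :
    ∃ i : ℤ, g = (a * b) ^ i ∨ g = (a * b) ^ i * a := by
  let K : Subgroup X :=
    { carrier := {g | ∃ i : ℤ, g = (a * b) ^ i ∨ g = (a * b) ^ i * a}
      one_mem' := ⟨0, Or.inl (zpow_zero _).symm⟩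
      mul_mem' := by
        rintro _ _ ⟨i, rfl | rfl⟩ ⟨j, rfl | rfl⟩
        · exact ⟨i + j, Or.inl (zpow_add _ _ _).symm⟩
        · exact ⟨i + j, Or.inr (by rw [zpow_add, mul_assoc])⟩
        · exact ⟨i + -j, Or.inr (by rw [mul_assoc, inv_ab ha hb, zpow_add, mul_assoc])⟩
        · exact ⟨i + -j, Or.inl (by
            rw [mul_assoc, ← mul_assoc a, inv_ab ha hb, mul_assoc, ha, mul_one, zpow_add])⟩
      inv_mem' := by
        rintro _ ⟨i, rfl | rfl⟩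
        · exact ⟨-i, Or.inl (zpow_neg _ _).symm⟩
        · exact ⟨i, Or.inr (by
            rw [mul_inv_rev, inv_eq_of_mul_eq_one_right ha, ← zpow_neg, inv_ab ha hb, neg_neg])⟩ }
  have : zpowers a ⊔ zpowers b ≤ K := sup_le (zpowers_le.2 ⟨0, Or.inr (by simp)⟩) (zpowers_le.2 ⟨-1, Or.inr (by
    rw [← inv_ab ha hb, zpow_one, ← mul_assoc, ha, one_mul])⟩)
  exact this hg

theorem dih [Finite X] {n : ℕ} (ha : a * a = 1) (hb : b * b = 1) (c : #(zpowers a ⊔ zpowers b) = 2 ^ (n + 1))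
    (o : (a * b) ^ 2 ^ n = 1) : orderOf (a * b) = 2 ^ n ∧ a ∉ zpowers (a * b) ∧
      ∀ V ≤ zpowers a ⊔ zpowers b, (∀ v ∈ V, v * v = 1) → #V ≤ 4 := by
  have aH : a ∈ zpowers a ⊔ zpowers b := mem_sup_left (mem_zpowers a)
  have RH : zpowers (a * b) ≤ zpowers a ⊔ zpowers b := zpowers_le.2 (mul_mem aH (mem_sup_right (mem_zpowers b)))
  have d : (zpowers (a * b)).relIndex (zpowers a ⊔ zpowers b) ∣ 2 := relIndex_dvd_two_iff.2 ⟨a, aH, fun g hg => by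
    obtain ⟨i, rfl | rfl⟩ := nf ha hb hg
    · exact Or.inr (zpow_mem_zpowers _ _)
    · exact Or.inl (by rw [mul_assoc, ha, mul_one]; exact zpow_mem_zpowers _ _)⟩
  have m := H19.card_mul_relIndex RH
  have l : orderOf (a * b) ≤ 2 ^ n := Nat.le_of_dvd (by positivity) (orderOf_dvd_of_pow_eq_one o)
  rw [Nat.card_zpowers, c, pow_succ] at m
  have p : 0 < 2 ^ n := by positivity
  have r : (zpowers (a * b)).relIndex (zpowers a ⊔ zpowers b) = 2 := by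
    rcases (Nat.dvd_prime Nat.prime_two).1 d with e | e
    · rw [e] at m; omega
    · exact e
  rw [r] at m
  refine ⟨by omega, fun k => ?_, fun V l v => ?_⟩
  · have : zpowers a ⊔ zpowers b ≤ zpowers (a * b) := sup_le (zpowers_le.2 k) (zpowers_le.2 (by
      have := mul_mem k (mem_zpowers (a * b)); rwa [← mul_assoc, ha, one_mul] at this))
    rw [relIndex_eq_one.2 this] at r; omega
  · have m2 := H19.card_mul_relIndex (inf_le_right : zpowers (a * b) ⊓ V ≤ V)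
    rw [inf_relIndex_right] at m2
    have i2 := relIndex_le_of_le_right (H := zpowers (a * b)) l (by omega)
    haveI : IsCyclic ↥(zpowers (a * b) ⊓ V) := Subgroup.isCyclic_of_le inf_le_left
    have i3 : #(zpowers (a * b) ⊓ V) ≤ 2 := by
      rw [← IsCyclic.exponent_eq_card]
      exact Nat.le_of_dvd two_pos (Monoid.exponent_dvd_of_forall_pow_eq_one fun g =>
        Subtype.ext (by simpa [sq] using v g g.2.2))
    rw [r] at i2
    calc #V = _ := m2.symm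
      _ ≤ 2 * 2 := Nat.mul_le_mul i3 i2

end dih

variable {G : Type u} [Group G] [Finite G] {N Q T Y : Subgroup G} {a y z : G}

theorem mem_qz (n : a ∈ N(Q)) (s : a * a ∈ Q) {x : G} : x ∈ Q ⊔ zpowers a ↔ x ∈ Q ∨ x * a⁻¹ ∈ Q := by
  constructor
  · intro h
    obtain ⟨q, hq, _, ⟨i, rfl⟩, rfl⟩ := (mem_sup_of_norm (zpowers_le.2 n)).1 h
    obtain ⟨j, rfl | rfl⟩ := Int.even_or_odd' i
    · exact Or.inl (mul_mem hq (by beta_reduce; rw [zpow_mul, zpow_ofNat, sq]; exact zpow_mem s _))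
    · exact Or.inr (by
        beta_reduce
        rw [zpow_add, zpow_one, ← mul_assoc, mul_inv_cancel_right, zpow_mul, zpow_ofNat, sq]
        exact mul_mem hq (zpow_mem s _))
  · rintro (h | h)
    · exact mem_sup_left h
    · rw [← inv_mul_cancel_right x a]; exact mul_mem (mem_sup_left h) (mem_sup_right (mem_zpowers a))

/-- lifting an involution into a conjugate of `Y` -/
theorem lift (h : Fr N Q T) (o : One N Q) (YT : Y ⊴ T) (hy : y ∈ Y) (yy : y * y = 1) (y0 : y ∉ Q)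
    (e : Y ≤ Q ⊔ zpowers y) (ha : Iv N Q a) (zT : z ∈ T) (za : z * a * z⁻¹ * a⁻¹ ∈ Q) :
    ∃ g ∈ N, z ∈ H19.cj g T ∧ ∃ a₁ ∈ H19.cj g Y, a₁ * a⁻¹ ∈ Q ∧ H19.cj g Y ≤ Q ⊔ zpowers a := by
  have TN := h.syl.le
  have NQ := h.nq.norm
  have QT : Q ≤ T := h.syl.le_of_norm' h.nq.le h.pg (TN.trans NQ)
  have yN := TN (YT.le hy)
  obtain ⟨g, g1, g2⟩ := o y a ⟨yN, y0, yy ▸ one_mem Q⟩ ha
  have eW : Y ⊔ Q = Q ⊔ zpowers y := le_antisymm (sup_le e le_sup_left)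
    (sup_le le_sup_right ((zpowers_le.2 hy).trans le_sup_left))
  have nW : T ≤ N(Q ⊔ zpowers y) := eW ▸ norms_sup YT.norm (TN.trans NQ)
  have key : ∀ c ∈ N, ∀ w, c * w * c⁻¹ * a⁻¹ ∈ Q → H19.cj c (Q ⊔ zpowers w) = Q ⊔ zpowers a := fun c c1 w k => by
    rw [cj_sup, cj_of_mem_norm (NQ c1), cj_zpowers]
    refine le_antisymm (sup_le le_sup_left (zpowers_le.2 ((mem_qz (NQ ha.1) ha.2.2).2 (Or.inr k))))
      (sup_le le_sup_left (zpowers_le.2 ?_))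
    have : a = (c * w * c⁻¹ * a⁻¹)⁻¹ * (c * w * c⁻¹) := by group
    rw [this]
    exact mul_mem (mem_sup_left (inv_mem k)) (mem_sup_right (mem_zpowers _))
  have e1 := key g g1 y g2
  have s1 : Syl 2 (H19.cj g T) (N ⊓ N(Q ⊔ zpowers a)) := (h.syl.Jmem g1).inf (by rw [← e1, ← cj_norm]; exact cj_mono g nW)
  obtain ⟨d, d1, d2⟩ := s1.sle_cj (K := zpowers z) (zpowers_le.2 ⟨TN zT, mem_norm_iff_cj.2 (key z (TN zT) a za)⟩)
    (h.syl.pi.of_le (zpowers_le.2 zT))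
  have e2 : H19.cj (d * g) (Y ⊔ Q) = Q ⊔ zpowers a := by rw [eW, H19.cj_mul, e1, cj_of_mem_norm d1.2]
  have dg := mul_mem d1.1 g1
  rw [cj_sup, cj_of_mem_norm (NQ dg), sup_comm] at e2
  have YN : H19.cj (d * g) Y ≤ N(Q) := (cj_le_of_mem dg (YT.le.trans TN)).trans NQ
  obtain ⟨q, q1, a₁, a1, ea⟩ := (mem_sup_of_norm YN).1 (e2.ge (mem_sup_right (mem_zpowers a)))
  refine ⟨d * g, dg, by rw [H19.cj_mul]; exact d2 (mem_zpowers z), a₁, a1, ?_, le_sup_right.trans e2.le⟩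
  have : a₁ * a⁻¹ = q⁻¹ := by rw [ea]; group
  rw [this]; exact inv_mem q1

theorem td (lf : LF.{u}) (el : EL.{u}) : H27.MS.TD.{u} := fun {G} _ _ {S Y Q n} h o d => by
  have f := h.lc.toFr
  have SC := f.syl.le
  have NQ := f.nq.norm
  have QS : Q ≤ S := f.syl.le_of_norm' f.nq.le f.pg (SC.trans NQ)
  have YS : Y ⊴ S := ⟨h.YB.trans bm_le, (nrm_bm le_normalizer).trans h.NB⟩
  obtain ⟨a, b, ha, hb, eS, ab⟩ := d.ex
  have aQ := NQ (SC ha.1)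
  have bQ := NQ (SC hb.1)
  have q1 : ∀ (x : G) (k : x ∈ N(Q)), x * x ∈ Q → qmk Q ⟨x, k⟩ * qmk Q ⟨x, k⟩ = 1 := fun x k s => by
    rw [← map_mul, qmk_eq_one]; exact s
  have eH : quo Q S = zpowers (qmk Q ⟨a, aQ⟩) ⊔ zpowers (qmk Q ⟨b, bQ⟩) := by
    rw [eS, quo_sup (sup_le le_normalizer (zpowers_le.2 aQ)) (zpowers_le.2 bQ), quo_sup_left (zpowers_le.2 aQ),
      quo_zpowers aQ, quo_zpowers bQ]
  have cH : #(quo Q S) = 2 ^ (n + 1) := by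
    have := H19.card_mul_relIndex QS
    rw [d.card, mul_comm] at this
    rw [card_quo (SC.trans NQ)]
    exact Nat.eq_of_mul_eq_mul_right (card_pos Q) this
  obtain ⟨od, na, le4⟩ := dih (q1 a aQ ha.2.2) (q1 b bQ hb.2.2) (eH ▸ cH) (by
    rw [← map_mul, ← map_pow, qmk_eq_one]; exact ab)
  obtain ⟨y, hy, y0⟩ := SetLike.not_le_iff_exists.1 h.nq
  have yy := sq_one h.ab hy
  have YQ := YS.le.trans (SC.trans NQ)
  by_cases e : Y ≤ Q ⊔ zpowers y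
  swap
  · have c1 := le4 (quo Q Y) (eH ▸ quo_mono Q YS.le) fun v hv => sq_one (abelem_im h.ab _) hv
    have l1 : Q ⊔ zpowers y < Y ⊔ Q := lt_of_le_of_ne (sup_le le_sup_right ((zpowers_le.2 hy).trans le_sup_left))
      fun k => e (le_sup_left.trans k.ge)
    have c2 := card_sup_zp yy y0 (YQ hy)
    have c3 := pg_lt_card (f.syl.pi.of_le (sup_le YS.le QS)) l1
    have c4 := H19.card_mul_relIndex (le_sup_right : Q ≤ Y ⊔ Q)
    rw [← card_quo (sup_le YQ le_normalizer), quo_sup_right YQ] at c4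
    have c5 : #Q * #(quo Q Y) ≤ #Q * 4 := Nat.mul_le_mul_left _ c1
    exact el f (Or.inr d) o ⟨bot_le, by rw [normalizer_eq_top]; exact le_top⟩ (bot_lt_iff_ne_bot.2 h.lc.q0) YS
      (comm_iff_der.1 h.ab.1).le (fun e he => (sq_one h.ab he).symm ▸ one_mem _) (by omega) (SC (YS.le hy)) y0
      (yy.symm ▸ one_mem _)
  obtain ⟨m, rfl⟩ := Nat.exists_eq_add_of_le' d.two
  have abS := mul_mem ha.1 hb.1
  -- `z` is the central involution
  have za : (a * b) ^ 2 ^ (m + 1) * a * ((a * b) ^ 2 ^ (m + 1))⁻¹ * a⁻¹ ∈ Q := by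
    have k := inv_ab (q1 a aQ ha.2.2) (q1 b bQ hb.2.2) (-((2 ^ (m + 1) : ℕ) : ℤ))
    have k2 : qmk Q (((⟨a, aQ⟩ : N(Q)) * ⟨b, bQ⟩) ^ 2 ^ (m + 1) * ⟨a, aQ⟩ *
        (((⟨a, aQ⟩ : N(Q)) * ⟨b, bQ⟩) ^ 2 ^ (m + 1))⁻¹ * (⟨a, aQ⟩ : N(Q))⁻¹) = 1 := by
      rw [map_mul, map_mul, map_mul, map_inv, map_inv, map_pow, map_mul, mul_assoc _ (qmk Q ⟨a, aQ⟩),
        ← zpow_natCast, ← zpow_neg, k, neg_neg, mul_assoc, mul_inv_cancel_right, zpow_natCast, ← pow_add,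
        ← two_mul, ← pow_succ', ← od, pow_orderOf_eq_one]
    exact qmk_eq_one.1 k2
  obtain ⟨g, g1, zg, a₁, a1, aa, lY⟩ := lift f o YS hy yy y0 e ⟨SC ha.1, ha.2⟩ (pow_mem abS _) za
  obtain ⟨g', -, -, b₁, b1, bb, -⟩ := lift f o YS hy yy y0 e ⟨SC hb.1, hb.2⟩ (one_mem S) (by simpa using one_mem Q)
  have s1 := sq_one (abelem_J h.ab g) a1
  have s2 := sq_one (abelem_J h.ab g') b1
  have a1S : a₁ ∈ S := by rw [← inv_mul_cancel_right a₁ a]; exact mul_mem (QS aa) ha.1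
  have b1S : b₁ ∈ S := by rw [← inv_mul_cancel_right b₁ b]; exact mul_mem (QS bb) hb.1
  have eq : ∀ (x x' : G) (k : x ∈ N(Q)) (k' : x' ∈ N(Q)), x * x'⁻¹ ∈ Q → qmk Q ⟨x, k⟩ = qmk Q ⟨x', k'⟩ :=
    fun x x' k k' s => by rw [← mul_inv_eq_one, ← map_inv, ← map_mul, qmk_eq_one]; exact s
  have ea := eq _ _ (NQ (SC a1S)) aQ aa
  have eb := eq _ _ (NQ (SC b1S)) bQ bb
  have Qg : Q ≤ H19.cj g S := by rw [← cj_of_mem_norm (NQ g1)]; exact cj_mono g QS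
  have nY : H19.cj g S ≤ N(H19.cj g Y) := by rw [← cj_norm]; exact cj_mono g YS.norm
  have zN : (a₁ * b₁) ^ 2 ^ (m + 1) ∈ N(H19.cj g Y) := by
    have k : qmk Q (((⟨a₁, NQ (SC a1S)⟩ : N(Q)) * ⟨b₁, NQ (SC b1S)⟩) ^ 2 ^ (m + 1) *
        (((⟨a, aQ⟩ : N(Q)) * ⟨b, bQ⟩) ^ 2 ^ (m + 1))⁻¹) = 1 := by
      rw [map_mul, map_inv, map_pow, map_pow, map_mul, map_mul, ea, eb, mul_inv_cancel]
    rw [← inv_mul_cancel_right ((a₁ * b₁) ^ 2 ^ (m + 1)) ((a * b) ^ 2 ^ (m + 1))]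
    exact nY (mul_mem (Qg (qmk_eq_one.1 k)) zg)
  have lY1 : H19.cj g Y ≤ Q ⊔ zpowers a₁ := lY.trans (sup_le le_sup_left (zpowers_le.2 (by
    have : a = (a₁ * a⁻¹)⁻¹ * a₁ := by group
    rw [this]; exact mul_mem (mem_sup_left (inv_mem aa)) (mem_sup_right (mem_zpowers _)))))
  have cjx : ∀ i : ℤ, (a₁ * b₁) ^ i * a₁ * ((a₁ * b₁) ^ i)⁻¹ = (a₁ * b₁) ^ (2 * i) * a₁ := fun i => by
    rw [mul_assoc, ← zpow_neg, inv_ab s1 s2, neg_neg, ← mul_assoc, ← zpow_add, two_mul]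
  have x1S := mul_mem a1S b1S
  have nn : ∀ i : ℤ, (a₁ * b₁) ^ (2 * i) ∈ N(H19.cj g Y) → H19.cj ((a₁ * b₁) ^ i) (H19.cj g Y) ≤ N(H19.cj g Y) := fun i k => by
    refine (cj_mono _ lY1).trans ?_
    rw [cj_sup, cj_of_mem_norm (NQ (SC (zpow_mem x1S i))), cj_zpowers, cjx]
    exact sup_le (Qg.trans nY) (zpowers_le.2 (mul_mem k (le_normalizer a1)))
  have p2 : (2 * ((2 ^ m : ℕ) : ℤ)) = ((2 ^ (m + 1) : ℕ) : ℤ) := by push_cast; ring
  have n1 := nn ((2 ^ m : ℕ) : ℤ) (by rw [p2, zpow_natCast]; exact zN)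
  have n2 := nn (-((2 ^ m : ℕ) : ℤ)) (by rw [mul_neg, p2, zpow_neg, zpow_natCast]; exact inv_mem zN)
  set w := (a₁ * b₁) ^ ((2 ^ m : ℕ) : ℤ) with hw
  have cm0 : ∀ g, H19.cj g Y ≤ N(Y) → Y ≤ N(H19.cj g Y) → H19.cj g Y ≤ C(Y) := h.comm
  have cm := cm0 (g⁻¹ * w * g) (by rw [H19.cj_mul, H19.cj_mul, cj_le_iff, inv_inv, cj_norm]; exact n1) (by
    rw [zpow_neg, ← hw, cj_le_iff, inv_inv, cj_norm, cj_le_iff, cj_norm] at n2
    rwa [H19.cj_mul, H19.cj_mul])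
  rw [H19.cj_mul, H19.cj_mul, cj_le_iff, inv_inv, cj_cent] at cm
  have c1 := mem_centralizer_iff.1 (cm (mem_cj'.2 ⟨a₁, a1, rfl⟩)) a₁ a1
  rw [hw, cjx, p2, ← mul_assoc, inv_ab s1 s2, mul_left_inj, mul_left_inj] at c1
  have o1 : (a₁ * b₁) ^ 2 ^ (m + 2) = 1 := by
    rw [pow_succ 2 (m + 1), pow_mul, sq, ← zpow_natCast]
    nth_rewrite 1 [← c1]
    rw [zpow_neg, inv_mul_cancel]
  refine lf (X := zpowers a₁ ⊔ zpowers b₁) f ⟨bot_le, by rw [normalizer_eq_top]; exact le_top⟩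
    (bot_lt_iff_ne_bot.2 h.lc.q0) (eS.le.trans (sup_le (sup_le le_sup_right (zpowers_le.2 ?_)) (zpowers_le.2 ?_)))
    (sup_le (zpowers_le.2 a1S) (zpowers_le.2 b1S)) fun x hx => ?_
  · have : a = (a₁ * a⁻¹)⁻¹ * a₁ := by group
    rw [this]; exact mul_mem (mem_sup_right (inv_mem aa)) (mem_sup_left (mem_sup_left (mem_zpowers _)))
  · have : b = (b₁ * b⁻¹)⁻¹ * b₁ := by group
    rw [this]; exact mul_mem (mem_sup_right (inv_mem bb)) (mem_sup_left (mem_sup_right (mem_zpowers _)))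
  obtain ⟨i, rfl | rfl⟩ := nf s1 s2 hx.1
  · have k : qmk Q (((⟨a₁, NQ (SC a1S)⟩ : N(Q)) * ⟨b₁, NQ (SC b1S)⟩) ^ i) = 1 := qmk_eq_one.2 hx.2
    rw [map_zpow, map_mul, ea, eb, ← orderOf_dvd_iff_zpow_eq_one, od] at k
    obtain ⟨j, rfl⟩ := k
    rw [mem_bot, zpow_mul, zpow_natCast, o1, one_zpow]
  · have k : qmk Q (((⟨a₁, NQ (SC a1S)⟩ : N(Q)) * ⟨b₁, NQ (SC b1S)⟩) ^ i * ⟨a₁, NQ (SC a1S)⟩) = 1 :=
      qmk_eq_one.2 hx.2
    rw [map_mul, map_zpow, map_mul, ea, eb, mul_eq_one_iff_inv_eq] at k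
    exact (na (k.subst (motive := fun t => t ∈ _) (inv_mem (zpow_mem_zpowers _ i)))).elim

end H6.MS
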