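import Cfsg.Agent.H24.ND0

/-! S4780, chunk `ST`: the structure of `G` when `N' ⊓ O_{p'}(N) = 1`. -/

set_option autoImplicit false
set_option linter.unusedSectionVars false

open Subgroup MulAction H19 H20 H6 Cfsg H3.PT H3.GR H3.ND H24.ND
open scoped commutatorElement

namespace H6.ND

universe u
variable {G : Type u} [Group G] [Finite G] {p : ℕ} [hp : Fact p.Prime] {N K : Subgroup G}
  [hN : N.Normal] [hK : K.Normal]

theorem hallL (h : Nd N K p) : Hall {p}ᶜ (Oc {p}ᶜ N) N :=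
  (thompson_hall hp.out fun ψ hψ _ h1 => by
    obtain ⟨χ, a⟩ := exists_ovr le_top hψ
    obtain ⟨b, c⟩ := mem_ovr.1 a
    have d : ¬ ⁅N, N⁆ ≤ cker χ := fun e => h1 ((der_le_cker hψ).1
      (le_cker_of_below (irr_chr b) le_top hψ c (der_le N) e))
    obtain ⟨k, k1, k2⟩ := exists_deg_ratio normalIn_top hψ a
    exact (hp.out.dvd_mul.1 (k2 ▸ h.pd χ b d)).resolve_left fun e => h.np (e.trans k1)).Oc_hall
      (Ores_normal _ _).norm

theorem wk (h : Nd N K p) : Wd N ≤ K := fun n hn => by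
  obtain ⟨x, -, hx⟩ := SetLike.not_le_iff_exists.1 (mt top_le_iff.1 h.ne)
  exact h.fp x hx n (mem_W.1 hn).1 (h.dN ((mem_W.1 hn).2 x))

theorem cenL (h : Ca N K p) (h0 : ⁅N, N⁆ ⊓ Oc {p}ᶜ N = ⊥) (h1 : ⁅N, N⁆ ≠ ⊥) {n : G}
    (hn : n ∈ Oc {p}ᶜ N) : n ∈ Wd N ∧ ∀ x, x * n = n * x := by
  have a : n ∈ N := Oc_le _ _ hn
  have k : ∀ x, x * n * x⁻¹ * n⁻¹ ∈ ⁅N, N⁆ → x * n * x⁻¹ * n⁻¹ = 1 := fun x e =>
    mem_bot.1 (h0.le ⟨e, mul_mem ((Oc_n _).conj_mem n hn x) ((Oc {p}ᶜ N).inv_mem hn)⟩)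
  obtain ⟨ψ, b, -, c⟩ := exists_nonlin (NormalIn.bot N) (fun e => h1 (le_bot_iff.1 e))
  have w : n ∈ Wd N := h.van ψ b c n fun e => by
    have := irr_central b a (fun x hx => by
      rw [k x (commutator_mem_commutator hx a)]; exact one_mem _) n⁻¹
    rw [mul_inv_cancel, e, zero_div, zero_mul] at this
    exact irr_one_ne b this
  refine ⟨w, fun x => ?_⟩
  have := k x ((mem_W.1 w).2 x)
  rwa [mul_inv_eq_one, mul_inv_eq_iff_eq_mul] at this

theorem st (dg : H24.ND.DG.{u}) : H24.ND.ST.{u} := by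
  intro G _ _ _ N K p hN hK pp h h0 h1
  have := Fact.mk pp
  have hL := hallL h.toNd
  have cL := fun n => cenL h h0 h1 (n := n)
  set L := Oc {p}ᶜ N with Ld
  obtain ⟨S⟩ : Nonempty (Sylow p G) := inferInstance
  have PN : (S : Subgroup G) ≤ N := le_of_pi_of_relIndex nr le_top le_top (spi S) (PiN.of_not_dvd h.np)
  have LP : L ⊔ (S : Subgroup G) = N :=
    le_antisymm (sup_le (Oc_le _ _) PN) (le_sup_syl (by simpa using hL.idx) S)
  have Ln : L.Normal := Oc_n _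
  have dN : ∀ n ∈ N, ∃ a ∈ (S : Subgroup G), ∃ l ∈ L, a * l = n := fun n hn => by
    rw [← LP, sup_comm] at hn
    exact mem_sup_of_normal_right.1 hn
  have nP : (S : Subgroup G).Normal := by
    have a : N ≤ N((S : Subgroup G)) := LP.ge.trans (sup_le (fun l hl =>
      Subgroup.centralizer_le_normalizer _ fun x _ => (cL l hl).2 x) le_normalizer)
    have b := (syl_sylow_top S).of_le PN le_top
    rw [b.eq_Oc a]; exact Oc_n _
  have hS := spi S
  have iS : ¬ p ∣ (S : Subgroup G).index := S.not_dvd_index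
  generalize (S : Subgroup G) = P at *
  obtain ⟨H, hH⟩ := exists_right_complement'_of_coprime (N := P) (hS.coprime (PiN.of_not_dvd iS))
  have cH : #H = P.index := hH.symm.index_eq_card.symm
  have np : ¬ p ∣ #H := cH ▸ iS
  have sup : P ⊔ H = ⊤ := hH.sup_eq_top
  have hall : Hall {p}ᶜ H ⊤ := ⟨le_top, PiN.of_not_dvd np, by
    rw [relIndex_top_right, hH.index_eq_card, compl_compl]; exact hS⟩
  have LH : L ≤ H := hall.le_of_norm' le_top hL.pi nr
  have HN : H ⊓ N = L := le_antisymm (hL.le_of_normal nr inf_le_right (hall.pi.of_le inf_le_left))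
    (le_inf LH (Oc_le _ _))
  have dG : ∀ g : G, ∃ a ∈ P, ∃ c ∈ H, a * c = g := fun g =>
    mem_sup_of_normal_left.1 (sup.ge (mem_top g))
  have LC : L ≤ C(P) := fun l hl x _ => (cL l hl).2 x
  have E1 : ∀ c ∈ H, c ∈ C(P) ↔ c ∈ N := fun c hc => ⟨fun e => by_contra fun e' => h.nle fun n hn =>
    h.fp c e' n hn (by
      obtain ⟨a, ha, l, hl, rfl⟩ := dN n hn
      rw [← mul_assoc, ← e a ha, mul_assoc a, (cL l hl).2 c, ← mul_assoc]; simp),
    fun e => LC (HN.le ⟨hc, e⟩)⟩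
  have E2 : H ⊓ C(P) = H ⊓ N := Subgroup.ext fun c =>
    ⟨fun e => ⟨e.1, (E1 c e.1).1 e.2⟩, fun e => ⟨e.1, (E1 c e.1).2 e.2⟩⟩
  have ix : (H ⊓ C(P)).relIndex H = N.relIndex ⊤ := by
    rw [E2, inf_relIndex_left, ← relIndex_sup_of_norm nr, eq_top_iff.2 (sup.ge.trans
      (sup_le_sup_right PN H))]
  obtain ⟨g, hg, cy⟩ : ∃ g ∈ H, H ≤ L ⊔ zpowers g := by
    obtain ⟨g, hg⟩ := h.cyc
    obtain ⟨a, ha, c, hc, rfl⟩ := dG g
    refine ⟨c, hc, fun x hx => ?_⟩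
    have : x ∈ N ⊔ zpowers c := (hg.ge.trans (sup_le le_sup_left (zpowers_le.2 (mul_mem
      (mem_sup_left (PN ha)) (mem_sup_right (mem_zpowers c)))))) (mem_top x)
    obtain ⟨n, hn, y, hy, rfl⟩ := mem_sup_of_normal_left.1 this
    exact mul_mem (mem_sup_left (HN.le ⟨(mul_mem_cancel_right (zpowers_le.2 hc hy)).1 hx, hn⟩))
      (mem_sup_right hy)
  have ab : Ab H := by
    refine ⟨⟨fun x y => Subtype.ext ?_⟩⟩
    obtain ⟨a, ha, _, ⟨i, rfl⟩, e1⟩ := mem_sup_of_normal_left.1 (cy x.2)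
    obtain ⟨b, hb, _, ⟨j, rfl⟩, e2⟩ := mem_sup_of_normal_left.1 (cy y.2)
    have c1 : ∀ z, Commute z a := fun z => (cL a ha).2 z
    have c2 : ∀ z, Commute z b := fun z => (cL b hb).2 z
    rw [coe_mul, coe_mul, ← e1, ← e2]
    exact (c2 _).mul_right ((c1 _).symm.mul_left (Commute.zpow_zpow_self g i j))
  have g2N : g2 P = ⁅N, N⁆ := le_antisymm (der_mono PN) (commutator_le.2 fun x hx y hy => by
    obtain ⟨a, ha, l, hl, rfl⟩ := dN x hx
    obtain ⟨b, hb, m, hm, rfl⟩ := dN y hy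
    have e : ⁅a * l, b * m⁆ = ⁅a, b⁆ := by
      have c1 : ∀ z, l * z = z * l := fun z => ((cL l hl).2 z).symm
      have c2 : ∀ z, m * z = z * m := fun z => ((cL m hm).2 z).symm
      simp only [commutatorElement_def, mul_inv_rev, mul_assoc]
      rw [c1 (b * _), c2 (l⁻¹ * _)]
      have c3 : ∀ z, l⁻¹ * z = z * l⁻¹ := fun z => (Commute.inv_left (c1 z)).eq
      have c4 : ∀ z, m⁻¹ * z = z * m⁻¹ := fun z => (Commute.inv_left (c2 z)).eq
      rw [c4 b⁻¹, c3 (a⁻¹ * _)]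
      simp only [mul_assoc, inv_mul_cancel_left]
      rw [c4 (l⁻¹ * _), c2 l]; simp
    rw [e]; exact commutator_mem_commutator ha hb)
  have Wn : (Wd N).Normal := ⟨fun n hn x => by
    have := mul_mem (le_W ((mem_W.1 hn).2 x)) hn
    rwa [inv_mul_cancel_right] at this⟩
  have V : V1 P H = P ⊓ Wd N := by
    refine le_antisymm (sup_le (le_inf (der_le P) (g2N.le.trans le_W)) fun a ha =>
      ⟨ha.1, mem_W.2 ⟨PN ha.1, fun x => ?_⟩⟩) ?_
    · obtain ⟨y, hy, c, hc, rfl⟩ := dG x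
      rw [mul_assoc y, ha.2 c hc, mul_inv_rev, ← mul_assoc y, mul_assoc _ c, mul_inv_cancel_left]
      exact commutator_mem_commutator (PN hy) (PN ha.1)
    · rw [← commg_sup_cent (K := P ⊓ Wd N) (A := H) nr
        ((hS.of_le inf_le_left).coprime hall.pi) (Or.inl inferInstance)]
      refine sup_le_sup (commutator_le.2 fun x hx y _ => ?_) (inf_le_inf_right _ inf_le_left)
      rw [g2N, ← commutatorElement_inv]
      exact inv_mem ((mem_W.1 hx.2).2 y)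
  have f1 : N.relIndex ⊤ ≠ 1 := fun e => h.ne (top_le_iff.1 (relIndex_eq_one.1 e))
  have DG' := fun ψ hψ χ hχ => dg (ψ := ψ) (χ := χ) pp hS np ab sup hψ hχ
  refine ⟨P, H, ⟨pp, nP, hS, np, ab, sup, ⟨g, hg, cy.trans (sup_le_sup_right (le_inf LH LC) _)⟩,
    fun e => h.nle (LP.ge.trans ((sup_le (fun l hl => (cL l hl).1)
      (e.trans (V.le.trans inf_le_right))).trans (wk h.toNd))), fun c hc c0 y hy e => ?_,
    fun x hx x0 y hy => ?_, fun ψ hψ d1 => by_contra fun e => ?_, fun ψ hψ φ hφ d1 e => ?_⟩,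
    PN, g2N, V, ix⟩
  · rw [V] at e ⊢
    exact ⟨hy, h.fw c (fun e' => c0 ((E1 c hc).2 e')) y (PN hy) e.2⟩
  · obtain ⟨n, hn, e⟩ := h.cj x (PN hx) (fun e => x0 (V.ge ⟨hx, e⟩)) y (g2N.le hy)
    obtain ⟨a, ha, l, hl, rfl⟩ := dN n hn
    refine ⟨a, ha, e ▸ ?_⟩
    rw [mul_assoc a l, ← (cL l hl).2 x, mul_inv_rev, ← mul_assoc a, mul_assoc _ l,
      mul_inv_cancel_left]
  · have i1 : H20.inertia H ψ = H ⊓ C(P) := Subgroup.ext fun c =>
      ⟨fun e' => ⟨e'.1, by_contra fun e'' => e ⟨c, e'.1, e'', e'.2⟩⟩, fun e' => ⟨e'.1, by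
        funext x
        have := (cL c (HN.le (E2.le e'))).2 x
        change ψ (c * x * c⁻¹) = ψ x
        rw [← this, mul_inv_cancel_right]⟩⟩
    obtain ⟨χ, a⟩ := exists_ovr le_top hψ
    obtain ⟨ξ, b, -, c⟩ := h.df
    have d := DG' ψ hψ χ (mem_ovr.1 a).1 (mem_ovr.1 a).2
    rw [dd, i1, ix, ← c] at d
    have := h.nd ξ b χ (mem_ovr.1 a).1 (c ▸ f1) ⟨_, d⟩
    exact d1 ((Nat.mul_eq_left (dn b)).1 (d.symm.trans this.symm))
  · obtain ⟨χ, a⟩ := exists_ovr le_top hψ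
    obtain ⟨ξ, b⟩ := exists_ovr le_top hφ
    have d := DG' ψ hψ χ (mem_ovr.1 a).1 (mem_ovr.1 a).2
    have d' := DG' φ hφ ξ (mem_ovr.1 b).1 (mem_ovr.1 b).2
    rw [← d, ← d'] at e ⊢
    exact h.nd χ (mem_ovr.1 a).1 ξ (mem_ovr.1 b).1 (fun e' => d1 (Nat.eq_one_of_mul_eq_one_left
      (d.symm.trans e'))) e

end H6.ND
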