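/-
Fusion systems on a Sylow 2-subgroup of `G₂(2)`: the automizer of `Q₁` (chunk LQ).
-/
import Cfsg.Agent.H25.GC1

set_option autoImplicit false
set_option linter.unusedSectionVars false
set_option linter.unusedSimpArgs false

namespace H6.GQ
open Subgroup H25.GC H2.G H24.SP

abbrev W := VV (ZMod 2)
/-- a matrix -/
def fm (a b c d x : W) : W := x.1 • a + x.2.1 • b + x.2.2.1 • c + x.2.2.2 • d
def tf (τ : ZMod 2) (x : W) : W := (x.1, x.2.1 + τ * x.1, x.2.2.1 + τ * x.1, x.2.2.2 + τ * (x.2.2.1 + x.2.1 + x.1))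
def q2 (x : W) : ZMod 2 := x.1 * x.2.2.2 + x.2.1 * x.2.2.1
def Db (f n : W → W) : Prop := ∃ τ τ', ∀ x, f x = tf τ (n (tf τ' x))
def Bd (f : W → W) : Prop := f (0, 0, 0, 1) = (0, 0, 0, 1) ∧ ∀ τ, ∃ x, f x ≠ tf τ x
def Gd (f : W → W) : Prop := (∃ τ, ∀ x, f x = tf τ x) ∨ Db f (fun x => (x.2.2.2, x.2.2.1, x.2.1, x.1)) ∨
  Db f (fun x => (x.2.2.2 + x.2.1, x.2.2.1 + x.1, x.2.2.2, x.2.2.1)) ∨
  Db f (fun x => (x.2.1, x.1, x.2.2.2 + x.2.1, x.2.2.1 + x.1)) ∨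
  Db f (fun x => (x.2.2.1, x.2.2.2 + x.2.2.1, x.1, x.2.1 + x.1)) ∨
  Bd (fun x => f (f (f (tf 1 (f (tf 1 (f x))))))) ∨ Bd fun x => f (f (tf 1 (f (tf 1 (f (f x))))))
instance (f n : W → W) : Decidable (Db f n) := by unfold Db; infer_instance
instance (f : W → W) : Decidable (Bd f) := by unfold Bd; infer_instance
instance (f : W → W) : Decidable (Gd f) := by unfold Gd; infer_instance
set_option synthInstance.maxSize 2000 in
set_option synthInstance.maxHeartbeats 200000 in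
theorem key : ∀ a : W, q2 a = 0 → ∀ b, q2 b = 0 → q2 (a + b) = 0 → ∀ c, q2 c = 0 → q2 (a + c) = 0 → ∀ d, q2 d = 0 →
    (∀ x, q2 x = 0 → q2 (fm a b c d x) = 0) → (∀ x, fm a b c d x = 0 → x = 0) → Gd (fm a b c d) := by decide +kernel
theorem tz (τ : ZMod 2) (x : W) : tZ τ x = tf τ x := by revert τ x; simp only [tZ_ap]; decide
theorem qq (x : W) : qf x = q2 x := by revert x; decide
theorem eq_fm (g : AZ (ZMod 2)) (x : W) : g x = fm (g (1, 0, 0, 0)) (g (0, 1, 0, 0)) (g (0, 0, 1, 0)) (g (0, 0, 0, 1)) x := by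
  have s : ∀ (c : ZMod 2) (y : W), g (c • y) = c • g y := fun c y => by
    rcases (by decide : ∀ c : ZMod 2, c = 0 ∨ c = 1) c with rfl | rfl <;> simp
  simp only [fm, ← s, ← map_add]
  congr 1; simp

variable {G : Subgroup (AZ (ZMod 2))}
theorem gd (h : LH 2 G) {g : AZ (ZMod 2)} (hg : g ∈ G) : Gd g := by
  have s : ∀ x, q2 x = 0 → q2 (g x) = 0 := fun x => by rw [← qq, ← qq]; exact h.sq rfl g hg x
  rw [show (g : W → W) = _ from funext (eq_fm g)]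
  refine key _ (s _ rfl) _ (s _ rfl) (map_add g _ _ ▸ s _ (by decide)) _ (s _ rfl) (map_add g _ _ ▸ s _ (by decide)) _ (s _ rfl)
    (fun x hx => eq_fm g x ▸ s x hx) fun x hx => g.injective ?_
  rw [eq_fm g x, hx, map_zero]
theorem tG (h : LH 2 G) (τ : ZMod 2) : tZ τ ∈ G := h.syl.le ⟨τ, rfl⟩
theorem nbd (h : LH 2 G) {g : AZ (ZMod 2)} (hg : g ∈ G) : ¬ Bd g := fun ⟨a, b⟩ => by
  obtain ⟨τ, k, l, k0, l0, d⟩ := h.bor g hg ⟨1, a⟩
  obtain ⟨x, hx⟩ := b τ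
  have e : ∀ c : ZMod 2, c ≠ 0 → c = 1 := by decide
  have := d x
  rw [e k k0, e l l0, mul_ap] at this
  exact hx (by rw [← tz, ← ap_inv (tZ τ) (g x), this]; simp)
theorem cs (h : LH 2 G) {g : AZ (ZMod 2)} (hg : g ∈ G) : (∃ τ, g = tZ τ) ∨ ∃ n, (n = nZ ∨ n = nD ∨ n = nL ∨ n = nR) ∧
    ∃ τ τ', g = tZ τ * n * tZ τ' := by
  have z : ∀ x : W, nZ x = (x.2.2.2, x.2.2.1, x.2.1, x.1) := by simp only [nZ_ap]; decide
  have t := tG h 1
  rcases gd h hg with ⟨τ, e⟩ | ⟨τ, τ', e⟩ | ⟨τ, τ', e⟩ | ⟨τ, τ', e⟩ | ⟨τ, τ', e⟩ | e | e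
  · exact .inl ⟨τ, LinearEquiv.ext fun x => by rw [e, tz]⟩
  · exact .inr ⟨nZ, by simp, τ, τ', LinearEquiv.ext fun x => by rw [e, mul_ap, mul_ap, tz, tz, z]⟩
  · exact .inr ⟨nD, by simp, τ, τ', LinearEquiv.ext fun x => by rw [e, mul_ap, mul_ap, tz, tz, nD_ap]⟩
  · exact .inr ⟨nL, by simp, τ, τ', LinearEquiv.ext fun x => by rw [e, mul_ap, mul_ap, tz, tz, nL_ap]⟩
  · exact .inr ⟨nR, by simp, τ, τ', LinearEquiv.ext fun x => by rw [e, mul_ap, mul_ap, tz, tz, nR_ap]⟩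
  · exact (nbd h (mul_mem hg (mul_mem hg (mul_mem hg (mul_mem t (mul_mem hg (mul_mem t hg))))))
      (by simpa only [Bd, mul_ap, tz] using e)).elim
  · exact (nbd h (mul_mem hg (mul_mem hg (mul_mem t (mul_mem hg (mul_mem t (mul_mem hg hg))))))
      (by simpa only [Bd, mul_ap, tz] using e)).elim
theorem tc {s : Set (AZ (ZMod 2))} (h : tZ 1 ∈ s) (τ : ZMod 2) : tZ τ ∈ closure s := by
  rcases (by decide : ∀ c : ZMod 2, c = 0 ∨ c = 1) τ with rfl | rfl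
  exacts [by rw [tZ_zero]; exact one_mem _, subset_closure h]
theorem eqc (h : LH 2 G) {s : Set (AZ (ZMod 2))} (h1 : tZ 1 ∈ s) (h2 : s ⊆ G)
    (h3 : ∀ n ∈ G, n = nZ ∨ n = nD ∨ n = nL ∨ n = nR → n ∈ closure s) : G = closure s :=
  le_antisymm (fun g hg => by
    obtain ⟨τ, rfl⟩ | ⟨n, hn, τ, τ', rfl⟩ := cs h hg
    · exact tc h1 τ
    · exact mul_mem (mul_mem (tc h1 τ) (h3 n (by
        simpa [mul_assoc] using mul_mem (mul_mem (inv_mem (tG h τ)) hg) (inv_mem (tG h τ'))) hn)) (tc h1 τ')) ((closure_le _).2 h2)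
/-- relations -/
macro "rl" : tactic => `(tactic| exact LinearEquiv.ext (by simp only [mul_ap, nZ_ap, nD_ap, nL_ap, nR_ap, tz]; decide))
theorem r1 : nD = nZ * (tZ 1 * nR) := by rl
theorem r2 : nL = tZ 1 * (nR * nZ) := by rl
theorem r3 : nR = tZ 1 * (nZ * nD) := by rl
theorem r4 : nR = tZ 1 * (nL * nZ) := by rl
theorem r5 : nZ = nD * (nL * nD) := by rl
theorem r6 : nZ = tZ 1 * (nR * nD) := by rl
theorem r7 : nZ = nL * (tZ 1 * nR) := by rl

/-- the chunk LQ -/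
theorem lq : LQ := fun G h => by
  have t := tG h 1
  have a3 : nZ ∈ G → nD ∈ G → nR ∈ G := fun a b => r3 ▸ mul_mem t (mul_mem a b)
  have a4 : nZ ∈ G → nL ∈ G → nR ∈ G := fun a b => r4 ▸ mul_mem t (mul_mem b a)
  have a5 : nD ∈ G → nL ∈ G → nZ ∈ G := fun a b => r5 ▸ mul_mem a (mul_mem b a)
  have a6 : nD ∈ G → nR ∈ G → nZ ∈ G := fun a b => r6 ▸ mul_mem t (mul_mem b a)
  have a7 : nL ∈ G → nR ∈ G → nZ ∈ G := fun a b => r7 ▸ mul_mem a (mul_mem t b)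
  have one : ∀ m ∈ G, (∀ n ∈ G, n = nZ ∨ n = nD ∨ n = nL ∨ n = nR → n = m) → G = closure {tZ 1, m} := fun m hm k =>
    eqc h (by simp) (by simp [Set.insert_subset_iff, t, hm]) fun n hn e => k n hn e ▸ subset_closure (by simp)
  by_cases z : nZ ∈ G
  · by_cases r : nR ∈ G
    · refine .inr (.inr (.inr (.inr (eqc h (by simp) (by simp [Set.insert_subset_iff, t, z, r]) ?_))))
      have c : ∀ n, n = tZ 1 ∨ n = nZ ∨ n = nR → n ∈ closure ({tZ 1, nZ, nR} : Set (AZ (ZMod 2))) := fun n e => subset_closure e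
      rintro n - (rfl | rfl | rfl | rfl)
      exacts [c _ (by simp), r1 ▸ mul_mem (c _ (by simp)) (mul_mem (c _ (by simp)) (c _ (by simp))),
        r2 ▸ mul_mem (c _ (by simp)) (mul_mem (c _ (by simp)) (c _ (by simp))), c _ (by simp)]
    · refine .inl (one _ z ?_)
      rintro n hn (rfl | rfl | rfl | rfl)
      exacts [rfl, (r (a3 z hn)).elim, (r (a4 z hn)).elim, (r hn).elim]
  obtain ⟨g, hg, b⟩ := h.ne
  obtain ⟨τ, rfl⟩ | ⟨n, hn, τ, τ', rfl⟩ := cs h hg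
  · exact (b ⟨1, by simp [tZ_ap]⟩).elim
  have m : n ∈ G := by simpa [mul_assoc] using mul_mem (mul_mem (inv_mem (tG h τ)) hg) (inv_mem (tG h τ'))
  rcases hn with rfl | rfl | rfl | rfl
  · exact (z m).elim
  · refine .inr (.inl (one _ m ?_))
    rintro n hn (rfl | rfl | rfl | rfl)
    exacts [(z hn).elim, rfl, (z (a5 m hn)).elim, (z (a6 m hn)).elim]
  · refine .inr (.inr (.inl (one _ m ?_)))
    rintro n hn (rfl | rfl | rfl | rfl)
    exacts [(z hn).elim, (z (a5 hn m)).elim, rfl, (z (a7 m hn)).elim]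
  · refine .inr (.inr (.inr (.inl (one _ m ?_))))
    rintro n hn (rfl | rfl | rfl | rfl)
    exacts [(z hn).elim, (z (a6 hn m)).elim, (z (a7 hn m)).elim, rfl]

end H6.GQ
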