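/-
Fusion systems on a Sylow `p`-subgroup of `G₂(q)`: the Weyl element on `Q₁` (chunks IN and N1).
-/
import Cfsg.Agent.H25.GC2

set_option autoImplicit false
set_option linter.unusedSectionVars false
set_option linter.unusedSimpArgs false

namespace H6.GQ
open Subgroup H25 H25.GC H25.GC.Gc H2.G
open H8.PU hiding Co Wt Wy Md Ac2 G2 S2 N2 E2 TR MD SY Bo LH AV
universe u v
variable {K : Type v} [Field K] [Finite K] {Γ : Type u} [Group Γ] [Finite Γ] {p : ℕ} [Fact p.Prime]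
  {S A : Subgroup Γ} {ev : Gc K →* Γ} {g : Γ} {F : Gc K → K}

/-- a homomorphism `Q₁ → K` is the sum of its components -/
theorem dec (ha : ∀ c d : Gc K, c.a = 0 → d.a = 0 → F (c * d) = F c + F d) {c : Gc K} (hc : c.a = 0) :
    F c = F (xu c.u) + F (xs c.s) + F (xr c.r) + F (xv c.v) := by
  have z : ∀ t, F (xz t) = 0 := fun t => by
    have e1 := ha (xv t * xu 1) (xz t) (by simp) rfl
    rw [show xv t * xu 1 * xz t = xu 1 * xv t by ext <;> simp, ha _ _ rfl rfl, ha _ _ rfl rfl] at e1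
    linear_combination -e1
  conv_lhs => rw [show c = xu c.u * xs c.s * xr c.r * xv c.v * xz (c.z - c.u * c.v + 3 * c.s * c.r) by ext <;> simp [hc]; ring]
  rw [ha _ _ (by simp) rfl, ha _ _ (by simp) rfl, ha _ _ (by simp) rfl, ha _ _ rfl rfl, z, add_zero]
/-- the element of `Q₁` inducing a linear form -/
def yy (a b c d : K) : Gc K := ⟨0, d, -c / 3, b / 3, -a, 0⟩
theorem yy_cj (h3 : (3 : K) ≠ 0) (a b c d : K) {x : Gc K} (hx : x.a = 0) :
    yy a b c d * x * (yy a b c d)⁻¹ = x * xz (a * x.u + b * x.s + c * x.r + d * x.v) := by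
  ext <;> simp [yy, hx]
  field_simp; ring

/-- the chunk IN -/
theorem inn : IN K Γ := fun h3 S ev g f h hf e => by
  have ha : ∀ c d : Gc K, c.a = 0 → d.a = 0 → f (pv (c * d)) = f (pv c) + f (pv d) := fun c d hc hd => by
    have := e (c * d) (by simp [hc, hd])
    rw [map_mul, cj_mul', e c hc, e d hd, ← map_mul] at this
    have := congrArg Gc.z (h.inj this)
    simp [hc, hd] at this
    linear_combination -this
  refine Agree.mem_ai (h := ev (yy (f (1, 0, 0, 0)) (f (0, 1, 0, 0)) (f (0, 0, 1, 0)) (f (0, 0, 0, 1)))) ?_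
    (le_ai_self _ (h.mm.2 rfl))
  rintro _ ⟨c, hc, rfl⟩
  rw [e c hc, h.inv, h.mul, h.mul, yy_cj h3 _ _ _ _ hc, dec (F := fun c => f (pv c)) ha hc, mul_comm (f _), mul_comm (f _),
    mul_comm (f _), mul_comm (f _), ← hf, ← hf, ← hf, ← hf]
  simp [pv]

theorem lin1 {f : K → K} {m b : K} (hm : m ≠ 1) (h : ∀ x, f x = m * (f x + b * x)) : ∃ a, ∀ x, f x = a * x :=
  ⟨m * b / (1 - m), fun x => by have := sub_ne_zero.2 hm.symm; field_simp; linear_combination h x⟩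
/-- additive maps of the field with four elements -/
theorem four {f : K → K} {w : K} (w0 : w ≠ 0) (w1 : w ≠ 1) (h : ∀ k : K, k ≠ 0 → k ^ 3 = 1) (ha : ∀ x y, f (x + y) = f x + f y) :
    ∃ a b, ∀ x, f x = a * x + b * x ^ 2 := by
  have t : (2 : K) = 0 := by have := h (-1) (by simp); linear_combination -this
  have q : w ^ 2 + w + 1 = 0 := mul_left_cancel₀ (sub_ne_zero.2 w1) (by linear_combination h w w0)
  have f0 : f 0 = 0 := by simpa using ha 0 0
  refine ⟨f 1 + f w + w * f 1, f w + w * f 1, fun x => ?_⟩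
  by_cases x0 : x = 0
  · simp [x0, f0]
  have : (x - 1) * ((x - w) * (x - (w + 1))) = 0 := by
    linear_combination h x x0 + (x - 1) * q - (x - 1) * (w * x + x + 1) * t + (x - 1) * 0 * t + (x ^ 2 - x) * 0 * t
  rcases mul_eq_zero.1 this with e | e
  · rw [sub_eq_zero.1 e]; linear_combination (-f w - w * f 1) * t
  rcases mul_eq_zero.1 e with e | e <;> rw [sub_eq_zero.1 e]
  · grind
  · rw [ha]; grind

/-- the chunk N1 -/
theorem n1 : N1 K Γ p := fun h3 hq S A ev M1 M2 h y e hT ⟨g, hg, kg⟩ => by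
  have ex : ∀ c : Gc K, c.a = 0 → ∃ t, g * ev c * g⁻¹ = ev (m1 c * xz t) := fun c hc => by
    obtain ⟨d, hd, e1, e2⟩ := kg c hc
    simp only [pv, nZ_ap, Prod.mk.injEq] at e2
    exact ⟨d.z - (m1 c).z, e1.trans (congrArg ev (by ext <;> simp [hd, e2]))⟩
  choose! F hF using ex
  have ha : ∀ c d : Gc K, c.a = 0 → d.a = 0 → F (c * d) = F c + F d := fun c d hc hd => by
    have := hF (c * d) (by simp [hc, hd])
    rw [map_mul, cj_mul', hF c hc, hF d hd, ← map_mul] at this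
    have := congrArg Gc.z (h.inj this)
    simp [hc, hd] at this
    linear_combination -this
  have fz : ∀ c : Gc K, c.a = 0 → ∀ t, F (c * xz t) = F c := fun c hc t => by
    rw [dec ha (by simp [hc]), dec ha hc]; simp
  have inn : ∀ x ∈ A, AcZ ev x 1 → ∃ u : Gc K, u.a = 0 ∧ ∀ c : Gc K, c.a = 0 → x * ev c * x⁻¹ = ev (u * c * u⁻¹) := fun x hx k => by
    obtain ⟨-, _, ⟨u, hu, rfl⟩, a⟩ := mem_ai.1 (h.in1 e hx (h.cmZ k))
    exact ⟨u, hu, fun c hc => by rw [a _ (h.mm.2 hc), map_mul, map_mul, map_inv]⟩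
  have r : ∀ k l, k ≠ 0 → l ≠ 0 → ∃ u : Gc K, ∀ c d : Gc K, c.a = 0 → d = sc k l (.refl K) c →
      F d = l ^ 2 * k ^ 3 * (F c + (-u.u * c.u - u.v * c.v - 3 * u.s * c.s - 3 * u.r * c.r)) := fun k l k0 l0 => by
    obtain ⟨τ, hτ, w⟩ := hT k l k0 l0
    obtain ⟨τ', hτ', w'⟩ := hT k⁻¹ (l * k ^ 3) (inv_ne_zero k0) (mul_ne_zero l0 (pow_ne_zero _ k0))
    obtain ⟨a, a1, a2⟩ := h.exW w
    obtain ⟨b, b1, b2⟩ := h.exW w'
    have ab : b⁻¹ * (nZ * (a * nZ⁻¹)) = 1 := inv_mul_eq_one.2 (LinearEquiv.ext fun x => by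
      simp only [H24.SP.mul_ap, a2 _, b2 _, nZ_ap, nZ_inv_ap, RingEquiv.refl_apply, Prod.mk.injEq]
      refine ⟨trivial, ?_, ?_, ?_⟩ <;> field_simp)
    obtain ⟨u, hu, i⟩ := inn _ (mul_mem (inv_mem hτ') (mul_mem hg (mul_mem hτ (inv_mem hg))))
      (ab ▸ (h.invZ b1).mul (kg.mul (a1.mul (h.invZ kg))))
    refine ⟨u, ?_⟩
    rintro c _ hc rfl
    have e1 := i (m1 c * xz (F c)) (by simp)
    have e2 : g * (τ * ev c * τ⁻¹) * g⁻¹ = τ' * ev (u * (m1 c * xz (F c)) * u⁻¹) * τ'⁻¹ := by rw [← e1, ← hF c hc]; group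
    rw [w.cj, w'.cj, hF _ (by simp [hc])] at e2
    have := congrArg Gc.z (h.inj e2)
    simp [hc, hu] at this
    field_simp at this
    linear_combination this
  obtain ⟨w, w0, w1⟩ := ex_ne01 hq
  have wi : w⁻¹ ≠ 1 := fun c => w1 (inv_eq_one.1 c)
  obtain ⟨b, hb⟩ : ∃ b, ∀ x, F (xs x) = b * x := let ⟨u, hu⟩ := r w⁻¹ w (inv_ne_zero w0) w0
    lin1 (b := -3 * u.s) wi fun x =>
      (hu (xs x) (xs x) rfl (by ext <;> simp; field_simp)).trans (by gs h []; field_simp; ring)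
  obtain ⟨c, hc⟩ : ∃ b, ∀ x, F (xr x) = b * x := let ⟨u, hu⟩ := r w (w⁻¹ ^ 2) w0 (by simp [w0])
    lin1 (b := -3 * u.r) wi fun x =>
      (hu (xr x) (xr x) rfl (by ext <;> simp; field_simp)).trans (by gs h []; field_simp; ring)
  suffices ∃ β, (β = 0 ∨ ∀ x : K, x ^ 4 = x) ∧ ∃ a d, (∀ x, F (xu x) = a * x + β * x ^ 2) ∧ ∀ x, F (xv x) = d * x + β * x ^ 2 by
    obtain ⟨β, h1, a, d, h2, h4⟩ := this
    refine ⟨β, h1, g * ev (yy (-a) (-b) (-c) (-d)), mul_mem hg (e.PA (le_ai_self _ (h.mm.2 rfl))), fun x hx => ?_⟩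
    rw [cj_mul2, h.inv, h.mul, h.mul, yy_cj h3 _ _ _ _ hx, hF _ (by simp [hx]), fz x hx, dec ha hx, h2, h4, hb, hc]
    congr 1
    ext <;> simp [hx]
    ring
  by_cases k3 : ∀ k : K, k ≠ 0 → k ^ 3 = 1
  swap
  · push Not at k3
    obtain ⟨k, k0, k1⟩ := k3
    obtain ⟨a, h1⟩ : ∃ b, ∀ x, F (xu x) = b * x := let ⟨u, hu⟩ := r k 1 k0 one_ne_zero
      lin1 (b := -u.u) k1 fun x => (hu (xu x) (xu x) rfl (by ext <;> simp)).trans (by simp [sub_eq_add_neg])
    obtain ⟨d, h2⟩ : ∃ b, ∀ x, F (xv x) = b * x := let ⟨u, hu⟩ := r k (k ^ 3)⁻¹ k0 (by simp [k0])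
      lin1 (m := (k ^ 3)⁻¹) (b := -u.v) (fun c => k1 (inv_eq_one.1 c)) fun x =>
        (hu (xv x) (xv x) rfl (by ext <;> simp; field_simp)).trans (by gs h []; field_simp; ring)
    exact ⟨0, .inl rfl, a, d, by simpa using h1, by simpa using h2⟩
  have t : (2 : K) = 0 := by have := k3 (-1) (by simp); linear_combination -this
  have ng : ∀ x : K, -x = x := fun x => by linear_combination -x * t
  obtain ⟨a, β, h1⟩ := four (f := fun x => F (xu x)) w0 w1 k3 fun x y => by rw [← ha _ _ rfl rfl]; congr 1; ext <;> simp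
  obtain ⟨d, β', h2⟩ := four (f := fun x => F (xv x)) w0 w1 k3 fun x y => by rw [← ha _ _ rfl rfl]; congr 1; ext <;> simp
  obtain ⟨u, hu, i⟩ := inn _ (mul_mem hg hg) ((LinearEquiv.ext fun x => by
    simp only [H24.SP.mul_ap, nZ_ap, ng, H24.SP.one_ap] : (nZ * nZ : AZ K) = 1) ▸ kg.mul kg)
  have j : ∀ x, (a + d + u.v) * x + (β + β') * x ^ 2 = 0 := fun x => by
    have e1 := i (xu x) rfl
    rw [cj_mul2, hF _ rfl, hF _ (by simp), fz _ rfl, show m1 (xu x) = xv x by ext <;> simp [ng], h1, h2] at e1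
    have := congrArg Gc.z (h.inj e1)
    simp [hu] at this
    linear_combination this
  have j2 : β + β' = 0 := mul_left_cancel₀ (mul_ne_zero w0 (sub_ne_zero.2 w1)) (by linear_combination j w - w * j 1)
  refine ⟨β, .inr fun x => ?_, a, d, h1, fun x => by rw [h2, show β' = β by linear_combination j2 - β * t]⟩
  by_cases x0 : x = 0
  exacts [by simp [x0], by linear_combination x * k3 x x0]

end H6.GQ
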