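import Cfsg.Agent.H6.BS12

/-! Base sizes of solvable linear groups XIV: colourings with trivial affine stabilizer. -/

set_option autoImplicit false
set_option linter.unusedSectionVars false

open Cfsg Subgroup

namespace H6.BS

universe u

variable {S M : Type u} [Group S] [Finite S] [AddCommGroup M] [Finite M] [DistribMulAction S M]

theorem col_of {m : ℕ} [NeZero m] (col : M → ZMod m)
    (h1 : ∀ (t : M) (s : S), (∀ x, col (t + s • x) = col x) → t = 0 ∧ ∀ x : M, s • x = x)
    (c : ZMod m) (h2 : Nat.card M ≠ m * Nat.card {x // col x = c}) : Col S M m := by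
  refine ⟨col, h1, ?_⟩
  by_contra hh
  push Not at hh
  refine h2 ?_
  rw [← Nat.card_congr (Equiv.sigmaFiberEquiv col), Nat.card_sigma,
    Finset.sum_congr rfl fun c' _ => hh c' c, Finset.sum_const, Finset.card_univ, ZMod.card,
    smul_eq_mul]

theorem col_of' {m : ℕ} (hm : m.Prime) (hc : (Nat.card M).Coprime m) (col : M → ZMod m)
    (h1 : ∀ (t : M) (s : S), (∀ x, col (t + s • x) = col x) → t = 0 ∧ ∀ x : M, s • x = x) :
    Col S M m :=
  have := NeZero.mk hm.ne_zero
  col_of col h1 0 fun e => hm.one_lt.ne' (Nat.eq_one_of_dvd_coprimes hc ⟨_, e⟩ dvd_rfl)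

theorem triv_of_gen {p : ℕ} (hp : p.Prime) (h : Nat.card M = p) {v : M} (v0 : v ≠ 0) {s : S}
    (e : s • v = v) (x : M) : s • x = x := by
  have := Fact.mk hp
  obtain ⟨j, rfl⟩ := mem_zmultiples_of_prime_card h v0 (g' := x)
  simp only [smul_comm s j v, e]

theorem col5 (x : Fin 3 → M) (hx : ∀ s : S, (∀ i, s • x i = x i) → ∀ v : M, s • v = v) :
    Col S M 5 := by
  classical
  have key : ∀ x : Fin 3 → M, (∀ s : S, (∀ i, s • x i = x i) → ∀ v : M, s • v = v) →
      (Nat.card M = 5 → x 0 = x 1) → Col S M 5 := by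
    intro x hx h5
    let col : M → ZMod 5 := fun y =>
      if y = 0 then 0 else if y = x 0 then 1 else if y = x 1 then 2 else if y = x 2 then 3 else 4
    have h1 : ∀ y z, col y = col z → col z ≠ 4 → y = z := fun y z e e' => by
      simp only [col] at e e'
      split_ifs at e e' <;> first | (exact absurd e (by decide)) | simp_all
    have h2 : ∀ (t : M) (s : S), (∀ x, col (t + s • x) = col x) → t = 0 ∧ ∀ x : M, s • x = x := by
      intro t s e
      have h3 : t = 0 := by simpa using h1 _ _ (e 0) (by simp only [col, if_true]; decide)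
      subst h3
      refine ⟨rfl, hx s fun i => by
        refine (zero_add _).symm.trans (h1 _ _ (e _) ?_)
        fin_cases i <;> simp only [col] <;> split_ifs <;> first | decide | simp_all⟩
    by_cases h3 : Nat.card M = 5
    · refine col_of col h2 2 ?_
      have : IsEmpty {y // col y = 2} := ⟨fun ⟨y, e⟩ => by
        simp only [col, ← h5 h3] at e
        split_ifs at e <;> exact absurd e (by decide)⟩
      rw [Nat.card_of_isEmpty (α := {y // col y = 2})]
      exact Nat.card_pos.ne'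
    · refine col_of col h2 0 ?_
      have : Unique {y // col y = 0} := ⟨⟨⟨0, if_pos rfl⟩⟩, fun ⟨y, e⟩ => Subtype.ext
        (h1 y 0 (e.trans (if_pos rfl).symm) (by simp only [col, if_true]; decide))⟩
      rwa [Nat.card_unique (α := {y // col y = 0})]
  by_cases h : Nat.card M = 5
  · have : Nontrivial M := Finite.one_lt_card_iff_nontrivial.1 (by omega)
    obtain ⟨v, v0⟩ := exists_ne (0 : M)
    exact key (fun _ => v) (fun s e => triv_of_gen Nat.prime_five h v0 (e 0)) fun _ => rfl
  · exact key x hx fun e => absurd e h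

theorem aff_odd (hS : Odd (Nat.card S)) (hM : Odd (Nat.card M)) (t : M) (s : S) {y : M} {j : ℕ}
    (e : (fun x => t + s • x)^[2 ^ j] y = y) : t + s • y = y := by
  have h1 : ∀ (n : ℕ) (x : M), (fun x => t + s • x)^[n] x = (fun x => t + s • x)^[n] 0 + s ^ n • x := by
    intro n
    induction n with
    | zero => simp
    | succ n ih =>
      intro x
      rw [Function.iterate_succ_apply', Function.iterate_succ_apply', ih x, smul_add, pow_succ',
        mul_smul, add_assoc]
  have h2 : (fun x => t + s • x)^[Nat.card S * Nat.card M] y = y := by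
    rw [Function.iterate_mul, show (fun x => t + s • x)^[Nat.card S] = _ from funext fun x =>
      (h1 _ x).trans (by rw [pow_card_eq_one', one_smul]), add_left_iterate]
    simp only [card_nsmul_eq_zero', zero_add]
  have h3 := Function.IsPeriodicPt.gcd e h2
  rwa [(Nat.coprime_two_left.2 (hS.mul hM)).pow_left j] at h3

theorem perm4 : ∀ f : Fin 4 → Fin 4, Function.Injective f → (f 0 : ℕ) + f 3 = 3 →
    ∀ i, f (f (f (f i))) = i := by decide +kernel

theorem par {a b : M} (a0 : a ≠ 0) (b0 : b ≠ 0) (ab : a ≠ b) (ab' : a + b ≠ 0) (a2 : a + a ≠ 0)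
    (b2 : b + b ≠ 0) : Function.Injective ![0, a, b, a + b] ∧ ∀ i j k l : Fin 4,
      ![0, a, b, a + b] i + ![0, a, b, a + b] j = ![0, a, b, a + b] k + ![0, a, b, a + b] l →
      i ≠ j → i ≠ k → i ≠ l → j ≠ k → j ≠ l → k ≠ l → (i : ℕ) + j = 3 := by
  constructor
  · intro i j e
    fin_cases i <;> fin_cases j <;> first | rfl | (exfalso; simp at e; grind)
  · intro i j k l e h1 h2 h3 h4 h5 h6
    fin_cases i <;> fin_cases j <;> first | rfl | (exact absurd rfl h1) | skip
    all_goals fin_cases k <;> fin_cases l <;>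
      first | (exact absurd rfl h2) | (exact absurd rfl h3) | (exact absurd rfl h4) |
        (exact absurd rfl h5) | (exact absurd rfl h6) | (exfalso; simp at e; grind)

theorem col2 (hS : Odd (Nat.card S)) (hM : Odd (Nat.card M)) (x : Fin 2 → M)
    (hx : ∀ s : S, (∀ i, s • x i = x i) → ∀ v : M, s • v = v) : Col S M 2 := by
  classical
  have h0 : ∀ y : M, y + y = 0 → y = 0 := fun y e => by
    have h1 := addOrderOf_dvd_of_nsmul_eq_zero ((two_nsmul y).trans e)
    rw [← AddMonoid.addOrderOf_eq_one_iff]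
    exact Nat.eq_one_of_dvd_coprimes (Nat.coprime_two_left.2 hM) h1 (addOrderOf_dvd_natCard y)
  have key : ∀ Δ : Set M, (∀ (t : M) (s : S), (∀ y ∈ Δ, t + s • y ∈ Δ) →
      t = 0 ∧ ∀ x : M, s • x = x) → Col S M 2 := fun Δ h =>
    col_of' Nat.prime_two (Nat.coprime_two_right.2 hM) (fun y => if y ∈ Δ then 0 else 1)
      fun t s e => h t s fun y hy => by
        have := e y
        simp only [hy, if_true] at this
        by_contra hh
        rw [if_neg hh] at this
        exact absurd this (by decide)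
  have one : ∀ v : M, (∀ s : S, s • v = v → ∀ w : M, s • w = w) → Col S M 2 := fun v hv => by
    refine key {0, v} fun t s e => ?_
    have h1 : ∀ y ∈ ({0, v} : Set M), t + s • y = y := fun y hy => aff_odd hS hM t s (j := 1) (by
      have h2 := e y hy
      have h3 := e _ h2
      change t + s • (t + s • y) = y
      by_cases h4 : t + s • y = y
      · rw [h4, h4]
      have h5 : t + s • (t + s • y) ≠ t + s • y := fun e =>
        h4 (MulAction.injective s (add_left_cancel e))
      simp only [Set.mem_insert_iff, Set.mem_singleton_iff] at hy h2 h3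
      grind)
    have h2 : t = 0 := by simpa using h1 0 (Or.inl rfl)
    exact ⟨h2, hv s (by simpa [h2] using h1 v (Or.inr rfl))⟩
  rw [show (∀ s : S, (∀ i, s • x i = x i) → ∀ v : M, s • v = v) ↔
    ∀ s : S, s • x 0 = x 0 → s • x 1 = x 1 → ∀ v : M, s • v = v by simp [Fin.forall_fin_two]] at hx
  generalize x 0 = a at hx
  generalize x 1 = b at hx
  by_cases a0 : a = 0
  · exact one b fun s e => hx s (by simp [a0]) e
  by_cases b0 : b = 0
  · exact one a fun s e => hx s e (by simp [b0])
  by_cases ab : a = b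
  · exact one a fun s e => hx s e (ab ▸ e)
  by_cases ab' : a + b = 0
  · exact one a fun s e => hx s e (by rw [← neg_eq_of_add_eq_zero_right ab', smul_neg, e])
  let p : Fin 4 → M := ![0, a, b, a + b]
  obtain ⟨hp, h3⟩ := par a0 b0 ab ab' (fun e => a0 (h0 a e)) fun e => b0 (h0 b e)
  refine key (Set.range p) fun t s e => ?_
  choose f hf using fun i => e (p i) ⟨i, rfl⟩
  have h1 : Function.Injective f := fun i j e' => hp (MulAction.injective s
    (add_left_cancel ((hf i).symm.trans (e' ▸ hf j))))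
  have h2 : p (f 0) + p (f 3) = p (f 1) + p (f 2) := by
    simp only [hf]
    simp only [p, Matrix.cons_val, smul_add, smul_zero]
    abel
  have h4 := perm4 f h1 (h3 _ _ _ _ h2 (h1.ne (by decide)) (h1.ne (by decide)) (h1.ne (by decide))
    (h1.ne (by decide)) (h1.ne (by decide)) (h1.ne (by decide)))
  have h5 : ∀ i, t + s • p i = p i := fun i => aff_odd hS hM t s (j := 2) (by
    change t + s • (t + s • (t + s • (t + s • p i))) = p i
    rw [← hf, ← hf, ← hf, ← hf, h4])
  have h6 : t = 0 := by simpa [p] using h5 0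
  exact ⟨h6, hx s (by simpa [p, h6] using h5 1) (by simpa [p, h6] using h5 2)⟩

theorem col3 (hc : (Nat.card M).Coprime 3) (B : Set M) (b0 : (0 : M) ∉ B)
    (h : ∀ s : S, (∀ y ∈ B, s • y ∈ B) → ∀ w : M, s • w = w) : Col S M 3 := by
  classical
  refine col_of' Nat.prime_three hc (fun y => if y = 0 then 0 else if y ∈ B then 1 else 2)
    fun t s e => ?_
  have h1 : t = 0 := by
    have := e 0
    simp only [smul_zero, add_zero, if_true] at this
    split_ifs at this with h1 <;> first | exact h1 | exact absurd this (by decide)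
  subst h1
  refine ⟨rfl, h s fun y hy => ?_⟩
  have := e y
  simp only [zero_add, if_neg (ne_of_mem_of_not_mem hy b0), if_pos hy] at this
  split_ifs at this with h1 h2 <;> first | exact h2 | exact absurd this (by decide)

theorem col3a (hc : (Nat.card M).Coprime 3) (v : M) (hv : ∀ s : S, s • v = v → ∀ w : M, s • w = w) :
    Col S M 3 := by
  by_cases v0 : v = 0
  · exact col3 hc ∅ (by simp) fun s _ => hv s (by simp [v0])
  · exact col3 hc {v} (Ne.symm v0) fun s e => hv s (e v rfl)

theorem col3b (hc : (Nat.card M).Coprime 6) (x : Fin 2 → M)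
    (hx : ∀ s : S, (∀ i, s • x i = x i) → ∀ v : M, s • v = v) : Col S M 3 := by
  have hc3 : (Nat.card M).Coprime 3 := hc.coprime_dvd_right (by norm_num)
  have h0 : ∀ y : M, 6 • y = 0 → y = 0 := fun y e => by
    rw [← AddMonoid.addOrderOf_eq_one_iff]
    exact Nat.eq_one_of_dvd_coprimes hc (addOrderOf_dvd_natCard y)
      (addOrderOf_dvd_of_nsmul_eq_zero e)
  rw [show (∀ s : S, (∀ i, s • x i = x i) → ∀ v : M, s • v = v) ↔
    ∀ s : S, s • x 0 = x 0 → s • x 1 = x 1 → ∀ v : M, s • v = v by simp [Fin.forall_fin_two]] at hx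
  generalize x 0 = a at hx
  generalize x 1 = b at hx
  by_cases h1 : ∃ n : ℕ, n • a = b
  · obtain ⟨n, rfl⟩ := h1
    exact col3a hc3 a fun s e => hx s e (by rw [smul_comm, e])
  by_cases h2 : ∃ n : ℕ, n • b = a
  · obtain ⟨n, rfl⟩ := h2
    exact col3a hc3 b fun s e => hx s (by rw [smul_comm, e]) e
  push Not at h1 h2
  have d2 : ∀ y : M, y + y = 0 → y = 0 := fun y e => h0 y (by
    rw [show 6 • y = 3 • (y + y) by abel, e, smul_zero])
  have a0 : a ≠ 0 := fun e => h2 0 (by rw [e, zero_nsmul])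
  have b0 : b ≠ 0 := fun e => h1 0 (by rw [e, zero_nsmul])
  refine col3 hc3 {a, a + a, b} (by
    rintro (e | e | e)
    exacts [a0 e.symm, a0 (d2 a e.symm), b0 e.symm]) fun s e => ?_
  have e1 := e a (by simp)
  have e2 := e (a + a) (by simp)
  have e3 := e b (by simp)
  have e4 : s • b ≠ s • a := fun e => h1 1 (by rw [one_nsmul, MulAction.injective s e])
  have e5 : s • b ≠ s • (a + a) := fun e => h1 2 (by rw [two_nsmul, MulAction.injective s e])
  rw [smul_add] at e2 e5
  simp only [Set.mem_insert_iff, Set.mem_singleton_iff] at e1 e2 e3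
  have e6 : s • a = a := by
    rcases e1 with e1 | e1 | e1
    · exact e1
    all_goals
      exfalso
      rw [e1] at e2
      rcases e2 with e2 | e2 | e2
    · exact a0 (h0 a (by rw [show 6 • a = 2 • (a + a + (a + a) - a) by abel, e2]; simp))
    · exact a0 (d2 a (by simpa using e2))
    · exact h1 4 (by rw [← e2]; abel)
    · exact h2 2 (by rw [← e2]; abel)
    · exact h1 1 (by
        rw [one_nsmul, ← sub_eq_zero]
        exact d2 _ (by rw [show a - b + (a - b) = a + a - (b + b) by abel, e2, sub_self]))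
    · exact b0 (by simpa using e2)
  exact hx s e6 (by rw [e6] at e4 e5; tauto)

abbrev Y4 : Type := ZMod 2 × ZMod 2 × ZMod 2 × ZMod 2

def c16 (z : Y4) : ZMod 3 :=
  ([2, 1, 1, 1, 2, 2, 1, 0, 2, 1, 1] : List (ZMod 3)).getD
    (z.1.val + 2 * z.2.1.val + 4 * z.2.2.1.val + 8 * z.2.2.2.val) 0

set_option synthInstance.maxSize 100000 in
theorem chk16 : ∀ a0 : Y4, c16 a0 = 2 → ∀ a1 : Y4, c16 a1 = 1 → ∀ a2 : Y4, c16 a2 = 1 →
    ∀ a3 : Y4, c16 a3 = 2 → ∀ a4 : Y4, c16 a4 = 2 → (∀ x : Y4, c16 (a0 + (x.1 • (a1 - a0) +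
      x.2.1 • (a2 - a0) + x.2.2.1 • (a3 - a0) + x.2.2.2 • (a4 - a0))) = c16 x) →
    a0 = 0 ∧ a1 = (1, 0, 0, 0) ∧ a2 = (0, 1, 0, 0) ∧ a3 = (0, 0, 1, 0) ∧ a4 = (0, 0, 0, 1) := by
  decide +kernel

theorem ext_indep {F X : Type*} [Field F] [AddCommGroup X] [Module F X] (n : ℕ) (x : Fin n → X)
    (hn : n ≤ Module.finrank F X) :
    ∃ e : Fin n → X, LinearIndependent F e ∧ ∀ i, x i ∈ Submodule.span F (Set.range e) := by
  induction n with
  | zero => exact ⟨x, linearIndependent_empty_type, fun i => i.elim0⟩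
  | succ n ih =>
    obtain ⟨e, h1, h2⟩ := ih (fun i => x i.succ) (by omega)
    have h3 : ∀ y, Submodule.span F (Set.range e) ≤
        Submodule.span F (Set.range (Fin.cons y e : Fin (n + 1) → X)) := fun y =>
      Submodule.span_mono (by rw [Fin.range_cons]; exact Set.subset_insert _ _)
    by_cases h4 : x 0 ∈ Submodule.span F (Set.range e)
    · obtain ⟨y, hy⟩ := exists_linearIndependent_cons_of_lt_finrank h1 hn
      exact ⟨_, hy, fun i => h3 y (Fin.cases h4 h2 i)⟩
    · exact ⟨Fin.cons (x 0) e, linearIndependent_finCons.2 ⟨h1, h4⟩, fun i =>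
        Fin.cases (Submodule.subset_span ⟨0, rfl⟩) (fun i => h3 _ (h2 i)) i⟩

theorem col3c (h2 : ∀ y : M, 2 • y = 0) (h16 : 2 ^ 4 ≤ Nat.card M) (x : Fin 3 → M)
    (hx : ∀ s : S, (∀ i, s • x i = x i) → ∀ v : M, s • v = v) : Col S M 3 := by
  classical
  let _ : Module (ZMod 2) M := AddCommGroup.zmodModule h2
  have hM := Module.natCard_eq_pow_finrank (K := ZMod 2) (V := M)
  rw [Nat.card_zmod] at hM
  obtain ⟨e, h1, h3⟩ := ext_indep (F := ZMod 2) 4 (Fin.cons 0 x)
    ((Nat.pow_le_pow_iff_right one_lt_two).1 (hM ▸ h16))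
  let φ : Y4 →+ M := AddMonoidHom.mk'
    (fun z => z.1 • e 0 + z.2.1 • e 1 + z.2.2.1 • e 2 + z.2.2.2 • e 3) fun x y => by
      simp only [Prod.fst_add, Prod.snd_add, add_smul]; abel
  have hφ : ∀ z, φ z = z.1 • e 0 + z.2.1 • e 1 + z.2.2.1 • e 2 + z.2.2.2 • e 3 := fun _ => rfl
  have h4 : Function.Injective φ := (injective_iff_map_eq_zero φ).2 fun z hz => by
    have := Fintype.linearIndependent_iff.1 h1 ![z.1, z.2.1, z.2.2.1, z.2.2.2]
      (by rw [Fin.sum_univ_four]; exact hz)
    exact Prod.ext (this 0) (Prod.ext (this 1) (Prod.ext (this 2) (this 3)))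
  let col : M → ZMod 3 := fun y => if h : ∃ z, φ z = y then c16 h.choose else 0
  have h5 : ∀ z, col (φ z) = c16 z := fun z => by
    have h : ∃ z', φ z' = φ z := ⟨z, rfl⟩
    simp only [col, dif_pos h, h4 h.choose_spec]
  have sz : ∀ (s : S) (c : ZMod 2) (y : M), s • c • y = c • s • y := fun s =>
    ZMod.map_smul (DistribSMul.toAddMonoidHom M s)
  refine col_of' Nat.prime_three (by rw [hM]; exact Nat.Coprime.pow_left _ (by norm_num)) col
    fun t s hs => ?_
  have h6 : ∀ z, c16 z ≠ 0 → ∃ a, φ a = t + s • φ z ∧ c16 a = c16 z := fun z hz => by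
    have h7 := (hs _).trans (h5 z)
    by_cases h : ∃ a, φ a = t + s • φ z
    · obtain ⟨a, ha⟩ := h
      exact ⟨a, ha, by rw [← h5, ha, h7]⟩
    · simp only [col, dif_neg h] at h7
      exact absurd h7.symm hz
  obtain ⟨a0, k0, l0⟩ := h6 0 (by decide)
  obtain ⟨a1, k1, l1⟩ := h6 (1, 0, 0, 0) (by decide)
  obtain ⟨a2, k2, l2⟩ := h6 (0, 1, 0, 0) (by decide)
  obtain ⟨a3, k3, l3⟩ := h6 (0, 0, 1, 0) (by decide)
  obtain ⟨a4, k4, l4⟩ := h6 (0, 0, 0, 1) (by decide)
  rw [map_zero, smul_zero, add_zero] at k0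
  have f1 : φ (1, 0, 0, 0) = e 0 := by simp [hφ]
  have f2 : φ (0, 1, 0, 0) = e 1 := by simp [hφ]
  have f3 : φ (0, 0, 1, 0) = e 2 := by simp [hφ]
  have f4 : φ (0, 0, 0, 1) = e 3 := by simp [hφ]
  rw [f1] at k1
  rw [f2] at k2
  rw [f3] at k3
  rw [f4] at k4
  obtain ⟨rfl, rfl, rfl, rfl, rfl⟩ := chk16 a0 l0 a1 l1 a2 l2 a3 l3 a4 l4 fun z => by
    rw [← h5, ← h5 z, ← hs (φ z), hφ z]
    simp only [map_add, map_sub, ZMod.map_smul φ, k0, k1, k2, k3, k4, add_sub_cancel_left, smul_add,
      sz]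
  rw [map_zero] at k0
  subst k0
  simp only [f1, f2, f3, f4, zero_add] at k1 k2 k3 k4
  refine ⟨rfl, hx s fun i => ?_⟩
  obtain ⟨c, hc⟩ := (Submodule.mem_span_range_iff_exists_fun _).1 (h3 i.succ)
  rw [Fin.cons_succ, Fin.sum_univ_four] at hc
  rw [← hc]
  simp only [smul_add, sz, ← k1, ← k2, ← k3, ← k4]

theorem Irr.elem [Nontrivial M] (h : Irr S M) : ∃ r : ℕ, r.Prime ∧ ∀ y : M, r • y = 0 := by
  obtain ⟨r, hr, hd⟩ := Nat.exists_prime_and_dvd (Finite.one_lt_card (α := M)).ne'
  have := Fact.mk hr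
  obtain ⟨w, hw⟩ := exists_prime_addOrderOf_dvd_card' r hd
  refine ⟨r, hr, fun y => ?_⟩
  have := (h (nsmulAddMonoidHom r : M →+ M).ker fun s v hv => by
    change r • s • v = 0
    rw [smul_comm, show r • v = 0 from hv, smul_zero]).resolve_left fun e => hr.one_lt.ne' (by
      have : w ∈ (nsmulAddMonoidHom r : M →+ M).ker := hw ▸ addOrderOf_nsmul_eq_zero w
      rw [← hw, show w = 0 from AddSubgroup.mem_bot.1 (e ▸ this), addOrderOf_zero])
  exact (this ▸ trivial : y ∈ (nsmulAddMonoidHom r : M →+ M).ker)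

theorem card_elem {r : ℕ} (hr : r.Prime) (h : ∀ y : M, r • y = 0) : ∃ j, Nat.card M = r ^ j :=
  have := Fact.mk hr
  (IsPGroup.iff_card (G := Multiplicative M)).1 fun g => ⟨1, by rw [pow_one]; exact h g.toAdd⟩

theorem base1 [Group.IsSolvable S] (hc : (Nat.card S).Coprime 3) (h : CR S M)
    (h2 : ∀ y : M, 2 • y = 0) (h16 : Nat.card M < 2 ^ 4) :
    ∃ v : M, ∀ s : S, s • v = v → ∀ w : M, s • w = w := by
  have h1 : Nat.card (Img S M) ≤ 7 := by
    obtain ⟨j, hj⟩ := card_elem Nat.prime_two h2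
    have h1 := table (c := 3) (by simp) hj (by omega) hc h
    rw [hj, Nat.pow_lt_pow_iff_right one_lt_two] at h16
    rw [card_img]
    interval_cases j <;> exact h1.trans (by decide)
  have h3 : ∀ j, Nat.card (Img S M) = 2 ^ j → ∃ v : M, ∀ s : S, s • v = v → ∀ w : M, s • w = w :=
    fun j hj => ⟨0, fun s _ w => by
      have := pcore_triv h.img Nat.prime_two h2 ⊤ (IsPGroup.of_card (card_top.trans hj))
      rw [← toImg_smul, mem_bot.1 (show toImg S M s ∈ ⊥ from this ▸ trivial), one_smul]⟩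
  have h4 : (Nat.card (Img S M)).Prime → ∃ v : M, ∀ s : S, s • v = v → ∀ w : M, s • w = w :=
    fun hp => by
      have := Fact.mk hp
      by_cases h4 : ∀ v : M, MulAction.stabilizer (Img S M) v = ⊤
      · exact ⟨0, fun s _ w => (h4 w ▸ trivial : toImg S M s ∈ MulAction.stabilizer (Img S M) w)⟩
      obtain ⟨v, hv⟩ := not_forall.1 h4
      refine ⟨v, fun s e w => ?_⟩
      have := (eq_bot_or_eq_top_of_prime_card _).resolve_right hv
      rw [← toImg_smul, mem_bot.1 (show toImg S M s ∈ ⊥ from this ▸ e), one_smul]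
  have h5 := hc.coprime_dvd_left (card_img_dvd (V := M))
  have h6 : 0 < Nat.card (Img S M) := Nat.card_pos
  generalize Nat.card (Img S M) = n at *
  interval_cases n
  exacts [h3 0 rfl, h3 1 rfl, absurd h5 (by decide), h3 2 rfl, h4 (by norm_num),
    absurd h5 (by decide), h4 (by norm_num)]

end H6.BS
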