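import Cfsg.Agent.H6.BS13
import Cfsg.Agent.H6.BS14

/-! Base sizes of solvable linear groups XV: the main theorems (Seress, Dolfi, Vdovin). -/

set_option autoImplicit false
set_option linter.unusedSectionVars false

open Cfsg Subgroup

namespace H6.BS

universe u v

/-- the theorem for modules of order less than `N` -/
def Th (c k m w N : ℕ) : Prop := ∀ (G V : Type u) [Group G] [Finite G] [Group.IsSolvable G]
  [AddCommGroup V] [Finite V] [Nontrivial V] [DistribMulAction G V], Nat.card V < N →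
  (Nat.card G).Coprime c → (Nat.card V).Coprime w → CR G V → Reg G V k m

/-- existence of colourings for modules of order less than `N` -/
def ThC (c m N : ℕ) : Prop := ∀ (S M : Type u) [Group S] [Finite S] [Group.IsSolvable S]
  [AddCommGroup M] [Finite M] [Nontrivial M] [DistribMulAction S M], Nat.card M < N →
  (Nat.card S).Coprime c → (Nat.card M).Coprime c → Irr S M → Col S M m

theorem step {c k m w : ℕ} (hM : Mode c k m w) {G V : Type u} [Group G] [Finite G]
    [Group.IsSolvable G] [AddCommGroup V] [Finite V] [Nontrivial V] [DistribMulAction G V]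
    [FaithfulSMul G V] (hA : Th.{u} 1 3 5 1 (Nat.card V)) (hC : ThC.{u} c m (Nat.card V))
    (ih : Th.{u} c k m w (Nat.card V)) (hc : (Nat.card G).Coprime c) (hw : (Nat.card V).Coprime w)
    (hcr : CR G V) : Reg G V k m := by
  obtain ⟨hc3, hk, m2, m5, mp⟩ := hM.bd
  have := NeZero.mk mp.ne_zero
  rcases tri (G := G) (V := V) with hi | ⟨hi, hs⟩ | ⟨hi, hs⟩
  · obtain ⟨X, Y, _, _, _, _, _, _, hX, hY, cX, cY, h1, -, h2⟩ := red hcr hi
    have x2 : 2 ≤ Nat.card X := Finite.one_lt_card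
    have y2 : 2 ≤ Nat.card Y := Finite.one_lt_card
    exact h2 k m (ih G X (by rw [h1]; nlinarith) hc (hw.coprime_dvd_left ⟨_, h1⟩) cX)
      (ih G Y (by rw [h1]; nlinarith) hc (hw.coprime_dvd_left (Dvd.intro_left _ h1.symm)) cY)
  · obtain ⟨H, X, S, M, _, _, _, _, _, _, _, _, hX, iX, sS, hM, iM, d1, d2, h1, -, h2⟩ := imp hi hs
    have x2 : 2 ≤ Nat.card X := Finite.one_lt_card
    have m2 : 2 ≤ Nat.card M := Finite.one_lt_card
    exact h2 k m mp (hC S M (h1 ▸ Nat.lt_pow_self x2) (hc.coprime_dvd_left d1)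
      (hc.coprime_dvd_left d2) iM) (ih H X (h1 ▸ lt_self_pow₀ x2 m2)
      (hc.coprime_dvd_left H.card_subgroup_dvd_card)
      (hw.coprime_dvd_left (h1 ▸ dvd_pow_self _ (by omega))) iX.cr)
  obtain ⟨K, W, _, _, _, _, _, _, U, A, E, sc, σ, π, h⟩ := exists_prim hi hs
  obtain ⟨p, f, q0, e, hp, hf, hq, h0, h1, h2, hn, he, e1, en, ec, uc, hr, hlt, hd⟩ := h.data hc
  have ha : Nat.card (A.map (toImg G W)) ≤ ab c e := by
    refine card_bar_le.trans ?_
    unfold ab
    split_ifs with h3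
    · exact table (by simp only [List.mem_cons, List.not_mem_nil, or_false] at hc3 ⊢; tauto) he
        (by nlinarith) hc h.cr
    · have : Nontrivial W := Finite.one_lt_card_iff_nontrivial.1 (by nlinarith)
      have := (hA G W (he ▸ hlt) (Nat.coprime_one_right _) (Nat.coprime_one_right _) h.cr).le
      rw [he] at this
      omega
  have hk1 : 1 ≤ k := by simp only [List.mem_cons, List.not_mem_nil, or_false] at hk; omega
  rcases numeric hM hp (hw.coprime_dvd_left hd) hf h0 h1 h2 hn e1 en ec (hq ▸ h.u_dvd) uc hr with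
    h3 | h3 | h3
  · exact h.reg_of_crude he m5 (ha.trans (ab_le c hc3 e e1)) h3.1 (hq ▸ h3.2)
  swap
  · exact h.reg_of_fine hc he hk1 ha (h.nA2_le hc he ha) (h.xb_bd he ha) (hq ▸ h3)
  rw [← hq] at h3
  have h4 : ∀ {q : ℕ}, q.Prime → Nat.card K = q → A.index = 1 := fun k1 k2 =>
    Nat.dvd_one.1 (dvd_of_pow_eq k1 le_rfl ((pow_one _).trans (k2.symm.trans (hq.trans h1))))
  rcases h3 with ⟨rfl, k1, rfl, k2⟩ | ⟨rfl, rfl, k1, k2, k3, rfl⟩ | ⟨rfl, rfl, k1, k2, rfl⟩ |
    ⟨rfl, rfl, k1, k2, rfl⟩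
  · obtain rfl : m = 5 := by unfold Mode at hM; omega
    exact h.spec4 k2 k1 he
  · obtain rfl : m = 5 := by unfold Mode at hM; omega
    exact h.spec3 k1 k2 k3 he
  · obtain rfl : m = 3 := by unfold Mode at hM; omega
    exact h.spec5 hc k1 (h4 Nat.prime_three k1) k2 he
  · obtain rfl : m = 3 := by unfold Mode at hM; omega
    exact h.spec6 hc k1 (h4 Nat.prime_three k1) k2 he

theorem th_of {c k m w : ℕ} (hM : Mode c k m w)
    (h : ∀ N, Th.{u} c k m w N → Th.{u} 1 3 5 1 N ∧ ThC.{u} c m N) (N : ℕ) : Th.{u} c k m w N := by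
  induction N using Nat.strong_induction_on with
  | _ N ih =>
  intro G V _ _ _ _ _ _ _ hN hc hw hcr
  have := img_solvable (G := G) (V := V)
  have h1 := ih _ hN
  exact (step hM (h _ h1).1 (h _ h1).2 h1 (hc.coprime_dvd_left card_img_dvd) hw hcr.img).of_img

theorem colA {N : ℕ} (h : Th.{u} 1 3 5 1 N) : ThC.{u} 1 5 N := fun S M _ _ _ _ _ _ _ hN hc hw hi =>
  let ⟨x, hx⟩ := (h S M hN hc hw hi.cr).base
  col5 x hx

theorem thA (N : ℕ) : Th.{u} 1 3 5 1 N :=
  th_of (Or.inl ⟨rfl, rfl, rfl, rfl⟩) (fun _ h => ⟨h, colA h⟩) N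

theorem thB (N : ℕ) : Th.{u} 1 2 5 6 N :=
  th_of (Or.inr (Or.inl ⟨rfl, rfl, rfl, rfl⟩)) (fun N _ => ⟨thA N, colA (thA N)⟩) N

theorem thC (N : ℕ) : Th.{u} 2 2 2 1 N :=
  th_of (Or.inr (Or.inr (Or.inl ⟨rfl, rfl, rfl, rfl⟩))) (fun N h => ⟨thA N,
    fun S M _ _ _ _ _ _ _ hN hc hw hi =>
      let ⟨x, hx⟩ := (h S M hN hc (Nat.coprime_one_right _) hi.cr).base
      col2 (Nat.coprime_two_right.1 hc) (Nat.coprime_two_right.1 hw) x hx⟩) N

theorem colD (N : ℕ) : ThC.{u} 3 3 N := by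
  intro S M _ _ _ _ _ _ _ hN hc hw hi
  obtain ⟨r, hr, h⟩ := hi.elem
  by_cases r2 : r = 2
  · subst r2
    rcases lt_or_ge (Nat.card M) (2 ^ 4) with h1 | h1
    · obtain ⟨v, hv⟩ := base1 hc hi.cr h h1
      exact col3a hw v hv
    · obtain ⟨x, hx⟩ := (thA N S M hN (Nat.coprime_one_right _) (Nat.coprime_one_right _) hi.cr).base
      exact col3c h h1 x hx
  · have h1 : (Nat.card M).Coprime 6 := by
      obtain ⟨j, hj⟩ := card_elem hr h
      exact Nat.Coprime.mul_right (m := 2) (n := 3)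
        (hj ▸ ((Nat.coprime_primes hr Nat.prime_two).2 r2).pow_left j) hw
    obtain ⟨x, hx⟩ := (thB N S M hN (Nat.coprime_one_right _) h1 hi.cr).base
    exact col3b h1 x hx

theorem thD (N : ℕ) : Th.{u} 3 2 3 2 N :=
  th_of (Or.inr (Or.inr (Or.inr ⟨rfl, rfl, rfl, rfl⟩))) (fun N _ => ⟨thA N, colD N⟩) N

theorem Mode.th {c k m w : ℕ} (h : Mode c k m w) (N : ℕ) : Th.{u} c k m w N := by
  rcases h with ⟨rfl, rfl, rfl, rfl⟩ | ⟨rfl, rfl, rfl, rfl⟩ | ⟨rfl, rfl, rfl, rfl⟩ |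
    ⟨rfl, rfl, rfl, rfl⟩
  exacts [thA N, thB N, thC N, thD N]

variable {G : Type v} {V : Type u} [Group G] [Finite G] [Group.IsSolvable G] [AddCommGroup V]
  [Finite V] [DistribMulAction G V]

theorem Mode.reg [Nontrivial V] {c k m w : ℕ} (h : Mode c k m w) (hc : (Nat.card G).Coprime c)
    (hw : (Nat.card V).Coprime w) (hcr : CR G V) : Reg G V k m :=
  have := img_solvable (G := G) (V := V)
  (h.th _ (Img G V) V (Nat.lt_succ_self _) (hc.coprime_dvd_left (card_img.dvd.trans ord_dvd)) hw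
    hcr.img).of_img

theorem Mode.base {c k m w : ℕ} (h : Mode c k m w) (hc : (Nat.card G).Coprime c)
    (hw : (Nat.card V).Coprime w) (hcr : CR G V) :
    ∃ x : Fin k → V, ∀ g : G, (∀ i, g • x i = x i) → ∀ v : V, g • v = v := by
  rcases subsingleton_or_nontrivial V with hV | hV
  · exact ⟨0, fun _ _ _ => Subsingleton.elim _ _⟩
  · exact (h.reg hc hw hcr).base

/-- Seress: a solvable completely reducible group has a base of size three -/
theorem base_three (hcr : CR G V) :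
    ∃ x y z : V, ∀ g : G, g • x = x → g • y = y → g • z = z → ∀ v : V, g • v = v :=
  let ⟨x, hx⟩ := Mode.base (Or.inl ⟨rfl, rfl, rfl, rfl⟩) (Nat.coprime_one_right _)
    (Nat.coprime_one_right _) hcr
  ⟨x 0, x 1, x 2, fun g a b c => hx g fun i => by fin_cases i <;> assumption⟩

/-- bases of size two -/
theorem base_two (hcr : CR G V) (h : (Nat.card V).Coprime 6 ∨ Odd (Nat.card G) ∨
    ((Nat.card G).Coprime 3 ∧ Odd (Nat.card V))) :
    ∃ x y : V, ∀ g : G, g • x = x → g • y = y → ∀ v : V, g • v = v := by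
  obtain ⟨x, hx⟩ : ∃ x : Fin 2 → V, ∀ g : G, (∀ i, g • x i = x i) → ∀ v : V, g • v = v := by
    rcases h with h | h | ⟨h, h'⟩
    · exact Mode.base (Or.inr (Or.inl ⟨rfl, rfl, rfl, rfl⟩)) (Nat.coprime_one_right _) h hcr
    · exact Mode.base (Or.inr (Or.inr (Or.inl ⟨rfl, rfl, rfl, rfl⟩))) (Nat.coprime_two_right.2 h)
        (Nat.coprime_one_right _) hcr
    · exact Mode.base (Or.inr (Or.inr (Or.inr ⟨rfl, rfl, rfl, rfl⟩))) h
        (Nat.coprime_two_right.2 h') hcr
  exact ⟨x 0, x 1, fun g a b => hx g fun i => by fin_cases i <;> assumption⟩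

end H6.BS
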