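import Cfsg.Agent.H6.RelM

/-! Average dimension of fixed point spaces for solvable groups is at most one half. -/

set_option autoImplicit false
set_option linter.unusedSectionVars false

open Cfsg Subgroup

namespace H6

open H20 H19 H18
open scoped Classical commutatorElement

universe u

variable {Γ : Type u} [Group Γ] [Finite Γ] {A B K T C D E G H J L M N P Q R S U V W X Y Z : Subgroup Γ}
  {s t g h x y k : Γ} {p n m b : ℕ} {π : Set ℕ}

/-- `log_p` of the `p`-part of the order -/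
noncomputable def lg (p : ℕ) (H : Subgroup Γ) : ℕ := (#H).factorization p

theorem lg_mono (h : H ≤ K) : lg p H ≤ lg p K :=
  (Nat.factorization_le_iff_dvd (card_ne_zero H) (card_ne_zero K)).2 (card_dvd h) p

theorem lg_sup (hn : B ≤ N(A)) (hd : A ⊓ B = ⊥) : lg p (A ⊔ B) = lg p A + lg p B := by
  rw [lg, card_sup_of_disjoint hn hd, Nat.factorization_mul (card_ne_zero A) (card_ne_zero B)]; rfl

theorem lg_add_le (hV : Ab V) (hA : A ≤ V) (hB : B ≤ V) (hd : A ⊓ B = ⊥) :
    lg p A + lg p B ≤ lg p V :=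
  lg_sup (norms_of_comm hV hB hA) hd ▸ lg_mono (sup_le hA hB)

theorem lg_cj (g : Γ) (H : Subgroup Γ) : lg p (H19.cj g H) = lg p H := by rw [lg, card_cj]; rfl

theorem lg_relIndex (H K : Subgroup Γ) :
    lg p (H ⊓ K) + (H.relIndex K).factorization p = lg p K := by
  rw [lg, lg, ← card_inf_mul_relIndex H K,
    Nat.factorization_mul (card_ne_zero _) (relIndex_ne_zero' _ _)]; rfl

section fam
variable (hV : Ab U) (hc : (#U).Coprime #R) (hn : R ≤ N(U)) {s : Finset (Subgroup Γ)}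
  (hs : ∀ B ∈ s, B ⊴ R)
include hV hc hn hs

theorem fam_norm : R ≤ N(s.sup fun B => U ⊓ C(B)) :=
  Finset.sup_induction (p := fun X => R ≤ N(X)) (norm_bot (G := Γ) ▸ le_top)
    (fun _ a _ b => norms_sup a b) fun B a => norms_inf hn (norms_cent (hs B a).norm)

theorem fam_norm' : R ≤ N(s.inf fun B => ⁅U, B⁆) :=
  Finset.inf_induction (p := fun X => R ≤ N(X)) (le_top.trans norm_top.ge)
    (fun _ a _ b => norms_inf a b) fun B a => norms_comm hn (hs B a).norm

theorem fam_bot (hY : Y ≤ s.sup fun B => U ⊓ C(B)) (hR : R ≤ N(Y))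
    (h : ∀ B ∈ s, Y ⊓ C(B) = ⊥) : Y = ⊥ := by
  induction s using Finset.induction_on with
  | empty => simpa using hY
  | insert B s _ ih =>
    have h1 : ∀ B ∈ s, B ⊴ R := fun B a => hs B (Finset.mem_insert_of_mem a)
    refine ih h1 ?_ fun B a => h B (Finset.mem_insert_of_mem a)
    have h2 := hs B (Finset.mem_insert_self _ _)
    have h3 : (insert B s).sup (fun B => U ⊓ C(B)) ≤ U := Finset.sup_le fun _ _ => inf_le_left
    have h4 : ⁅Y, B⁆ = Y := commg_eq_of_cent_eq_bot (h2.le.trans hR)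
      ((hc.coprime_dvd_left (card_dvd (hY.trans h3))).coprime_dvd_right (card_dvd h2.le))
      (.inr (sol_of_ab (comm_mono hV (hY.trans h3)))) (h B (Finset.mem_insert_self _ _))
    rw [Finset.sup_insert, sup_comm] at hY h3
    refine h4.ge.trans ((commutator_mono hY le_rfl).trans ?_)
    rw [commg_sup_cent_left inf_le_right
      (norms_of_comm hV inf_le_left (le_sup_left.trans h3))]
    exact commg_le_left (h2.le.trans (fam_norm hV hc hn h1))

theorem fam_sup : s.sup (fun B => U ⊓ C(B)) ⊔ (U ⊓ s.inf fun B => ⁅U, B⁆) = U := by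
  refine le_antisymm (sup_le (Finset.sup_le fun _ _ => inf_le_left) inf_le_left) ?_
  induction s using Finset.induction_on with
  | empty => simp
  | insert B s _ ih =>
    have h1 : ∀ B ∈ s, B ⊴ R := fun B a => hs B (Finset.mem_insert_of_mem a)
    have h2 := hs B (Finset.mem_insert_self _ _)
    have h3 := h2.le.trans (norms_inf hn (fam_norm' hV hc hn h1))
    rw [Finset.sup_insert, Finset.inf_insert]
    refine (ih h1).trans (sup_le (le_sup_right.trans le_sup_left) ?_)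
    refine (ab_cent_dprod (comm_mono hV inf_le_left) h3 ((hc.coprime_dvd_left
      (card_dvd inf_le_left)).coprime_dvd_right (card_dvd h2.le))).sup.ge.trans (sup_le_sup
        ((inf_le_inf_right _ inf_le_left).trans le_sup_left) ?_)
    exact le_inf ((commg_le_left h3).trans inf_le_left) (le_inf
      (commutator_mono inf_le_left le_rfl) ((commg_le_left h3).trans inf_le_right))

end fam

theorem avg_coset (hg : g ∈ N(R)) (n : ℕ) : ∀ U : Subgroup Γ, #U = n → Ab U → (#U).Coprime #R →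
    R ≤ N(U) → g ∈ N(U) → ⁅R, R⁆ ≤ C(U) → U ⊓ C(R) = ⊥ →
      ∑ᶠ x : R, 2 * lg p (U ⊓ C[x * g]) ≤ #R * lg p U := by
  have := Fintype.ofFinite R
  simp only [finsum_eq_sum_of_fintype]
  induction n using Nat.strong_induction_on with
  | _ n ih =>
  intro U hn hU hc hR hgU hd hC
  by_cases h0 : U = ⊥
  · simp [h0, lg]
  obtain ⟨B, ⟨h1, h2, h3⟩, h4⟩ := (wellFounded_gt (α := Subgroup Γ)).has_min
    {B | ⁅R, R⁆ ≤ B ∧ B ≤ R ∧ U ⊓ C(B) ≠ ⊥}
    ⟨_, le_rfl, der_le R, by rwa [inf_eq_left.2 (cents_symm hd)]⟩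
  have h5 : ∀ B', B < B' → B' ≤ R → U ⊓ C(B') = ⊥ := fun B' a b => by
    by_contra c
    exact h4 B' ⟨h1.trans a.le, b, c⟩ a
  have hB : B ⊴ R := normal_of_der_le h1 h2
  set H := R ⊔ zpowers g with hH
  have hHR : H ≤ N(R) := sup_le le_normalizer (zpowers_le.2 hg)
  have hHU : H ≤ N(U) := sup_le hR (zpowers_le.2 hgU)
  have := Fintype.ofFinite (Subgroup Γ)
  set s : Finset (Subgroup Γ) := Finset.univ.filter fun B' => ∃ x ∈ H, H19.cj x B = B' with hs
  have hs1 : ∀ B' ∈ s, ∃ x ∈ H, H19.cj x B = B' := fun B' a => (Finset.mem_filter.1 a).2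
  have hs2 : ∀ x ∈ H, H19.cj x B ∈ s := fun x a => Finset.mem_filter.2 ⟨Finset.mem_univ _, x, a, rfl⟩
  have hBs : B ∈ s := by simpa using hs2 1 (one_mem _)
  have hs3 : ∀ B' ∈ s, B' ⊴ R := fun B' a => by
    obtain ⟨x, b, rfl⟩ := hs1 B' a
    simpa only [cj_of_mem_norm (hHR b)] using hB.J x
  have hs4 : ∀ x ∈ H, ∀ B' ∈ s, H19.cj x B' ∈ s := fun x a B' b => by
    obtain ⟨y, c, rfl⟩ := hs1 B' b
    rw [← H19.cj_mul]; exact hs2 _ (mul_mem a c)
  set U1 := s.sup fun B => U ⊓ C(B) with hU1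
  set U2 := U ⊓ s.inf fun B => ⁅U, B⁆ with hU2
  have e1 : U1 ⊔ U2 = U := fam_sup hU hc hR hs3
  have l1 : U1 ≤ U := le_sup_left.trans e1.le
  have n1 : H ≤ N(U1) := fun x a => mem_norm_of_cj_le (cj_le_iff.2 (Finset.sup_le fun B' b =>
    cj_le_iff.1 (by
      rw [cj_inf, cj_cent, cj_of_mem_norm (hHU a)]
      exact Finset.le_sup (f := fun B => U ⊓ C(B)) (hs4 x a B' b))))
  have n2 : H ≤ N(U2) := norms_inf hHU fun x a => mem_norm_of_cj_le (Finset.le_inf fun B' b =>
    cj_le_iff.2 (by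
      rw [cj_comm, cj_of_mem_norm (hHU (inv_mem a))]
      exact Finset.inf_le (f := fun B => ⁅U, B⁆) (hs4 _ (inv_mem a) B' b)))
  have d0 : ∀ B' ∈ s, ∀ X, X ≤ U → R ≤ N(X) → ⁅X, B'⁆ ⊓ C(B') = ⊥ := fun B' a X b c =>
    ab_commg_inf_cent (comm_mono hU b) ((hs3 B' a).le.trans c)
      ((hc.coprime_dvd_left (card_dvd b)).coprime_dvd_right (card_dvd (hs3 B' a).le))
  have d1 : U1 ⊓ U2 = ⊥ := fam_bot hU hc hR hs3 inf_le_left (le_sup_left.trans (norms_inf n1 n2))
    fun B' a => H19.eq_bot_mono (inf_le_inf_right _ ((inf_le_right.trans inf_le_right).trans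
      (Finset.inf_le (f := fun B => ⁅U, B⁆) a))) (d0 B' a U le_rfl hR)
  have l2 : U ⊓ C(B) ≤ U1 := Finset.le_sup (f := fun B => U ⊓ C(B)) hBs
  have lt2 : U2 < U := lt_of_le_of_ne inf_le_left fun e =>
    h3 (H19.eq_bot_mono (le_inf l2 (e.symm ▸ inf_le_left)) d1)
  have i2 := ih _ (hn ▸ card_lt lt2) U2 rfl (comm_mono hU lt2.le)
    (hc.coprime_dvd_left (card_dvd lt2.le)) (le_sup_left.trans n2) (n2 (mem_sup_right (mem_zpowers g)))
    (hd.trans (cent_mono lt2.le)) (H19.eq_bot_mono (inf_le_inf_right _ lt2.le) hC)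
  have hm : ∀ x : R, (x : Γ) * g ∈ H := fun x =>
    mul_mem (mem_sup_left x.2) (mem_sup_right (mem_zpowers g))
  have e2 : ∀ x : R, lg p (U ⊓ C[x * g]) = lg p (U1 ⊓ C[x * g]) + lg p (U2 ⊓ C[x * g]) := fun x => by
    rw [← e1, ← cent_zpowers, sup_inf_cent (zpowers_le.2 (n1 (hm x))) (zpowers_le.2 (n2 (hm x)))
      (norms_of_comm hU lt2.le l1) (by rw [d1, card_bot]; exact Nat.coprime_one_left _)
      (.inl (sol_zpowers _)), lg_sup (norms_of_comm hU (inf_le_left.trans lt2.le)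
        (inf_le_left.trans l1)) (H19.eq_bot_mono (inf_le_inf inf_le_left inf_le_left) d1)]
  have i1 : ∑ x : R, 2 * lg p (U1 ⊓ C[x * g]) ≤ #R * lg p U1 := by
    by_cases hgB : g ∈ N(B)
    · have e3 : U1 ≤ C(B) := Finset.sup_le fun B' a => by
        obtain ⟨x, b, rfl⟩ := hs1 B' a
        rw [cj_of_mem_norm (sup_le hB.norm (zpowers_le.2 hgB) b)]; exact inf_le_right
      obtain ⟨z, a, b⟩ := SetLike.exists_of_lt (lt_of_le_of_ne h2 fun e => h3 (e ▸ hC))
      have e4 := h5 (B ⊔ zpowers z) (left_lt_sup.2 fun c => b (zpowers_le.1 c))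
        (sup_le h2 (zpowers_le.2 a))
      simp only [two_mul, Finset.sum_add_distrib]
      nth_rewrite 1 [← Equiv.sum_comp (Equiv.mulLeft (⟨z, a⟩ : R))]
      rw [← Finset.sum_add_distrib,
        Nat.card_eq_fintype_card, ← smul_eq_mul, ← Finset.card_univ]
      refine Finset.sum_le_card_nsmul _ _ _ fun x _ => lg_add_le (comm_mono hU l1) inf_le_left
        inf_le_left (H19.eq_bot_mono ?_ e4)
      intro v c
      refine ⟨l1 c.1.1, ?_⟩
      rw [cent_sup, cent_zpowers]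
      refine ⟨e3 c.1.1, mem_cent1.2 ?_⟩
      have c1 : v * (z * x * g) = z * x * g * v := mem_cent1.1 c.1.2
      have c2 : v * (x * g) = x * g * v := mem_cent1.1 c.2.2
      calc v * z = v * (z * x * g) * (x * g)⁻¹ := by group
        _ = z * (x * g * v) * (x * g)⁻¹ := by rw [c1]; group
        _ = z * v := by rw [← c2]; group
    · rw [Nat.card_eq_fintype_card, ← smul_eq_mul, ← Finset.card_univ]
      refine Finset.sum_le_card_nsmul _ _ _ fun x _ => ?_
      have nR := le_sup_left.trans n1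
      have hU1 := comm_mono hU l1
      have l3 : ⁅U1, B⁆ ≤ U1 := commg_le_left (h2.trans nR)
      have c1 := (hc.coprime_dvd_left (card_dvd l1)).coprime_dvd_right (card_dvd h2)
      have a1 : lg p (U1 ⊓ C[x * g]) + lg p ⁅U1, B⁆ ≤ lg p U1 := by
        refine lg_add_le hU1 inf_le_left l3 (H19.eq_bot_mono (fun v c => ?_)
          (fam_bot (Y := U1 ⊓ s.inf fun B => ⁅U1, B⁆) hU hc hR hs3 inf_le_left
            (norms_inf nR (fam_norm' hU1 (hc.coprime_dvd_left (card_dvd l1)) nR hs3))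
            fun B' a => H19.eq_bot_mono (inf_le_inf_right _ (inf_le_right.trans
              (Finset.inf_le (f := fun B => ⁅U1, B⁆) a))) (d0 B' a U1 l1 nR)))
        refine ⟨c.1.1, zpowers_le.1 (Finset.le_inf fun B' a => zpowers_le.2 ?_)⟩
        obtain ⟨y, b, rfl⟩ := hs1 B' a
        have e5 : H ≤ zpowers (x * g) ⊔ R := sup_le le_sup_right (zpowers_le.2 (by
          simpa using mul_mem (inv_mem (mem_sup_right x.2 : (x : Γ) ∈ zpowers (x * g) ⊔ R))
            (mem_sup_left (mem_zpowers (x * g)))))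
        obtain ⟨w, d, r, e, rfl⟩ := (mem_sup_of_norm' (zpowers_le.2 (hHR (hm x)))).1 (e5 b)
        have hw : w ∈ H := zpowers_le.2 (hm x) d
        rw [H19.cj_mul, hB.cj_eq e, ← cj_of_mem_norm (n1 hw), ← cj_comm, mem_cj]
        have : v * w = w * v := mem_cent1.1 (cent1_le_cent1_of_mem_zpowers d c.1.2)
        rw [mul_assoc, this, inv_mul_cancel_left]; exact c.2
      have a2 : lg p U1 = lg p (U1 ⊓ C(B)) + lg p ⁅U1, B⁆ := by
        have := ab_cent_dprod hU1 (h2.trans nR) c1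
        rw [← lg_sup (norms_of_comm hU1 l3 inf_le_left) this.inf, this.sup]
      have hg' := hs2 g (mem_sup_right (mem_zpowers g))
      have a3 : lg p (U1 ⊓ C(B)) ≤ lg p ⁅U1, B⁆ := by
        refine (lg_mono (inf_le_inf_right _ l1)).trans ?_
        rw [← lg_cj g, cj_inf, cj_cent, cj_of_mem_norm hgU]
        refine lg_mono (le_trans (commg_eq_of_cent_eq_bot (h2.trans (norms_inf hR
          (norms_cent (hs3 _ hg').norm))) ((hc.coprime_dvd_left (card_dvd inf_le_left)).coprime_dvd_right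
            (card_dvd h2)) (.inr (sol_of_ab (comm_mono hU inf_le_left))) ?_).ge
          (commutator_mono (Finset.le_sup (f := fun B => U ⊓ C(B)) hg') le_rfl))
        rw [inf_assoc, ← cent_sup, sup_comm]
        exact h5 _ (left_lt_sup.2 fun c => hgB (mem_norm_of_cj_le c)) (sup_le h2 (hs3 _ hg').le)
      omega
  have e3 : lg p U = lg p U1 + lg p U2 := by rw [← lg_sup (norms_of_comm hU lt2.le l1) d1, e1]
  simp only [e2, mul_add, Finset.sum_add_distrib, e3]
  omega

theorem sum_hom {G₀ : Type*} [Group G₀] [Fintype G₀] [Fintype Γ] (f : G₀ →* Γ)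
    (hf : Function.Surjective f) (F : Γ → ℕ) :
    Nat.card Γ * ∑ g, F (f g) = Nat.card G₀ * ∑ x, F x := by
  have h1 : ∀ x : Γ, ∑ g, F (f g) = ∑ g, F (x * f g) := fun x => by
    obtain ⟨y, rfl⟩ := hf x
    rw [← Equiv.sum_comp (Equiv.mulLeft y)]
    simp
  rw [Nat.card_eq_fintype_card, Nat.card_eq_fintype_card, ← smul_eq_mul, ← smul_eq_mul,
    ← Finset.card_univ, ← Finset.card_univ, ← Finset.sum_const, ← Finset.sum_const,
    Finset.sum_congr rfl fun x _ => h1 x, Finset.sum_comm]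
  exact Finset.sum_congr rfl fun g _ => Equiv.sum_comp (Equiv.mulRight (f g)) F

theorem inf_cent1_mul (hc : k ∈ C(V)) (x : Γ) : V ⊓ C[k * x] = V ⊓ C[x] := by
  ext v
  refine and_congr_right fun a => ?_
  change v ∈ C[k * x] ↔ v ∈ C[x]
  rw [mem_cent1, mem_cent1, ← mul_assoc, mem_cent.1 hc v a, mul_assoc, mul_assoc, mul_right_inj]

/-- the average dimension of fixed point spaces on a noncentral chief factor -/
theorem avg_min [Fintype Γ] (hs : Sol (⊤ : Subgroup Γ)) (hV : MinNormal V ⊤) (hp : PG p V)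
    (hc : C(V) ≠ ⊤) : ∑ x, 2 * lg p (V ⊓ C[x]) ≤ Nat.card Γ * lg p V := by
  have hVn : V ⊴ ⊤ := ⟨le_top, hV.norm⟩
  have hC : C(V) ⊴ ⊤ := ⟨le_top, norms_cent hV.norm⟩
  obtain ⟨q, -, hab, -⟩ := minnormal_abelem hV (sol_mono hs le_top)
  obtain ⟨N, -, hN⟩ := chief_exists_above hC (.refl ⊤) (lt_top_iff_ne_top.2 hc)
  obtain ⟨r, hr, hd, -, hi⟩ := chief_abelem hN hs
  obtain ⟨R, hR⟩ := exists_syl r N
  have e1 : C(V) ⊔ R = N := hR.sup_eq hN.lt.le hi
  have e2 : V ⊓ C(R) = ⊥ := by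
    have a : V ⊓ C(R) = V ⊓ C(N) := by
      rw [← e1, cent_sup, ← inf_assoc, inf_eq_left.2 (cents_symm (le_refl C(V)))]
    refine (hV.min _ inf_le_left (a ▸ norms_inf hV.norm (norms_cent hN.normU.norm))).resolve_right
      fun e => hN.lt.not_ge (cents_symm (e.ge.trans (a.le.trans inf_le_right)))
  have hRV : R ≤ N(V) := le_top.trans hV.norm
  have hpr : p ≠ r := by
    rintro rfl
    exact hp.meet_cent hR.pi hRV hV.ne e2
  have key : ∀ x : Γ, ∑ᶠ n : R, 2 * lg p (V ⊓ C[n * x]) ≤ #R * lg p V := fun x => by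
    have e3 := hR.frattini hN.normU
    rw [← e1, top_inf_eq, sup_assoc, sup_eq_right.2 (le_normalizer (H := R))] at e3
    obtain ⟨c, a, y, b, rfl⟩ := (mem_sup_of_norm (le_top.trans hC.norm)).1 (e3.ge (mem_top x))
    have := avg_coset (p := p) b _ V rfl hab (hp.coprime (hR.pi.sing_ne hpr.symm)) hRV
      (hV.norm (mem_top y)) ((der_mono hR.le).trans hd) e2
    refine le_of_eq_of_le (finsum_congr fun n => ?_) this
    rw [← inf_cent1_mul (hC.conj_mem (mem_top (n : Γ)) a) (n * y)]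
    congr 4; group
  have := Fintype.ofFinite R
  simp only [finsum_eq_sum_of_fintype] at key
  refine Nat.le_of_mul_le_mul_left ?_ (card_pos R)
  calc #R * ∑ x, 2 * lg p (V ⊓ C[x]) = ∑ n : R, ∑ x : Γ, 2 * lg p (V ⊓ C[n * x]) := by
        rw [Nat.card_eq_fintype_card, ← smul_eq_mul, ← Finset.card_univ, ← Finset.sum_const]
        exact Finset.sum_congr rfl fun n _ =>
          (Equiv.sum_comp (Equiv.mulLeft (n : Γ)) fun x => 2 * lg p (V ⊓ C[x])).symm
    _ ≤ ∑ _x : Γ, #R * lg p V := by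
        rw [Finset.sum_comm]; exact Finset.sum_le_sum fun x _ => key x
    _ = _ := by
        rw [Finset.sum_const, Finset.card_univ, smul_eq_mul, Nat.card_eq_fintype_card (α := Γ)]; ring

theorem minNormal_map [L.Normal] (h : Chief ⊤ L K) :
    MinNormal (K.map (QuotientGroup.mk' L)) ⊤ := by
  have hK := h.normU.normal.map _ (QuotientGroup.mk'_surjective L)
  refine ⟨fun e => h.lt.not_ge (by rwa [Subgroup.map_eq_bot_iff, QuotientGroup.ker_mk'] at e),
    le_normalizer_of_normal, fun W a b => ?_⟩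
  have := NormalIn.normal ⟨le_top, b⟩
  have e : (W.comap (QuotientGroup.mk' L)).map (QuotientGroup.mk' L) = W :=
    map_comap_eq_self_of_surjective (QuotientGroup.mk'_surjective L) W
  rcases h.min (W.comap (QuotientGroup.mk' L)) (QuotientGroup.le_comap_mk' L W)
    ((comap_mono a).trans (by rw [comap_map_eq, QuotientGroup.ker_mk', sup_eq_left.2 h.lt.le]))
    le_normalizer_of_normal with c | c
  · left; rw [← e, c, QuotientGroup.map_mk'_self]
  · right; rw [← e, c]

theorem card_map_mk' [L.Normal] (K : Subgroup Γ) :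
    #(K.map (QuotientGroup.mk' L)) = L.relIndex K := by
  rw [← relIndex_ker, QuotientGroup.ker_mk']

theorem cls_step [L.Normal] (hL : L ≤ K) (g : Γ) :
    C[g].relIndex L * C[(g : Γ ⧸ L)].relIndex (K.map (QuotientGroup.mk' L)) ∣ C[g].relIndex K := by
  rw [← relIndex_comap]
  set D := C[(g : Γ ⧸ L)].comap (QuotientGroup.mk' L)
  have h1 : C[g] ≤ D := fun x a => mem_cent1.2 (by
    change ((x * g : Γ) : Γ ⧸ L) = ((g * x : Γ) : Γ ⧸ L); rw [mem_cent1.1 a])
  have h2 : L ≤ D := QuotientGroup.le_comap_mk' L _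
  rw [← inf_relIndex_right C[g] K, ← inf_relIndex_right D K,
    ← relIndex_mul_relIndex (C[g] ⊓ K) (D ⊓ K) K (inf_le_inf_right _ h1) inf_le_right]
  refine Nat.mul_dvd_mul_right ?_ _
  have := relIndex_dvd_of_norm' (H := C[g] ⊓ K) (K := L) le_normalizer_of_normal
    (inf_le_inf_right _ h1) (le_inf h2 hL)
  rwa [← inf_relIndex_right, inf_assoc, inf_eq_right.2 hL, inf_relIndex_right] at this

theorem prim_fun [Fintype Γ] {χ : Γ → ℂ} (hs : Sol (⊤ : Subgroup Γ)) (hχ : χ ∈ Irr ⊤) (hp : p.Prime)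
    (hq : ∀ M, M ⊴ ⊤ → ∀ η ∈ Irr M, dot M χ η ≠ 0 → CInv ⊤ η)
    (hR : ∀ L K, Chief ⊤ L K → PiN {p} (L.relIndex K) → ⁅K, R⁆ ≤ L) (n : ℕ) :
    ∀ K : Subgroup Γ, #K = n → K ⊴ ⊤ → ∀ θ ∈ Irr K, dot K χ θ ≠ 0 → ∃ a : Γ → ℕ,
      (∀ g, a g ≤ (C[g].relIndex K).factorization p) ∧ (∀ g, ∀ r ∈ R, a (r * g) = a g) ∧
        Nat.card Γ * (deg θ).factorization p ≤ ∑ g, a g := by
  induction n using Nat.strong_induction_on with
  | _ n ih =>
  intro K hn hK θ hθ hd
  by_cases h0 : K = ⊥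
  · subst h0
    have := H20.irr_deg_dvd hθ
    rw [card_bot, Nat.dvd_one] at this
    exact ⟨0, fun _ => Nat.zero_le _, fun _ _ _ => rfl, by simp [this]⟩
  obtain ⟨L, -, h6⟩ := chief_exists_below (.bot ⊤) hK (bot_lt_iff_ne_bot.2 h0)
  obtain ⟨q, hq', h7, -, h7'⟩ := chief_abelem h6 hs
  have hL := h6.normV.normal
  have h8 := h6.normV.of_le h6.lt.le le_top
  obtain ⟨φ, h9, h10⟩ := irr_exists_below hθ h8.le
  have h12 : dot L χ φ ≠ 0 := by
    rw [← dot_Res_of_le h8.le, clifford_inv hK hχ hθ (hq K hK θ hθ hd) hd, dot_smul_left]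
    exact mul_ne_zero hd h10
  have h11 := hq L h6.normV φ h9 h12
  obtain ⟨a, a1, a2, a3⟩ := ih _ (hn ▸ card_lt h6.lt) L rfl h6.normV φ h9 h12
  have b0 : ∀ g, (C[g].relIndex L).factorization p +
      (C[(g : Γ ⧸ L)].relIndex (K.map (QuotientGroup.mk' L))).factorization p ≤
        (C[g].relIndex K).factorization p := fun g => by
    have := (Nat.factorization_le_iff_dvd (mul_ne_zero (relIndex_ne_zero' _ _)
      (relIndex_ne_zero' _ _)) (relIndex_ne_zero' _ _)).2 (cls_step h8.le g) p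
    rwa [Nat.factorization_mul (relIndex_ne_zero' _ _) (relIndex_ne_zero' _ _)] at this
  have b1 : ∀ g, a g ≤ (C[g].relIndex K).factorization p := fun g =>
    (a1 g).trans (le_of_add_le_left (b0 g))
  rcases going_down' h8 h7 h6.normV.norm hK.norm h6.min hθ (hq K hK θ hθ hd) h9 h10
    with c | c | ⟨c, e, c1, c2, -⟩
  · exact ⟨a, b1, a2, by rwa [← deg_Res (H := L), c]⟩
  · exact absurd ((Ind_irr_iff' h8 h9).1 (c ▸ hθ))
      ((inertia_eq_self (h11.mono le_top)).trans_ne h6.lt.ne')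
  have he : e ≠ 0 := fun e0 => h10 (by rw [c1, e0, Nat.cast_zero])
  have d1 := clifford_deg h8 hθ h9 c1 he
  rw [inertia_eq_self c, relIndex_self, mul_one] at d1
  rw [d1, Nat.factorization_mul he (H20.irr_deg_pos h9).ne', Finsupp.add_apply]
  by_cases hpq : q = p
  swap
  · rw [Nat.factorization_eq_zero_of_not_dvd fun d => hpq
      (h7'.eq_of_dvd hp (c2 ▸ d.trans (dvd_pow_self e two_ne_zero))).symm, zero_add]
    exact ⟨a, b1, a2, a3⟩
  subst hpq
  set V := K.map (QuotientGroup.mk' L) with hV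
  have m1 : MinNormal V ⊤ := minNormal_map h6
  have m2 : #V = e ^ 2 := by rw [hV, card_map_mk', c2]
  have m3 : PG q V := by unfold PG PiG; rw [hV, card_map_mk']; exact h7'
  have m4 : C(V) ≠ ⊤ := fun e0 => by
    obtain ⟨X, x1, x2⟩ := exists_card_eq_prime hp (m3.dvd_of_ne_bot m1.ne)
    rw [(m1.min X x1 (norms_of_cents (e0.ge.trans (cent_mono x1)))).resolve_left
      (ne_bot_of_prime (x2 ▸ hp)), m2] at x2
    exact hp.prime.not_isSquare ⟨e, by rw [← x2, sq]⟩
  refine ⟨fun g => a g + (C[(g : Γ ⧸ L)].relIndex V).factorization q,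
    fun g => (add_le_add_left (a1 g) _).trans (b0 g), fun g r hr => ?_, ?_⟩
  · have : (r : Γ ⧸ L) ∈ C(V) := by
      refine mem_cent.2 ?_
      rintro _ ⟨x, hx, rfl⟩
      rw [← commutatorElement_eq_one_iff_mul_comm]
      exact (QuotientGroup.eq_one_iff _).2 (hR L K h6 h7' (commutator_mem_commutator hx hr))
    simp only
    rw [a2 g r hr, QuotientGroup.mk_mul, ← inf_relIndex_right, inf_comm, inf_cent1_mul this,
      inf_comm, inf_relIndex_right]
  · have := Fintype.ofFinite (Γ ⧸ L)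
    have s1 := avg_min (p := q) (Γ := Γ ⧸ L) (by
      have : Group.IsSolvable Γ := Group.isSolvable_of_surjective (f := (⊤ : Subgroup Γ).subtype)
        fun x => ⟨⟨x, trivial⟩, rfl⟩
      infer_instance) m1 m3 m4
    have s2 := sum_hom (QuotientGroup.mk' L) (QuotientGroup.mk'_surjective L)
      fun x => (C[x].relIndex V).factorization q
    have s3 : ∑ x : Γ ⧸ L, (lg q (V ⊓ C[x]) + (C[x].relIndex V).factorization q) =
        Nat.card (Γ ⧸ L) * lg q V := by
      rw [Finset.sum_congr rfl fun x _ => (inf_comm V _) ▸ lg_relIndex C[x] V, Finset.sum_const,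
        Finset.card_univ, smul_eq_mul, Nat.card_eq_fintype_card]
    have s4 : lg q V = 2 * e.factorization q := by rw [lg, m2, Nat.factorization_pow]; rfl
    rw [← Finset.mul_sum] at s1
    rw [Finset.sum_add_distrib] at s3 ⊢
    rw [s4] at s1 s3
    have s5 : Nat.card (Γ ⧸ L) * e.factorization q ≤
        ∑ x : Γ ⧸ L, (C[x].relIndex V).factorization q := by nlinarith
    have s6 : Nat.card Γ * e.factorization q ≤
        ∑ g : Γ, (C[(g : Γ ⧸ L)].relIndex V).factorization q := by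
      refine Nat.le_of_mul_le_mul_left ?_ (Nat.card_pos (α := Γ ⧸ L))
      refine le_of_le_of_eq ?_ s2.symm
      rw [mul_left_comm]; exact Nat.mul_le_mul_left _ s5
    rw [mul_add]; omega

theorem exists_ge_avg [Fintype Γ] {a : Γ → ℕ} {d : ℕ} (h : Nat.card Γ * d ≤ ∑ g, a g) :
    ∃ g, d ≤ a g := by
  by_contra hc
  push Not at hc
  have := Finset.sum_lt_sum_of_nonempty (s := Finset.univ) Finset.univ_nonempty fun g _ => hc g
  rw [Finset.sum_const, Finset.card_univ, smul_eq_mul, ← Nat.card_eq_fintype_card] at this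
  omega

theorem qprim_of_prim [Fintype Γ] {χ : Γ → ℂ} (hχ : IsIrrCharacter Γ χ)
    (h : ¬ ∃ H : Subgroup Γ, H ≠ ⊤ ∧ ∃ θ : H → ℂ, IsCharacter H θ ∧ indFun H θ = χ) :
    ∀ M, M ⊴ ⊤ → ∀ η ∈ Irr M, dot M χ η ≠ 0 → CInv ⊤ η := by
  obtain ⟨H, -, -, ψ, h2, h3, h4⟩ := exists_qprim (mem_Irr_top.2 hχ) (bot_le (a := ⊤))
  obtain rfl : H = ⊤ := by
    by_contra hc
    exact h ⟨H, hc, rs H ψ, H5.Cfsg.IsIrrCharacter.isCharacter (irr_rs h2), (Ind_top_eq_indFun H ψ).symm.trans h3⟩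
  rw [Ind_self' (H20.irr_cf h2)] at h3
  exact fun M a => h3 ▸ h4 M a bot_le

/-- the `p`-part of the degree of a primitive character is bounded by that of a class size -/
theorem prim_exists [Fintype Γ] {χ : Γ → ℂ} (hs : Group.IsSolvable Γ) (hχ : IsIrrCharacter Γ χ)
    (h : ¬ ∃ H : Subgroup Γ, H ≠ ⊤ ∧ ∃ θ : H → ℂ, IsCharacter H θ ∧ indFun H θ = χ) (hp : p.Prime)
    (hR : ∀ L K, Chief ⊤ L K → PiN {p} (L.relIndex K) → ⁅K, R⁆ ≤ L) : ∃ g : Γ,
      ∀ r ∈ R, (charDegree χ).factorization p ≤ (C[r * g].index).factorization p := by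
  have h1 := mem_Irr_top.2 hχ
  obtain ⟨a, a1, a2, a3⟩ := prim_fun (R := R) inferInstance h1 hp (qprim_of_prim hχ h) hR _ ⊤ rfl
    (.refl ⊤) χ h1 (by rw [irr_dot_self h1]; exact one_ne_zero)
  obtain ⟨g, hg⟩ := exists_ge_avg a3
  exact ⟨g, fun r hr => relIndex_top_right C[r * g] ▸ (hg.trans (a2 g r hr).ge).trans (a1 _)⟩

end H6
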