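import Cfsg.Agent.H6.Berger
import Cfsg.Agent.H6.PiPart

/-! Dade's theorems on invariant characters of normal subgroups of `p`-power index. -/

set_option autoImplicit false
set_option linter.unusedSectionVars false

open Cfsg Subgroup

namespace H6

open H20 H19 H18
open scoped ComplexConjugate Classical

universe u

variable {Γ : Type u} [Group Γ] [Finite Γ] {A B K T C D E G H J L M N P Q S U V W X Y Z : Subgroup Γ}
  {θ χ ψ φ α β γ ξ η ν l : Γ → ℂ} {s t g x y k : Γ} {p n m b : ℕ} {π : Set ℕ}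

theorem elem_amb (hp : p.Prime) (h : IsElementary p E) :
    ∃ x ∈ Z(E), PiE {p}ᶜ x ∧ PiN {p} ((zpowers x).relIndex E) := by
  obtain ⟨x, h1, h2, k, h3⟩ := h
  refine ⟨x, ⟨x.2, mem_cent.2 fun y hy => congrArg Subtype.val (mem_center_iff.1 h1 ⟨y, hy⟩)⟩,
    PiN.of_coprime (orderOf_coe x ▸ h2), ?_⟩
  rw [relIndex, show (zpowers (x : Γ)).subgroupOf E = zpowers x from
    (congrArg (·.subgroupOf E) (MonoidHom.map_zpowers E.subtype x).symm).trans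
      (comap_map_eq_self_of_injective (subtype_injective E) _), h3]
  exact PiN.prime_pow hp k

/-- Brauer's theorem for one prime, as a detection principle -/
theorem exists_elem_dot (hp : p.Prime) (hθ : CInv ⊤ θ) (h : dot ⊤ 1 θ = 1) :
    ∃ E : Subgroup Γ, IsElementary p E ∧ ∃ ψ ∈ Chr E, ∀ m : ℤ, dot E ψ θ ≠ p * m := by
  have := Fintype.ofFinite Γ
  by_contra! h1
  obtain ⟨m, h2, h3⟩ := one_mem_satSub hp Γ
  have h4 : ∀ f ∈ indSpan (fun X _ => IsElementary p X) Γ, ∃ m : ℤ, dot ⊤ f θ = p * m := by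
    intro f hf
    induction hf using Submodule.span_induction with
    | mem f hf =>
      obtain ⟨E, φ, a, b, rfl⟩ := hf
      obtain ⟨m, c⟩ := h1 E a _ (ext_mem_Chr.2 b)
      exact ⟨m, by rw [← c, ← dot_Ind_left (H := E) le_top _ hθ, Ind_top_eq_indFun, rs_ext]⟩
    | zero => exact ⟨0, by simp⟩
    | add f g _ _ a b =>
      obtain ⟨m, a⟩ := a; obtain ⟨n, b⟩ := b
      exact ⟨m + n, by rw [dot_add_left, a, b]; push_cast; ring⟩
    | smul c f _ a =>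
      obtain ⟨m, a⟩ := a
      exact ⟨c * m, by rw [dot_zsmul_left, a]; push_cast; ring⟩
  obtain ⟨n, h5⟩ := h4 _ h3
  rw [dot_zsmul_left, show (fun _ => (1 : ℂ)) = (1 : Γ → ℂ) from rfl, h, mul_one] at h5
  exact h2 ⟨n, by exact_mod_cast h5⟩

/-- Isaacs 8.24 -/
theorem dade_elem (hp : p.Prime) (hN : N ⊴ ⊤) (hi : PiN {p} (N.relIndex ⊤)) (hθ : θ ∈ Irr N)
    (hi' : CInv ⊤ θ) (hP : Syl p P ⊤) : ∃ E Q : Subgroup Γ, IsElementary p E ∧ Syl p Q E ∧ Q ≤ P ∧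
      E ⊔ N = ⊤ ∧ ∃ φ ∈ Irr (E ⊓ N), CInv E φ ∧ ∃ m : ℕ, ¬ p ∣ m ∧ dot (E ⊓ N) θ φ = m := by
  have h0 : CInv ⊤ ((N.relIndex ⊤ : ℂ) • (θ * star θ)) := (hi'.mul hi'.star).smul _
  obtain ⟨E, a1, ψ, a2, a3⟩ := exists_elem_dot hp h0 (by
    rw [dot_smul_right, Complex.conj_natCast, relIndex_mul_dot_of_supp le_top fun x _ h =>
      .inr (by simp [irr_zero hθ h]), dot_mul_right, one_mul, dot_star_star, irr_dot_self hθ])
  obtain ⟨Q, a4⟩ := exists_syl p E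
  obtain ⟨g, -, a5⟩ := hP.scj_le le_top a4.pi
  replace a1 := isElementary_equiv hp _ _ (cjEquiv g E) a1
  replace a4 := a4.J g
  replace a2 := chr_cfj' a2 g⁻¹
  rw [inv_inv] at a2
  replace a3 : ∀ m : ℤ, dot (H19.cj g E) (cfj g⁻¹ ψ) ((N.relIndex ⊤ : ℂ) • (θ * star θ)) ≠ p * m := by
    rwa [← cinv_iff.1 h0 g⁻¹ trivial, dot_cfj, H19.cj_inv_cj]
  generalize H19.cj g E = E, H19.cj g Q = Q, cfj g⁻¹ ψ = ψ at a1 a2 a3 a4 a5
  have b1 : E ⊓ N ⊴ E := inf_normal_of_norm' (hN.norms le_top)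
  have b2 : (E ⊔ N).relIndex ⊤ * (E ⊓ N).relIndex E = N.relIndex ⊤ := by
    rw [inf_comm, inf_relIndex_right, ← relIndex_sup_of_norm (hN.norms le_top), sup_comm N, mul_comm,
      relIndex_mul_relIndex _ _ _ le_sup_right le_top]
  have b3 := chr_Res (irr_chr hθ) (inf_le_right (a := E))
  have b4 : Res (E ⊓ N) (ψ * star θ) ∈ Chr (E ⊓ N) :=
    Res_mul _ ψ _ ▸ chr_mul (chr_Res a2 inf_le_left) (star_Res _ θ ▸ chr_star b3)
  have b5 : ∀ φ ∈ Irr (E ⊓ N), dot (E ⊓ N) (ψ * star θ) (star φ) = mu (E ⊓ N) (ψ * star θ) (star φ) :=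
    fun φ h => by
      have := mu_cast b4 (chr_star (irr_chr h))
      rw [dot_Res_left] at this
      obtain ⟨n, e⟩ : ∃ n : ℕ, _ = (n : ℂ) := ⟨_, this⟩
      rw [mu_of_eq e, e]
  have b6 : ∀ φ ∈ Irr (E ⊓ N), dot (E ⊓ N) θ φ = mu (E ⊓ N) θ φ := fun φ h => by
    obtain ⟨n, e⟩ := exists_dot_nat (irr_chr hθ) inf_le_right (irr_chr h)
    rw [mu_of_eq e, e]
  have b7 : dot E ψ ((N.relIndex ⊤ : ℂ) • (θ * star θ)) = ((E ⊔ N).relIndex ⊤ * ∑ φ ∈ Irr (E ⊓ N),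
      mu (E ⊓ N) θ φ * mu (E ⊓ N) (ψ * star θ) (star φ) : ℕ) := by
    rw [dot_smul_right, Complex.conj_natCast, ← b2, Nat.cast_mul, mul_assoc,
      relIndex_mul_dot_of_supp inf_le_left fun x a h =>
        .inr (by simp [irr_zero hθ fun e => h ⟨a, e⟩]), dot_mul_right, ← dot_star_star,
      star_star, dot_eq_sum_irr (hi'.mono le_top), Nat.cast_mul, Nat.cast_sum]
    refine congrArg _ (Finset.sum_congr rfl fun φ h => ?_)
    rw [dot_star_right, b5 φ h, b6 φ h, Nat.cast_mul]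
  rw [b7] at a3
  have b8 : ¬ p ∣ (E ⊔ N).relIndex ⊤ * ∑ φ ∈ Irr (E ⊓ N),
      mu (E ⊓ N) θ φ * mu (E ⊓ N) (ψ * star θ) (star φ) := fun ⟨c, e⟩ => a3 c (by rw [e]; simp)
  have b9 : E ⊔ N = ⊤ := top_le_iff.1 (relIndex_eq_one.1 (not_not.1 fun e => b8
    (((hi.dvd (relIndex_dvd_left le_sup_right ⊤)).dvd_of_ne_one e).2.mul_right _)))
  have c1 : E ⊓ N ⊔ Q = E := a4.sup_eq inf_le_left (hi.dvd ⟨_, b2.symm.trans (mul_comm _ _)⟩)
  have c2 := dvd_sum_sub_fixed a4.pi (F := fun φ => (mu (E ⊓ N) θ φ * mu (E ⊓ N) (ψ * star θ)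
    (star φ) : ℕ)) (Irr (E ⊓ N)) (fun g hg φ h => irr_cfj h (b1.norms a4.le hg)) fun g hg φ h => by
      have d1 := b1.norms a4.le hg
      have d2 := (chr_cinv a2).mul (hi'.mono le_top).star
      refine congrArg _ (congrArg₂ _ (mu_of_eq ?_) (mu_of_eq ?_))
      · rw [← b6 φ h, ← dot_cfj_of_norm d1 θ φ, cinv_iff.1 hi' g trivial]
      · rw [← b5 φ h, ← dot_cfj_of_norm d1 _ (star φ), cinv_iff.1 d2 g (a4.le hg)]; rfl
  by_contra! c3
  refine b8 (Dvd.dvd.mul_left (Int.natCast_dvd_natCast.1 ?_) _)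
  rw [Nat.cast_sum]
  refine (dvd_sub_left (Finset.dvd_sum fun φ h => Int.natCast_dvd_natCast.2 ?_)).1 c2
  rw [Finset.mem_filter] at h
  exact (not_not.1 fun e => c3 E Q a1 a4 a5 b9 φ h.1 (c1 ▸ cinv_sup (irr_cinv h.1) h.2) _ e
    (b6 φ h.1)).mul_right _

theorem ext_of_dot (hN : N ⊴ G) (hi : PiN {p} (N.relIndex G)) (hθ : θ ∈ Irr N) (hi' : CInv G θ)
    (hψ : ψ ∈ Chr G) (h : dot N ψ θ = m) (hm : ¬ p ∣ m) : Ext G N θ := by
  by_contra h1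
  have h2 : ∀ χ ∈ Irr G, dot N χ θ = mu N χ θ := fun χ a => by
    obtain ⟨n, e⟩ := exists_dot_nat (irr_chr a) hN.le (irr_chr hθ)
    rw [mu_of_eq e, e]
  rw [dot_eq_sum_between (chr_cinv hψ) hN.le, Finset.sum_congr rfl fun χ a => by
    rw [mu_cast hψ (irr_chr a), h2 χ a, ← Nat.cast_mul], ← Nat.cast_sum, Nat.cast_inj] at h
  refine hm (h ▸ Finset.dvd_sum fun χ a => Dvd.dvd.mul_left ?_ _)
  rcases eq_or_ne (mu N χ θ) 0 with e | e
  · rw [e]; exact dvd_zero p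
  have h3 : χ ∈ ovr G N θ := mem_ovr.2 ⟨a, by rw [h2 χ a]; exact_mod_cast e⟩
  obtain ⟨k, h4, h5⟩ := exists_deg_ratio hN hθ h3
  have h6 := clifford_deg hN a hθ (h2 χ a) e
  rw [inertia_eq_self hi', relIndex_self, mul_one, h5,
    Nat.mul_left_inj (H20.irr_deg_pos hθ).ne'] at h6
  exact h6 ▸ ((hi.dvd h4).dvd_of_ne_one fun e' =>
    h1 ((ext_iff hN.le hθ).2 ⟨χ, h3, by rw [h5, e', one_mul]⟩)).2

/-- a linear character extends iff it is trivial on the derived subgroup -/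
theorem exists_lin_ext_der (hD : D ≤ E) (hl : Lin D l) (h : ⁅E, E⁆ ⊓ D ≤ cker l) :
    ∃ μ, Lin E μ ∧ Res D μ = l := by
  have h1 := (der_normal E).norms hD
  obtain ⟨χ, a1, a2⟩ := (corr_Res h1 (triv_mem_Irr _) (cinv_triv h1)
    (by rw [Res_triv inf_le_left]; exact triv_mem_Irr _)).surj l (by
      rw [Res_triv inf_le_left]
      exact (mem_ovr_triv (inf_normal_of_norm h1)).2 ⟨hl.irr, h⟩)
  rw [mem_ovr_triv (left_normal_sup h1)] at a1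
  obtain ⟨μ, b1, b2⟩ := irr_exists_above a1.1 (sup_le (der_le E) hD)
  have b3 := (irr_lin_iff b1).2 (le_cker_of_above b1 (sup_le (der_le E) hD) (irr_chr a1.1) b2
    (der_normal E).norm le_sup_left a1.2)
  refine ⟨μ, b3, ?_⟩
  rw [← a2, ← Res_eq_of_deg (sup_le (der_le E) hD) a1.1 (mem_ovr.2 ⟨b1, b2⟩)
    (b3.deg.trans_le (H20.irr_deg_pos a1.1)), Res_Res le_sup_right]

/-- Isaacs 8.26 -/
theorem dade_ext (hp : p.Prime) (hN : N ⊴ ⊤) (hi : PiN {p} (N.relIndex ⊤)) (hP : Syl p P ⊤)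
    (hd : ⁅P, P⁆ ⊓ N = ⊥) (hθ : θ ∈ Irr N) (hi' : CInv ⊤ θ) : Ext ⊤ N θ := by
  obtain ⟨E, Q, a1, a2, a3, a4, φ, a5, -, m, a6, a7⟩ := dade_elem hp hN hi hθ hi' hP
  obtain ⟨x, b1, b2, b3⟩ := elem_amb hp a1
  have b4 := a2.sup_eq (zpowers_le.2 b1.1) b3
  have b5 : Q ≤ C(zpowers x) := cents_symm ((zpowers_le.2 b1.2).trans (cent_mono a2.le))
  have b6 : ⁅E, E⁆ ≤ ⁅P, P⁆ := by
    rw [← b4, der_sup_cent b5, comm_iff_der.1 (comm_zpowers x), bot_sup_eq]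
    exact der_mono a3
  have b7 : ⁅E, E⁆ ⊓ (E ⊓ N) ≤ ⊥ := hd ▸ inf_le_inf b6 inf_le_right
  have b8 := irr_lin_of_ab a5 (comm_iff_der.2 (le_bot_iff.1 ((le_inf (der_mono inf_le_left)
    (der_le _)).trans b7)))
  obtain ⟨μ, c1, c2⟩ := exists_lin_ext_der inf_le_left b8 (b7.trans bot_le)
  refine ext_of_dot hN hi hθ hi' (chr_Ind c1.chr le_top) ?_ a6
  rw [← dot_Res_left, Res_Ind_sup hN le_top (by rw [sup_comm, a4]) (chr_cinv c1.chr),
    dot_Ind_left inf_le_right _ (irr_cinv hθ), ← dot_Res_left, c2, ← conj_dot, a7,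
    Complex.conj_natCast]

end H6
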