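import Mathlib

/-! Base sizes of solvable linear groups I: definitions, reducible step, counting criterion. -/

set_option autoImplicit false
set_option linter.unusedSectionVars false

namespace H6.BS

universe u v

section Defs
variable (G : Type v) (V : Type u) [Group G] [AddCommGroup V] [DistribMulAction G V]

def Inv (X : AddSubgroup V) : Prop := ∀ g : G, ∀ v ∈ X, g • v ∈ X

def CR : Prop :=
  ∀ X : AddSubgroup V, Inv G V X → ∃ Y : AddSubgroup V, Inv G V Y ∧ X ⊓ Y = ⊥ ∧ X ⊔ Y = ⊤

def Irr : Prop := ∀ X : AddSubgroup V, Inv G V X → X = ⊥ ∨ X = ⊤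

def ker : Subgroup G := (DistribMulAction.toAddAut G V).ker

noncomputable def ord : ℕ := (ker G V).index

/-- at least `m` regular orbits (modulo the kernel) on `k`-tuples -/
def Reg (k m : ℕ) : Prop :=
  ∃ x : ZMod m → Fin k → V, ∀ i j (g : G), g • x i = x j → i = j ∧ ∀ v : V, g • v = v

/-- a colouring with `m` colours with trivial affine stabilizer and not all classes of one size -/
def Col (m : ℕ) : Prop :=
  ∃ col : V → ZMod m, (∀ (t : V) (s : G), (∀ x, col (t + s • x) = col x) → t = 0 ∧ ∀ x : V, s • x = x) ∧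
    ∃ c c', Nat.card {x // col x = c} ≠ Nat.card {x // col x = c'}

instance ker_normal : (ker G V).Normal := by unfold ker; infer_instance

variable {G V}

theorem mem_ker {g : G} : g ∈ ker G V ↔ ∀ v : V, g • v = v := by
  unfold ker
  rw [MonoidHom.mem_ker]
  constructor
  · intro h v
    exact DFunLike.congr_fun (congrArg Multiplicative.toAdd h) v
  · intro h
    ext v
    exact h v

theorem Irr.cr (h : Irr G V) : CR G V := by
  intro X hX
  rcases h X hX with rfl | rfl
  · exact ⟨⊤, fun _ _ _ => trivial, by simp, by simp⟩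
  · exact ⟨⊥, fun g v hv => by simp_all, by simp, by simp⟩

theorem ord_dvd : ord G V ∣ Nat.card G := Subgroup.index_dvd_card _

theorem ord_pos [Finite G] : 0 < ord G V := Nat.pos_of_ne_zero Subgroup.index_ne_zero_of_finite

theorem ker_eq_bot [FaithfulSMul G V] : ker G V = ⊥ := by
  rw [eq_bot_iff]
  intro g hg
  exact Subgroup.mem_bot.2 (FaithfulSMul.eq_of_smul_eq_smul (α := V) fun v => by
    rw [mem_ker.1 hg v, one_smul])

theorem ord_eq [FaithfulSMul G V] : ord G V = Nat.card G := by
  rw [ord, ker_eq_bot, Subgroup.index_bot]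

theorem eq_one_of_triv [FaithfulSMul G V] {g : G} (h : ∀ v : V, g • v = v) : g = 1 :=
  FaithfulSMul.eq_of_smul_eq_smul (α := V) fun v => by rw [h v, one_smul]

/-- the action on an invariant subgroup -/
@[reducible] def subAct (X : AddSubgroup V) (h : Inv G V X) : DistribMulAction G X where
  smul g x := ⟨g • x.1, h g _ x.2⟩
  one_smul x := Subtype.ext (one_smul G x.1)
  mul_smul a b x := Subtype.ext (mul_smul a b x.1)
  smul_zero a := Subtype.ext (smul_zero a)
  smul_add a x y := Subtype.ext (smul_add a x.1 y.1)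

theorem CR.sub (hc : CR G V) (X : AddSubgroup V) (h : Inv G V X) :
    @CR G X _ _ (subAct X h) := by
  let _ := subAct X h
  intro Y hY
  obtain ⟨Z, hZ, h1, h2⟩ := hc (Y.map X.subtype) (by
    rintro g _ ⟨y, hy, rfl⟩
    exact ⟨g • y, hY g y hy, rfl⟩)
  refine ⟨Z.comap X.subtype, fun g z hz => hZ g _ hz, ?_, ?_⟩
  · rw [eq_bot_iff]
    rintro y ⟨hy, hz⟩
    have : (y : V) ∈ Y.map X.subtype ⊓ Z := ⟨⟨y, hy, rfl⟩, hz⟩
    rw [h1] at this
    exact AddSubgroup.mem_bot.2 (Subtype.ext this)
  · rw [eq_top_iff]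
    intro x _
    have : (x : V) ∈ Y.map X.subtype ⊔ Z := h2 ▸ trivial
    obtain ⟨_, ⟨y, hy, rfl⟩, z, hz, hx⟩ := AddSubgroup.mem_sup.1 this
    refine AddSubgroup.mem_sup.2 ⟨y, hy, x - y, ?_, by abel⟩
    have : ((x - y : X) : V) = z := by
      simp only [AddSubgroupClass.coe_sub, ← hx]
      simp
    show ((x - y : X) : V) ∈ Z
    rw [this]; exact hz

theorem Reg.le [Finite G] [Finite V] {k m : ℕ} [NeZero m] (h : Reg G V k m) :
    m * ord G V ≤ Nat.card V ^ k := by
  obtain ⟨x, hx⟩ := h
  let f : ZMod m × (G ⧸ ker G V) → (Fin k → V) := fun p => p.2.out • x p.1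
  have hf : Function.Injective f := by
    rintro ⟨i, a⟩ ⟨j, b⟩ hij
    have h1 : (b.out⁻¹ * a.out) • x i = x j := by
      rw [mul_smul, inv_smul_eq_iff]; exact hij
    obtain ⟨rfl, h2⟩ := hx _ _ _ h1
    have h3 : b = a := by
      rw [← b.out_eq, ← a.out_eq]
      exact QuotientGroup.eq.2 (mem_ker.2 h2)
    rw [h3]
  have := Nat.card_le_card_of_injective f hf
  simpa [Nat.card_prod, Nat.card_zmod, Nat.card_fun, ord, Subgroup.index] using this

theorem Reg.base {k m : ℕ} (h : Reg G V k m) :
    ∃ x : Fin k → V, ∀ g : G, (∀ i, g • x i = x i) → ∀ v : V, g • v = v := by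
  obtain ⟨x, hx⟩ := h
  exact ⟨x 0, fun g hg => (hx 0 0 g (funext hg)).2⟩

end Defs

section Count
variable {G : Type v} {V : Type u} [Group G] [Finite G] [AddCommGroup V] [Finite V]
  [DistribMulAction G V]

/-- non-regular tuples -/
def NR (G : Type v) (V : Type u) [Group G] [AddCommGroup V] [DistribMulAction G V] (k : ℕ) :
    Set (Fin k → V) := {x | ∃ g : G, g ≠ 1 ∧ g • x = x}

theorem reg_of_count {k m : ℕ} [NeZero m]
    (h : (NR G V k).ncard + (m - 1) * Nat.card G < Nat.card V ^ k) : Reg G V k m := by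
  classical
  have key : ∀ j ≤ m, ∃ s : Finset (Fin k → V), s.card = j ∧ (∀ x ∈ s, x ∉ NR G V k) ∧
      ∀ x ∈ s, ∀ y ∈ s, ∀ g : G, g • x = y → x = y := by
    intro j
    induction j with
    | zero => intro _; exact ⟨∅, rfl, by simp, by simp⟩
    | succ j ih =>
      intro hj
      obtain ⟨s, hs, h1, h2⟩ := ih (by omega)
      let T : Set (Fin k → V) := (fun p : G × (Fin k → V) => p.1 • p.2) '' (Set.univ ×ˢ (s : Set _))
      have hT : T.ncard ≤ (m - 1) * Nat.card G := by
        refine (Set.ncard_image_le (Set.toFinite _)).trans ?_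
        rw [Set.ncard_prod, Set.ncard_univ, Set.ncard_coe_finset, hs, mul_comm]
        exact Nat.mul_le_mul_right _ (by omega)
      have hlt : (NR G V k ∪ T).ncard < (Set.univ : Set (Fin k → V)).ncard := by
        rw [Set.ncard_univ, Nat.card_fun, Nat.card_eq_fintype_card (α := Fin k), Fintype.card_fin]
        exact lt_of_le_of_lt ((Set.ncard_union_le _ _).trans (by omega)) h
      obtain ⟨z, -, hz⟩ := Set.exists_mem_notMem_of_ncard_lt_ncard hlt (Set.toFinite _)
      have hz1 : z ∉ NR G V k := fun h => hz (Or.inl h)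
      have hz2 : ∀ x ∈ s, ∀ g : G, g • x ≠ z := fun x hx g hg =>
        hz (Or.inr ⟨(g, x), ⟨trivial, hx⟩, hg⟩)
      have hzs : z ∉ s := fun hh => hz2 z hh 1 (one_smul _ _)
      refine ⟨insert z s, by rw [Finset.card_insert_of_notMem hzs, hs], ?_, ?_⟩
      · intro x hx
        rcases Finset.mem_insert.1 hx with rfl | hx
        exacts [hz1, h1 x hx]
      · intro x hx y hy g hg
        rcases Finset.mem_insert.1 hx with rfl | hx' <;> rcases Finset.mem_insert.1 hy with rfl | hy'
        · rfl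
        · exact absurd (inv_smul_eq_iff.2 hg.symm) (hz2 y hy' g⁻¹)
        · exact absurd hg (hz2 x hx' g)
        · exact h2 x hx' y hy' g hg
  obtain ⟨s, hs, h1, h2⟩ := key m le_rfl
  have e : ZMod m ≃ s := Fintype.equivOfCardEq (by simp [hs])
  refine ⟨fun i => e i, fun i j g hg => ?_⟩
  have h3 := h2 _ (e i).2 _ (e j).2 g hg
  refine ⟨e.injective (Subtype.ext h3), ?_⟩
  have : g = 1 := by
    by_contra hne
    exact h1 _ (e i).2 ⟨g, hne, hg.trans h3.symm⟩
  subst this
  exact fun v => one_smul _ v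

theorem red (hc : CR G V) (hi : ¬ Irr G V) :
    ∃ (X Y : Type u) (_ : AddCommGroup X) (_ : AddCommGroup Y) (_ : Finite X) (_ : Finite Y)
      (_ : DistribMulAction G X) (_ : DistribMulAction G Y), Nontrivial X ∧ Nontrivial Y ∧
      CR G X ∧ CR G Y ∧ Nat.card V = Nat.card X * Nat.card Y ∧ ord G V ≤ ord G X * ord G Y ∧
      ∀ k m, Reg G X k m → Reg G Y k m → Reg G V k m := by
  unfold Irr at hi
  push Not at hi
  obtain ⟨X, hX, h0, h1⟩ := hi
  obtain ⟨Y, hY, h2, h3⟩ := hc X hX
  have h4 : Y ≠ ⊥ := by rintro rfl; simp at h3; exact h1 h3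
  let _ := subAct X hX
  let _ := subAct Y hY
  have htriv : ∀ g : G, (∀ x : X, g • x = x) → (∀ y : Y, g • y = y) → ∀ v : V, g • v = v := by
    intro g hx hy v
    have : v ∈ X ⊔ Y := h3 ▸ trivial
    obtain ⟨x, hx', y, hy', rfl⟩ := AddSubgroup.mem_sup.1 this
    rw [smul_add]
    congr 1
    · exact congrArg Subtype.val (hx ⟨x, hx'⟩)
    · exact congrArg Subtype.val (hy ⟨y, hy'⟩)
  refine ⟨X, Y, inferInstance, inferInstance, inferInstance, inferInstance, inferInstance,
    inferInstance, (AddSubgroup.nontrivial_iff_ne_bot X).2 h0,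
    (AddSubgroup.nontrivial_iff_ne_bot Y).2 h4, hc.sub X hX, hc.sub Y hY, ?_, ?_, ?_⟩
  · have hcomp : IsCompl X Y := ⟨disjoint_iff.2 h2, codisjoint_iff.2 h3⟩
    rw [← Nat.card_prod]
    exact (Nat.card_congr (Submodule.prodEquivOfIsCompl (AddSubgroup.toIntSubmodule X)
      (AddSubgroup.toIntSubmodule Y)
      ((AddSubgroup.toIntSubmodule (M := V)).isCompl hcomp)).toEquiv).symm
  · refine le_trans ?_ Subgroup.index_inf_le
    refine Subgroup.index_antitone ?_
    rintro g ⟨hx, hy⟩
    exact mem_ker.2 (htriv g (mem_ker.1 hx) (mem_ker.1 hy))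
  · rintro k m ⟨x, hx⟩ ⟨y, hy⟩
    refine ⟨fun i l => (x i l : V) + y i l, fun i j g hg => ?_⟩
    have h5 : ∀ l, g • x i l = x j l ∧ g • y i l = y j l := by
      intro l
      have h6 : g • ((x i l : V) + y i l) = x j l + y j l := congrFun hg l
      have h7 : ((g • x i l - x j l : X) : V) = ((y j l - g • y i l : Y) : V) := by
        show g • (x i l : V) - x j l = y j l - g • (y i l : V)
        rw [smul_add] at h6
        rw [sub_eq_sub_iff_add_eq_add, h6]; abel
      have h8 : ((g • x i l - x j l : X) : V) ∈ X ⊓ Y :=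
        ⟨Subtype.property _, h7 ▸ Subtype.property _⟩
      rw [h2, AddSubgroup.mem_bot] at h8
      have h9 : ((y j l - g • y i l : Y) : V) = 0 := h7 ▸ h8
      exact ⟨sub_eq_zero.1 (Subtype.ext h8), (sub_eq_zero.1 (Subtype.ext h9)).symm⟩
    obtain ⟨hij, h6⟩ := hx i j g (funext fun l => (h5 l).1)
    exact ⟨hij, htriv g h6 (hy i j g (funext fun l => (h5 l).2)).2⟩

end Count

section Img
variable (G : Type v) (V : Type u) [Group G] [AddCommGroup V] [DistribMulAction G V]

/-- the faithful image -/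
abbrev Img : Type u := ↥(DistribMulAction.toAddAut G V).range

instance imgAct : DistribMulAction (Img G V) V where
  smul a v := (Multiplicative.toAdd a.1) v
  one_smul _ := rfl
  mul_smul _ _ _ := rfl
  smul_zero a := map_zero (Multiplicative.toAdd a.1)
  smul_add a x y := map_add (Multiplicative.toAdd a.1) x y

instance imgFaithful : FaithfulSMul (Img G V) V where
  eq_of_smul_eq_smul h := Subtype.ext (by ext v; exact h v)

/-- the map onto the image -/
def toImg : G →* Img G V := (DistribMulAction.toAddAut G V).rangeRestrict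

theorem toImg_surj : Function.Surjective (toImg G V) := MonoidHom.rangeRestrict_surjective _

variable {G V}

theorem toImg_smul (g : G) (v : V) : toImg G V g • v = g • v := rfl

theorem card_img : Nat.card (Img G V) = ord G V := by
  rw [ord, ker, Subgroup.index_ker]

instance imgFinite [Finite G] : Finite (Img G V) := Finite.of_surjective _ (toImg_surj G V)

theorem img_solvable [Group.IsSolvable G] : Group.IsSolvable (Img G V) :=
  Group.isSolvable_of_surjective (toImg_surj G V)

theorem inv_img {X : AddSubgroup V} : Inv (Img G V) V X ↔ Inv G V X :=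
  ⟨fun h g v hv => h (toImg G V g) v hv, fun h a v hv => by
    obtain ⟨g, rfl⟩ := toImg_surj G V a
    exact h g v hv⟩

theorem CR.img (h : CR G V) : CR (Img G V) V := fun X hX =>
  let ⟨Y, h1, h2⟩ := h X (inv_img.1 hX)
  ⟨Y, inv_img.2 h1, h2⟩

theorem Irr.img (h : Irr G V) : Irr (Img G V) V := fun X hX => h X (inv_img.1 hX)

theorem Reg.of_img {k m : ℕ} (h : Reg (Img G V) V k m) : Reg G V k m :=
  let ⟨x, hx⟩ := h
  ⟨x, fun i j g hg => hx i j (toImg G V g) hg⟩

end Img

end H6.BS
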