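import Cfsg.Agent.H6.BS8

/-! Base sizes of solvable linear groups IX: the numerical part, monotonicity. -/

set_option autoImplicit false

namespace H6.BS

/-- the four modes `(c, k, m, w)` -/
def Mode (c k m w : ℕ) : Prop :=
  (c = 1 ∧ k = 3 ∧ m = 5 ∧ w = 1) ∨ (c = 1 ∧ k = 2 ∧ m = 5 ∧ w = 6) ∨
  (c = 2 ∧ k = 2 ∧ m = 2 ∧ w = 1) ∨ (c = 3 ∧ k = 2 ∧ m = 3 ∧ w = 2)

theorem Mode.r1 {c k m w : ℕ} (h : Mode c k m w) : R1 c k m w := by
  rcases h with ⟨rfl, rfl, rfl, rfl⟩ | ⟨rfl, rfl, rfl, rfl⟩ | ⟨rfl, rfl, rfl, rfl⟩ |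
    ⟨rfl, rfl, rfl, rfl⟩
  exacts [r1A, r1B, r1C, r1D]

theorem Mode.bd {c k m w : ℕ} (h : Mode c k m w) :
    c ∈ [1, 2, 3] ∧ k ∈ [2, 3] ∧ 2 ≤ m ∧ m ≤ 5 ∧ m.Prime := by
  rcases h with ⟨rfl, rfl, rfl, rfl⟩ | ⟨rfl, rfl, rfl, rfl⟩ | ⟨rfl, rfl, rfl, rfl⟩ |
    ⟨rfl, rfl, rfl, rfl⟩ <;> norm_num

theorem oddCoef_mono (e : ℕ) {a a' : ℕ} (h : a ≤ a') : oddCoef e a ≤ oddCoef e a' := by
  unfold oddCoef
  split_ifs <;> gcongr

theorem invCoef_mono (c e s : ℕ) {a a' : ℕ} (h : a ≤ a') : invCoef c e a s ≤ invCoef c e a' s := by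
  unfold invCoef
  split_ifs <;> gcongr

theorem gen_mono (c n e Q : ℕ) {a a' D D' : ℕ} (h : a ≤ a') (hD : D ≤ D') :
    gen c n e a D Q ≤ gen c n e a' D' Q := by
  unfold gen
  gcongr
  · exact oddCoef_mono e h
  · exact invCoef_mono c e _ h

theorem lin_mono (c k q n e : ℕ) {a a' D D' : ℕ} (h : a ≤ a') (hD : D ≤ D') :
    lin c k q n e a D ≤ lin c k q n e a' D' := by
  unfold lin
  split_ifs
  · rfl
  · exact min_le_min le_rfl (gen_mono _ _ _ _ h hD)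
  · exact gen_mono _ _ _ _ h hD

theorem lin_le_gen (c k q n e a D : ℕ) : lin c k q n e a D ≤ gen c n e a D (q ^ k) := by
  unfold lin
  split_ifs
  exacts [Nat.zero_le _, min_le_right _ _, le_rfl]

theorem Fine.mono {c k m q g u u' n e a a' D D' X X' : ℕ} (h : Fine c k m q g u' n e a' D' X')
    (hu : u ≤ u') (ha : a ≤ a') (hD : D ≤ D') (hX : X ≤ X') : Fine c k m q g u n e a D X := by
  unfold Fine at *
  refine lt_of_le_of_lt ?_ h
  have := lin_mono c k q n e ha hD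
  unfold per
  gcongr

/-- `f q / q ^ N` is largest at `q = 256` -/
def Mn (N : ℕ) (f : ℕ → ℕ) : Prop := ∀ q, 256 ≤ q → f q * 256 ^ N ≤ f 256 * q ^ N

theorem Mn.add {N : ℕ} {f g : ℕ → ℕ} (hf : Mn N f) (hg : Mn N g) : Mn N fun q => f q + g q :=
  fun q hq => by simp only [add_mul]; exact add_le_add (hf q hq) (hg q hq)

theorem Mn.mul {N : ℕ} {f : ℕ → ℕ} (c : ℕ) (hf : Mn N f) : Mn N fun q => c * f q :=
  fun q hq => by simp only [mul_assoc]; exact Nat.mul_le_mul_left _ (hf q hq)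

theorem Mn.pow {N j : ℕ} (h : j ≤ N) : Mn N fun q => q ^ j := fun q hq => by
  obtain ⟨d, rfl⟩ := Nat.exists_eq_add_of_le h
  have := Nat.pow_le_pow_left hq d
  calc q ^ j * 256 ^ (j + d) = q ^ j * 256 ^ j * 256 ^ d := by ring
    _ ≤ q ^ j * 256 ^ j * q ^ d := Nat.mul_le_mul_left _ this
    _ = _ := by ring

theorem Mn.pow' {n k j : ℕ} (h : j ≤ n) : Mn (n * k) fun q => (q ^ k) ^ j := by
  simp only [← pow_mul]
  exact Mn.pow (by rw [mul_comm]; exact Nat.mul_le_mul_right _ h)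

theorem Mn.const (N c : ℕ) : Mn N fun _ => c := fun _ hq =>
  Nat.mul_le_mul_left _ (Nat.pow_le_pow_left hq N)

theorem Mn.sum {N : ℕ} (s : Finset ℕ) {f : ℕ → ℕ → ℕ} (h : ∀ i, Mn N (f i)) :
    Mn N fun q => ∑ i ∈ s, f i q := fun q hq => by
  simp only [Finset.sum_mul]; exact Finset.sum_le_sum fun i _ => h i q hq

theorem Big.mono {c k q n e a D : ℕ} (h : Big c k 256 n e a D) (hq : 256 ≤ q) (hn : 2 ≤ n)
    (hk : 2 ≤ k) : Big c k q n e a D := by
  have h4 : 2 * 2 ≤ n * k := Nat.mul_le_mul hn hk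
  have h1 : Mn (n * k) fun q => 32 * (2 + gen c n e a D (q ^ k)) +
      2 * (e * e * a) * q ^ (2 + (n * k + 1) / 2) + 8 * (e * e * a) * q ^ 2 :=
    (((Mn.const _ _).add (((((Mn.pow' (by omega)).mul _).mul _).add
      ((Mn.pow' (by omega)).mul _)).add ((Mn.pow' (by omega)).mul _) |>.add
      (Mn.sum _ fun s => (Mn.pow' (by unfold invExp; split_ifs <;> omega)).mul _))).mul 32).add
      ((Mn.pow (by omega)).mul _) |>.add ((Mn.pow (by omega)).mul _)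
  have h2 := h1 q hq
  unfold Big at *
  refine lt_of_mul_lt_mul_right (h2.trans_lt ?_) (Nat.zero_le (256 ^ (n * k)))
  calc _ < 64 * 256 ^ (n * k) * q ^ (n * k) := Nat.mul_lt_mul_of_pos_right h (by positivity)
    _ = _ := by ring

theorem log_bd {g q q0 : ℕ} (h0 : 2 ≤ q0) (e : q = q0 ^ g) (hq : 256 ≤ q) :
    32 * g ≤ q ∧ 2 * g ≤ q.sqrt := by
  rw [Nat.le_sqrt]
  rcases le_total g 8 with h | h
  · exact ⟨by omega, by nlinarith⟩
  · have h1 : 2 ^ g ≤ q := e ▸ Nat.pow_le_pow_left h0 g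
    have h2 : 2 * g * (2 * g) ≤ 2 ^ g := by
      clear h1 e
      induction g, h using Nat.le_induction with
      | base => norm_num
      | succ j hj ih => rw [pow_succ]; nlinarith
    exact ⟨by nlinarith, h2.trans h1⟩

theorem xb_le (g e a : ℕ) : xb g e a ≤ 2 * (g * (e * e * a)) := by
  unfold xb
  gcongr
  · split_ifs <;> omega
  · omega

theorem Big.fine {c k m q g u n e a D : ℕ} (h : Big c k q n e a D) (hm : m ≤ 5) (hg : 32 * g ≤ q)
    (hu : u ≤ q) (hq : 0 < q) : Fine c k m q g u n e a D (xb g e a) := by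
  unfold Big at h
  unfold Fine
  have h1 := lin_le_gen c k q n e a D
  have h2 : (q ^ n).sqrt ^ k ≤ q ^ ((n * k + 1) / 2) := by
    rw [← Nat.pow_le_pow_iff_left two_ne_zero, ← pow_mul, mul_comm k, pow_mul, ← pow_mul q]
    refine (Nat.pow_le_pow_left (Nat.sqrt_le' _) k).trans ?_
    rw [← pow_mul]
    exact Nat.pow_le_pow_right hq (by omega)
  have h3 : per k (q ^ n) u ≤ q * q ^ ((n * k + 1) / 2) :=
    (min_le_left _ _).trans (Nat.mul_le_mul hu h2)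
  have h4 : 32 * (xb g e a * per k (q ^ n) u) ≤ 2 * (e * e * a) * q ^ (2 + (n * k + 1) / 2) :=
    calc _ ≤ 32 * (2 * (g * (e * e * a)) * (q * q ^ ((n * k + 1) / 2))) := by
          gcongr; exact xb_le g e a
      _ = 2 * (e * e * a) * (32 * g * (q * q ^ ((n * k + 1) / 2))) := by ring
      _ ≤ 2 * (e * e * a) * (q * (q * q ^ ((n * k + 1) / 2))) := by gcongr
      _ = _ := by ring
  have h5 : 32 * (2 * ((m - 1) * (g * u * (e * e) * a))) ≤ 8 * (e * e * a) * q ^ 2 :=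
    calc _ ≤ 32 * (2 * (4 * (g * q * (e * e) * a))) := by gcongr; omega
      _ = 8 * (e * e * a) * (32 * g * q) := by ring
      _ ≤ 8 * (e * e * a) * (q * q) := by gcongr
      _ = _ := by ring
  rw [← pow_mul]
  omega

theorem fine_one {c k m q g u D : ℕ} (hk : k ∈ [2, 3]) (hm : m ≤ 5) (hg : 2 * g ≤ q.sqrt)
    (hu : u ≤ q) (hq : 256 ≤ q) : Fine c k m q g u 1 1 1 D (xb g 1 1) := by
  unfold Fine
  have h1 := xb_le g 1 1
  have h2 : per k (q ^ 1) u ≤ q * ∑ i ∈ Finset.range k, q.sqrt ^ i := by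
    rw [pow_one]; exact (min_le_right _ _).trans (by gcongr; omega)
  have h3 : 16 ≤ q.sqrt := Nat.le_sqrt.2 hq
  have h4 := Nat.sqrt_le q
  set s := q.sqrt
  have h5 : xb g 1 1 * per k (q ^ 1) u ≤ s * (q * ∑ i ∈ Finset.range k, s ^ i) :=
    Nat.mul_le_mul (by omega) h2
  have h6 : 2 * ((m - 1) * (g * u * (1 * 1) * 1)) ≤ 4 * (s * q) :=
    calc _ ≤ 2 * (4 * (g * q * (1 * 1) * 1)) := by gcongr; omega
      _ = 4 * (2 * g * q) := by ring
      _ ≤ _ := by gcongr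
  have h7 : lin c k q 1 1 1 D = 0 := if_pos rfl
  rw [h7, pow_one] at *
  have h8 : 16 * s ≤ q := by nlinarith
  simp only [List.mem_cons, List.not_mem_nil, or_false] at hk
  rcases hk with rfl | rfl
  · simp only [Finset.sum_range_succ, Finset.range_zero, Finset.sum_empty] at h5
    have : s * (q * (0 + s ^ 0 + s ^ 1)) ≤ s * q + q * q := by nlinarith
    nlinarith
  · simp only [Finset.sum_range_succ, Finset.range_zero, Finset.sum_empty] at h5
    have h9 : s * (0 + s ^ 0 + s ^ 1 + s ^ 2) + 4 * s + 1 ≤ q * q := by nlinarith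
    have h10 : q * (s * (0 + s ^ 0 + s ^ 1 + s ^ 2) + 4 * s + 1) ≤ q * (q * q) := by gcongr
    nlinarith

theorem Crude.mono {k q q' n e e' : ℕ} (h : Crude k q n e') (hq : q ≤ q') (he : e ≤ e')
    (h0 : 0 < q) (hn : 1 ≤ n) (hk : 2 ≤ k) : Crude k q' n e := by
  unfold Crude at *
  obtain ⟨d, hd⟩ := Nat.exists_eq_add_of_le (show 2 * 1 ≤ k * (n - 3 * n / 4) from
    Nat.mul_le_mul hk (by omega))
  rw [hd, pow_add, mul_one, mul_comm (_ ^ 2)] at h ⊢
  have h1 := lt_of_mul_lt_mul_right h (Nat.zero_le _)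
  have h2 : 0 < q' ^ 2 := pow_pos (by omega) _
  calc _ ≤ 6 * e' ^ 8 * q' ^ 2 := by gcongr
    _ < q ^ d * q' ^ 2 := Nat.mul_lt_mul_of_pos_right h1 h2
    _ ≤ _ := by gcongr

theorem crude_big {k n : ℕ} (hn : 69 ≤ n) (hk : 2 ≤ k) : Crude k 3 n n ∧ Crude k 2 n 1 := by
  unfold Crude
  have h1 : ∀ j, 18 ≤ j → 6 * (4 * j) ^ 8 * 3 ^ 2 < 3 ^ (2 * j) := by
    intro j hj
    induction j, hj using Nat.le_induction with
    | base => norm_num
    | succ j hj ih =>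
      have h2 : (4 * (j + 1)) ^ 8 * 4 ^ 8 ≤ (4 * j) ^ 8 * 5 ^ 8 := by
        rw [← mul_pow, ← mul_pow]; exact Nat.pow_le_pow_left (by omega) 8
      rw [mul_add 2, pow_add]
      omega
  have h2 : 2 * (n - 3 * n / 4) ≤ k * (n - 3 * n / 4) := Nat.mul_le_mul_right _ hk
  refine ⟨?_, lt_of_lt_of_le (by norm_num) (Nat.pow_le_pow_right two_pos
    (show 36 ≤ _ by omega))⟩
  calc _ ≤ 6 * (4 * (n - 3 * n / 4)) ^ 8 * 3 ^ 2 := by gcongr; omega
    _ < _ := h1 _ (by omega)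
    _ ≤ _ := Nat.pow_le_pow_right (by norm_num) h2

theorem dvd_of_pow_eq {p f q0 g : ℕ} (hp : p.Prime) (hf : 1 ≤ f) (hq0 : p ^ f = q0 ^ g) : g ∣ f := by
  have hq : 2 ≤ p ^ f := hp.two_le.trans (Nat.le_self_pow (by omega) p)
  obtain ⟨j, -, hj⟩ := (Nat.dvd_prime_pow hp).1 (show q0 ∣ p ^ f from hq0 ▸ dvd_pow_self _ (by
    rintro rfl; rw [pow_zero] at hq0; omega))
  rw [hj, ← pow_mul] at hq0
  exact Dvd.intro_left _ (Nat.pow_right_injective hp.two_le hq0).symm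

theorem dvd_umax_pow {q c u e : ℕ} (hq : 2 ≤ q) (he : 1 ≤ e) (hu : u ∣ q - 1) (huc : u.Coprime c)
    (heu : ∀ r, r.Prime → r ∣ e → r ∣ u) : e ∣ umax q c ^ e :=
  (Nat.dvd_pow_self_iff (by omega) (umax_pos hq).ne').2 fun r hr => by
    rw [Nat.mem_primeFactors] at hr ⊢
    exact ⟨hr.1, (heu r hr.1 hr.2.1).trans (dvd_umax hu huc), (umax_pos hq).ne'⟩

theorem numeric {c k m w p f g q0 n e u : ℕ} (hM : Mode c k m w) (hp : p.Prime)
    (hw : p.Coprime w) (hf : 1 ≤ f) (h0 : 2 ≤ q0) (hq0 : p ^ f = q0 ^ g) (hg : g.Coprime c)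
    (hn : 1 ≤ n) (he1 : 1 ≤ e) (hen : e ≤ n) (he : e.Coprime c) (hu : u ∣ p ^ f - 1)
    (huc : u.Coprime c) (heu : ∀ r, r.Prime → r ∣ e → r ∣ u) :
    (2 ≤ n ∧ Crude k (p ^ f) n e) ∨ Spec c k (p ^ f) g n e ∨
      Fine c k m (p ^ f) g u n e (ab c e) (db c e (ab c e)) (xb g e (ab c e)) := by
  obtain ⟨hc, hk, -, hm, -⟩ := hM.bd
  have hk2 : 2 ≤ k := by simp only [List.mem_cons, List.not_mem_nil, or_false] at hk; omega
  have hq : 2 ≤ p ^ f := hp.two_le.trans (Nat.le_self_pow (by omega) p)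
  have hu1 : u ≤ p ^ f := (Nat.le_of_dvd (by omega) hu).trans (by omega)
  rcases le_or_gt 69 n with h69 | h69
  · refine Or.inl ⟨by omega, ?_⟩
    rcases hq.eq_or_lt with e2 | e2
    · rw [← e2] at hu ⊢
      have : e = 1 := Nat.eq_one_iff_not_exists_prime_dvd.2 fun r hr h =>
        hr.not_dvd_one ((heu r hr h).trans hu)
      exact this ▸ (crude_big h69 hk2).2
    · exact (crude_big h69 hk2).1.mono e2 hen (by norm_num) hn hk2
  rcases le_or_gt 256 (p ^ f) with h256 | h256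
  · obtain ⟨k1, k2⟩ := log_bd h0 hq0 h256
    rcases hn.eq_or_lt with rfl | hn2
    · obtain rfl : e = 1 := by omega
      have : ab c 1 = 1 := by
        simp only [List.mem_cons, List.not_mem_nil, or_false] at hc
        rcases hc with rfl | rfl | rfl <;> rfl
      rw [this]
      exact Or.inr (Or.inr (fine_one hk hm k2 hu1 h256))
    rcases r2 c hc k hk n h69 hn2 with h | h
    · exact Or.inl ⟨hn2, h.mono h256 hen (by norm_num) hn hk2⟩
    · exact Or.inr (Or.inr (((h e (by omega) he1).mono h256 hn2 hk2).fine hm k1 hu1 (by omega)))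
  have hf8 : f < 8 := by
    by_contra hh
    exact absurd ((Nat.pow_le_pow_right two_pos (not_lt.1 hh)).trans
      (Nat.pow_le_pow_left hp.two_le f)) (by omega)
  have hgf : g ∣ f := dvd_of_pow_eq hp hf hq0
  have h1 := dvd_umax hu huc
  have h2 := umax_pos (c := c) hq
  rcases hM.r1 p ((Nat.le_self_pow (by omega) p).trans_lt h256) (pp_of_prime hp) hw f hf8 hf h256
    n h69 hn with h | h
  · exact Or.inl ⟨h.1, h.2.mono le_rfl hen (by omega) hn hk2⟩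
  rcases h e (by omega) he1 he (dvd_umax_pow hq he1 hu huc heu) g
    (Nat.lt_succ_of_le (Nat.le_of_dvd hf hgf)) hgf hg with h | h
  · exact Or.inr (Or.inl h)
  · exact Or.inr (Or.inr (h.mono (Nat.le_of_dvd h2 h1) le_rfl le_rfl le_rfl))

theorem sp3 : Fine 1 3 5 4 2 3 3 3 24 0 (2 * (3 * 24)) := by decide +kernel
theorem sp6 : Fine 3 2 3 3 1 2 8 8 98 0 0 := by decide +kernel
theorem sp4 : ∀ x ∈ [(3, 3), (2, 5), (2, 7)], ∀ y ∈ [(20, 0), (6, 3)],
    Fine 1 x.1 5 x.2 1 (x.2 - 1) 4 4 y.1 y.2 0 := by decide +kernel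

theorem ab_le : ∀ c ∈ [1, 2, 3], ∀ e, 1 ≤ e → ab c e ≤ e ^ 6 := by
  have : ∀ c ∈ [1, 2, 3], ∀ e < 17, 1 ≤ e → ab c e ≤ e ^ 6 := by decide +kernel
  intro c hc e he
  rcases lt_or_ge e 17 with h | h
  · exact this c hc e h he
  · rw [ab, if_neg (by omega)]
    exact (Nat.div_le_self _ _).trans_eq (by ring)

end H6.BS
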