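import Cfsg.Agent.H6.BS7
import Cfsg.Agent.H6.BS9

/-! Base sizes of solvable linear groups X: counting fixed tuples, good elements. -/

set_option autoImplicit false
set_option linter.unusedSectionVars false

open Cfsg Subgroup Pointwise

namespace H6.BS

universe u

theorem fib {α γ : Type*} [Finite γ] (T : Finset α) (ℓ : α → γ) (B : Set γ) (hB : ∀ x ∈ T, ℓ x ∈ B)
    (F : α → ℕ) (S : ℕ)
    (h : ∀ T' ⊆ T, T'.Nonempty → (∀ x ∈ T', ∀ y ∈ T', ℓ x = ℓ y) → ∑ x ∈ T', F x ≤ S) :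
    ∑ x ∈ T, F x ≤ B.ncard * S := by
  classical
  have hf := Set.toFinite B
  rw [← Finset.sum_fiberwise_of_maps_to (t := hf.toFinset) (g := ℓ)
    (fun x hx => hf.mem_toFinset.2 (hB x hx)), Set.ncard_eq_toFinset_card B hf, ← smul_eq_mul]
  refine Finset.sum_le_card_nsmul _ _ _ fun y _ => ?_
  rcases (T.filter fun x => ℓ x = y).eq_empty_or_nonempty with e | e
  · rw [e]; exact Nat.zero_le _
  · exact h _ (Finset.filter_subset _ _) e fun a ha b hb => by
      rw [(Finset.mem_filter.1 ha).2, (Finset.mem_filter.1 hb).2]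

theorem split {α : Type*} (T : Finset α) (p : α → Prop) (F : α → ℕ) {a b : ℕ}
    (h1 : ∀ T' ⊆ T, (∀ x ∈ T', p x) → ∑ x ∈ T', F x ≤ a)
    (h2 : ∀ T' ⊆ T, (∀ x ∈ T', ¬ p x) → ∑ x ∈ T', F x ≤ b) : ∑ x ∈ T, F x ≤ a + b := by
  classical
  rw [← Finset.sum_filter_add_sum_filter_not T p]
  exact add_le_add (h1 _ (Finset.filter_subset _ _) fun x hx => (Finset.mem_filter.1 hx).2)
    (h2 _ (Finset.filter_subset _ _) fun x hx => (Finset.mem_filter.1 hx).2)

theorem conv {Q d h : ℕ} (hQ : 2 ≤ Q) (hd : d ≤ h) : h * (Q ^ d - 1) ≤ d * Q ^ h := by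
  rcases Nat.eq_zero_or_pos d with rfl | h0
  · simp
  obtain ⟨j, rfl⟩ := Nat.exists_eq_add_of_le hd
  have h1 : j + 1 ≤ Q ^ j := Nat.lt_two_pow_self.trans_le (Nat.pow_le_pow_left hQ j)
  calc _ ≤ (d * (j + 1)) * Q ^ d := Nat.mul_le_mul (by nlinarith) (Nat.sub_le _ _)
    _ ≤ d * Q ^ j * Q ^ d := by gcongr
    _ = _ := by ring

theorem geo {x y : ℕ} (h : x ≤ y) (k : ℕ) :
    x ^ k - 1 ≤ (x - 1) * ∑ i ∈ Finset.range k, y ^ i := by
  rcases x with _ | x
  · cases k <;> simp
  · have := geom_sum_mul_add x k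
    rw [← this, Nat.add_sub_cancel, Nat.add_sub_cancel, mul_comm]
    gcongr

section Gen
variable {G V : Type u} [Group G] [Finite G] [AddCommGroup V] [Finite V] [DistribMulAction G V]

open Classical in
/-- the weight of an element -/
noncomputable def wt (g : G) : ℕ := if g * g = 1 then 2 else 1

theorem wt_le (g : G) : wt g ≤ 2 := by unfold wt; split_ifs <;> omega
theorem wt_pos (g : G) : 1 ≤ wt g := by unfold wt; split_ifs <;> omega
theorem wt_one {g : G} (h : g * g ≠ 1) : wt g = 1 := if_neg h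

variable (V) in
/-- the number of nonzero fixed tuples -/
noncomputable def ff (k : ℕ) (g : G) : ℕ := Nat.card (Fx V g) ^ k - 1

variable (V) in
def FT (k : ℕ) (S : Set G) : Set (Fin k → V) := {x | x ≠ 0 ∧ ∃ g ∈ S, g • x = x}

theorem card_tuples (k : ℕ) (L : AddSubgroup V) :
    {x : Fin k → V | x ≠ 0 ∧ ∀ i, x i ∈ L}.ncard = Nat.card L ^ k - 1 := by
  have : {x : Fin k → V | x ≠ 0 ∧ ∀ i, x i ∈ L} = {x : Fin k → V | ∀ i, x i ∈ L} \ {0} := by
    ext x; simp [and_comm]
  rw [this, Set.ncard_sdiff_singleton_of_mem (by exact fun _ => L.zero_mem),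
    ← Nat.card_coe_set_eq]
  congr 1
  exact (Nat.card_congr Equiv.subtypePiEquivPi).trans (by simp [Nat.card_pi])

theorem wt_union (k : ℕ) (S : Finset G) (hS : ∀ g ∈ S, g⁻¹ ∈ S) :
    2 * (FT V k (S : Set G)).ncard ≤ ∑ g ∈ S, wt g * ff V k g := by
  classical
  have hf := Set.toFinite (FT V k (S : Set G))
  calc _ = ∑ _x ∈ hf.toFinset, 2 := by rw [Set.ncard_eq_toFinset_card _ hf]; simp [mul_comm]
    _ ≤ ∑ x ∈ hf.toFinset, ∑ g ∈ S with g • x = x, wt g := by
      refine Finset.sum_le_sum fun x hx => ?_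
      obtain ⟨-, g, hg, e⟩ := hf.mem_toFinset.1 hx
      by_cases h2 : g * g = 1
      · exact (if_pos h2).ge.trans (Finset.single_le_sum (f := wt) (fun _ _ => Nat.zero_le _)
          (Finset.mem_filter.2 ⟨hg, e⟩))
      · have h3 : g ≠ g⁻¹ := fun e => h2 (mul_eq_one_iff_eq_inv.2 e)
        refine le_trans ?_ (Finset.sum_le_sum_of_subset (s := {g, g⁻¹}) ?_)
        · rw [Finset.sum_pair h3]; exact add_le_add (wt_pos g) (wt_pos _)
        · intro y hy
          rcases Finset.mem_insert.1 hy with rfl | hy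
          · exact Finset.mem_filter.2 ⟨hg, e⟩
          · rw [Finset.mem_singleton.1 hy]
            exact Finset.mem_filter.2 ⟨hS g hg, inv_smul_eq_iff.2 e.symm⟩
    _ = ∑ g ∈ S, ∑ x ∈ hf.toFinset with g • x = x, wt g := by
      simp only [Finset.sum_filter]; exact Finset.sum_comm
    _ ≤ _ := by
      refine Finset.sum_le_sum fun g _ => ?_
      rw [Finset.sum_const, smul_eq_mul, mul_comm, ff, ← card_tuples, ← Set.ncard_coe_finset]
      refine Nat.mul_le_mul_left _ (Set.ncard_le_ncard (fun x hx => ?_) (Set.toFinite _))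
      rw [Finset.mem_coe, Finset.mem_filter, hf.mem_toFinset] at hx
      exact ⟨hx.1.1, fun i => mem_Fx.2 (congrFun hx.2 i)⟩

theorem NR_le (k : ℕ) (A : Subgroup G) : (NR G V k).ncard ≤ 1 +
    (FT V k {g : G | (orderOf g).Prime ∧ g ∈ A}).ncard +
    (FT V k {g : G | (orderOf g).Prime ∧ g ∉ A}).ncard := by
  refine le_trans (Set.ncard_le_ncard (t := {0} ∪ FT V k {g : G | (orderOf g).Prime ∧ g ∈ A} ∪
    FT V k {g : G | (orderOf g).Prime ∧ g ∉ A}) ?_ (Set.toFinite _)) ?_
  · rintro x ⟨g, g1, e⟩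
    by_cases x0 : x = 0
    · exact Or.inl (Or.inl x0)
    have h1 : (orderOf (g ^ (orderOf g / (orderOf g).minFac))).Prime := by
      rw [orderOf_pow_orderOf_div (orderOf_pos g).ne' (Nat.minFac_dvd _)]
      exact Nat.minFac_prime (by rwa [ne_eq, orderOf_eq_one_iff])
    have h2 : g ^ (orderOf g / (orderOf g).minFac) • x = x :=
      (MulAction.stabilizer G x).pow_mem e _
    by_cases hA : g ^ (orderOf g / (orderOf g).minFac) ∈ A
    · exact Or.inl (Or.inr ⟨x0, _, ⟨h1, hA⟩, h2⟩)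
    · exact Or.inr ⟨x0, _, ⟨h1, hA⟩, h2⟩
  · refine (Set.ncard_union_le _ _).trans (Nat.add_le_add_right
      ((Set.ncard_union_le _ _).trans ?_) _)
    rw [Set.ncard_singleton]

theorem odd_of_prime {g : G} (hp : (orderOf g).Prime) (h : g * g ≠ 1) : Odd (orderOf g) :=
  hp.odd_of_ne_two fun e => h (by rw [← pow_two, ← e, pow_orderOf_eq_one])

theorem ne_one_of_prime {g : G} (hp : (orderOf g).Prime) : g ≠ 1 := by
  rintro rfl; rw [orderOf_one] at hp; exact Nat.not_prime_one hp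

theorem smul_of_img {a b : G} (e : toImg G V a = toImg G V b) (v : V) : a • v = b • v := by
  rw [← toImg_smul, e, toImg_smul]

end Gen

variable {G V K W : Type u} [Group G] [Finite G] [AddCommGroup V] [Finite V] [Nontrivial V]
  [DistribMulAction G V] [FaithfulSMul G V] [Field K] [Finite K] [Module K V] [AddCommGroup W]
  [Finite W] [DistribMulAction G W] {U A E : Subgroup G} {sc : G → Kˣ} {σ : G →* RingAut K}
  {π : G → W}

namespace Prim
variable (h : Prim (V := V) U A E sc σ π)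
include h

theorem coset_good {k : ℕ} (hk : 1 ≤ k) (hn : 2 ≤ Module.finrank K V) (T : Finset G)
    (hA : ∀ g ∈ T, g ∈ A) (hg : ∀ g ∈ T, Good V g) (hU : ∀ a ∈ T, ∀ b ∈ T, a⁻¹ * b ∈ U) :
    ∑ g ∈ T, ff V k g ≤ (if Module.finrank K V % 2 = 0 then 2 else 3) *
      (Nat.card K ^ k) ^ (Module.finrank K V / 2) := by
  have hq : 1 < Nat.card K := Finite.one_lt_card
  have hQ : 2 ≤ Nat.card K ^ k := hq.trans_le (Nat.le_self_pow (by omega) _)
  refine Nat.le_of_mul_le_mul_left ?_ (show 0 < Module.finrank K V / 2 by omega)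
  rw [Finset.mul_sum, ← Finset.sum_coe_sort]
  calc _ ≤ ∑ g : T, Module.finrank K (h.FxK (hA g g.2)) *
        (Nat.card K ^ k) ^ (Module.finrank K V / 2) := by
        refine Finset.sum_le_sum fun g _ => ?_
        have := hg g g.2
        rw [Good, h.card_Fx (hA g g.2), Module.natCard_eq_pow_finrank (K := K) (V := V), ← pow_mul,
          Nat.pow_le_pow_iff_right hq] at this
        rw [ff, h.card_Fx (hA g g.2), ← pow_mul, mul_comm _ k, pow_mul]
        exact conv hQ (by omega)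
    _ ≤ _ := by
        rw [← Finset.sum_mul, ← mul_assoc]
        refine Nat.mul_le_mul_right _ ((h.sum_dim_le T hA hU).trans ?_)
        split_ifs <;> omega

theorem coset_out (k : ℕ) (T : Finset G) (hg : ∀ g ∈ T, Good V g)
    (hU : ∀ a ∈ T, ∀ b ∈ T, a⁻¹ * b ∈ U) :
    ∑ g ∈ T, ff V k g ≤ per k (Nat.card V) (Nat.card U) := by
  classical
  have h1 : ∀ g ∈ T, Nat.card (Fx V g) ≤ (Nat.card V).sqrt := fun g hg' => Nat.le_sqrt'.2 (hg g hg')
  refine le_min ?_ ?_
  · rcases T.eq_empty_or_nonempty with rfl | ⟨a, ha⟩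
    · simp
    refine (Finset.sum_le_card_nsmul _ _ _ fun g hg' =>
      (Nat.sub_le _ _).trans (Nat.pow_le_pow_left (h1 g hg') k)).trans ?_
    rw [smul_eq_mul]
    refine Nat.mul_le_mul_right _ ?_
    rw [← Nat.card_eq_finsetCard]
    exact Nat.card_le_card_of_injective (fun g : T => (⟨a⁻¹ * g, hU a ha g g.2⟩ : U))
      fun x y e => Subtype.ext (mul_left_cancel (congrArg Subtype.val e))
  · refine (Finset.sum_le_sum fun g hg' => geo (h1 g hg') k).trans ?_
    rw [← Finset.sum_mul]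
    refine Nat.mul_le_mul_right _ ?_
    have _ := Fintype.ofFinite V
    have h2 : ∀ g : G, Nat.card (Fx V g) - 1 =
        ((Finset.univ.filter fun v => v ∈ Fx V g).erase 0).card := fun g => by
      rw [Finset.card_erase_of_mem (by simp), Nat.card_eq_fintype_card, Fintype.card_subtype]
    rw [Finset.sum_congr rfl fun g _ => h2 g, ← Finset.card_biUnion, Nat.card_eq_fintype_card,
      ← Finset.card_univ, ← Finset.card_erase_of_mem (Finset.mem_univ (0 : V))]
    · refine Finset.card_le_card fun v hv => ?_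
      obtain ⟨g, -, hv⟩ := Finset.mem_biUnion.1 hv
      exact Finset.mem_erase.2 ⟨(Finset.mem_erase.1 hv).1, Finset.mem_univ _⟩
    · intro a ha b hb hab
      refine Finset.disjoint_left.2 fun v h3 h4 => ?_
      simp only [Finset.mem_erase, Finset.mem_filter, Finset.mem_univ, true_and, mem_Fx] at h3 h4
      have := h.Fx_U (hU a ha b hb) fun e => hab (inv_mul_eq_one.1 e)
      exact h3.1 (AddSubgroup.mem_bot.1 (this ▸ mem_Fx.2 (by rw [mul_smul, h4.2, inv_smul_eq_iff, h3.2])))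

theorem mem_E_img {a b : G} (ha : a ∈ A) (hb : b ∈ A) (e : toImg G W a = toImg G W b) :
    a⁻¹ * b ∈ E :=
  h.mem_E (mul_mem (inv_mem ha) hb) fun w => by rw [mul_smul, ← smul_of_img e, inv_smul_smul]

theorem lab' (T : Finset G) (g0 : G) (hE : ∀ b ∈ T, g0⁻¹ * b ∈ E) (L : Set W)
    (hL : ∀ b ∈ T, π (g0⁻¹ * b) ∈ L) (F : G → ℕ) (S : ℕ)
    (hS : ∀ T' ⊆ T, T'.Nonempty → (∀ a ∈ T', ∀ b ∈ T', a⁻¹ * b ∈ U) → ∑ g ∈ T', F g ≤ S) :
    ∑ g ∈ T, F g ≤ L.ncard * S :=
  fib T (fun b => π (g0⁻¹ * b)) L hL F S fun T' hT hne e => hS T' hT hne fun a ha b hb => by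
    simpa [mul_assoc] using (h.π_eq (hE a (hT ha)) (hE b (hT hb))).1 (e a ha b hb)

theorem lab (T : Finset G) (hA : ∀ g ∈ T, g ∈ A)
    (hi : ∀ a ∈ T, ∀ b ∈ T, toImg G W a = toImg G W b) {g0 : G} (h0 : g0 ∈ T) (L : Set W)
    (hL : ∀ b ∈ T, π (g0⁻¹ * b) ∈ L) (F : G → ℕ) (S : ℕ)
    (hS : ∀ T' ⊆ T, T'.Nonempty → (∀ a ∈ T', ∀ b ∈ T', a⁻¹ * b ∈ U) → ∑ g ∈ T', F g ≤ S) :
    ∑ g ∈ T, F g ≤ L.ncard * S :=
  h.lab' T g0 (fun b hb => h.mem_E_img (hA _ h0) (hA _ hb) (hi _ h0 _ hb)) L hL F S hS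

theorem inv_label {a b : G} (hE : a⁻¹ * b ∈ E) (ha : a * a = 1) (hb : b * b = 1) :
    a • π (a⁻¹ * b) = -π (a⁻¹ * b) := by
  rw [← h.π_conj a _ hE, ← h.π_inv hE]
  congr 1
  rw [mul_inv_cancel_left, mul_inv_rev, inv_inv, inv_eq_of_mul_eq_one_right ha,
    inv_eq_of_mul_eq_one_right hb]

theorem good_part (T : Finset G) (hT : ∀ g ∈ T, (orderOf g).Prime ∧ g ∈ A) (F : G → ℕ) (S : ℕ)
    (hS : ∀ T' ⊆ T, (∀ a ∈ T', ∀ b ∈ T', a⁻¹ * b ∈ U) → ∑ g ∈ T', F g ≤ S) :
    ∑ g ∈ T, wt g * F g ≤ (Nat.card (A.map (toImg G W)) + 2) * Nat.card W * S := by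
  classical
  let P : G → Prop := fun g => (∀ w : W, g • w = w) ∨ ∀ w : W, g • w = -w
  have h0 : ∀ T' ⊆ T, T'.Nonempty → (∀ a ∈ T', ∀ b ∈ T', toImg G W a = toImg G W b) →
      ∑ g ∈ T', F g ≤ Nat.card W * S := fun T' hT' ⟨g0, h0⟩ hi => by
    rw [← Set.ncard_univ]
    exact h.lab T' (fun g hg => (hT g (hT' hg)).2) hi h0 _ (fun _ _ => Set.mem_univ _) F S
      fun T'' k _ => hS T'' (k.trans hT')
  have h1 : ∑ g ∈ T with P g, F g ≤ 2 * (Nat.card W * S) := by
    refine (fib _ (toImg G W) {r | r = 1 ∨ ∀ w : W, r • w = -w} (fun g hg => ?_) F _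
      fun T' k => h0 T' (k.trans (Finset.filter_subset _ _))).trans (Nat.mul_le_mul_right _ ?_)
    · exact (Finset.mem_filter.1 hg).2.imp (fun k => eq_one_of_triv (V := W) k) id
    · refine (Set.ncard_union_le {1} _).trans (show _ ≤ 1 + 1 from
        add_le_add (Set.ncard_singleton _).le ?_)
      exact (Set.ncard_le_one (Set.toFinite _)).2 fun a ha b hb =>
        FaithfulSMul.eq_of_smul_eq_smul (α := W) fun w => (ha w).trans (hb w).symm
  have h2 : ∑ g ∈ T, (if P g then 1 else wt g) * F g ≤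
      Nat.card (A.map (toImg G W)) * (Nat.card W * S) := by
    refine fib T (toImg G W) (A.map (toImg G W) : Set (Img G W))
      (fun g hg => mem_map_of_mem _ (hT g hg).2) _ _
      fun T' k hne hi => ?_
    by_cases h3 : ∃ g ∈ T', ¬ P g ∧ g * g = 1
    swap
    · push Not at h3
      refine le_trans (Finset.sum_le_sum fun g hg => ?_) (h0 T' k hne hi)
      split_ifs with hp
      · rw [one_mul]
      · rw [wt_one (h3 g hg hp), one_mul]
    obtain ⟨g0, hg0, hp, h4⟩ := h3
    rw [not_or, not_forall, not_forall] at hp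
    obtain ⟨⟨w1, hw1⟩, w2, hw2⟩ := hp
    let L : AddSubgroup W := (DistribSMul.toAddMonoidHom W g0 + AddMonoidHom.id W).ker
    have hL : 2 * Nat.card L ≤ Nat.card W := by
      rw [← L.index_mul_card]
      exact Nat.mul_le_mul_right _ (AddSubgroup.one_lt_index_of_ne_top fun e =>
        hw2 (eq_neg_of_add_eq_zero_left (show w2 ∈ L from e ▸ trivial)))
    have h5 : ∀ g ∈ T', g * g = 1 := fun g hg => by
      by_contra h5
      obtain ⟨j, hj⟩ := odd_of_prime (hT g (k hg)).1 h5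
      have h6 : toImg G W (g ^ orderOf g) = toImg G W g0 := by
        rw [map_pow, hi g hg g0 hg0, ← map_pow, hj, pow_succ, pow_mul, pow_two, h4, one_pow, one_mul]
      exact hw1 (by rw [← smul_of_img h6, pow_orderOf_eq_one, one_smul])
    calc _ ≤ ∑ g ∈ T', 2 * F g := Finset.sum_le_sum fun g _ => Nat.mul_le_mul_right _ (by
          split_ifs; exacts [one_le_two, wt_le g])
      _ ≤ 2 * (Nat.card L * S) := by
          rw [← Finset.mul_sum]
          exact Nat.mul_le_mul_left _ (h.lab T' (fun g hg => (hT g (k hg)).2) hi hg0 L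
            (fun b hb => add_eq_zero_iff_eq_neg.2 (h.inv_label (h.mem_E_img (hT _ (k hg0)).2
              (hT _ (k hb)).2 (hi _ hg0 _ hb)) h4 (h5 b hb))) F S fun T'' k' _ => hS T'' (k'.trans k))
      _ ≤ _ := by rw [← mul_assoc]; exact Nat.mul_le_mul_right _ hL
  calc _ ≤ ∑ g ∈ T, ((if P g then 1 else wt g) * F g + if P g then F g else 0) :=
        Finset.sum_le_sum fun g _ => by
          have := Nat.mul_le_mul_right (F g) (wt_le g)
          split_ifs <;> omega
    _ ≤ _ := by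
        rw [Finset.sum_add_distrib, ← Finset.sum_filter]
        exact (add_le_add h2 h1).trans_eq (by ring)

theorem span_two (k : ℕ) (hn : Module.finrank K V = 2) :
    (FT V k {g : G | (orderOf g).Prime ∧ g ∈ A}).ncard ≤ (Nat.card K + 1) * (Nat.card K ^ k - 1) := by
  classical
  have hf := Set.toFinite (FT V k {g : G | (orderOf g).Prime ∧ g ∈ A})
  have : Finite (Submodule K V) := Finite.of_injective _ SetLike.coe_injective
  have h1 : ∀ x ∈ hf.toFinset, Module.finrank K (Submodule.span K (Set.range x)) = 1 := by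
    intro x hx
    obtain ⟨x0, g, ⟨hp, hA⟩, e⟩ := hf.mem_toFinset.1 hx
    have h2 : Submodule.span K (Set.range x) ≤ h.FxK hA :=
      Submodule.span_le.2 (by rintro _ ⟨i, rfl⟩; exact mem_Fx.2 (congrFun e i))
    have h3 : Module.finrank K (h.FxK hA) < 2 := hn ▸ Submodule.finrank_lt fun e' =>
      ne_one_of_prime hp (eq_one_of_triv (V := V) fun v =>
        mem_Fx.1 (show v ∈ h.FxK hA from e' ▸ trivial))
    have h4 := Submodule.finrank_mono h2
    have h5 : Module.finrank K (Submodule.span K (Set.range x)) ≠ 0 := fun e' => x0 (funext fun i =>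
      (Submodule.span_eq_bot.1 (Submodule.finrank_eq_zero.1 e')) _ ⟨i, rfl⟩)
    omega
  rw [Set.ncard_eq_toFinset_card _ hf, Finset.card_eq_sum_ones, ← Projectivization.card_of_finrank_two
    K V hn, Nat.card_congr (Projectivization.equivSubmodule K V)]
  refine fib _ (fun x => Submodule.span K (Set.range x)) {L | Module.finrank K L = 1} h1 _ _
    fun T' k' ⟨x, hx⟩ hi => ?_
  have h2 := card_tuples k (Submodule.span K (Set.range x)).toAddSubgroup
  rw [show Nat.card (Submodule.span K (Set.range x)).toAddSubgroup = _ from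
    Module.natCard_eq_pow_finrank (K := K) (V := Submodule.span K (Set.range x)), h1 x (k' hx),
    pow_one] at h2
  rw [← Finset.card_eq_sum_ones, ← h2, ← Set.ncard_coe_finset]
  refine Set.ncard_le_ncard (fun y hy => ⟨(hf.mem_toFinset.1 (k' hy)).1, fun i => ?_⟩)
    (Set.toFinite _)
  rw [Submodule.mem_toAddSubgroup, hi x hx y hy]
  exact Submodule.subset_span ⟨i, rfl⟩

/-- the cosets of the scalars outside the linear part containing an element of prime order -/
def Yset (U A : Subgroup G) : Set (G ⧸ U) :=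
  (fun g : G => (g : G ⧸ U)) '' {g : G | (orderOf g).Prime ∧ g ∉ A}

theorem out_part (k : ℕ) : 2 * (FT V k {g : G | (orderOf g).Prime ∧ g ∉ A}).ncard ≤
    (if A.index % 2 = 0 then 2 else 1) * (Yset U A).ncard * per k (Nat.card V) (Nat.card U) := by
  classical
  have hf := Set.toFinite {g : G | (orderOf g).Prime ∧ g ∉ A}
  have h1 := wt_union (V := V) k hf.toFinset fun g hg => by
    rw [hf.mem_toFinset] at hg ⊢
    exact ⟨by rw [orderOf_inv]; exact hg.1, fun e => hg.2 (inv_mem_iff.1 e)⟩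
  rw [hf.coe_toFinset] at h1
  refine h1.trans (le_trans (Finset.sum_le_sum (g := fun g =>
    (if A.index % 2 = 0 then 2 else 1) * ff V k g) fun g hg => Nat.mul_le_mul_right _ ?_) ?_)
  · split_ifs with h2
    · exact wt_le g
    · refine (wt_one fun e => (hf.mem_toFinset.1 hg).2 ?_).le
      have := h.nA
      obtain ⟨j, hj⟩ := Nat.odd_iff.2 (Nat.mod_two_ne_zero.1 h2)
      have h3 := A.pow_index_mem g
      rwa [hj, pow_succ, pow_mul, pow_two, e, one_pow, one_mul] at h3
  · rw [← Finset.mul_sum, mul_assoc]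
    exact Nat.mul_le_mul_left _ (fib _ (fun g : G => (g : G ⧸ U)) (Yset U A)
      (fun g hg => ⟨g, hf.mem_toFinset.1 hg, rfl⟩) _ _
      fun T' k' _ hi => h.coset_out k T' (fun g hg => h.good_out (hf.mem_toFinset.1 (k' hg)).2)
        fun a ha b hb => QuotientGroup.eq.1 (hi a ha b hb))

theorem Yset_le : (Yset U A).ncard ≤
    (A.index - 1) * (Nat.card W * Nat.card (A.map (toImg G W))) := by
  have hUA := h.UE.trans h.EA
  have h1 : ((fun g : G => (g : G ⧸ U)) '' A).ncard = Nat.card W * Nat.card (A.map (toImg G W)) := by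
    have := card_mul_eq_card_subgroup_mul_card_quotient U (A : Set G)
    have h0 : (A : Set G) * U = A := Set.Subset.antisymm
      (by rintro _ ⟨a, ha, b, hb, rfl⟩; exact mul_mem ha (hUA hb))
      fun a ha => ⟨a, ha, 1, U.one_mem, mul_one a⟩
    rw [h0, SetLike.coe_sort_coe, h.card_A, mul_assoc] at this
    exact (Nat.eq_of_mul_eq_mul_left Nat.card_pos this).symm
  have h2 : U.index = A.index * (Nat.card W * Nat.card (A.map (toImg G W))) :=
    Nat.eq_of_mul_eq_mul_right (Nat.card_pos (α := U)) (by rw [U.index_mul_card, h.card_G]; ring)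
  rw [Nat.sub_one_mul, ← h2, ← h1, index, ← Set.ncard_univ, ← Set.ncard_sdiff (Set.subset_univ _)]
  refine Set.ncard_le_ncard ?_ (Set.toFinite _)
  rintro _ ⟨g, hg, rfl⟩
  refine ⟨trivial, ?_⟩
  rintro ⟨a, ha, e⟩
  exact hg.2 (by simpa using mul_mem ha (hUA (QuotientGroup.eq.1 e)))

end Prim

end H6.BS
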