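import Cfsg.Agent.H6.BS6
import Cfsg.Agent.H6.BS10

/-! Base sizes of solvable linear groups XI: counting fixed tuples, bad elements. -/

set_option autoImplicit false
set_option linter.unusedSectionVars false

open Cfsg Subgroup

namespace H6.BS

universe u

theorem two_eq_iff {t : ℕ} (ht : t ≠ 0) : two t = t ↔ ∀ r, r.Prime → r ∣ t → r = 2 := by
  rw [two, Nat.gcd_eq_left_iff_dvd, Nat.dvd_pow_self_iff ht two_ne_zero, Nat.prime_two.primeFactors]
  exact ⟨fun h r hr hd => Finset.mem_singleton.1 (h (Nat.mem_primeFactors.2 ⟨hr, hd, ht⟩)),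
    fun h r hr => Finset.mem_singleton.2 (h r (Nat.prime_of_mem_primeFactors hr)
      (Nat.dvd_of_mem_primeFactors hr))⟩

theorem two_spec (t : ℕ) : ∃ j, two t = 2 ^ j ∧ 2 ^ j ∣ t :=
  let ⟨j, _, e⟩ := (Nat.dvd_prime_pow Nat.prime_two).1 (Nat.gcd_dvd_right t (2 ^ t))
  ⟨j, e, e ▸ Nat.gcd_dvd_left _ _⟩

theorem SqF.pow {W : Type u} [AddCommGroup W] (h : SqF W) (r j : ℕ) (z : W) (hz : r ^ j • z = 0) :
    r • z = 0 := by
  induction j generalizing z with
  | zero => rw [pow_zero, one_nsmul] at hz; rw [hz, smul_zero]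
  | succ j ih => exact h r z (ih _ (by rwa [pow_succ', mul_nsmul] at hz))

theorem SqF.two {W : Type u} [AddCommGroup W] [Finite W] (h : SqF W) {X : AddSubgroup W} {j : ℕ}
    (hX : Nat.card X = 2 ^ j) {w : W} (hw : w ∈ X) : w + w = 0 := by
  rw [← two_nsmul]
  exact h.pow 2 j w (hX ▸ congrArg Subtype.val (card_nsmul_eq_zero' (x := (⟨w, hw⟩ : X))))

variable {G V K W : Type u} [Group G] [Finite G] [AddCommGroup V] [Finite V] [Nontrivial V]
  [DistribMulAction G V] [FaithfulSMul G V] [Field K] [Finite K] [Module K V] [AddCommGroup W]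
  [Finite W] [DistribMulAction G W] {U A E : Subgroup G} {sc : G → Kˣ} {σ : G →* RingAut K}
  {π : G → W}

namespace Prim
variable (h : Prim (V := V) U A E sc σ π)
include h

theorem bad_class (T : Finset G) (hA : ∀ g ∈ T, g ∈ A) (hb : ∀ g ∈ T, ¬ Good V g)
    (B : Set (Img G W)) (hB : ∀ g ∈ T, toImg G W g ∈ B) {t M : ℕ} (F : G → ℕ)
    (ht : ∀ g ∈ T, Nat.card (Cm W g) ≤ t) (hM : ∀ g ∈ T, F g ≤ M) :
    ∑ g ∈ T, F g ≤ B.ncard * (t * M) := by
  refine fib T _ B hB F _ fun T' k ⟨g0, h0⟩ hi => ?_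
  refine (h.lab T' (fun g hg => hA g (k hg)) hi h0 (Cm W g0) (fun b hb' => ?_) F M
    fun T'' k' ⟨a, ha⟩ hU => ?_).trans (Nat.mul_le_mul_right _ (ht g0 (k h0)))
  · rw [SetLike.mem_coe, ← h.form.perp_Fx (h.pres (hA g0 (k h0)))]
    intro w hw
    obtain ⟨x, hx, rfl⟩ := h.π_surj w
    have h1 := h.bad_comm (hb g0 (k h0)) hx (mem_Fx.1 hw)
    have h2 := h.bad_comm (hb b (k hb')) hx ((smul_of_img (hi b hb' g0 h0) _).trans (mem_Fx.1 hw))
    refine (h.β_one hx (h.mem_E_img (hA _ (k h0)) (hA _ (k hb')) (hi _ h0 _ hb'))).2 ?_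
    calc x * (g0⁻¹ * b) = g0⁻¹ * (g0 * x) * g0⁻¹ * b := by group
      _ = g0⁻¹ * (x * b) := by rw [h1]; group
      _ = _ := by rw [← h2, mul_assoc]
  · rw [Finset.eq_singleton_iff_unique_mem.2 ⟨ha, fun b hb' =>
      h.bad_uniq (hb b (k (k' hb'))) (hb a (k (k' ha))) (hU b hb' a ha)⟩, Finset.sum_singleton]
    exact hM a (k (k' ha))

theorem bad_Cm {g : G} (hA : g ∈ A) (g1 : g ≠ 1) (hb : ¬ Good V g) : Cm W g ≠ ⊥ := fun e =>
  hb (h.good_E (h.mem_E hA (Cm_eq_bot.1 e)) g1)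

theorem ff_le {g : G} (hg : g ∈ A) {a b j : ℕ} (ha : 0 < a)
    (e : Nat.card (Fx V g) ^ a ≤ Nat.card V ^ b) (hj : b * Module.finrank K V / a = j) (k : ℕ) :
    ff V k g ≤ (Nat.card K ^ k) ^ j := (Nat.sub_le _ _).trans (hj ▸ h.fx_pow_le hg ha e k)

/-- the number of images of type `a₂` -/
noncomputable def nA2 : ℕ := {r : Img G W | r ∈ A.map (toImg G W) ∧ A2 h.β r}.ncard

theorem bad1 (k : ℕ) (T : Finset G)
    (hT : ∀ g ∈ T, g ∈ A ∧ g ≠ 1 ∧ ¬ Good V g ∧ g * g = 1 ∧ Nat.card (Cm W g) = 4) :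
    ∑ g ∈ T, wt g * ff V k g ≤ 8 * h.nA2 * (Nat.card K ^ k) ^ (3 * Module.finrank K V / 4) := by
  refine (h.bad_class T (fun g hg => (hT g hg).1) (fun g hg => (hT g hg).2.2.1)
    {r : Img G W | r ∈ A.map (toImg G W) ∧ A2 h.β r} (fun g hg => ?_) _
    (fun g hg => (hT g hg).2.2.2.2.le) fun g hg => Nat.mul_le_mul (wt_le g)
      (h.ff_le (hT g hg).1 four_pos (h.fix34 (hT g hg).2.1) rfl k)).trans_eq (by unfold nA2; ring)
  obtain ⟨h1, -, h2, h3, h4⟩ := hT g hg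
  exact ⟨mem_map_of_mem _ h1, fun w => (mul_smul g g w).symm.trans (by rw [h3, one_smul]),
    h.bad_inv h1 h3 h2, h4⟩

theorem bad2 {c e : ℕ} (hc : (Nat.card G).Coprime c) (he : Nat.card W = e * e) (k s : ℕ)
    (hs : s ≠ 2) (T : Finset G)
    (hT : ∀ g ∈ T, g ∈ A ∧ g ≠ 1 ∧ ¬ Good V g ∧ g * g = 1 ∧ Nat.card (Cm W g) = s * s) :
    ∑ g ∈ T, wt g * ff V k g ≤ invCoef c e (Nat.card (A.map (toImg G W))) s *
      (Nat.card K ^ k) ^ invExp (Module.finrank K V) s := by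
  rcases T.eq_empty_or_nonempty with rfl | ⟨g0, h0⟩
  · simp
  have hw : ∀ g ∈ T, ∀ w : W, g • g • w = w := fun g hg w => by
    rw [← mul_smul, (hT g hg).2.2.2.1, one_smul]
  obtain ⟨k1, k2, k3, k4, k5⟩ := hT g0 h0
  have s3 : 3 ≤ s := by
    have := (AddSubgroup.one_lt_card_iff_ne_bot _).2 (h.bad_Cm k1 k2 k3)
    rw [k5] at this
    by_contra hh
    obtain rfl | rfl : s = 0 ∨ s = 1 := by omega
    all_goals omega
  obtain ⟨j, hj, hj'⟩ := two_spec (s * s)
  have h1 := two_pow_dvd h.cr.sqf (hw g0 h0) (k5 ▸ hj')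
  rw [k5, he, ← hj] at h1
  have h2 : c % 2 = 1 := by
    have : Fact (Nat.Prime 2) := ⟨Nat.prime_two⟩
    have h3 := orderOf_dvd_natCard g0
    rw [orderOf_eq_prime (by rw [pow_two, k4]) k2] at h3
    exact Nat.odd_iff.1 (Nat.coprime_two_left.1 (hc.coprime_dvd_left h3))
  have h3 : s ∣ e := by
    rw [← Nat.pow_dvd_pow_iff two_ne_zero, pow_two, pow_two]; exact Dvd.dvd.trans (Dvd.intro_left _ rfl) h1
  refine (h.bad_class T (fun g hg => (hT g hg).1) (fun g hg => (hT g hg).2.2.1)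
    (toImg G W '' T) (fun g hg => ⟨g, hg, rfl⟩) _ (fun g hg => (hT g hg).2.2.2.2.le)
    fun g hg => Nat.mul_le_mul (wt_le g)
      (?_ : _ ≤ (Nat.card K ^ k) ^ invExp (Module.finrank K V) s)).trans ?_
  · obtain ⟨l1, -, -, -, l5⟩ := hT g hg
    unfold invExp
    split_ifs with h4
    · exact h.ff_le l1 (by norm_num) (h.bad_sixteen (fun w hw' =>
        h.cr.sqf.two (l5.trans (h4.symm.trans hj)) hw') (by rw [l5]; nlinarith)) rfl k
    · rw [two_eq_iff (by positivity)] at h4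
      push Not at h4
      obtain ⟨r, hr, hd, r2⟩ := h4
      have := Fact.mk hr
      obtain ⟨w, hw'⟩ := exists_prime_addOrderOf_dvd_card' r (l5 ▸ hd)
      refine h.ff_le l1 (by norm_num) (h.bad_two_thirds w.2 (fun e => hr.one_lt.ne' ?_)
        (hr.odd_of_ne_two r2) (hw' ▸ congrArg Subtype.val (addOrderOf_nsmul_eq_zero w))) (by omega) k
      rw [← hw', show w = 0 from Subtype.ext e, addOrderOf_zero]
  · rw [invCoef, if_pos ⟨h2, s3, h3, h1⟩, ← mul_assoc (s * s), mul_comm (s * s), mul_assoc _ (2 * _)]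
    refine Nat.mul_le_mul_right _ ?_
    split_ifs with h4
    · refine (Set.ncard_le_one (Set.toFinite _)).2 ?_
      rintro _ ⟨a, ha, rfl⟩ _ ⟨b, hb, rfl⟩
      refine FaithfulSMul.eq_of_smul_eq_smul (α := W) (inv_unique (hw a ha) (hw b hb)
        ((hT b hb).2.2.2.2.trans (hT a ha).2.2.2.2.symm) ?_)
      rw [show Nat.card (Cm W (toImg G W a)) = _ from (hT a ha).2.2.2.2, he]; exact h4
    · refine Set.ncard_le_ncard (t := (A.map (toImg G W) : Set (Img G W))) ?_ (Set.toFinite _)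
      rintro _ ⟨a, ha, rfl⟩
      exact mem_map_of_mem _ (hT a ha).1

theorem bad_odd_facts {e : ℕ} (he : Nat.card W = e * e) {g : G} (hA : g ∈ A)
    (hp : (orderOf g).Prime) (h2 : g * g ≠ 1) (hb : ¬ Good V g) :
    two e ≠ e ∧ Nat.card (Fx V g) ^ 6 ≤ Nat.card V ^ 4 ∧
      (((Nat.card (Cm W g)).Prime ∧ Nat.card (Cm W g) ≤ e) ∨
        (9 ≤ e ∧ Nat.card (Cm W g) ≤ e * e / 3)) := by
  have ho := odd_of_prime hp h2
  have h0 := h.bad_Cm hA (ne_one_of_prime hp) hb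
  obtain ⟨h1, j, h3, h4⟩ := h.form.bad_odd' (h.pres hA) hp
    (fun w => by rw [pow_orderOf_eq_one, one_smul]) ho (fun v hv => h.bad_form hb hv) h0
  obtain ⟨w, w0⟩ := AddSubgroup.ne_bot_iff_exists_ne_zero.1 h0
  have e0 : e ≠ 0 := fun e0 => Nat.card_pos.ne' (he.trans (by rw [e0]))
  set r := orderOf g
  have r3 : 3 ≤ r := by have := hp.two_le; obtain ⟨i, hi⟩ := ho; omega
  rw [he] at h4
  have h5 : r ∣ e := (hp.dvd_mul.1 (Dvd.dvd.trans (Dvd.intro_left _ rfl) h4)).elim id id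
  refine ⟨fun e2 => by have := (two_eq_iff e0).1 e2 r hp h5; omega,
    h.bad_two_thirds w.2 (fun e => w0 (Subtype.ext e)) ho (h1 _ w.2), ?_⟩
  rcases j with _ | j
  · rw [h3, zero_add, pow_one]
    exact Or.inl ⟨hp, Nat.le_of_dvd (by omega) h5⟩
  refine Or.inr ⟨?_, (Nat.le_div_iff_mul_le (by norm_num)).2
    ((Nat.mul_le_mul_left _ r3).trans (Nat.le_of_dvd (by positivity) h4))⟩
  obtain ⟨d, rfl⟩ := h5
  rw [h3, show r ^ (j + 1 + 1) * r = r * r * (r * r ^ j) by ring,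
    show r * d * (r * d) = r * r * (d * d) by ring, Nat.mul_dvd_mul_iff_left (by positivity)] at h4
  have h6 : r ∣ d := (hp.dvd_mul.1 (Dvd.dvd.trans (Dvd.intro _ rfl) h4)).elim id id
  exact Nat.mul_le_mul r3 (r3.trans (Nat.le_of_dvd (Nat.pos_of_ne_zero (right_ne_zero_of_mul e0)) h6))

theorem bad34 {e : ℕ} (he : Nat.card W = e * e) (k : ℕ) (T : Finset G)
    (hT : ∀ g ∈ T, (orderOf g).Prime ∧ g ∈ A ∧ ¬ Good V g ∧ g * g ≠ 1) :
    ∑ g ∈ T, wt g * ff V k g ≤ oddCoef e (Nat.card (A.map (toImg G W))) *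
      (Nat.card K ^ k) ^ (2 * Module.finrank K V / 3) := by
  rcases T.eq_empty_or_nonempty with rfl | ⟨g0, h0⟩
  · simp
  have hf := fun g hg => h.bad_odd_facts he (hT g hg).2.1 (hT g hg).1 (hT g hg).2.2.2 (hT g hg).2.2.1
  have hM : ∀ g ∈ T, wt g * ff V k g ≤ (Nat.card K ^ k) ^ (2 * Module.finrank K V / 3) :=
    fun g hg => by
      rw [wt_one (hT g hg).2.2.2, one_mul]
      exact h.ff_le (hT g hg).2.1 (by norm_num) (hf g hg).2.1 (by omega) k
  rw [oddCoef, if_neg (hf g0 h0).1, add_mul]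
  refine split T (fun g => (Nat.card (Cm W g)).Prime ∧ Nat.card (Cm W g) ≤ e) _
    (fun T' k1 k2 => ?_) fun T' k1 k2 => ?_
  · rw [← he, mul_assoc]
    exact (h.bad_class T' (fun g hg => (hT g (k1 hg)).2.1) (fun g hg => (hT g (k1 hg)).2.2.1)
      {r | Pres h.β r ∧ (Nat.card (Cm W r)).Prime}
      (fun g hg => ⟨h.pres (hT g (k1 hg)).2.1, (k2 g hg).1⟩) _ (fun g hg => (k2 g hg).2)
      fun g hg => hM g (k1 hg)).trans (Nat.mul_le_mul_right _ h.form.card_transv)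
  · rcases T'.eq_empty_or_nonempty with rfl | ⟨g1, h1⟩
    · simp
    rw [if_pos ((hf g1 (k1 h1)).2.2.resolve_left (k2 g1 h1)).1, mul_assoc]
    exact h.bad_class T' (fun g hg => (hT g (k1 hg)).2.1) (fun g hg => (hT g (k1 hg)).2.2.1)
      (A.map (toImg G W) : Set (Img G W)) (fun g hg => mem_map_of_mem _ (hT g (k1 hg)).2.1) _
      (fun g hg => ((hf g (k1 hg)).2.2.resolve_left (k2 g hg)).2) fun g hg => hM g (k1 hg)

theorem gen_part {c e k : ℕ} (hc : (Nat.card G).Coprime c) (he : Nat.card W = e * e) (hk : 1 ≤ k)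
    (hn : 2 ≤ Module.finrank K V) : 2 * (FT V k {g : G | (orderOf g).Prime ∧ g ∈ A}).ncard ≤
      gen c (Module.finrank K V) e (Nat.card (A.map (toImg G W))) h.nA2 (Nat.card K ^ k) := by
  classical
  have hf := Set.toFinite {g : G | (orderOf g).Prime ∧ g ∈ A}
  have h1 := wt_union (V := V) k hf.toFinset fun g hg => by
    rw [hf.mem_toFinset] at hg ⊢
    exact ⟨by rw [orderOf_inv]; exact hg.1, inv_mem hg.2⟩
  rw [hf.coe_toFinset] at h1
  have h2 : ∀ g ∈ hf.toFinset, (orderOf g).Prime ∧ g ∈ A := fun g hg => hf.mem_toFinset.1 hg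
  refine h1.trans ?_
  rw [gen, add_assoc, add_assoc, ← he]
  refine split _ (Good V) _ (fun T k1 k2 => h.good_part T (fun g hg => h2 g (k1 hg)) _ _
    fun T' k3 k4 => h.coset_good hk hn T' (fun g hg => (h2 g (k1 (k3 hg))).2)
      (fun g hg => k2 g (k3 hg)) k4) fun T k1 k2 => ?_
  refine split _ (fun g => g * g = 1 ∧ Nat.card (Cm W g) = 4) _ (fun T' k3 k4 => h.bad1 k T'
    fun g hg => ⟨(h2 g (k1 (k3 hg))).2, ne_one_of_prime (h2 g (k1 (k3 hg))).1, k2 g (k3 hg),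
      k4 g hg⟩) fun T' k3 k4 => ?_
  refine split _ (fun g => g * g ≠ 1) _ (fun T'' k5 k6 => h.bad34 he k T'' fun g hg =>
    ⟨(h2 g (k1 (k3 (k5 hg)))).1, (h2 g (k1 (k3 (k5 hg)))).2, k2 g (k3 (k5 hg)), k6 g hg⟩)
    fun T'' k5 k6 => ?_
  have h3 : ∀ g ∈ T'', Nat.card (Cm W g) = (Nat.card (Cm W g)).sqrt * (Nat.card (Cm W g)).sqrt :=
    fun g hg => by
      obtain ⟨s, hs⟩ := h.form.bad_two (h.bad_inv (h2 g (k1 (k3 (k5 hg)))).2 (not_not.1 (k6 g hg))
        (k2 g (k3 (k5 hg))))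
      rw [hs, Nat.sqrt_eq', pow_two]
  rw [← Finset.sum_fiberwise_of_maps_to (t := Finset.range (e + 1))
    (g := fun g => (Nat.card (Cm W g)).sqrt) fun g _ => Finset.mem_range.2 (Nat.lt_succ_of_le
      ((Nat.sqrt_le_sqrt (AddSubgroup.card_le_card_addGroup _)).trans_eq (by rw [he, Nat.sqrt_eq])))]
  refine Finset.sum_le_sum fun s _ => ?_
  by_cases hs : s = 2
  · rw [Finset.filter_eq_empty_iff.2 fun g hg e => k4 g (k5 hg)
      ⟨not_not.1 (k6 g hg), by rw [h3 g hg, e, hs]⟩]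
    exact Nat.zero_le _
  refine h.bad2 hc he k s hs _ fun g hg => ?_
  obtain ⟨hg, e⟩ := Finset.mem_filter.1 hg
  exact ⟨(h2 g (k1 (k3 (k5 hg)))).2, ne_one_of_prime (h2 g (k1 (k3 (k5 hg)))).1,
    k2 g (k3 (k5 hg)), not_not.1 (k6 g hg), by rw [h3 g hg, e]⟩

theorem e_le {e : ℕ} (he : Nat.card W = e * e) : 1 ≤ e ∧ e ≤ Module.finrank K V :=
  ⟨Nat.pos_of_ne_zero fun e0 => Nat.card_pos.ne' (he.trans (by rw [e0])), by
    have := h.card_W_le
    rwa [he, pow_two, Nat.mul_self_le_mul_self_iff] at this⟩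

theorem lin_part {c e k : ℕ} (hc : (Nat.card G).Coprime c) (he : Nat.card W = e * e) (hk : 1 ≤ k) :
    2 * (FT V k {g : G | (orderOf g).Prime ∧ g ∈ A}).ncard ≤
      BS.lin c k (Nat.card K) (Module.finrank K V) e (Nat.card (A.map (toImg G W))) h.nA2 := by
  have h1 := h.e_le he
  unfold BS.lin
  split_ifs with h2 h3
  · subst h2
    have : Subsingleton W := (Nat.card_eq_one_iff_unique.1 he).1
    rw [Set.eq_empty_of_forall_notMem (s := FT _ _ _), Set.ncard_empty]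
    rintro x ⟨x0, g, ⟨hp, hA⟩, e⟩
    have hE := h.mem_E hA fun w => Subsingleton.elim _ _
    have := h.Fx_U ((h.π_zero g hE).1 (Subsingleton.elim _ _)) (ne_one_of_prime hp)
    exact x0 (funext fun i => AddSubgroup.mem_bot.1 (this ▸ mem_Fx.2 (congrFun e i)))
  · exact le_min (Nat.mul_le_mul_left _ (h.span_two k h3)) (h.gen_part hc he hk h3.ge)
  · exact h.gen_part hc he hk (by omega)

theorem reg_of_fine' {c e k m a D X : ℕ} [NeZero m] (hc : (Nat.card G).Coprime c)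
    (he : Nat.card W = e * e) (hk : 1 ≤ k) (ha : Nat.card (A.map (toImg G W)) ≤ a) (hD : h.nA2 ≤ D)
    (hX : 2 * (FT V k {g : G | (orderOf g).Prime ∧ g ∉ A}).ncard ≤
      X * per k (Nat.card V) (Nat.card U))
    (hF : Fine c k m (Nat.card K) A.index (Nat.card U) (Module.finrank K V) e a D X) :
    Reg G V k m := by
  have h1 := hF.mono le_rfl ha hD le_rfl
  have h2 := NR_le (V := V) k A
  have h3 := h.lin_part hc he hk
  unfold Fine at h1
  rw [← Module.natCard_eq_pow_finrank, ← he, ← h.card_G] at h1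
  exact reg_of_count (by omega)

theorem reg_of_fine {c e k m a D X : ℕ} [NeZero m] (hc : (Nat.card G).Coprime c)
    (he : Nat.card W = e * e) (hk : 1 ≤ k) (ha : Nat.card (A.map (toImg G W)) ≤ a) (hD : h.nA2 ≤ D)
    (hX : (if A.index % 2 = 0 then 2 else 1) * (Yset U A).ncard ≤ X)
    (hF : Fine c k m (Nat.card K) A.index (Nat.card U) (Module.finrank K V) e a D X) :
    Reg G V k m :=
  h.reg_of_fine' hc he hk ha hD ((h.out_part k).trans (Nat.mul_le_mul_right _ hX)) hF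

theorem xb_bd {e a : ℕ} (he : Nat.card W = e * e) (ha : Nat.card (A.map (toImg G W)) ≤ a) :
    (if A.index % 2 = 0 then 2 else 1) * (Yset U A).ncard ≤ xb A.index e a := by
  unfold xb
  rw [← he]
  exact Nat.mul_le_mul_left _ (h.Yset_le.trans (by gcongr))

theorem sp [Group.IsSolvable G] (h2 : ∀ w : W, w + w = 0) : SP (Img G W) h.β :=
  ⟨h.form, h2, fun r => let ⟨g, e⟩ := toImg_surj G W r; e ▸ h.pres_two h2 g, h.cr.img⟩

theorem two_W {j : ℕ} (he : Nat.card W = 2 ^ j) (w : W) : w + w = 0 :=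
  h.cr.sqf.two (X := ⊤) (AddSubgroup.card_top.trans he) trivial

theorem nA2_le [Group.IsSolvable G] {c e a : ℕ} (hc : (Nat.card G).Coprime c)
    (he : Nat.card W = e * e) (ha : Nat.card (A.map (toImg G W)) ≤ a) : h.nA2 ≤ db c e a := by
  have := img_solvable (G := G) (V := W)
  have h0 : (∀ r : Img G W, ¬ A2 h.β r) → h.nA2 ≤ 0 := fun k =>
    ((Set.ncard_eq_zero (Set.toFinite _)).2 (Set.eq_empty_of_forall_notMem fun r hr => k r hr.2)).le
  unfold db
  split_ifs with h1 h2 h3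
  · refine h0 fun r hr => h1 ?_
    have := two_pow_dvd (j := 2) h.cr.sqf hr.1 (by rw [hr.2.2]; rfl)
    rw [hr.2.2, he, ← pow_two e, show 2 ^ 2 * 4 = 4 ^ 2 from rfl,
      Nat.pow_dvd_pow_iff two_ne_zero] at this
    omega
  · exact (Set.ncard_le_ncard (t := (A.map (toImg G W) : Set (Img G W))) (fun r hr => hr.1) (Set.toFinite _)).trans ha
  all_goals
    obtain ⟨j, hj, -⟩ := two_spec e
    have hs := h.sp (h.two_W (j := j + j) (by rw [he, ← not_not.1 h2, hj, pow_add]))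
  · refine h0 fun r hr => ?_
    obtain ⟨y, -, hy⟩ := hs.a2_three hr
    have h4 := (hy ▸ orderOf_dvd_natCard y).trans (card_img.dvd.trans ord_dvd)
    exact absurd (Nat.eq_one_of_dvd_coprimes hc h4 (Nat.dvd_of_mod_eq_zero h3)) (by norm_num)
  · exact (Set.ncard_le_ncard (fun r hr => hr.2) (Set.toFinite _)).trans (he ▸ hs.card_A2)

theorem index_le : A.index ≤ Nat.card K :=
  let ⟨_, hq, e⟩ := h.artin
  e ▸ (Nat.lt_pow_self hq).le

theorem reg_of_crude {e k m : ℕ} [NeZero m] (he : Nat.card W = e * e) (hm : m ≤ 5)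
    (ha : Nat.card (A.map (toImg G W)) ≤ e ^ 6) (hn : 2 ≤ Module.finrank K V)
    (hC : Crude k (Nat.card K) (Module.finrank K V) e) : Reg G V k m := by
  classical
  have _ := Fintype.ofFinite G
  have hq : 1 < Nat.card K := Finite.one_lt_card
  have h1 : Nat.card G ≤ e ^ 8 * Nat.card K ^ 2 := by
    have h2 : Nat.card U ≤ Nat.card K := (Nat.le_of_dvd (by omega) h.u_dvd).trans (by omega)
    have h3 := h.index_le
    rw [h.card_G, he]
    calc _ ≤ Nat.card K * Nat.card K * (e * e) * e ^ 6 := by gcongr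
      _ = _ := by ring
  set M := (Nat.card K ^ k) ^ (3 * Module.finrank K V / 4) with hM
  have M0 : 0 < M := by positivity
  have h2 : ∀ g : G, g ≠ 1 → ff V k g ≤ M := fun g g1 => by
    by_cases hA : g ∈ A
    · exact h.ff_le hA four_pos (h.fix34 g1) rfl k
    · refine (Nat.sub_le _ _).trans ?_
      rw [← Nat.pow_le_pow_iff_left two_ne_zero, ← pow_mul, mul_comm, pow_mul]
      refine (Nat.pow_le_pow_left (h.good_out hA) k).trans ?_
      rw [Module.natCard_eq_pow_finrank (K := K) (V := V), hM, ← pow_mul, ← pow_mul, ← pow_mul,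
        mul_comm]
      exact Nat.pow_le_pow_right hq.le (Nat.mul_le_mul_left _ (by omega))
  have h3 := wt_union (V := V) k (Finset.univ.erase (1 : G)) fun g hg => by simpa using hg
  have h4 : ∑ g ∈ Finset.univ.erase (1 : G), wt g * ff V k g ≤ (Nat.card G - 1) * (2 * M) := by
    rw [Nat.card_eq_fintype_card, ← Finset.card_univ, ← Finset.card_erase_of_mem
      (Finset.mem_univ (1 : G)), ← smul_eq_mul]
    exact Finset.sum_le_card_nsmul _ _ _ fun g hg =>
      Nat.mul_le_mul (wt_le g) (h2 g (Finset.mem_erase.1 hg).1)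
  have h5 : (NR G V k).ncard ≤ 1 + (FT V k ((Finset.univ.erase (1 : G) : Finset G) : Set G)).ncard := by
    refine le_trans (Set.ncard_le_ncard (t := {0} ∪ FT V k _) ?_ (Set.toFinite _))
      ((Set.ncard_union_le _ _).trans_eq (by rw [Set.ncard_singleton]))
    rintro x ⟨g, g1, e⟩
    by_cases x0 : x = 0
    exacts [Or.inl x0, Or.inr ⟨x0, g, by simpa using g1, e⟩]
  refine reg_of_count ?_
  have h6 : Nat.card V ^ k = Nat.card K ^ (k * (Module.finrank K V - 3 * Module.finrank K V / 4)) *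
      M := by
    rw [Module.natCard_eq_pow_finrank (K := K) (V := V), hM, ← pow_mul, ← pow_mul, ← pow_add,
      ← mul_add, mul_comm, Nat.sub_add_cancel (by omega)]
  have h7 := Nat.mul_lt_mul_of_pos_right (show 6 * Nat.card G < _ from
    (Nat.mul_le_mul_left _ h1).trans_lt ((mul_assoc _ _ _).symm.trans_lt hC)) M0
  have h8 : (m - 1) * Nat.card G ≤ 4 * (Nat.card G * M) :=
    Nat.mul_le_mul (by omega) (Nat.le_mul_of_pos_right _ M0)
  have h9 : 0 < Nat.card G := Nat.card_pos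
  obtain ⟨d, hd⟩ := Nat.exists_eq_add_of_le' h9
  rw [h6]
  rw [hd] at h4 h7 h8 ⊢
  rw [Nat.add_sub_cancel] at h4
  nlinarith

end Prim

end H6.BS
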