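import Cfsg.Agent.H6.BS11

/-! Base sizes of solvable linear groups XII: the table of orders and three special cases. -/

set_option autoImplicit false
set_option linter.unusedSectionVars false

open Cfsg Subgroup

namespace H6.BS
open H19

universe u

theorem sq_lt_pow {n : ℕ} : n * n < 3 ^ n := by
  induction n with
  | zero => norm_num
  | succ j ih =>
    have := Nat.lt_pow_self (n := j) (show 1 < 3 by norm_num)
    rw [pow_succ]; nlinarith

section
variable {G V K W : Type u} [Group G] [Finite G] [AddCommGroup V] [Finite V] [Nontrivial V]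
  [DistribMulAction G V] [FaithfulSMul G V] [Field K] [Finite K] [Module K V] [AddCommGroup W]
  [Finite W] [DistribMulAction G W] {U A E : Subgroup G} {sc : G → Kˣ} {σ : G →* RingAut K}
  {π : G → W}

theorem Prim.data (h : Prim (V := V) U A E sc σ π) {c : ℕ} (hc : (Nat.card G).Coprime c) :
    ∃ p f q0 e, p.Prime ∧ 1 ≤ f ∧ Nat.card K = p ^ f ∧ 2 ≤ q0 ∧ p ^ f = q0 ^ A.index ∧
      A.index.Coprime c ∧ 1 ≤ Module.finrank K V ∧ Nat.card W = e * e ∧ 1 ≤ e ∧
      e ≤ Module.finrank K V ∧ e.Coprime c ∧ (Nat.card U).Coprime c ∧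
      (∀ r, r.Prime → r ∣ e → r ∣ Nat.card U) ∧ e * e < Nat.card V ∧ p ∣ Nat.card V := by
  have _ := Fintype.ofFinite K
  obtain ⟨p, -, f, hp, hq⟩ := FiniteField.card' K
  rw [← Nat.card_eq_fintype_card] at hq
  obtain ⟨q0, h0, h1⟩ := h.artin
  obtain ⟨e, he⟩ := h.form.card_sq
  rw [pow_two] at he
  obtain ⟨e1, en⟩ := h.e_le he
  have h2 : ∀ r, r.Prime → r ∣ e → r ∣ Nat.card U := fun r hr hd =>
    h.prime_dvd hr (he ▸ hd.mul_right _)
  have h3 : 2 ≤ Nat.card K := Finite.one_lt_card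
  refine ⟨p, f, q0, e, hp, f.pos, hq, h0, hq ▸ h1, hc.coprime_dvd_left A.index_dvd_card,
    e1.trans en, he, e1, en, hc.coprime_dvd_left ?_, hc.coprime_dvd_left U.card_subgroup_dvd_card,
    h2, ?_, ?_⟩
  · rw [h.card_G, he]
    exact (((dvd_mul_right e e).mul_left _).mul_right _)
  · rcases h3.eq_or_lt with e2 | e2
    · have h4 := h.u_dvd
      rw [← e2] at h4
      rw [Nat.eq_one_iff_not_exists_prime_dvd.2 fun r hr hd => hr.not_dvd_one ((h2 r hr hd).trans h4)]
      exact Finite.one_lt_card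
    · rw [Module.natCard_eq_pow_finrank (K := K) (V := V)]
      exact ((Nat.mul_le_mul en en).trans_lt sq_lt_pow).trans_le (Nat.pow_le_pow_left e2 _)
  · rw [Module.natCard_eq_pow_finrank (K := K) (V := V), hq, ← pow_mul]
    exact dvd_pow_self _ (mul_ne_zero f.pos.ne' (by omega))

theorem card_bar_le : Nat.card (A.map (toImg G W)) ≤ ord G W :=
  (card_le_card_group _).trans_eq card_img

end

theorem card_img_dvd {G V : Type u} [Group G] [AddCommGroup V] [DistribMulAction G V] :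
    Nat.card (Img G V) ∣ Nat.card G := card_img.dvd.trans ord_dvd

theorem pow_bd {a m : ℕ} (ha : 2 ≤ a) (hm : 2 ≤ m) (h : a ^ m ≤ 256) : a < 17 ∧ m < 9 := by
  constructor
  · by_contra hh
    exact absurd (((Nat.pow_le_pow_left (not_lt.1 hh) 2).trans
      (Nat.pow_le_pow_right (by omega) hm)).trans h) (by norm_num)
  · by_contra hh
    exact absurd (((Nat.pow_le_pow_right two_pos (not_lt.1 hh)).trans
      (Nat.pow_le_pow_left ha m)).trans h) (by norm_num)

/-- the table holds below `N` -/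
def Tb (c N : ℕ) : Prop := ∀ (G V : Type u) [Group G] [Finite G] [Group.IsSolvable G]
  [AddCommGroup V] [Finite V] [DistribMulAction G V], Nat.card V < N → Nat.card V ≤ 256 →
  (Nat.card G).Coprime c → CR G V → ord G V ≤ T c (Nat.card V)

theorem table_step {c : ℕ} (hc : c ∈ [1, 2, 3, 93]) {G V : Type u} [Group G] [Finite G]
    [Group.IsSolvable G] [AddCommGroup V] [Finite V] [DistribMulAction G V] [FaithfulSMul G V]
    (ih : Tb.{u} c (Nat.card V)) (h256 : Nat.card V ≤ 256) (hcop : (Nat.card G).Coprime c)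
    (hcr : CR G V) : ord G V ≤ T c (Nat.card V) := by
  rcases subsingleton_or_nontrivial V with hV | hV
  · have : Subsingleton G := ⟨fun a b => FaithfulSMul.eq_of_smul_eq_smul (α := V) fun _ =>
      Subsingleton.elim _ _⟩
    rw [ord_eq, Nat.card_of_subsingleton (1 : G), Nat.card_of_subsingleton (0 : V)]
    simp only [List.mem_cons, List.not_mem_nil, or_false] at hc
    rcases hc with rfl | rfl | rfl | rfl <;> rfl
  rcases tri (G := G) (V := V) with hi | ⟨hi, hs⟩ | ⟨hi, hs⟩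
  · obtain ⟨X, Y, _, _, _, _, _, _, hX, hY, cX, cY, h1, h2, -⟩ := red hcr hi
    have x2 : 2 ≤ Nat.card X := Finite.one_lt_card
    have y2 : 2 ≤ Nat.card Y := Finite.one_lt_card
    have k1 : 2 * Nat.card X ≤ Nat.card V := by rw [h1]; nlinarith
    have k2 : 2 * Nat.card Y ≤ Nat.card V := by rw [h1]; nlinarith
    refine h2.trans ((Nat.mul_le_mul (ih G X (by omega) (by omega) hcop cX)
      (ih G Y (by omega) (by omega) hcop cY)).trans ?_)
    rw [h1] at h256 ⊢
    exact clR c hc _ (by omega) x2 _ (by omega) y2 h256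
  · obtain ⟨H, X, S, M, _, _, _, _, _, _, _, _, hX, iX, sS, hM, iM, d1, d2, h1, h2, -⟩ := imp hi hs
    have x2 : 2 ≤ Nat.card X := Finite.one_lt_card
    have m2 : 2 ≤ Nat.card M := Finite.one_lt_card
    have k1 : Nat.card X < Nat.card V := h1 ▸ lt_self_pow₀ x2 m2
    have k2 : Nat.card M < Nat.card V := h1 ▸ Nat.lt_pow_self x2
    have k3 := ih H X k1 (by omega) (hcop.coprime_dvd_left H.card_subgroup_dvd_card) iX.cr
    have k4 := ih S M k2 (by omega) (hcop.coprime_dvd_left d1) iM.cr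
    rw [h1] at h256 ⊢
    obtain ⟨k5, k6⟩ := pow_bd x2 m2 h256
    exact h2.trans (le_trans (by gcongr)
      (clI c hc _ k5 x2 _ k6 m2 h256 (hcop.coprime_dvd_left d2)))
  · obtain ⟨K, W, _, _, _, _, _, _, U, A, E, sc, σ, π, h⟩ := exists_prim hi hs
    obtain ⟨p, f, q0, e, hp, hf, hq, h0, h1, h2, hn, he, e1, en, ec, uc, hr, hlt, -⟩ := h.data hcop
    have k1 := ih G W (he ▸ hlt) (by omega) hcop h.cr
    have k2 := h.u_dvd
    have hV := Module.natCard_eq_pow_finrank (K := K) (V := V)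
    rw [hq] at k2 hV
    have hq2 : 2 ≤ p ^ f := hq ▸ Finite.one_lt_card
    have k3 : p ^ f ≤ 256 := (Nat.le_self_pow (by omega) _).trans (hV ▸ h256)
    have k4 : ∀ {a b : ℕ}, 2 ≤ a → a ^ b ≤ 256 → b < 9 := fun ha hb => by
      by_contra hh
      exact absurd (((Nat.pow_le_pow_right two_pos (not_lt.1 hh)).trans
        (Nat.pow_le_pow_left ha _)).trans hb) (by norm_num)
    have k5 := dvd_of_pow_eq hp hf h1
    have k6 := k4 hp.two_le k3
    have k7 := Nat.le_of_dvd (umax_pos hq2) (dvd_umax k2 uc)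
    have k8 := (card_bar_le (A := A)).trans k1
    rw [he] at k8
    rw [hV] at h256
    rw [ord_eq, h.card_G, hV, he]
    refine le_trans (by gcongr) (clP c hc p (Nat.lt_succ_of_le ((Nat.le_self_pow (by omega) p).trans
      k3)) (pp_of_prime hp) f k6 hf _ (k4 hq2 h256) hn h256 _ ((Nat.le_of_dvd hf k5).trans_lt k6)
      k5 h2 e (by omega) e1 ec (dvd_umax_pow hq2 e1 k2 uc hr))

theorem tb {c : ℕ} (hc : c ∈ [1, 2, 3, 93]) (N : ℕ) : Tb.{u} c N := by
  induction N using Nat.strong_induction_on with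
  | _ N ih =>
  intro G V _ _ _ _ _ _ hN h256 hcop hcr
  have := img_solvable (G := G) (V := V)
  rw [← card_img, ← ord_eq (V := V)]
  exact table_step hc (ih _ hN) h256 (hcop.coprime_dvd_left card_img_dvd) hcr.img

theorem table {c : ℕ} (hc : c ∈ [1, 2, 3, 93]) {G V : Type u} [Group G] [Finite G]
    [Group.IsSolvable G] [AddCommGroup V] [Finite V] [DistribMulAction G V] {N : ℕ}
    (hN : Nat.card V = N) (h : N ≤ 256) (hcop : (Nat.card G).Coprime c) (hcr : CR G V) :
    ord G V ≤ T c N := hN ▸ tb hc _ G V (Nat.lt_succ_self _) (hN ▸ h) hcop hcr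

variable {G V K W : Type u} [Group G] [Finite G] [AddCommGroup V] [Finite V] [Nontrivial V]
  [DistribMulAction G V] [FaithfulSMul G V] [Field K] [Finite K] [Module K V] [AddCommGroup W]
  [Finite W] [DistribMulAction G W] {U A E : Subgroup G} {sc : G → Kˣ} {σ : G →* RingAut K}
  {π : G → W} [Group.IsSolvable G]

theorem wt_prime (k : ℕ) (P : G → Prop) (hP : ∀ g, P g → P g⁻¹) {b : ℕ}
    (h : ∀ T : Finset G, (∀ g ∈ T, (orderOf g).Prime ∧ P g) → ∑ g ∈ T, wt g * ff V k g ≤ b) :
    2 * (FT V k {g : G | (orderOf g).Prime ∧ P g}).ncard ≤ b := by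
  have hf := Set.toFinite {g : G | (orderOf g).Prime ∧ P g}
  have h1 := wt_union (V := V) k hf.toFinset fun g hg => by
    rw [hf.mem_toFinset] at hg ⊢
    exact ⟨by rw [orderOf_inv]; exact hg.1, hP g hg.2⟩
  rw [hf.coe_toFinset] at h1
  exact h1.trans (h _ fun g hg => hf.mem_toFinset.1 hg)

theorem sum_wt_le (T : Finset G) (F : G → ℕ) : ∑ g ∈ T, wt g * F g ≤ 2 * ∑ g ∈ T, F g := by
  rw [Finset.mul_sum]
  exact Finset.sum_le_sum fun g _ => Nat.mul_le_mul_right _ (wt_le g)

namespace Prim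
variable (h : Prim (V := V) U A E sc σ π)
include h

theorem u_le : Nat.card U ≤ Nat.card K - 1 :=
  Nat.le_of_dvd (Nat.sub_pos_of_lt Finite.one_lt_card) h.u_dvd

theorem spec3 (hq : Nat.card K = 4) (hA : A.index = 2) (hn : Module.finrank K V = 3)
    (he : Nat.card W = 3 * 3) : Reg G V 3 5 := by
  have h1 : ∀ g : G, (∀ a b, h.β (g • a) (g • b) = h.β a b) → g ∈ A := fun g hg => by
    have : Nontrivial W := Finite.one_lt_card_iff_nontrivial.1 (by omega)
    obtain ⟨a, a0⟩ := exists_ne (0 : W)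
    obtain ⟨b, hb⟩ := not_forall.1 fun hh => a0 (h.form.nondeg a hh)
    have := Fact.mk Nat.prime_three
    rw [h.hA, MonoidHom.mem_ker]
    ext x
    by_cases x0 : x = 0
    · rw [x0, map_zero, map_zero]
    obtain ⟨j, hj⟩ := mem_zpowers_of_prime_card (p := 3) (by rw [Nat.card_units, hq]) hb
      (g' := Units.mk0 x x0)
    have h2 := congrArg Units.val hj
    simp only [Units.val_zpow_eq_zpow_val, Units.val_mk0] at h2
    rw [← h2, map_zpow₀, ← h.β_smul, hg]; rfl
  have h2 : (A.map (toImg G W)).index = 2 := hA ▸ index_map_eq _ (toImg_surj G W) fun g hg =>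
    h1 g fun a b => by
      rw [← toImg_smul g a, ← toImg_smul g b, show toImg G W g = 1 from hg, one_smul, one_smul]
  have h3 := (A.map (toImg G W)).index_mul_card
  have h4 : ord G W ≤ 48 := table (c := 1) (by simp) he (by norm_num) (Nat.coprime_one_right _) h.cr
  rw [h2, card_img] at h3
  have h5 : Nat.card (A.map (toImg G W)) ≤ 24 := by omega
  refine h.reg_of_fine' (Nat.coprime_one_right _) he (by norm_num) h5
    (h.nA2_le (Nat.coprime_one_right _) he h5) (X := 2 * (3 * 24)) ?_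
    (by rw [hq, hA, hn]; exact sp3.mono (h.u_le.trans (by omega)) le_rfl le_rfl le_rfl)
  refine wt_prime 3 (· ∉ A) (fun g hg e => hg (inv_mem_iff.1 e)) fun T hT =>
    (sum_wt_le T _).trans ?_
  have h6 : ∀ g ∈ T, g * g = 1 := fun g hg => by
    by_contra h6
    obtain ⟨j, hj⟩ := odd_of_prime (hT g hg).1 h6
    have h7 := pow_orderOf_eq_one g
    rw [hj, pow_succ, pow_mul, mul_eq_one_iff_inv_eq] at h7
    exact (hT g hg).2 (h7 ▸ inv_mem (pow_mem (sq_mem_of_index_two hA g) j))
  rw [mul_assoc, mul_comm 3, mul_assoc]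
  refine Nat.mul_le_mul_left _ ((fib T (toImg G W) (A.map (toImg G W) : Set (Img G W))ᶜ
    (fun g hg ⟨a, ha, e⟩ => (hT g hg).2 ?_) _ _ fun T' k ⟨g0, h0⟩ hi => ?_).trans
    (Nat.mul_le_mul_right _ ?_))
  · have := h1 (a⁻¹ * g) fun x y => by simp only [mul_smul, ← smul_of_img e, inv_smul_smul]
    simpa using mul_mem ha this
  · have h7 : ∀ b ∈ T', g0⁻¹ * b ∈ E := fun b hb => h.mem_E ((mul_mem_iff_of_index_two hA).2
      (iff_of_false (fun e => (hT _ (k h0)).2 (inv_mem_iff.1 e)) (hT _ (k hb)).2))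
      fun w => by rw [mul_smul, ← smul_of_img (hi g0 h0 b hb), inv_smul_smul]
    let L : AddSubgroup W := (DistribSMul.toAddMonoidHom W g0 + AddMonoidHom.id W).ker
    refine (h.lab' T' g0 h7 L (fun b hb => add_eq_zero_iff_eq_neg.2 (h.inv_label (h7 b hb)
      (h6 _ (k h0)) (h6 b (k hb)))) _ _ fun T'' k' _ hU => h.coset_out 3 T''
      (fun g hg => h.good_out (hT g (k (k' hg))).2) hU).trans (Nat.mul_le_mul_right _ ?_)
    have h8 : 1 < L.index := AddSubgroup.one_lt_index_of_ne_top fun e => (hT _ (k h0)).2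
      (h1 g0 fun a b => by
        have : ∀ w : W, g0 • w = -w := fun w =>
          eq_neg_of_add_eq_zero_left (show w ∈ L from e ▸ trivial)
        rw [this, this, h.form.neg_left, h.form.neg_right, inv_inv])
    have h9 := L.index_mul_card
    change Nat.card L ≤ 3
    rw [he] at h9
    by_contra hh
    have : L.index ≤ 2 := by nlinarith
    obtain e : L.index = 2 := by omega
    rw [e] at h9
    omega
  · rw [Set.ncard_compl, card_img]
    change _ - Nat.card (A.map (toImg G W)) ≤ _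
    omega

theorem spec6 (hc : (Nat.card G).Coprime 3) (hq : Nat.card K = 3) (hA : A.index = 1)
    (hn : Module.finrank K V = 8) (he : Nat.card W = 8 * 8) : Reg G V 2 3 := by
  have := img_solvable (G := G) (V := W)
  have hs := h.sp (h.two_W (j := 6) he)
  have h1 : (Nat.card (Img G W)).Coprime 93 := by
    refine Nat.Coprime.mul_right (m := 3) (n := 31) (hc.coprime_dvd_left card_img_dvd)
      ((Nat.Prime.coprime_iff_not_dvd (p := 31) (by norm_num)).2 fun hd => ?_).symm
    have := Fact.mk (show Nat.Prime 31 by norm_num)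
    obtain ⟨y, hy⟩ := exists_prime_orderOf_dvd_card' 31 hd
    obtain ⟨-, ⟨j, hj⟩, h2⟩ := hs.odd_facts (y := y) (by rw [hy]; norm_num) (by rw [hy]; decide)
    have h3 := AddSubgroup.card_le_card_addGroup (Cm W y)
    rw [hj, hy] at h2
    rw [hj, he] at h3
    have h4 : j + 1 ≤ 3 := (Nat.pow_le_pow_iff_right (show 1 < 4 by norm_num)).1 h3
    obtain rfl | rfl | rfl : j = 0 ∨ j = 1 ∨ j = 2 := by omega
    all_goals exact absurd h2 (by decide)
  have h2 : ord (Img G W) W ≤ 98 := table (c := 93) (by simp) he (by norm_num) h1 h.cr.img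
  have h3 : Nat.card (A.map (toImg G W)) ≤ 98 := (card_le_card_group _).trans (ord_eq.ge.trans h2)
  exact h.reg_of_fine hc he (by norm_num) h3 (h.nA2_le hc he h3) (h.xb_bd he h3)
    (by rw [hq, hA, hn]; exact sp6.mono (h.u_le.trans (by omega)) le_rfl le_rfl le_rfl)

theorem sixteen (he : Nat.card W = 4 * 4) :
    (Nat.card (Img G W) ≤ 20 ∧ (∀ g : Img G W, ¬ A2 h.β g) ∧
      {g : Img G W | g ≠ 1 ∧ g * g = 1}.ncard ≤ 5 ∧
      ∀ g : Img G W, g ≠ 1 → g * g = 1 → Nat.card (Fx W g) ≤ 4) ∨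
    (3 ∣ Nat.card (Img G W) ∧ ((Nat.card (Img G W) ≤ 6 ∧ {g : Img G W | A2 h.β g}.ncard ≤ 3) ∨
      Split (Img G W) h.β)) := by
  have := img_solvable (G := G) (V := W)
  have h2 := h.two_W (j := 4) he
  refine (h.sp h2).sixteen he fun H hH => ?_
  have h3 : ord H W ≤ 21 := table (c := 2) (by simp) he (by norm_num)
    (Nat.coprime_two_right.2 hH) (cr_of_coprime (compl_of_prime Nat.prime_two fun w => by
      rw [two_nsmul, h2]) (by rw [he]; exact (Nat.coprime_two_right.2 hH).pow_right 4))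
  rwa [ord_eq] at h3

theorem card_inv_E (hu : Nat.card U ∣ 2) (he : Nat.card W = 4 * 4) :
    {w | ∃ x ∈ E, x * x = 1 ∧ π x = w}.ncard ≤ 12 := by
  set L := {w | ∃ x ∈ E, x * x = 1 ∧ π x = w}
  by_cases h0 : L ⊆ {0}
  · exact (Set.ncard_le_ncard h0 (Set.toFinite _)).trans (by simp)
  obtain ⟨_, ⟨x, hx, x2, rfl⟩, x0⟩ := Set.not_subset.1 h0
  have h2 := h.two_W (j := 4) he
  set P := h.form.perp (AddSubgroup.zmultiples (π x))
  have h3 : Nat.card P = 8 := by
    have := h.form.card_perp (AddSubgroup.zmultiples (π x))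
    rw [Nat.card_zmultiples, addOrderOf_eq_prime (p := 2) (by rw [two_nsmul, h2]) x0, he] at this
    change 2 * Nat.card P = _ at this
    omega
  have h4 : (L \ P).ncard ≤ ((P : Set W)ᶜ \ L).ncard := by
    refine Set.ncard_le_ncard_of_injOn (π x + ·) ?_ (add_right_injective _).injOn (Set.toFinite _)
    rintro _ ⟨⟨y, hy, y2, rfl⟩, h4⟩
    rw [SetLike.mem_coe, h.form.mem_perp_zm] at h4
    refine ⟨fun h5 => h4 ?_, ?_⟩
    · rwa [SetLike.mem_coe, h.form.mem_perp_zm, h.form.add_right, h.form.self, one_mul] at h5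
    rintro ⟨z, hz, z2, e⟩
    rw [← h.π_mul x hx y hy, h.π_eq hz (mul_mem hx hy)] at e
    obtain ⟨v, hv, e'⟩ : ∃ v ∈ U, x * y = z * v := ⟨_, e, by group⟩
    have v2 : v * v = 1 := by
      have := orderOf_dvd_iff_pow_eq_one.1 ((orderOf_dvd_natCard (⟨v, hv⟩ : U)).trans hu)
      rw [pow_two] at this
      exact congrArg Subtype.val this
    refine h4 ((h.β_one hx hy).2 ?_)
    have h5 : x * y * (x * y) = 1 := by
      rw [e', mul_assoc, ← mul_assoc v, ← h.comm (h.EA hz) hv, mul_assoc, v2, mul_one, z2]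
    rw [← inv_eq_of_mul_eq_one_right h5, mul_inv_rev, inv_eq_of_mul_eq_one_right x2,
      inv_eq_of_mul_eq_one_right y2]
  have h5 := Set.ncard_inter_add_ncard_sdiff_eq_ncard ((P : Set W)ᶜ) L (Set.toFinite _)
  have h6 := Set.ncard_inter_add_ncard_sdiff_eq_ncard L P (Set.toFinite _)
  have h7 : (L ∩ P).ncard ≤ 8 := h3 ▸ Set.ncard_le_ncard Set.inter_subset_right (Set.toFinite _)
  rw [Set.ncard_compl, he, show (P : Set W).ncard = 8 from h3, Set.inter_comm,
    ← Set.sdiff_eq] at h5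
  omega

theorem spec5 (hc : (Nat.card G).Coprime 3) (hq : Nat.card K = 3) (hA : A.index = 1)
    (hn : Module.finrank K V = 4) (he : Nat.card W = 4 * 4) : Reg G V 2 3 := by
  have := img_solvable (G := G) (V := W)
  obtain ⟨k1, k2, k3, k4⟩ := (h.sixteen he).resolve_right fun hh =>
    absurd (Nat.eq_one_of_dvd_coprimes hc (hh.1.trans card_img_dvd) dvd_rfl) (by norm_num)
  have h2 := h.two_W (j := 4) he
  have hu : Nat.card U ∣ 2 := by have := h.u_dvd; rwa [hq] at this
  have hA' : ∀ g, g ∈ A := fun g => index_eq_one.1 hA ▸ trivial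
  have hV : Nat.card V = 3 ^ 4 := by rw [Module.natCard_eq_pow_finrank (K := K), hq, hn]
  have hG : Nat.card G ≤ 1 * 2 * (4 * 4) * 20 := by
    have k5 := Nat.le_of_dvd two_pos hu
    have k6 := (card_le_card_group (A.map (toImg G W))).trans k1
    rw [h.card_G, hA, he]; gcongr
  have hg : ∀ g : G, g ≠ 1 → g * g = 1 → Good V g := fun g g1 g2 => by
    by_contra hb
    have k5 := h.bad_inv (hA' g) g2 hb
    have k6 : ∀ w : W, g • g • w = w := fun w => by rw [← mul_smul, g2, one_smul]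
    obtain ⟨s, hs⟩ := h.form.bad_two k5
    have k7 := (AddSubgroup.one_lt_card_iff_ne_bot _).2 (h.bad_Cm (hA' g) g1 hb)
    obtain ⟨j, hj⟩ := (h.sp h2).card_pow (Cm W g)
    have k8 := Nat.le_of_dvd Nat.card_pos (two_pow_dvd h.cr.sqf k6 hj.symm.dvd)
    rw [← hj, he, hs] at k8
    rw [hs] at k7
    have : s < 3 := by
      by_contra hh
      have := Nat.pow_le_pow_left (not_lt.1 hh) 2
      nlinarith
    obtain rfl | rfl | rfl : s = 0 ∨ s = 1 ∨ s = 2 := by omega
    · omega
    · omega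
    · exact k2 (toImg G W g) ⟨k6, k5, hs⟩
  have hS : ∀ T : Finset G, (∀ g ∈ T, (orderOf g).Prime ∧ g * g = 1) →
      (∀ a ∈ T, ∀ b ∈ T, a⁻¹ * b ∈ U) → ∑ g ∈ T, ff V 2 g ≤ 162 := fun T hT hU => by
    have := h.coset_good (k := 2) one_le_two (by omega) T (fun g _ => hA' g)
      (fun g k => hg g (ne_one_of_prime (hT g k).1) (hT g k).2) hU
    rwa [hq, hn] at this
  have h3 : 2 * (FT V 2 {g : G | (orderOf g).Prime ∧ g ∈ A}).ncard ≤
      2 * (12 * 162 + 5 * (4 * 162)) + 0 := by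
    refine wt_prime 2 (· ∈ A) (fun g => inv_mem) fun T hT => split T (fun g => g * g = 1) _
      (fun T1 l1 l2 => (sum_wt_le _ _).trans (Nat.mul_le_mul_left _ (split T1 (· ∈ E) _
        (fun T2 l3 l4 => ?_) fun T2 l3 l4 => ?_))) fun T1 l1 l2 => ?_
    · refine (h.lab' T2 1 (fun b hb => by simpa using l4 b hb) {w | ∃ x ∈ E, x * x = 1 ∧ π x = w}
        (fun b hb => ⟨b, l4 b hb, l2 b (l3 hb), by simp⟩) _ _ fun T' l5 _ => hS T'
        fun g hg => ⟨(hT g (l1 (l3 (l5 hg)))).1, l2 g (l3 (l5 hg))⟩).trans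
        (Nat.mul_le_mul_right _ (h.card_inv_E hu he))
    · have l5 : ∀ g ∈ T2, toImg G W g ≠ 1 ∧ toImg G W g * toImg G W g = 1 := fun g hg =>
        ⟨fun e => l4 g hg (h.mem_E (hA' g) fun w => by rw [← toImg_smul, e, one_smul]),
          by rw [← map_mul, l2 g (l3 hg), map_one]⟩
      refine (fib T2 (toImg G W) {g : Img G W | g ≠ 1 ∧ g * g = 1} l5 _ _ fun T' l6 ⟨g0, h0⟩ hi => ?_).trans
        (Nat.mul_le_mul_right _ k3)
      refine (h.lab T' (fun g _ => hA' g) hi h0 (Fx W g0) (fun b hb => mem_Fx.2 ?_) _ _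
        fun T'' l7 _ => hS T'' fun g hg => ⟨(hT g (l1 (l3 (l6 (l7 hg))))).1,
          l2 g (l3 (l6 (l7 hg)))⟩).trans
        (Nat.mul_le_mul_right _ (show Nat.card (Fx W (toImg G W g0)) ≤ 4 from
          k4 _ (l5 g0 (l6 h0)).1 (l5 g0 (l6 h0)).2))
      rw [h.inv_label (h.mem_E_img (hA' _) (hA' _) (hi _ h0 _ hb)) (l2 _ (l3 (l6 h0)))
        (l2 _ (l3 (l6 hb))), neg_eq_of_add_eq_zero_left (h2 _)]
    · refine (Finset.sum_eq_zero fun g hg => ?_).le
      have hp := (hT g (l1 hg)).1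
      have ho := odd_of_prime hp (l2 g hg)
      have l3 : orderOf (toImg G W g) = orderOf g :=
        ((Nat.dvd_prime hp).1 (orderOf_map_dvd _ g)).resolve_left fun e => by
          have l4 := orderOf_dvd_natCard (⟨g, h.mem_E (hA' g) fun w => by
            rw [← toImg_smul, orderOf_eq_one_iff.1 e, one_smul]⟩ : E)
          rw [orderOf_mk, h.card_E, he] at l4
          exact hp.one_lt.ne' (Nat.eq_one_of_dvd_coprimes ((Nat.coprime_two_right.2 ho).pow_right 5)
            dvd_rfl (l4.trans (Nat.mul_dvd_mul_right hu _)))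
      have l4 : orderOf g = 5 := by
        have l5 : orderOf g ≠ 3 := fun e => absurd (Nat.eq_one_of_dvd_coprimes hc
          (e ▸ orderOf_dvd_natCard g) dvd_rfl) (by norm_num)
        have := (h.sp h2).t16 he (l3 ▸ hp) (l3 ▸ ho)
        rw [l3] at this
        tauto
      have l5 := card_modEq_one hp rfl (Cm V g) (fun w => smul_mem_Cm) (by
        rw [inf_comm]
        exact Fx_inf_Cm (s := 5) (fun w => by rw [← l4, pow_orderOf_eq_one, one_smul])
          (by rw [hV]; norm_num))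
      have l6 := card_Fx_mul (W := V) g
      obtain ⟨j, hj, l7⟩ := (Nat.dvd_prime_pow Nat.prime_three).1
        (hV ▸ (Cm V g).card_addSubgroup_dvd_card)
      have l8 : j ≠ 0 := fun e => ne_one_of_prime hp (eq_one_of_triv (V := V) (Cm_eq_bot.1
        (AddSubgroup.card_eq_one.1 (by rw [l7, e]; rfl))))
      rw [l7, l4] at l5
      rw [l7, hV] at l6
      obtain rfl | rfl | rfl | rfl : j = 1 ∨ j = 2 ∨ j = 3 ∨ j = 4 := by omega
      · exact absurd l5 (by decide)
      · exact absurd l5 (by decide)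
      · exact absurd l5 (by decide)
      · rw [ff, show Nat.card (Fx V g) = 1 by omega]; rfl
  have h4 := NR_le (V := V) 2 A
  rw [Set.eq_empty_of_forall_notMem (s := FT V 2 {g : G | (orderOf g).Prime ∧ g ∉ A})
    fun x ⟨_, g, k, _⟩ => k.2 (hA' g), Set.ncard_empty] at h4
  exact reg_of_count (by rw [hV]; omega)

end Prim

end H6.BS
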