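import Cfsg.Agent.H6.BS12

/-! Base sizes of solvable linear groups XIII: the normalizer of `Q₈ ∘ Q₈` in dimension four. -/

set_option autoImplicit false
set_option linter.unusedSectionVars false

open Cfsg Subgroup

namespace H6.BS

universe u

abbrev Z4 : Type := ℤ × ℤ × ℤ × ℤ

def LA (x : Z4) : Z4 := (-x.2.1, x.1, -x.2.2.2, x.2.2.1)
def LB (x : Z4) : Z4 := (-x.2.2.1, x.2.2.2, x.1, -x.2.1)
def RC (x : Z4) : Z4 := (-x.2.1, x.1, x.2.2.2, -x.2.2.1)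
def RD (x : Z4) : Z4 := (-x.2.2.1, -x.2.2.2, x.1, x.2.1)

def op6 {α : Type*} [Neg α] (P Q : α → α) (i : Fin 6) (x : α) : α :=
  match i with
  | 0 => P x
  | 1 => Q x
  | 2 => P (Q x)
  | 3 => -P x
  | 4 => -Q x
  | 5 => -P (Q x)

def op12 {α : Type*} [Neg α] (P Q P' Q' : α → α) (sw : Bool) : Fin 6 → α → α :=
  match sw with
  | false => op6 P Q
  | true => op6 P' Q'

def comb {α : Type*} [AddCommGroup α] (c : Z4) (X Y : α → α) (v : α) : α :=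
  c.1 • v + c.2.1 • X v + c.2.2.1 • Y v + c.2.2.2 • X (Y v)

def Eqv (q : ℕ) (x y : Z4) : Prop :=
  (q : ℤ) ∣ (x - y).1 ∧ (q : ℤ) ∣ (x - y).2.1 ∧ (q : ℤ) ∣ (x - y).2.2.1 ∧ (q : ℤ) ∣ (x - y).2.2.2

instance eqvDec (q : ℕ) (x y : Z4) : Decidable (Eqv q x y) := by unfold Eqv; infer_instance

def Chk (q k : ℕ) (v ci cj c0 : Z4) (s : Fin 5 → Fin k → Z4) : Prop :=
  Eqv q (RC v) (comb ci LA LB v) ∧ Eqv q (RD v) (comb cj LA LB v) ∧
  Eqv q (1, 0, 0, 0) (comb c0 LA LB v) ∧ ∀ (sw : Bool) (a b : Fin 6),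
    (∃ c, Eqv q (op12 LA LB RC RD (!sw) c v)
      (comb ci (op12 LA LB RC RD sw a) (op12 LA LB RC RD sw b) v)) →
    (∃ c, Eqv q (op12 LA LB RC RD (!sw) c v)
      (comb cj (op12 LA LB RC RD sw a) (op12 LA LB RC RD sw b) v)) →
    ∀ i j : Fin 5, (∀ l, Eqv q (comb (s i l) (op12 LA LB RC RD sw a) (op12 LA LB RC RD sw b) v)
      (comb (s j l) LA LB v)) → i = j ∧ sw = false ∧ a = 0 ∧ b = 1

set_option synthInstance.maxSize 100000 in
instance chkDec (q k : ℕ) (v ci cj c0 : Z4) (s : Fin 5 → Fin k → Z4) :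
    Decidable (Chk q k v ci cj c0 s) := by unfold Chk; infer_instance

theorem chk3 : Chk 3 2 (0, 0, 1, 1) (0, 2, 0, 0) (0, 0, 0, 1) (0, 0, 1, 1)
    ![![(0, 0, 1, 1), (0, 1, 0, 1)], ![(0, 0, 1, 1), (0, 1, 0, 2)], ![(0, 0, 1, 1), (1, 1, 0, 1)],
      ![(0, 0, 1, 1), (0, 1, 1, 2)], ![(0, 0, 1, 1), (1, 1, 0, 2)]] := by decide +kernel

theorem chk5 : Chk 5 1 (0, 1, 1, 1) (0, 3, 4, 4) (0, 4, 3, 4) (0, 3, 3, 3)
    ![![(0, 0, 0, 1)], ![(0, 0, 0, 2)], ![(0, 0, 1, 1)], ![(1, 0, 0, 1)], ![(1, 0, 0, 2)]] := by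
  decide +kernel

theorem chk7 : Chk 7 1 (0, 1, 1, 3) (0, 3, 4, 5) (0, 4, 3, 5) (0, 5, 5, 1)
    ![![(0, 0, 1, 0)], ![(0, 0, 1, 1)], ![(0, 0, 2, 0)], ![(0, 1, 0, 1)], ![(1, 0, 1, 0)]] := by
  decide +kernel

theorem map_comb {α γ : Type*} [AddCommGroup α] [AddCommGroup γ] (f : α →+ γ) {X Y : α → α}
    {X' Y' : γ → γ} (hX : ∀ x, f (X x) = X' (f x)) (hY : ∀ x, f (Y x) = Y' (f x)) (c : Z4) (v : α) :
    f (comb c X Y v) = comb c X' Y' (f v) := by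
  simp only [comb, map_add, map_zsmul, hX, hY]

theorem map_op12 {α γ : Type*} [AddCommGroup α] [AddCommGroup γ] (f : α →+ γ) {P Q R S : α → α}
    {P' Q' R' S' : γ → γ} (hP : ∀ x, f (P x) = P' (f x)) (hQ : ∀ x, f (Q x) = Q' (f x))
    (hR : ∀ x, f (R x) = R' (f x)) (hS : ∀ x, f (S x) = S' (f x)) (sw : Bool) (i : Fin 6) (x : α) :
    f (op12 P Q R S sw i x) = op12 P' Q' R' S' sw i (f x) := by
  cases sw <;> fin_cases i <;> simp only [op12, op6, map_neg, hP, hQ, hR, hS]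

section Quat
variable {G V : Type u} [Group G] [AddCommGroup V] [Finite V] [DistribMulAction G V]

variable (V) in
/-- two commuting pairs of quaternion generators -/
structure QQ (A B C D : G) : Prop where
  hA : ∀ v : V, A • A • v = -v
  hB : ∀ v : V, B • B • v = -v
  hC : ∀ v : V, C • C • v = -v
  hD : ∀ v : V, D • D • v = -v
  hAB : ∀ v : V, B • A • v = -(A • B • v)
  hCD : ∀ v : V, D • C • v = -(C • D • v)
  hAC : ∀ v : V, C • A • v = A • C • v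
  hBC : ∀ v : V, C • B • v = B • C • v
  hAD : ∀ v : V, D • A • v = A • D • v
  hBD : ∀ v : V, D • B • v = B • D • v

variable {A B C D : G} (h : QQ V A B C D) {q : ℕ} (hq : q.Prime) (q2 : q ≠ 2)
  (hqV : ∀ v : V, q • v = 0)
include h hq q2 hqV

theorem QQ.exists_v0 [Nontrivial V] : ∃ v0 : V, v0 ≠ 0 ∧ C • v0 = A • v0 ∧ D • v0 = B • v0 := by
  let p : V → V := fun w => w - A • C • w - B • D • w + A • B • C • D • w
  obtain ⟨w, hw⟩ : ∃ w, p w ≠ 0 := by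
    by_contra hh
    push Not at hh
    obtain ⟨w, w0⟩ := exists_ne (0 : V)
    have h1 : 2 ^ 2 • w = p w - A • p (A • w) - B • p (B • w) - A • B • p (A • B • w) := by
      simp only [p, smul_sub, smul_add, smul_neg, neg_neg, h.hA, h.hB, h.hAB, h.hAC, h.hBC, h.hAD,
        h.hBD]
      norm_num
      abel
    simp only [hh, smul_zero, sub_zero] at h1
    have := Fact.mk hq
    have h2 := addOrderOf_dvd_of_nsmul_eq_zero h1
    rw [addOrderOf_eq_prime (hqV w) w0] at h2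
    exact q2 ((Nat.prime_dvd_prime_iff_eq hq Nat.prime_two).1 (hq.dvd_of_dvd_pow h2))
  refine ⟨p w, hw, ?_, ?_⟩ <;>
    simp only [p, smul_sub, smul_add, smul_neg, neg_neg, h.hA, h.hB, h.hC, h.hD, h.hAB, h.hCD,
      h.hAC, h.hBC, h.hAD, h.hBD] <;> abel

theorem QQ.reg [Nontrivial V] (hV : Nat.card V = q ^ 4)
    (hg : ∀ g : G, ∃ (sw : Bool) (a b c d : Fin 6), ∀ v : V,
      g • A • v = op12 (A • ·) (B • ·) (C • ·) (D • ·) sw a (g • v) ∧
      g • B • v = op12 (A • ·) (B • ·) (C • ·) (D • ·) sw b (g • v) ∧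
      g • C • v = op12 (A • ·) (B • ·) (C • ·) (D • ·) (!sw) c (g • v) ∧
      g • D • v = op12 (A • ·) (B • ·) (C • ·) (D • ·) (!sw) d (g • v))
    {k : ℕ} {v ci cj c0 : Z4} {s : Fin 5 → Fin k → Z4} (chk : Chk q k v ci cj c0 s) :
    Reg G V (k + 1) 5 := by
  obtain ⟨v0, h0, hC, hD⟩ := h.exists_v0 hq q2 hqV
  have := Fact.mk hq
  let φ : Z4 →+ V := AddMonoidHom.mk' (fun x => comb x (A • ·) (B • ·) v0) fun x y => by
    simp only [comb, Prod.fst_add, Prod.snd_add, add_smul]; abel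
  have hφ : ∀ x, φ x = x.1 • v0 + x.2.1 • A • v0 + x.2.2.1 • B • v0 + x.2.2.2 • A • B • v0 :=
    fun _ => rfl
  have sz : ∀ (g : G) (n : ℤ) (w : V), g • n • w = n • g • w := fun g n w => smul_comm _ _ _
  have fA : ∀ x, φ (LA x) = A • φ x := fun x => by
    simp only [hφ, LA, smul_add, sz, h.hA, neg_smul, smul_neg]; abel
  have fB : ∀ x, φ (LB x) = B • φ x := fun x => by
    simp only [hφ, LB, smul_add, sz, h.hB, h.hAB, neg_smul, smul_neg, neg_neg]; abel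
  have fC : ∀ x, φ (RC x) = C • φ x := fun x => by
    simp only [hφ, RC, smul_add, sz, h.hA, h.hAB, h.hAC, h.hBC, hC, neg_smul, smul_neg, neg_neg]
    abel
  have fD : ∀ x, φ (RD x) = D • φ x := fun x => by
    simp only [hφ, RD, smul_add, sz, h.hB, h.hAD, h.hBD, hD, neg_smul, smul_neg]; abel
  have k1 : ∀ x, φ x = 0 → (q : ℤ) ∣ x.1 := fun x hx => by
    have l1 : φ (x - LA (RC x)) = 0 := by rw [map_sub, fA, fC, hx]; simp
    have l2 : φ (x - LA (RC x) - LB (RD (x - LA (RC x)))) = 0 := by rw [map_sub, fB, fD, l1]; simp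
    have l3 : x - LA (RC x) - LB (RD (x - LA (RC x))) = (2 ^ 2 * x.1, 0, 0, 0) := by
      simp only [LA, LB, RC, RD, Prod.ext_iff, Prod.fst_sub, Prod.snd_sub]; omega
    rw [l3, hφ] at l2
    simp only [zero_smul, add_zero] at l2
    have l4 := addOrderOf_dvd_iff_zsmul_eq_zero.2 l2
    rw [addOrderOf_eq_prime (hqV v0) h0] at l4
    refine ((Nat.prime_iff_prime_int.1 hq).dvd_or_dvd l4).resolve_left fun l5 => q2 ?_
    exact (Nat.prime_dvd_prime_iff_eq hq Nat.prime_two).1 (hq.dvd_of_dvd_pow (n := 2)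
      (by exact_mod_cast l5))
  have k2 : ∀ x y, φ x = φ y ↔ Eqv q x y := fun x y => by
    rw [← sub_eq_zero, ← map_sub, Eqv]
    refine ⟨fun e => ⟨k1 _ e, dvd_neg.1 (k1 (LA _) (by rw [fA, e, smul_zero])),
      dvd_neg.1 (k1 (LB _) (by rw [fB, e, smul_zero])),
      dvd_neg.1 (k1 (LA (LB (x - y))) (by rw [fA, fB, e, smul_zero, smul_zero]))⟩, ?_⟩
    have l1 : ∀ (n : ℤ) (w : V), (q : ℤ) ∣ n → n • w = 0 := by
      rintro _ w ⟨j, rfl⟩
      rw [mul_smul, natCast_zsmul, hqV]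
    rintro ⟨a, b, c, d⟩
    rw [hφ, l1 _ _ a, l1 _ _ b, l1 _ _ c, l1 _ _ d]; simp
  have k3 : Function.Surjective φ := by
    let ψ : ZMod q × ZMod q × ZMod q × ZMod q → V := fun z =>
      φ (z.1.cast, z.2.1.cast, z.2.2.1.cast, z.2.2.2.cast)
    have l1 : ∀ a b : ZMod q, (q : ℤ) ∣ a.cast - b.cast → a = b := fun a b e => by
      rw [← ZMod.intCast_zmod_cast a, ← ZMod.intCast_zmod_cast b]
      exact ((ZMod.intCast_eq_intCast_iff_dvd_sub _ _ _).2 e).symm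
    have l2 : Function.Injective ψ := fun a b e =>
      let ⟨e1, e2, e3, e4⟩ := (k2 _ _).1 e
      Prod.ext (l1 _ _ e1) (Prod.ext (l1 _ _ e2) (Prod.ext (l1 _ _ e3) (l1 _ _ e4)))
    intro w
    obtain ⟨z, hz⟩ := (l2.bijective_of_nat_card_le (by
      simp only [hV, Nat.card_prod, Nat.card_zmod]; exact le_of_eq (by ring))).2 w
    exact ⟨_, hz⟩
  refine ⟨fun i : Fin 5 => Fin.cons (φ v) fun l => φ (comb (s i l) LA LB v), fun i j g e => ?_⟩
  obtain ⟨sw, a, b, c, d, k4⟩ := hg g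
  have e0 : g • φ v = φ v := congrFun e 0
  have fo := map_op12 φ fA fB fC fD
  have key : ∀ c, g • φ (comb c LA LB v) =
      φ (comb c (op12 LA LB RC RD sw a) (op12 LA LB RC RD sw b) v) := fun c => by
    rw [map_comb φ fA fB, map_comb φ (fo sw a) (fo sw b), ← e0]
    conv_lhs => rw [e0]
    exact map_comb (DistribSMul.toAddMonoidHom V g) (fun w => (k4 w).1) (fun w => (k4 w).2.1) _ _
  obtain ⟨c1, c2, c3, c4⟩ := chk
  obtain ⟨rfl, rfl, rfl, rfl⟩ := c4 sw a b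
    ⟨c, (k2 _ _).1 (by rw [fo, ← key, ← (k2 _ _).2 c1, fC, (k4 _).2.2.1, e0])⟩
    ⟨d, (k2 _ _).1 (by rw [fo, ← key, ← (k2 _ _).2 c2, fD, (k4 _).2.2.2, e0])⟩ i j
    fun l => (k2 _ _).1 ((key _).symm.trans (congrFun e l.succ))
  have k5 : g • v0 = v0 := by
    have l1 : φ (1, 0, 0, 0) = v0 := by simp [hφ]
    rw [← l1, (k2 _ _).2 c3]
    exact key c0
  refine ⟨rfl, fun w => ?_⟩
  obtain ⟨x, rfl⟩ := k3 w
  exact (map_comb (DistribSMul.toAddMonoidHom V g) (fun w => (k4 w).1) (fun w => (k4 w).2.1) x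
    v0).trans (congrArg (comb x _ _) k5)

end Quat

variable {G V K W : Type u} [Group G] [Finite G] [AddCommGroup V] [Finite V] [Nontrivial V]
  [DistribMulAction G V] [FaithfulSMul G V] [Field K] [Finite K] [Module K V] [AddCommGroup W]
  [Finite W] [DistribMulAction G W] {U A E : Subgroup G} {sc : G → Kˣ} {σ : G →* RingAut K}
  {π : G → W} [Group.IsSolvable G]

namespace Prim
variable (h : Prim (V := V) U A E sc σ π)
include h

theorem anti (h2 : ∀ w : W, w + w = 0) {x y : G} (hx : x ∈ E) (hy : y ∈ E)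
    (hb : h.β (π x) (π y) ≠ 1) (v : V) : y • x • v = -(x • y • v) := by
  have h1 : (h.β (π y) (π x) : K) * h.β (π y) (π x) = 1 := by
    rw [← Units.val_mul, ← h.form.add_left, h2, h.form.zero_left, Units.val_one]
  rw [h.hβ hy hx, (mul_self_eq_one_iff.1 h1).resolve_left fun e =>
    hb (h.form.symm_one (Units.ext e)), neg_one_smul]

theorem lift3 (hA : ∀ g, g ∈ A) (h2 : ∀ w : W, w + w = 0) {g : G} {a : W}
    (hb : h.β a (g • a) ≠ 1) (hr : g • g • a = a + g • a) :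
    ∃ x ∈ E, ∃ y ∈ E, π x = a ∧ π y = g • a ∧ (∀ v : V, x • x • v = -v) ∧ ∀ v : V, y • y • v = -v := by
  obtain ⟨x, hx, rfl⟩ := h.π_surj a
  have hy := h.nE.conj_mem x hx g
  have hz := h.nE.conj_mem _ hy g
  have py := h.π_conj g x hx
  have h1 : x * x ∈ U := by rw [← h.π_zero _ (mul_mem hx hx), h.π_mul x hx x hx, h2]
  have h3 : ∀ y : G, y * y = x * x → g * y * g⁻¹ * (g * y * g⁻¹) = x * x := fun y e => by
    calc _ = g * (y * y) * g⁻¹ := by group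
      _ = _ := by rw [e, h.comm (hA g) h1, mul_inv_cancel_right]
  have y2 := h3 x rfl
  have z2 := h3 _ y2
  have h4 := (h.π_eq (mul_mem hx hy) hz).1 (by rw [h.π_mul x hx _ hy, h.π_conj g _ hy, py, hr])
  rw [← py] at hb ⊢
  generalize g * x * g⁻¹ = y at *
  obtain ⟨μ, hμ, e⟩ : ∃ μ ∈ U, g * y * g⁻¹ = x * y * μ := ⟨_, h4, by group⟩
  have h5 : ∀ y : G, y * y = x * x → ∀ v : V, y • y • v = (sc (x * x) : K) • v := fun y e v => by
    rw [← mul_smul, e, h.hsc _ h1]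
  have h6 : (sc (x * x) : K) = sc (x * x) * -(sc μ * sc μ * sc (x * x)) := smul_inj (V := V) fun v => by
    rw [← h5 _ z2, e]
    simp only [mul_smul, h.hsc μ hμ, h.lin (hA _), h.anti h2 hx hy hb, smul_neg, h5 x rfl, h5 y y2,
      neg_smul]
    rw [smul_comm (sc (x * x) : K) (sc μ : K), smul_comm (sc (x * x) : K) (sc μ : K)]
  have h7 : (sc μ : K) * sc μ * sc (x * x) = -1 := by
    have := mul_left_cancel₀ (sc (x * x)).ne_zero ((mul_one _).trans h6)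
    rw [this, neg_neg]
  have h8 : ∀ y : G, y * y = x * x → ∀ v : V, (y * μ) • (y * μ) • v = -v := fun y e v => by
    simp only [mul_smul, h.hsc μ hμ, h.lin (hA _), h5 y e]
    rw [smul_smul, smul_smul, h7, neg_one_smul]
  have h9 : ∀ y ∈ E, π (y * μ) = π y := fun y hy => by
    rw [h.π_mul y hy μ (h.UE hμ), (h.π_zero μ (h.UE hμ)).2 hμ, add_zero]
  exact ⟨x * μ, mul_mem hx (h.UE hμ), y * μ, mul_mem hy (h.UE hμ), h9 x hx, h9 y hy, h8 x rfl,
    h8 y y2⟩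

theorem pm {z y : G} (hz : z ∈ E) (hy : y ∈ E) (e : π z = π y) (z2 : ∀ v : V, z • z • v = -v)
    (y2 : ∀ v : V, y • y • v = -v) : (∀ v : V, z • v = y • v) ∨ ∀ v : V, z • v = -(y • v) := by
  obtain ⟨μ, hμ, rfl⟩ : ∃ μ ∈ U, z = y * μ := ⟨_, (h.π_eq hy hz).1 e.symm, by group⟩
  simp only [mul_smul, h.hsc μ hμ, h.lin (h.EA hy), y2, smul_neg, neg_inj] at z2 ⊢
  rcases mul_self_eq_one_iff.1 (smul_inj (V := V) fun v =>
    ((mul_smul _ _ _).trans (z2 v)).trans (one_smul K v).symm) with e | e <;> simp [e]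

theorem six (h2 : ∀ w : W, w + w = 0) {C : AddSubgroup W} (hC : Nat.card C = 4) {x y z : G}
    (hx : x ∈ E) (hy : y ∈ E) (hz : z ∈ E) (cx : π x ∈ C) (cy : π y ∈ C) (cz : π z ∈ C)
    (hb : h.β (π x) (π y) ≠ 1) (z0 : π z ≠ 0) (x2 : ∀ v : V, x • x • v = -v)
    (y2 : ∀ v : V, y • y • v = -v) (z2 : ∀ v : V, z • z • v = -v) :
    ∃ i : Fin 6, ∀ v : V, z • v = op6 (x • ·) (y • ·) i v := by
  rcases four h2 hC cx cy (fun e => hb (by rw [e, h.form.zero_left]))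
    (fun e => hb (by rw [e, h.form.zero_right])) (fun e => hb (by rw [e, h.form.self])) cz with
    e | e | e | e
  · exact absurd e z0
  · exact (h.pm hz hx e z2 x2).elim (fun k => ⟨0, k⟩) fun k => ⟨3, k⟩
  · exact (h.pm hz hy e z2 y2).elim (fun k => ⟨1, k⟩) fun k => ⟨4, k⟩
  · exact (h.pm hz (mul_mem hx hy) (by rw [e, h.π_mul x hx y hy, add_comm]) z2 fun v => by
      simp only [mul_smul, h.anti h2 hx hy hb, smul_neg, x2, y2, neg_neg]).elim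
      (fun k => ⟨2, fun v => (k v).trans (mul_smul _ _ _)⟩)
      fun k => ⟨5, fun v => (k v).trans (congrArg _ (mul_smul _ _ _))⟩

theorem split_reg (hq : (Nat.card K).Prime) (q2 : Nat.card K ≠ 2) (hA : A.index = 1)
    (hn : Module.finrank K V = 4) (he : Nat.card W = 4 * 4) (hs : Split (Img G W) h.β)
    {k : ℕ} {v ci cj c0 : Z4} {s : Fin 5 → Fin k → Z4} (chk : Chk (Nat.card K) k v ci cj c0 s) :
    Reg G V (k + 1) 5 := by
  have h2 := h.two_W (j := 4) he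
  have hA' : ∀ g, g ∈ A := fun g => index_eq_one.1 hA ▸ trivial
  obtain ⟨C, D, hC, hD, h1, h3, h4, ⟨g1, a, ha, a0, a1, a2, a3⟩, g2, b, hb, b0, b1, b2, b3⟩ := hs
  obtain ⟨g1, rfl⟩ := toImg_surj G W g1
  obtain ⟨g2, rfl⟩ := toImg_surj G W g2
  have h5 : C ⊔ D = ⊤ := by
    have := card_sup_mul C D
    rw [h3, hC, hD, AddSubgroup.card_bot, mul_one, ← he] at this
    exact AddSubgroup.eq_top_of_card_eq _ this
  have h6 : ∀ C D : AddSubgroup W, Nat.card C = 4 → C ⊔ D = ⊤ → (∀ x ∈ C, ∀ y ∈ D, h.β x y = 1) →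
      ∀ a ∈ C, ∀ b ∈ C, a ≠ 0 → b ≠ 0 → b ≠ a → h.β a b ≠ 1 := fun C D hC h5 h1 a ha b hb a0 b0 ba e =>
    a0 (h.form.nondeg a fun w => by
      obtain ⟨x, hx, y, hy, rfl⟩ := AddSubgroup.mem_sup.1 (show w ∈ C ⊔ D from h5 ▸ trivial)
      rw [h.form.add_right, h1 a ha y hy, mul_one]
      rcases four h2 hC ha hb a0 b0 ba hx with rfl | rfl | rfl | rfl
      exacts [h.form.zero_right _, h.form.self _, e, by rw [h.form.add_right, e, h.form.self, mul_one]])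
  have βa := h6 C D hC h5 h1 a ha _ a2 a0 ((smul_ne_zero_iff_ne _).2 a0) a1
  have βb := h6 D C hD (sup_comm C D ▸ h5) (fun x hx y hy => h.form.symm_one (h1 y hy x hx)) b hb _
    b2 b0 ((smul_ne_zero_iff_ne _).2 b0) b1
  obtain ⟨x1, hx1, y1, hy1, rfl, p1, x12, y12⟩ := h.lift3 hA' h2 βa a3
  obtain ⟨x2, hx2, y2, hy2, rfl, p2, x22, y22⟩ := h.lift3 hA' h2 βb b3
  rw [toImg_smul, ← p1] at βa a2
  rw [toImg_smul, ← p2] at βb b2
  have h7 : ∀ x ∈ E, ∀ y ∈ E, π x ∈ C → π y ∈ D → ∀ v : V, y • x • v = x • y • v :=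
    fun x hx y hy cx cy v => by rw [h.hβ hx hy, h1 _ cx _ cy, Units.val_one, one_smul]
  have _ := Fintype.ofFinite K
  refine QQ.reg ⟨x12, y12, x22, y22, h.anti h2 hx1 hy1 βa, h.anti h2 hx2 hy2 βb,
    h7 _ hx1 _ hx2 ha hb, h7 _ hy1 _ hx2 a2 hb, h7 _ hx1 _ hy2 ha b2, h7 _ hy1 _ hy2 a2 b2⟩ hq q2
    (fun v => by rw [← Nat.cast_smul_eq_nsmul K, Nat.card_eq_fintype_card, Nat.cast_card_eq_zero,
      zero_smul]) (by rw [Module.natCard_eq_pow_finrank (K := K), hn]) (fun g => ?_) chk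
  have h8 : ∀ {C : AddSubgroup W}, Nat.card C = 4 → ∀ {x y : G}, x ∈ E → y ∈ E → π x ∈ C → π y ∈ C →
      h.β (π x) (π y) ≠ 1 → (∀ v : V, x • x • v = -v) → (∀ v : V, y • y • v = -v) → ∀ z ∈ E,
      π z ≠ 0 → (∀ v : V, z • z • v = -v) → g • π z ∈ C →
      ∃ i : Fin 6, ∀ v : V, g • z • v = op6 (x • ·) (y • ·) i (g • v) :=
    fun hC x y hx hy cx cy hb x2 y2 z hz z0 z2 cz => by
      rw [← h.π_conj g z hz] at cz
      obtain ⟨i, hi⟩ := h.six h2 hC hx hy (h.nE.conj_mem z hz g) cx cy cz hb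
        (by rw [h.π_conj g z hz]; exact (smul_ne_zero_iff_ne _).2 z0) x2 y2 fun v => by
          simp only [mul_smul, inv_smul_smul, z2, smul_neg, smul_inv_smul]
      exact ⟨i, fun v => by rw [← hi, mul_smul, mul_smul, inv_smul_smul]⟩
  have k1 := h8 hC hx1 hy1 ha a2 βa x12 y12
  have k2 := h8 hD hx2 hy2 hb b2 βb x22 y22
  have a4 : π y1 ≠ 0 := fun e => βa (by rw [e, h.form.zero_right])
  have b4 : π y2 ≠ 0 := fun e => βb (by rw [e, h.form.zero_right])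
  rcases h4 (toImg G W g) with ⟨l1, l2⟩ | ⟨l1, l2⟩
  · obtain ⟨i1, e1⟩ := k1 x1 hx1 a0 x12 (l1 _ ha)
    obtain ⟨i2, e2⟩ := k1 y1 hy1 a4 y12 (l1 _ a2)
    obtain ⟨i3, e3⟩ := k2 x2 hx2 b0 x22 (l2 _ hb)
    obtain ⟨i4, e4⟩ := k2 y2 hy2 b4 y22 (l2 _ b2)
    exact ⟨false, i1, i2, i3, i4, fun v => ⟨e1 v, e2 v, e3 v, e4 v⟩⟩
  · obtain ⟨i1, e1⟩ := k2 x1 hx1 a0 x12 (l1 _ ha)
    obtain ⟨i2, e2⟩ := k2 y1 hy1 a4 y12 (l1 _ a2)
    obtain ⟨i3, e3⟩ := k1 x2 hx2 b0 x22 (l2 _ hb)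
    obtain ⟨i4, e4⟩ := k1 y2 hy2 b4 y22 (l2 _ b2)
    exact ⟨true, i1, i2, i3, i4, fun v => ⟨e1 v, e2 v, e3 v, e4 v⟩⟩

theorem spec4 {k : ℕ} (hk : (k = 3 ∧ Nat.card K = 3) ∨ (k = 2 ∧ Nat.card K = 5) ∨
    (k = 2 ∧ Nat.card K = 7)) (hn : Module.finrank K V = 4) (he : Nat.card W = 4 * 4) :
    Reg G V k 5 := by
  have hq : (Nat.card K).Prime := by rcases hk with ⟨-, e⟩ | ⟨-, e⟩ | ⟨-, e⟩ <;> rw [e] <;> norm_num
  have hA : A.index = 1 := by
    obtain ⟨q0, -, e⟩ := h.artin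
    exact Nat.dvd_one.1 (dvd_of_pow_eq hq le_rfl ((pow_one _).trans e))
  have h1 : ∀ y ∈ [(20, 0), (6, 3)], Nat.card (Img G W) ≤ y.1 →
      {g : Img G W | A2 h.β g}.ncard ≤ y.2 → Reg G V k 5 := fun y hy l1 l2 => by
    have l3 := (card_le_card_group (A.map (toImg G W))).trans l1
    refine h.reg_of_fine (Nat.coprime_one_right _) he (by omega) l3
      ((Set.ncard_le_ncard (fun r hr => hr.2) (Set.toFinite _)).trans l2) (h.xb_bd he l3) ?_
    rw [hA, hn]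
    exact (sp4 (k, Nat.card K) (by simpa using hk) y hy).mono h.u_le le_rfl le_rfl (by simp [xb])
  rcases h.sixteen he with ⟨l1, l2, -⟩ | ⟨-, ⟨l1, l2⟩ | l1⟩
  · exact h1 (20, 0) (by simp) l1 ((Set.ncard_eq_zero (Set.toFinite _)).2
      (Set.eq_empty_of_forall_notMem l2)).le
  · exact h1 (6, 3) (by simp) l1 l2
  rcases hk with ⟨rfl, e⟩ | ⟨rfl, e⟩ | ⟨rfl, e⟩
  · exact h.split_reg hq (by omega) hA hn he l1 (by rw [e]; exact chk3)
  · exact h.split_reg hq (by omega) hA hn he l1 (by rw [e]; exact chk5)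
  · exact h.split_reg hq (by omega) hA hn he l1 (by rw [e]; exact chk7)

end Prim

end H6.BS
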