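import Cfsg.Agent.H6.BS1
import Cfsg.Agent.H6.Elem

/-! Base sizes of solvable linear groups II: conjugation modules, affine coordinates for a maximal
subgroup of a solvable group, imprimitive step. -/

set_option autoImplicit false
set_option linter.unusedSectionVars false

open Cfsg Subgroup

namespace H6.BS
open H19

universe u v

section Ad
variable {Γ : Type u} [Group Γ]

/-- a normal abelian subgroup as an additive module -/
def Ad (M : Subgroup Γ) : Type u := Additive M

variable (M : Subgroup Γ)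

instance adGroup [h : IsMulCommutative M] : AddCommGroup (Ad M) :=
  { (inferInstance : AddGroup (Additive M)) with
    add_comm := fun a b => h.is_comm.comm (Additive.toMul a) (Additive.toMul b) }

instance adFinite [Finite Γ] : Finite (Ad M) := inferInstanceAs (Finite M)

variable {M}

def Ad.val (x : Ad M) : Γ := (Additive.toMul x : M)
def Ad.mk (x : Γ) (hx : x ∈ M) : Ad M := Additive.ofMul (⟨x, hx⟩ : M)

theorem Ad.val_mem (x : Ad M) : x.val ∈ M := (Additive.toMul x : M).2
@[simp] theorem Ad.val_mk (x : Γ) (hx : x ∈ M) : (Ad.mk x hx).val = x := rfl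
theorem Ad.ext {x y : Ad M} (h : x.val = y.val) : x = y := Subtype.ext h
theorem Ad.card : Nat.card (Ad M) = Nat.card M := rfl

variable [IsMulCommutative M]
@[simp] theorem Ad.val_add (x y : Ad M) : (x + y).val = x.val * y.val := rfl
@[simp] theorem Ad.val_zero : (0 : Ad M).val = 1 := rfl
@[simp] theorem Ad.val_neg (x : Ad M) : (-x).val = x.val⁻¹ := rfl

instance adAct [hM : M.Normal] : DistribMulAction Γ (Ad M) where
  smul g x := Ad.mk (g * x.val * g⁻¹) (hM.conj_mem _ x.val_mem g)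
  one_smul x := Ad.ext (show 1 * x.val * 1⁻¹ = x.val by simp)
  mul_smul a b x := Ad.ext (show a * b * x.val * (a * b)⁻¹ = a * (b * x.val * b⁻¹) * a⁻¹ by group)
  smul_zero a := Ad.ext (show a * 1 * a⁻¹ = 1 by simp)
  smul_add a x y := Ad.ext
    (show a * (x.val * y.val) * a⁻¹ = a * x.val * a⁻¹ * (a * y.val * a⁻¹) by group)

@[simp] theorem Ad.val_smul [M.Normal] (g : Γ) (x : Ad M) : (g • x).val = g * x.val * g⁻¹ := rfl

/-- the subgroup of the ambient group given by an additive subgroup -/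
def Ad.up (X : AddSubgroup (Ad M)) : Subgroup Γ where
  carrier := {g | ∃ x ∈ X, x.val = g}
  one_mem' := ⟨0, X.zero_mem, rfl⟩
  mul_mem' := by
    rintro _ _ ⟨x, hx, rfl⟩ ⟨y, hy, rfl⟩
    exact ⟨x + y, X.add_mem hx hy, rfl⟩
  inv_mem' := by
    rintro _ ⟨x, hx, rfl⟩
    exact ⟨-x, X.neg_mem hx, rfl⟩

theorem Ad.mem_up {X : AddSubgroup (Ad M)} {x : Ad M} : x.val ∈ Ad.up X ↔ x ∈ X :=
  ⟨fun ⟨_, hy, e⟩ => Ad.ext e ▸ hy, fun h => ⟨x, h, rfl⟩⟩

theorem Ad.up_le (X : AddSubgroup (Ad M)) : Ad.up X ≤ M := by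
  rintro _ ⟨x, -, rfl⟩; exact x.val_mem

/-- the additive subgroup given by a subgroup of the ambient group -/
def Ad.down (K : Subgroup Γ) : AddSubgroup (Ad M) where
  carrier := {x | x.val ∈ K}
  zero_mem' := K.one_mem
  add_mem' := fun ha hb => K.mul_mem ha hb
  neg_mem' := fun ha => K.inv_mem ha

theorem Ad.mem_down {K : Subgroup Γ} {x : Ad M} : x ∈ Ad.down K ↔ x.val ∈ K := Iff.rfl

end Ad

theorem exists_min_normal {Γ : Type u} [Group Γ] [Finite Γ] {N : Subgroup Γ} [hN : N.Normal]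
    (h : N ≠ ⊥) : ∃ M : Subgroup Γ, M.Normal ∧ M ≤ N ∧ M ≠ ⊥ ∧
      ∀ K : Subgroup Γ, K.Normal → K ≤ M → K = ⊥ ∨ K = M := by
  obtain ⟨M, ⟨h1, h2, h3⟩, hm⟩ := exists_minimal_of_wellFoundedLT
    (fun K : Subgroup Γ => K.Normal ∧ K ≤ N ∧ K ≠ ⊥) ⟨N, hN, le_rfl, h⟩
  refine ⟨M, h1, h2, h3, fun K hK hle => ?_⟩
  by_cases h0 : K = ⊥
  · exact Or.inl h0
  · exact Or.inr (le_antisymm hle (hm ⟨hK, hle.trans h2, h0⟩ hle))

/-- affine coordinates on the cosets of a maximal subgroup of a solvable group -/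
theorem affine {G : Type u} [Group G] [Finite G] [Group.IsSolvable G] {H : Subgroup G}
    (hH : IsCoatom H) :
    ∃ (S M : Type u) (_ : Group S) (_ : Finite S) (_ : AddCommGroup M) (_ : Finite M)
      (_ : DistribMulAction S M) (pt : M → G), Group.IsSolvable S ∧ Nontrivial M ∧ Irr S M ∧
      Nat.card S ∣ Nat.card G ∧ Nat.card M ∣ Nat.card G ∧
      H.normalCore.index = Nat.card M * ord S M ∧
      (∀ m m', (pt m)⁻¹ * pt m' ∈ H → m = m') ∧
      ∀ g : G, ∃ (t : M) (s : S), (∀ m, (pt (t + s • m))⁻¹ * g * pt m ∈ H) ∧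
        (t = 0 → (∀ m : M, s • m = m) → g ∈ H.normalCore) := by
  classical
  let N := H.normalCore
  let π := QuotientGroup.mk' N
  have hπ : Function.Surjective π := QuotientGroup.mk'_surjective N
  let S : Subgroup (G ⧸ N) := H.map π
  have hcm : S.comap π = H := by
    rw [comap_map_eq, QuotientGroup.ker_mk', sup_eq_left]; exact normalCore_le H
  have hmem : ∀ g, π g ∈ S ↔ g ∈ H := fun g => by rw [← mem_comap, hcm]
  have hS : IsCoatom S := by
    refine ⟨fun h => hH.1 (by rw [← hcm, h, comap_top]), fun L hL => ?_⟩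
    have h1 : H < L.comap π := hcm.ge.trans_lt ((comap_lt_comap_of_surjective hπ).2 hL)
    have := hH.2 _ h1
    rw [← map_comap_eq_self_of_surjective hπ L, this, map_top_of_surjective _ hπ]
  have hcf : S.normalCore = ⊥ := by
    rw [eq_bot_iff]
    intro x hx
    obtain ⟨g, rfl⟩ := hπ x
    have h1 : (S.normalCore).comap π ≤ N := by
      rw [normal_le_normalCore]
      exact (comap_mono (normalCore_le S)).trans hcm.le
    exact mem_bot.2 ((QuotientGroup.eq_one_iff g).2 (h1 hx))
  have hT : (⊤ : Subgroup (G ⧸ N)) ≠ ⊥ := fun h => hS.1 (eq_top_iff.2 (h ▸ bot_le))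
  obtain ⟨M, hMn, -, hM0, hmin⟩ := exists_min_normal hT
  obtain ⟨p, -, hab, -⟩ := El.min_abelem hM0 hmin
  have hsup : M ⊔ S = ⊤ := El.cf_sup hS hcf M hM0
  have hcent : C(M) ⊓ S = ⊥ := El.cf_cent_inf hS hcf hM0
  have hinf : M ⊓ S = ⊥ := H19.eq_bot_mono (inf_le_inf_right _ (comm_iff_le_cent.1 hab)) hcent
  have hcompl : IsComplement' M S := isComplement'_of_disjoint_and_mul_eq_univ (disjoint_iff.2 hinf)
    (by rw [← normal_mul, hsup, coe_top])
  have hfaith : ∀ s : S, (∀ m : Ad M, s • m = m) → s = 1 := by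
    intro s hs
    have : (s : G ⧸ N) ∈ C(M) ⊓ S := by
      refine ⟨mem_centralizer_iff.2 fun m hm => ?_, s.2⟩
      have := congrArg Ad.val (hs (Ad.mk m hm))
      simp only [Subgroup.smul_def, Ad.val_smul, Ad.val_mk] at this
      rw [mul_inv_eq_iff_eq_mul] at this
      exact this.symm
    rw [hcent] at this
    exact Subtype.ext this
  have : FaithfulSMul S (Ad M) := ⟨fun {a b} h => by
    have := hfaith (b⁻¹ * a) fun m => by rw [mul_smul, h, inv_smul_smul]
    exact (inv_mul_eq_one.1 this).symm⟩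
  have hc : Nat.card (G ⧸ N) = Nat.card M * Nat.card S := hcompl.card_mul_card.symm
  have hd : Nat.card (G ⧸ N) ∣ Nat.card G := card_quotient_dvd_card N
  let pt : Ad M → G := fun m => (hπ m.val).choose
  have hpt : ∀ m, π (pt m) = m.val := fun m => (hπ m.val).choose_spec
  refine ⟨S, Ad M, inferInstance, inferInstance, inferInstance, inferInstance, inferInstance, pt,
    inferInstance, (nontrivial_iff_ne_bot M).2 hM0, ?_, (card_subgroup_dvd_card S).trans hd,
    (card_subgroup_dvd_card M).trans hd, ?_, ?_, ?_⟩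
  · intro X hX
    have hn : (Ad.up X).Normal := by
      refine NormalIn.normal ⟨le_top, ?_⟩
      rw [← hsup]
      refine sup_le (norms_of_comm hab le_rfl (Ad.up_le X)) ?_
      refine le_normalizer_iff.2 ?_
      rintro s hs _ ⟨x, hx, rfl⟩
      exact ⟨(⟨s, hs⟩ : S) • x, hX _ x hx, rfl⟩
    rcases hmin _ hn (Ad.up_le X) with h | h
    · left
      rw [eq_bot_iff]
      intro x hx
      have : x.val ∈ Ad.up X := Ad.mem_up.2 hx
      rw [h] at this
      exact AddSubgroup.mem_bot.2 (Ad.ext this)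
    · right
      rw [eq_top_iff]
      intro x _
      exact Ad.mem_up.1 (h.symm ▸ x.val_mem)
  · rw [ord_eq, Ad.card, ← hc]; rfl
  · intro m m' h
    have h1 : m.val⁻¹ * m'.val ∈ M ⊓ S :=
      mem_inf.2 ⟨M.mul_mem (M.inv_mem m.val_mem) m'.val_mem, by
        rw [← hpt, ← hpt, ← map_inv, ← map_mul, hmem]; exact h⟩
    rw [hinf] at h1
    exact Ad.ext (inv_mul_eq_one.1 h1)
  · intro g
    obtain ⟨⟨t, s⟩, hts⟩ := hcompl.2 (π g)
    simp only at hts
    refine ⟨Ad.mk t t.2, ⟨s, s.2⟩, fun m => ?_, fun ht hs => ?_⟩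
    · rw [← hmem, map_mul, map_mul, map_inv, hpt, hpt, ← hts]
      simp only [Ad.val_add, Ad.val_mk, Subgroup.smul_def, Ad.val_smul]
      have : ((t : G ⧸ N) * (s * m.val * (s : G ⧸ N)⁻¹))⁻¹ * (t * s) * m.val = s := by group
      rw [this]; exact s.2
    · have h1 : (t : G ⧸ N) = 1 := congrArg Ad.val ht
      have h2 : (s : G ⧸ N) = 1 := congrArg Subtype.val (hfaith _ hs)
      rw [h1, h2, mul_one] at hts
      exact (QuotientGroup.eq_one_iff g).1 hts.symm

section Imp
variable (G : Type u) {V : Type u} [Group G] [Finite G] [AddCommGroup V] [Finite V]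
  [DistribMulAction G V]

/-- the representation on `V` -/
def ρ (V : Type u) [AddCommGroup V] [DistribMulAction G V] : G →* Module.End ℤ V :=
  DistribMulAction.toModuleEnd ℤ V

variable {G}

@[simp] theorem ρ_apply (g : G) (v : V) : ρ G V g v = g • v := rfl

/-- conjugation of endomorphisms -/
def cg (g : G) : Module.End ℤ V →+* Module.End ℤ V where
  toFun f := ρ G V g * f * ρ G V g⁻¹
  map_one' := by rw [mul_one, ← map_mul, mul_inv_cancel, map_one]
  map_mul' a b := by
    ext v; simp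
  map_zero' := by simp
  map_add' a b := by rw [mul_add, add_mul]

theorem cg_apply (g : G) (f : Module.End ℤ V) (v : V) : cg g f v = g • f (g⁻¹ • v) := rfl

theorem cg_smul (g : G) (f : Module.End ℤ V) (v : V) : cg g f (g • v) = g • f v := by
  rw [cg_apply, inv_smul_smul]

theorem cg_mul (g h : G) (f : Module.End ℤ V) : cg (g * h) f = cg g (cg h f) := by
  ext v; simp [cg_apply, mul_smul]

@[simp] theorem cg_one (f : Module.End ℤ V) : cg (1 : G) f = f := by
  ext v; simp [cg_apply]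

theorem cg_inj (g : G) : Function.Injective (cg (V := V) g) := fun a b h => by
  have := congrArg (cg g⁻¹) h
  rwa [← cg_mul, ← cg_mul, inv_mul_cancel, cg_one, cg_one] at this

theorem cg_ρ (g h : G) : cg g (ρ G V h) = ρ G V (g * h * g⁻¹) := by
  ext v; simp [cg_apply]

variable (G) in
/-- a block projection of a system of imprimitivity -/
def Sys (ε : Module.End ℤ V) : Prop :=
  ε * ε = ε ∧ ε ≠ 0 ∧ ε ≠ 1 ∧ ∀ g : G, cg g ε = ε ∨ cg g ε * ε = 0

variable (G) in
def stab (ε : Module.End ℤ V) : Subgroup G where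
  carrier := {g | cg g ε = ε}
  one_mem' := cg_one ε
  mul_mem' := fun {a b} ha hb => by
    show cg (a * b) ε = ε
    rw [cg_mul, hb, ha]
  inv_mem' := fun {a} ha => by
    show cg a⁻¹ ε = ε
    apply cg_inj a
    rw [← cg_mul, mul_inv_cancel, cg_one, ha]

theorem cg_eq_iff {ε : Module.End ℤ V} {g h : G} : cg g ε = cg h ε ↔ g⁻¹ * h ∈ stab G ε := by
  show _ ↔ cg (g⁻¹ * h) ε = ε
  rw [← (cg_inj g).eq_iff (a := cg (g⁻¹ * h) ε), ← cg_mul, mul_inv_cancel_left]
  exact eq_comm

theorem Sys.orth {ε : Module.End ℤ V} (h : Sys G ε) {a b : G} (hab : cg a ε ≠ cg b ε) :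
    cg a ε * cg b ε = 0 := by
  rcases h.2.2.2 (b⁻¹ * a) with e | e
  · exact absurd (cg_eq_iff.2 e).symm hab
  · have := congrArg (cg b) e
    rwa [map_mul, ← cg_mul, mul_inv_cancel_left, map_zero] at this

theorem Sys.idem {ε : Module.End ℤ V} (h : Sys G ε) (a : G) : cg a ε * cg a ε = cg a ε := by
  rw [← map_mul, h.1]

theorem Sys.ne {ε : Module.End ℤ V} (h : Sys G ε) (a : G) : cg a ε ≠ 0 := fun e =>
  h.2.1 (cg_inj a (e.trans (map_zero _).symm))

open Classical in
/-- the sum over the orbit of a subgroup -/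
noncomputable def orb (ε : Module.End ℤ V) (L : Subgroup G) : Finset (Module.End ℤ V) :=
  (Set.toFinite ((fun g : G => cg g ε) '' L)).toFinset

theorem mem_orb {ε η : Module.End ℤ V} {L : Subgroup G} : η ∈ orb ε L ↔ ∃ g ∈ L, cg g ε = η := by
  simp [orb]

theorem Sys.sum_mul {ε : Module.End ℤ V} (h : Sys G ε) (L : Subgroup G) (a : G) :
    (a ∈ L → (∑ η ∈ orb ε L, η) * cg a ε = cg a ε) ∧
      (cg a ε ∉ orb ε L → (∑ η ∈ orb ε L, η) * cg a ε = 0) := by
  constructor
  · intro ha
    rw [Finset.sum_mul, Finset.sum_eq_single_of_mem (cg a ε) (mem_orb.2 ⟨a, ha, rfl⟩), h.idem]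
    intro η hη hne
    obtain ⟨g, -, rfl⟩ := mem_orb.1 hη
    exact h.orth hne
  · intro ha
    rw [Finset.sum_mul]
    refine Finset.sum_eq_zero fun η hη => ?_
    obtain ⟨g, hg, rfl⟩ := mem_orb.1 hη
    exact h.orth fun e => ha (e ▸ hη)

theorem cg_sum_orb (ε : Module.End ℤ V) {L : Subgroup G} {a : G} (ha : a ∈ L) :
    cg a (∑ η ∈ orb ε L, η) = ∑ η ∈ orb ε L, η := by
  rw [map_sum]
  refine Finset.sum_bij (fun η _ => cg a η) ?_ (fun _ _ _ _ e => cg_inj a e) ?_ (fun _ _ => rfl)
  · intro η hη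
    obtain ⟨g, hg, rfl⟩ := mem_orb.1 hη
    exact mem_orb.2 ⟨a * g, L.mul_mem ha hg, cg_mul _ _ _⟩
  · intro η hη
    obtain ⟨g, hg, rfl⟩ := mem_orb.1 hη
    exact ⟨cg (a⁻¹ * g) ε, mem_orb.2 ⟨_, L.mul_mem (L.inv_mem ha) hg, rfl⟩, by
      rw [← cg_mul, mul_inv_cancel_left]⟩

theorem Sys.sum_idem {ε : Module.End ℤ V} (h : Sys G ε) (L : Subgroup G) :
    (∑ η ∈ orb ε L, η) * (∑ η ∈ orb ε L, η) = ∑ η ∈ orb ε L, η := by
  rw [Finset.mul_sum]
  refine Finset.sum_congr rfl fun η hη => ?_
  obtain ⟨g, hg, rfl⟩ := mem_orb.1 hη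
  exact (h.sum_mul L g).1 hg

theorem inv_idem (hi : Irr G V) {f : Module.End ℤ V} (h1 : f * f = f) (h0 : f ≠ 0)
    (h : ∀ g : G, cg g f = f) : f = 1 := by
  rcases hi (LinearMap.range f).toAddSubgroup (by
    rintro g _ ⟨v, rfl⟩
    exact ⟨g • v, by rw [← cg_smul, h]⟩) with e | e
  · exact absurd (LinearMap.ext fun v => by
      have : f v ∈ (LinearMap.range f).toAddSubgroup := ⟨v, rfl⟩
      rw [e] at this
      exact this) h0
  · ext v
    have : v ∈ (LinearMap.range f).toAddSubgroup := e ▸ trivial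
    obtain ⟨w, rfl⟩ := this
    exact LinearMap.congr_fun h1 w

theorem Sys.sum_top (hi : Irr G V) {ε : Module.End ℤ V} (h : Sys G ε) :
    ∑ η ∈ orb ε (⊤ : Subgroup G), η = 1 := by
  refine inv_idem hi (h.sum_idem ⊤) (fun e => ?_) fun g => cg_sum_orb ε trivial
  have := (h.sum_mul ⊤ 1).1 trivial
  rw [e, zero_mul] at this
  exact h.ne 1 this.symm

theorem exists_max_sys (hi : Irr G V) (h : ∃ ε : Module.End ℤ V, Sys G ε) :
    ∃ ε : Module.End ℤ V, Sys G ε ∧ IsCoatom (stab G ε) := by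
  obtain ⟨H, ⟨ε, hε, rfl⟩, hm⟩ := exists_maximal_of_wellFoundedGT
    (fun H : Subgroup G => ∃ ε : Module.End ℤ V, Sys G ε ∧ stab G ε = H)
    (let ⟨ε, hε⟩ := h; ⟨_, ε, hε, rfl⟩)
  refine ⟨ε, hε, fun e => hε.2.2.1 (inv_idem hi hε.1 hε.2.1 fun g => ?_), fun L hL => ?_⟩
  · exact (e ▸ mem_top g : g ∈ stab G ε)
  by_contra hT
  have hout : ∀ a, a ∉ L → ∀ b ∈ L, cg (a * b) ε ∉ orb ε L := by
    intro a ha b hb hh
    obtain ⟨g, hg, e⟩ := mem_orb.1 hh
    have := L.mul_mem (L.mul_mem hg (hL.le (cg_eq_iff.1 e))) (L.inv_mem hb)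
    exact ha (by simpa [mul_assoc] using this)
  obtain ⟨a, ha⟩ : ∃ a, a ∉ L := by
    by_contra hh
    push Not at hh
    exact hT (eq_top_iff.2 fun g _ => hh g)
  have hs : Sys G (∑ η ∈ orb ε L, η) := by
    refine ⟨hε.sum_idem L, fun e => ?_, fun e => ?_, fun g => ?_⟩
    · have := (hε.sum_mul L 1).1 L.one_mem
      rw [e, zero_mul] at this
      exact hε.ne 1 this.symm
    · have := (hε.sum_mul L (a * 1)).2 (hout a ha 1 L.one_mem)
      rw [e, one_mul] at this
      exact hε.ne _ this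
    · by_cases hg : g ∈ L
      · exact Or.inl (cg_sum_orb ε hg)
      · right
        apply cg_inj g⁻¹
        rw [map_mul, ← cg_mul, inv_mul_cancel, cg_one, map_zero, map_sum, Finset.mul_sum]
        refine Finset.sum_eq_zero fun η hη => ?_
        obtain ⟨b, hb, rfl⟩ := mem_orb.1 hη
        rw [← cg_mul]
        exact (hε.sum_mul L _).2 (hout _ (fun hh => hg (by simpa using L.inv_mem hh)) b hb)
  have h1 : L ≤ stab G (∑ η ∈ orb ε L, η) := fun g hg => cg_sum_orb ε hg
  exact hL.not_ge (h1.trans (hm ⟨_, hs, rfl⟩ (hL.le.trans h1)))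

theorem imp [Group.IsSolvable G] (hi : Irr G V) (h : ∃ ε : Module.End ℤ V, Sys G ε) :
    ∃ (H : Subgroup G) (X S M : Type u) (_ : AddCommGroup X) (_ : Finite X)
      (_ : DistribMulAction H X) (_ : Group S) (_ : Finite S) (_ : AddCommGroup M) (_ : Finite M)
      (_ : DistribMulAction S M), Nontrivial X ∧ Irr H X ∧ Group.IsSolvable S ∧ Nontrivial M ∧
      Irr S M ∧ Nat.card S ∣ Nat.card G ∧ Nat.card M ∣ Nat.card G ∧
      Nat.card V = Nat.card X ^ Nat.card M ∧
      ord G V ≤ ord H X ^ Nat.card M * Nat.card M * ord S M ∧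
      ∀ (k m : ℕ), m.Prime → Col S M m → Reg H X k m → Reg G V k m := by
  classical
  obtain ⟨ε, hε, hH⟩ := exists_max_sys hi h
  set H := stab G ε with hHdef
  obtain ⟨S, M, _, _, _, _, _, pt, hS, hM, hirr, hd1, hd2, hidx, hinj, haff⟩ := affine hH
  let X : AddSubgroup V := (LinearMap.range ε).toAddSubgroup
  have hX : Inv H V X := by
    rintro g _ ⟨v, rfl⟩
    exact ⟨(g : G) • v, by rw [Subgroup.smul_def, ← cg_smul, g.2]⟩
  let _ := subAct X hX
  have hεX : ∀ x : X, ε x = x := by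
    rintro ⟨_, v, rfl⟩
    exact LinearMap.congr_fun hε.1 v
  have _ : Fintype M := Fintype.ofFinite M
  have hproj : ∀ m m' (x : X), cg (pt m) ε (pt m' • (x : V)) = if m = m' then pt m' • (x : V) else 0 := by
    intro m m' x
    split_ifs with e
    · rw [e, cg_smul, hεX]
    · have : cg (pt m) ε * cg (pt m') ε = 0 := hε.orth fun e' => e (hinj _ _ (cg_eq_iff.1 e'))
      have h2 := LinearMap.congr_fun this (pt m' • (x : V))
      rwa [Module.End.mul_apply, cg_smul, hεX] at h2
  let Φ : (M → X) → V := fun w => ∑ m, pt m • (w m : V)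
  have hΦ : ∀ w m, cg (pt m) ε (Φ w) = pt m • (w m : V) := by
    intro w m
    simp only [Φ, map_sum, hproj, Finset.sum_ite_eq, Finset.mem_univ, if_true]
  have hsum : ∀ v : V, ∑ m, cg (pt m) ε v = v := by
    intro v
    have h1 : ∑ m, cg (pt m) ε = ∑ η ∈ orb ε (⊤ : Subgroup G), η := by
      refine Finset.sum_bij (fun m _ => cg (pt m) ε) (fun m _ => mem_orb.2 ⟨_, trivial, rfl⟩)
        (fun a _ b _ e => hinj _ _ (cg_eq_iff.1 e)) ?_ (fun _ _ => rfl)
      intro η hη
      obtain ⟨g, -, rfl⟩ := mem_orb.1 hη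
      obtain ⟨t, s, h1, -⟩ := haff (g * (pt 0)⁻¹)
      refine ⟨t + s • 0, Finset.mem_univ _, cg_eq_iff.2 ?_⟩
      simpa [mul_assoc] using h1 0
    rw [← LinearMap.sum_apply, h1, hε.sum_top hi, Module.End.one_apply]
  have hsurj : ∀ v, ∃ w, Φ w = v := fun v =>
    ⟨fun m => ⟨ε ((pt m)⁻¹ • v), _, rfl⟩, hsum v⟩
  have hact : ∀ (g : G) (w w' : M → X) (m m' : M) (h1 : (pt m')⁻¹ * g * pt m ∈ H),
      g • Φ w = Φ w' → (⟨_, h1⟩ : H) • w m = w' m' := by
    intro g w w' m m' h1 e
    have h2 := hΦ w' m'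
    rw [← e, cg_eq_iff.2 (show (pt m')⁻¹ * (g * pt m) ∈ H by rwa [← mul_assoc]), cg_mul, cg_smul,
      hΦ] at h2
    apply Subtype.ext
    show ((pt m')⁻¹ * g * pt m) • (w m : V) = w' m'
    rw [mul_smul, mul_smul, h2, inv_smul_smul]
  have htriv : ∀ g : G, (∀ m (x : X), ((pt m)⁻¹ * g * pt m) • (x : V) = x) → ∀ v : V, g • v = v := by
    intro g hg v
    obtain ⟨w, rfl⟩ := hsurj v
    simp only [Φ, Finset.smul_sum]
    refine Finset.sum_congr rfl fun m _ => ?_
    have := hg m (w m)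
    rwa [mul_smul, mul_smul, inv_smul_eq_iff] at this
  refine ⟨H, X, S, M, inferInstance, inferInstance, inferInstance, inferInstance, inferInstance,
    inferInstance, inferInstance, inferInstance, ?_, ?_, hS, hM, hirr, hd1, hd2, ?_, ?_, ?_⟩
  · refine (AddSubgroup.nontrivial_iff_ne_bot X).2 fun e => hε.2.1 (LinearMap.ext fun v => ?_)
    have : ε v ∈ X := ⟨v, rfl⟩
    rw [e] at this
    exact this
  · intro Y hY
    let Z : AddSubgroup V :=
      { carrier := {v | ∀ g : G, ∃ y ∈ Y, (y : V) = ε (g • v)}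
        zero_mem' := fun g => ⟨0, Y.zero_mem, by simp⟩
        add_mem' := fun {a b} ha hb g => by
          obtain ⟨y, hy, e⟩ := ha g
          obtain ⟨y', hy', e'⟩ := hb g
          exact ⟨y + y', Y.add_mem hy hy', by simp [e, e']⟩
        neg_mem' := fun {a} ha g => by
          obtain ⟨y, hy, e⟩ := ha g
          exact ⟨-y, Y.neg_mem hy, by simp [e]⟩ }
    rcases hi Z (fun g v hv g' => by simpa [mul_smul] using hv (g' * g)) with e | e
    · left
      rw [eq_bot_iff]
      intro y hy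
      have : (y : V) ∈ Z := by
        intro g
        by_cases hg : g ∈ H
        · exact ⟨(⟨g, hg⟩ : H) • y, hY _ y hy, (hεX ((⟨g, hg⟩ : H) • y)).symm⟩
        · refine ⟨0, Y.zero_mem, ?_⟩
          have h1 : cg (1 : G) ε * cg g ε = 0 :=
            hε.orth fun e' => hg (by simpa using cg_eq_iff.1 e')
          have h2 := LinearMap.congr_fun h1 (g • (y : V))
          rw [Module.End.mul_apply, cg_smul, hεX, cg_one] at h2
          exact h2.symm
      rw [e] at this
      exact AddSubgroup.mem_bot.2 (Subtype.ext this)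
    · right
      rw [eq_top_iff]
      intro x _
      obtain ⟨y, hy, e'⟩ := (e ▸ trivial : (x : V) ∈ Z) 1
      rw [one_smul, hεX] at e'
      exact Subtype.ext e' ▸ hy
  · rw [← Nat.card_fun]
    refine (Nat.card_eq_of_bijective Φ ⟨fun w w' e => funext fun m => ?_, hsurj⟩).symm
    have := hΦ w m
    rw [e, hΦ] at this
    exact Subtype.ext (MulAction.injective _ this).symm
  · let N := H.normalCore
    let φ : M → (N →* H) := fun m =>
      { toFun := fun g => ⟨(pt m)⁻¹ * g * pt m, normalCore_le H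
          (by simpa using (normalCore_normal H).conj_mem _ g.2 (pt m)⁻¹)⟩
        map_one' := Subtype.ext (by simp)
        map_mul' := fun a b => Subtype.ext (by simp [mul_assoc]) }
    have h1 : (⨅ m, (ker H X).comap (φ m)) ≤ (ker G V).subgroupOf N := by
      intro g hg
      refine mem_ker.2 (htriv g fun m x => ?_)
      exact congrArg Subtype.val (mem_ker.1 (mem_iInf.1 hg m) x)
    have h2 : (ker G V).relIndex N ≤ ord H X ^ Nat.card M := by
      refine (index_antitone h1).trans ((index_iInf_le _).trans ?_)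
      rw [Nat.card_eq_fintype_card, ← Finset.card_univ, ← Finset.prod_const]
      refine Finset.prod_le_prod' fun m _ => ?_
      rw [index_comap, ord, ← relIndex_top_right]
      exact relIndex_le_of_le_right le_top (by rw [relIndex_top_right]; exact index_ne_zero_of_finite)
    calc ord G V ≤ (ker G V ⊓ N).index := index_antitone inf_le_left
      _ = (ker G V).relIndex N * N.index := by
        rw [← relIndex_mul_index (inf_le_right : ker G V ⊓ N ≤ N), inf_relIndex_right]
      _ ≤ _ := by rw [hidx, mul_assoc]; exact Nat.mul_le_mul_right _ h2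
  · rintro k m hm ⟨col, hcol, c, c', hcc⟩ ⟨r, hr⟩
    have := Fact.mk hm
    refine ⟨fun i l => Φ fun y => r (col y + i) l, fun i j g hg => ?_⟩
    obtain ⟨t, s, h1, h2⟩ := haff g
    have h3 : ∀ y, col y + i = col (t + s • y) + j ∧ ∀ x : X, (⟨_, h1 y⟩ : H) • x = x := fun y =>
      hr _ _ _ (funext fun l => hact g _ _ y _ (h1 y) (congrFun hg l))
    have hij : i = j := by
      by_contra hne
      have h4 : ∀ d, Nat.card {x // col x = d} = Nat.card {x // col x = d + (i - j)} := by
        intro d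
        refine Nat.card_congr (Equiv.subtypeEquiv
          ((MulAction.toPerm s).trans (Equiv.addLeft t)) fun y => ?_)
        have := (h3 y).1
        show col y = d ↔ col (t + s • y) = d + (i - j)
        exact ⟨fun e => by linear_combination e - this, fun e => by linear_combination e + this⟩
      have h5 : ∀ n : ℕ, Nat.card {x // col x = c} = Nat.card {x // col x = c + n * (i - j)} := by
        intro n
        induction n with
        | zero => simp
        | succ n ih =>
          have : c + ((n + 1 : ℕ) : ZMod m) * (i - j) = c + n * (i - j) + (i - j) := by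
            push_cast; ring
          rw [this, ← h4, ← ih]
      apply hcc
      rw [h5 ((c' - c) / (i - j)).val, ZMod.natCast_zmod_val, div_mul_cancel₀ _ (sub_ne_zero.2 hne),
        add_sub_cancel]
    subst hij
    obtain ⟨ht, hs⟩ := hcol t s fun y => (add_right_cancel (h3 y).1).symm
    refine ⟨rfl, htriv g fun y x => ?_⟩
    have h4 := congrArg Subtype.val ((h3 y).2 x)
    have h5 : t + s • y = y := by rw [ht, hs, zero_add]
    change ((pt (t + s • y))⁻¹ * g * pt y) • (x : V) = x at h4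
    rwa [h5] at h4

end Imp

end H6.BS
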