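import Cfsg.Agent.H6.BS2

/-! Base sizes of solvable linear groups III: the structure of a primitive solvable linear group. -/

set_option autoImplicit false
set_option linter.unusedSectionVars false

open Cfsg Subgroup

namespace H6.BS
open H19
open scoped commutatorElement

universe u

theorem exists_pow_idem {R : Type*} [Monoid R] [Finite R] (a : R) :
    ∃ N, 0 < N ∧ a ^ N * a ^ N = a ^ N := by
  obtain ⟨i, j, hij, e⟩ : ∃ i j : ℕ, i < j ∧ a ^ (i + 1) = a ^ (j + 1) := by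
    obtain ⟨i, j, hne, e⟩ := Finite.exists_ne_map_eq_of_infinite (fun n : ℕ => a ^ (n + 1))
    rcases lt_or_gt_of_ne hne with h | h
    exacts [⟨i, j, h, e⟩, ⟨j, i, h, e.symm⟩]
  obtain ⟨d, rfl⟩ := Nat.exists_eq_add_of_lt hij
  have h : ∀ t, a ^ (i + 1 + (d + 1) * t) = a ^ (i + 1) := by
    intro t
    induction t with
    | zero => simp
    | succ t ih =>
      rw [show i + 1 + (d + 1) * (t + 1) = (i + d + 1 + 1) + (d + 1) * t by ring, pow_add, ← e,
        ← pow_add, ih]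
  refine ⟨(i + 1) * (d + 1), by positivity, ?_⟩
  rw [← pow_add, show (i + 1) * (d + 1) + (i + 1) * (d + 1) =
    (i + 1 + (d + 1) * (i + 1)) + (i + 1) * d by ring, pow_add, h, ← pow_add]
  congr 1; ring

section Field
variable {G V : Type u} [Group G] [Finite G] [AddCommGroup V] [Finite V] [DistribMulAction G V]

theorem field_of_no_sys [Nontrivial V] (hi : Irr G V) (hns : ¬ ∃ ε : Module.End ℤ V, Sys G ε)
    (K : Subring (Module.End ℤ V)) (hc : ∀ a ∈ K, ∀ b ∈ K, a * b = b * a)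
    (hK : ∀ g : G, ∀ a ∈ K, cg g a ∈ K) : IsField K := by
  have hfin : Finite (Module.End ℤ V) := DFunLike.finite _
  let rk : Module.End ℤ V → ℕ := fun a => Nat.card (LinearMap.range a)
  obtain ⟨b, ⟨hb, hb0⟩, hmin⟩ := exists_minimalFor_of_wellFoundedLT
    (fun a : Module.End ℤ V => a ∈ K ∧ a ≠ 0) rk ⟨1, K.one_mem, one_ne_zero⟩
  have hmin' : ∀ a ∈ K, a ≠ 0 → rk b ≤ rk a := fun a ha h0 => by
    by_contra hh
    exact hh (hmin ⟨ha, h0⟩ (le_of_not_ge hh))
  have heq : ∀ a c : Module.End ℤ V, LinearMap.range a ≤ LinearMap.range c → rk c ≤ rk a →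
      LinearMap.range a = LinearMap.range c := fun a c h1 h2 =>
    Submodule.toAddSubgroup_injective (AddSubgroup.eq_of_le_of_card_ge h1 h2)
  have hnil : ∀ a ∈ K, IsNilpotent a → a = 0 := by
    let Z : AddSubgroup V :=
      { carrier := {v | ∀ a ∈ K, IsNilpotent a → a v = 0}
        zero_mem' := fun a _ _ => map_zero a
        add_mem' := fun {x y} hx hy a ha hn => by rw [map_add, hx a ha hn, hy a ha hn, add_zero]
        neg_mem' := fun {x} hx a ha hn => by rw [map_neg, hx a ha hn, neg_zero] }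
    have hZ : ∀ v, b v ∈ Z := by
      intro v a ha ⟨n, hn⟩
      by_contra h0
      have h1 : a * b ≠ 0 := fun e => h0 (LinearMap.congr_fun e v)
      have h2 := heq (a * b) b (by rw [hc a ha b hb]; exact LinearMap.range_comp_le_range _ _)
        (hmin' _ (K.mul_mem ha hb) h1)
      have h3 : ∀ j : ℕ, ∀ w, ∃ w', b w = (a ^ j) (b w') := by
        intro j
        induction j with
        | zero => exact fun w => ⟨w, rfl⟩
        | succ j ih =>
          intro w
          obtain ⟨w', e⟩ := ih w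
          obtain ⟨w'', e'⟩ : b w' ∈ LinearMap.range (a * b) := h2 ▸ ⟨w', rfl⟩
          exact ⟨w'', by rw [e, ← e', pow_succ]; rfl⟩
      obtain ⟨w', e⟩ := h3 n v
      rw [hn] at e
      exact h0 (by rw [e]; simp)
    rcases hi Z (fun g v hv a ha hn => by
      have := hv (cg g⁻¹ a) (hK _ a ha) (hn.map _)
      rw [cg_apply, inv_inv, smul_eq_zero_iff_eq] at this
      exact this) with e | e
    · exact absurd (LinearMap.ext fun v => by
        have := hZ v
        rw [e] at this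
        exact this) hb0
    · exact fun a ha hn => LinearMap.ext fun v => (e ▸ trivial : v ∈ Z) a ha hn
  obtain ⟨N, hN, hε⟩ := exists_pow_idem b
  set ε := b ^ N with hεd
  have hεK : ε ∈ K := K.pow_mem hb N
  have hε0 : ε ≠ 0 := fun e => hb0 (hnil b hb ⟨N, e⟩)
  have hεb : rk ε ≤ rk b := by
    obtain ⟨M, rfl⟩ := Nat.exists_eq_add_of_lt hN
    refine AddSubgroup.card_le_of_le (H := (LinearMap.range ε).toAddSubgroup)
      (K := (LinearMap.range b).toAddSubgroup) ?_
    rintro _ ⟨v, rfl⟩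
    exact ⟨(b ^ (0 + M)) v, by rw [hεd, pow_succ']; rfl⟩
  have hε1 : ε = 1 := by
    by_contra h1
    refine hns ⟨ε, hε, hε0, h1, fun g => ?_⟩
    by_contra hh
    push Not at hh
    have hη := hK g ε hεK
    have h2 := heq (cg g ε * ε) ε (by rw [hc _ hη _ hεK]; exact LinearMap.range_comp_le_range _ _)
      (hεb.trans (hmin' _ (K.mul_mem hη hεK) hh.2))
    have h3 : rk (cg g ε) ≤ rk ε := by
      refine Nat.card_le_card_of_surjective (fun x : LinearMap.range ε =>
        (⟨g • (x : V), by obtain ⟨_, v, rfl⟩ := x; exact ⟨g • v, cg_smul _ _ _⟩⟩ :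
          LinearMap.range (cg g ε))) ?_
      rintro ⟨_, v, rfl⟩
      exact ⟨⟨_, g⁻¹ • v, rfl⟩, rfl⟩
    have h4 := heq ε (cg g ε) (h2 ▸ LinearMap.range_comp_le_range _ _) h3
    apply hh.1
    have h5 : ε * cg g ε = cg g ε := LinearMap.ext fun v => by
      obtain ⟨w, e⟩ : cg g ε v ∈ LinearMap.range ε := h4 ▸ ⟨v, rfl⟩
      rw [Module.End.mul_apply, ← e]
      exact LinearMap.congr_fun hε w
    have h6 : cg g ε * ε = ε := LinearMap.ext fun v => by
      obtain ⟨w, e⟩ : ε v ∈ LinearMap.range (cg g ε) := h4 ▸ ⟨v, rfl⟩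
      rw [Module.End.mul_apply, ← e, ← Module.End.mul_apply, ← map_mul, hε]
    rw [← h5, hc _ hεK _ hη, h6]
  refine ⟨⟨0, 1, zero_ne_one⟩, fun a c => Subtype.ext (hc _ a.2 _ c.2), fun {a} ha => ?_⟩
  obtain ⟨M, hM, hη⟩ := exists_pow_idem (a : Module.End ℤ V)
  have hη0 : (a : Module.End ℤ V) ^ M ≠ 0 := fun e => ha (Subtype.ext (hnil _ a.2 ⟨M, e⟩))
  have h1 := heq ((a : Module.End ℤ V) ^ M) 1 (fun v _ => ⟨v, rfl⟩)
    (hε1 ▸ hεb.trans (hmin' _ (K.pow_mem a.2 M) hη0))
  obtain ⟨M', rfl⟩ := Nat.exists_eq_add_of_lt hM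
  refine ⟨a ^ (0 + M'), Subtype.ext (LinearMap.ext fun v => ?_)⟩
  obtain ⟨w, rfl⟩ : v ∈ LinearMap.range ((a : Module.End ℤ V) ^ (0 + M' + 1)) := h1 ▸ ⟨v, rfl⟩
  rw [← pow_succ']
  exact LinearMap.congr_fun hη w

end Field

/-- the socle of `Γ` inside a normal subgroup is a completely reducible module -/
theorem exists_socle {Γ : Type u} [Group Γ] [Finite Γ] [Group.IsSolvable Γ] (A : Subgroup Γ)
    [A.Normal] : ∃ (W : Subgroup Γ) (_ : W.Normal) (_ : IsMulCommutative W), W ≤ A ∧ CR Γ (Ad W) ∧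
      ∀ N : Subgroup Γ, N.Normal → N ≤ A → N ≠ ⊥ → N ⊓ W ≠ ⊥ := by
  let S : Set (Subgroup Γ) := {M | M.Normal ∧ M ≤ A ∧ M ≠ ⊥ ∧
    ∀ K : Subgroup Γ, K.Normal → K ≤ M → K = ⊥ ∨ K = M}
  have hn : (sSup S).Normal := sSup_normal _ fun _ h => h.1
  have hcomm : ∀ M ∈ S, ∀ M' ∈ S, M ≤ C(M') := by
    rintro M ⟨h1, -, h3, h4⟩ M' ⟨h1', -, h3', h4'⟩
    rcases h4 (M ⊓ M') inferInstance inf_le_left with e | e
    · rw [← commutator_eq_bot_iff_le_centralizer]
      exact H19.eq_bot_mono (commutator_le_inf M M') e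
    · rcases h4' M h1 (inf_eq_left.1 e) with e' | e'
      · exact absurd e' h3
      · subst e'
        obtain ⟨p, -, hab, -⟩ := El.min_abelem h3 h4
        exact comm_iff_le_cent.1 hab
  have hab : IsMulCommutative ↥(sSup S) := comm_iff_le_cent.2
    (sSup_le fun M hM => le_centralizer_iff.1 (sSup_le fun M' hM' => hcomm M' hM' M hM))
  refine ⟨sSup S, hn, hab, sSup_le fun M hM => hM.2.1, fun X hX => ?_, fun N hN hA h0 => ?_⟩
  · have hXn : (Ad.up X).Normal := ⟨by
      rintro _ ⟨x, hx, rfl⟩ g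
      exact ⟨g • x, hX g x hx, rfl⟩⟩
    obtain ⟨Y, ⟨h1, h2, h3⟩, hm⟩ := exists_maximal_of_wellFoundedGT
      (fun Y : Subgroup Γ => Y.Normal ∧ Y ≤ sSup S ∧ Ad.up X ⊓ Y = ⊥)
      ⟨⊥, inferInstance, bot_le, inf_bot_eq _⟩
    have hle : sSup S ≤ Ad.up X ⊔ Y := by
      refine sSup_le fun M hM => ?_
      obtain ⟨k1, k2, k3, k4⟩ := hM
      rcases k4 (M ⊓ (Ad.up X ⊔ Y)) inferInstance inf_le_left with e | e
      · have h5 : Ad.up X ⊓ (Y ⊔ M) = ⊥ := by
          rw [eq_bot_iff]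
          rintro x ⟨hx, hy'⟩
          obtain ⟨y, hy, m, hm, rfl⟩ := mem_sup_of_normal_right.1 hy'
          have : m ∈ M ⊓ (Ad.up X ⊔ Y) := ⟨hm, by
            have := mul_mem (mem_sup_right (inv_mem hy) : y⁻¹ ∈ Ad.up X ⊔ Y) (mem_sup_left hx)
            simpa using this⟩
          rw [e, mem_bot] at this
          subst this
          rw [← h3]
          exact ⟨hx, by simpa using hy⟩
        have := hm ⟨inferInstance, sup_le h2 (le_sSup ⟨k1, k2, k3, k4⟩), h5⟩ le_sup_left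
        exact (le_sup_right.trans this).trans le_sup_right
      · exact inf_eq_left.1 e
    refine ⟨Ad.down Y, fun g y hy => h1.conj_mem _ hy g, ?_, ?_⟩
    · rw [eq_bot_iff]
      rintro x ⟨hx, hy⟩
      have : x.val ∈ Ad.up X ⊓ Y := ⟨Ad.mem_up.2 hx, hy⟩
      rw [h3] at this
      exact AddSubgroup.mem_bot.2 (Ad.ext this)
    · rw [eq_top_iff]
      intro w _
      obtain ⟨_, ⟨x, hx, rfl⟩, y, hy, e⟩ := mem_sup_of_normal_right.1 (hle w.val_mem)
      exact AddSubgroup.mem_sup.2 ⟨x, hx, Ad.mk y (h2 hy), hy, Ad.ext e⟩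
  · obtain ⟨M, h1, h2, h3, h4⟩ := exists_min_normal h0
    exact fun e => h3 (H19.eq_bot_mono (le_inf h2 (le_sSup (s := S) ⟨h1, h2.trans hA, h3, h4⟩)) e)

/-- the data attached to a primitive solvable linear group -/
structure Prim {G V K W : Type u} [Group G] [AddCommGroup V] [DistribMulAction G V] [Field K]
    [Module K V] [AddCommGroup W] [DistribMulAction G W] (U A E : Subgroup G) (sc : G → Kˣ)
    (σ : G →* RingAut K) (π : G → W) : Prop where
  nU : U.Normal
  nE : E.Normal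
  UE : U ≤ E
  EA : E ≤ A
  hsc : ∀ x ∈ U, ∀ v : V, x • v = (sc x : K) • v
  hσ : ∀ (g : G) (a : K) (v : V), g • a • v = σ g a • g • v
  hA : A = σ.ker
  cent : ∀ g, (∀ x ∈ U, g * x = x * g) → g ∈ A
  π_mul : ∀ x ∈ E, ∀ y ∈ E, π (x * y) = π x + π y
  π_zero : ∀ x ∈ E, π x = 0 ↔ x ∈ U
  π_surj : ∀ w, ∃ x ∈ E, π x = w
  π_conj : ∀ g, ∀ x ∈ E, π (g * x * g⁻¹) = g • π x
  cr : CR G W
  centE : ∀ g ∈ A, (∀ x ∈ E, g * x = x * g) → g ∈ U

theorem exists_prim {G V : Type u} [Group G] [Finite G] [Group.IsSolvable G] [AddCommGroup V]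
    [Finite V] [DistribMulAction G V] [FaithfulSMul G V] [Nontrivial V] (hi : Irr G V)
    (hns : ¬ ∃ ε : Module.End ℤ V, Sys G ε) :
    ∃ (K W : Type u) (_ : Field K) (_ : Finite K) (_ : Module K V) (_ : AddCommGroup W)
      (_ : Finite W) (_ : DistribMulAction G W) (U A E : Subgroup G) (sc : G → Kˣ)
      (σ : G →* RingAut K) (π : G → W), Prim (V := V) U A E sc σ π := by
  classical
  obtain ⟨U, ⟨hUn, hUc⟩, hUm⟩ := exists_maximal_of_wellFoundedGT
    (fun U : Subgroup G => U.Normal ∧ U ≤ C(U)) ⟨⊥, inferInstance, bot_le⟩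
  let K := Subring.closure (ρ G V '' U)
  have hUK : ∀ x ∈ U, ρ G V x ∈ K := fun x hx => Subring.subset_closure ⟨x, hx, rfl⟩
  have hcK : ∀ g : G, g ∈ C(U) → ∀ a ∈ K, ρ G V g * a = a * ρ G V g := by
    intro g hg a ha
    have : K ≤ Subring.centralizer {ρ G V g} := Subring.closure_le.2 (by
      rintro _ ⟨x, hx, rfl⟩ _ rfl
      rw [← map_mul, ← map_mul, hg x hx])
    exact this ha _ rfl
  have hc : ∀ a ∈ K, ∀ b ∈ K, a * b = b * a := by
    intro a ha b hb
    have : K ≤ Subring.centralizer {b} := Subring.closure_le.2 (by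
      rintro _ ⟨x, hx, rfl⟩ _ rfl
      exact (hcK x (hUc hx) _ hb).symm)
    exact (this ha _ rfl).symm
  have hK : ∀ g : G, ∀ a ∈ K, cg g a ∈ K := by
    intro g a ha
    have : K ≤ K.comap (cg g) := Subring.closure_le.2 (by
      rintro _ ⟨x, hx, rfl⟩
      show cg g (ρ G V x) ∈ K
      rw [cg_ρ]; exact hUK _ (hUn.conj_mem x hx g))
    exact this ha
  have hF := field_of_no_sys hi hns K hc hK
  let fK : Field K := hF.toField
  have hfin : Finite (Module.End ℤ V) := DFunLike.finite _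
  let _ : MulSemiringAction G K :=
    { smul := fun g a => ⟨cg g a, hK g a a.2⟩
      one_smul := fun a => Subtype.ext (cg_one _)
      mul_smul := fun g h a => Subtype.ext (cg_mul _ _ _)
      smul_zero := fun g => Subtype.ext (map_zero _)
      smul_add := fun g a b => Subtype.ext (map_add _ _ _)
      smul_one := fun g => Subtype.ext (map_one _)
      smul_mul := fun g a b => Subtype.ext (map_mul _ _ _) }
  let σ : G →* RingAut K := MulSemiringAction.toRingAut G K
  have hσ : ∀ g (a : K), ((σ g a : K) : Module.End ℤ V) = cg g a := fun _ _ => rfl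
  have hA : C(U) = σ.ker := by
    ext g
    rw [MonoidHom.mem_ker]
    constructor
    · intro hg
      ext a v
      show (ρ G V g * a * ρ G V g⁻¹) v = (a : Module.End ℤ V) v
      rw [hcK g hg a a.2, mul_assoc, ← map_mul, mul_inv_cancel, map_one, mul_one]
    · intro hg x hx
      have h1 := hσ g ⟨_, hUK x hx⟩
      rw [hg] at h1
      have h2 : ρ G V x = ρ G V (g * x * g⁻¹) := h1.trans (cg_ρ _ _)
      have h3 : x = g * x * g⁻¹ :=
        FaithfulSMul.eq_of_smul_eq_smul (α := V) fun v => LinearMap.congr_fun h2 v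
      rw [eq_mul_inv_iff_mul_eq] at h3
      exact h3
  let mk := QuotientGroup.mk' U
  have hmk : Function.Surjective mk := QuotientGroup.mk'_surjective U
  have hAn : (C(U).map mk).Normal := Normal.map inferInstance _ hmk
  obtain ⟨W, hWn, hWc, hWA, hcr, hsoc⟩ := exists_socle (C(U).map mk)
  let _ : DistribMulAction G (Ad W) := DistribMulAction.compHom _ mk
  have hker : ∀ x, mk x = 1 ↔ x ∈ U := fun x => QuotientGroup.eq_one_iff x
  have hEA : W.comap mk ≤ C(U) := by
    refine (comap_mono hWA).trans ?_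
    rw [comap_map_eq, QuotientGroup.ker_mk']
    exact sup_le le_rfl hUc
  let π : G → Ad W := fun x => if h : mk x ∈ W then Ad.mk _ h else 0
  have hπ : ∀ x ∈ W.comap mk, (π x).val = mk x := fun x hx => by
    simp only [π, dif_pos (mem_comap.1 hx), Ad.val_mk]
  let sc : G → Kˣ := fun x => if h : x ∈ U then
    ⟨⟨_, hUK x h⟩, ⟨_, hUK x⁻¹ (U.inv_mem h)⟩,
      Subtype.ext (by show ρ G V x * ρ G V x⁻¹ = 1; rw [← map_mul, mul_inv_cancel, map_one]),
      Subtype.ext (by show ρ G V x⁻¹ * ρ G V x = 1; rw [← map_mul, inv_mul_cancel, map_one])⟩ else 1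
  refine ⟨K, Ad W, fK, inferInstance, inferInstanceAs (Module K V), inferInstance, inferInstance,
    inferInstance, U, C(U), W.comap mk, sc, σ, π, hUn, inferInstance, fun x hx => ?_, hEA,
    fun x hx v => ?_, fun g a v => (cg_smul g (a : Module.End ℤ V) v).symm, hA,
    fun g hg x hx => (hg x hx).symm, fun x hx y hy => Ad.ext ?_, fun x hx => ?_, fun w => ?_,
    fun g x hx => Ad.ext ?_, fun X hX => ?_, fun g hg h => ?_⟩
  · rw [mem_comap, (hker x).2 hx]; exact W.one_mem
  · simp only [sc, dif_pos hx]; rfl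
  · rw [Ad.val_add, hπ _ (mul_mem hx hy), hπ _ hx, hπ _ hy, map_mul]
  · rw [← hker, ← hπ x hx]
    exact ⟨fun e => by rw [e]; rfl, fun e => Ad.ext e⟩
  · obtain ⟨x, hx⟩ := hmk w.val
    have : x ∈ W.comap mk := by rw [mem_comap, hx]; exact w.val_mem
    exact ⟨x, this, Ad.ext (by rw [hπ x this, hx])⟩
  · rw [hπ _ ((inferInstance : (W.comap mk).Normal).conj_mem x hx g)]
    show _ = mk g * (π x).val * (mk g)⁻¹
    rw [hπ x hx, map_mul, map_mul, map_inv]
  · obtain ⟨Y, h1, h2⟩ := hcr X fun a x hx => by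
      obtain ⟨g, rfl⟩ := hmk a
      exact hX g x hx
    exact ⟨Y, fun g y hy => h1 (mk g) y hy, h2⟩
  · set E := W.comap mk
    have hZ : C(U) ⊓ C(E) ⊓ E ≤ U := by
      refine le_sup_right.trans (hUm ⟨inferInstance, ?_⟩ (le_sup_left : U ≤ U ⊔ _))
      have hUE : U ≤ E := fun x hx => by
        rw [mem_comap, (hker x).2 hx]; exact W.one_mem
      refine le_trans ?_ (centralizer_le (sup_le hUE inf_le_right))
      exact sup_le (le_centralizer_iff.1 hEA) (inf_le_left.trans inf_le_right)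
    by_contra hgU
    refine hsoc ((C(U) ⊓ C(E)).map mk) (Normal.map inferInstance _ hmk) (map_mono inf_le_left)
      (fun e => hgU ?_) ?_
    · have : mk g ∈ (C(U) ⊓ C(E)).map mk := mem_map_of_mem _ ⟨hg, fun x hx => (h x hx).symm⟩
      rw [e] at this
      exact (hker g).1 this
    · rw [eq_bot_iff]
      rintro _ ⟨⟨x, hx, rfl⟩, hW⟩
      exact (hker x).2 (hZ ⟨hx, hW⟩)

/-- the trichotomy -/
theorem tri {G V : Type u} [Group G] [Finite G] [AddCommGroup V] [Finite V]
    [DistribMulAction G V] : ¬ Irr G V ∨ (Irr G V ∧ ∃ ε : Module.End ℤ V, Sys G ε) ∨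
      (Irr G V ∧ ¬ ∃ ε : Module.End ℤ V, Sys G ε) := by tauto

end H6.BS
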