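import Cfsg.Agent.H6.BS1

/-! Base sizes of solvable linear groups IV: alternating forms on finite abelian groups. -/

set_option autoImplicit false
set_option linter.unusedSectionVars false

namespace H6.BS

universe u v

section Form
variable {W : Type u} [AddCommGroup W] [Finite W] {Z : Type u} [CommGroup Z] [Finite Z]
  [IsCyclic Z]

structure Alt (β : W → W → Z) : Prop where
  add_left : ∀ x y z, β (x + y) z = β x z * β y z
  add_right : ∀ x y z, β x (y + z) = β x y * β x z
  self : ∀ x, β x x = 1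

structure Form (β : W → W → Z) : Prop extends Alt β where
  nondeg : ∀ x, (∀ y, β x y = 1) → x = 0

variable {β : W → W → Z}

namespace Alt
variable (h : Alt β)
include h

theorem zero_left (y : W) : β 0 y = 1 := by
  have := h.add_left 0 0 y
  rw [add_zero] at this
  exact left_eq_mul.1 this

theorem zero_right (y : W) : β y 0 = 1 := by
  have := h.add_right y 0 0
  rw [add_zero] at this
  exact left_eq_mul.1 this

theorem neg_left (x y : W) : β (-x) y = (β x y)⁻¹ := by
  rw [eq_inv_iff_mul_eq_one, ← h.add_left, neg_add_cancel, h.zero_left]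

theorem neg_right (x y : W) : β x (-y) = (β x y)⁻¹ := by
  rw [eq_inv_iff_mul_eq_one, ← h.add_right, neg_add_cancel, h.zero_right]

theorem sub_left (x y z : W) : β (x - y) z = β x z * (β y z)⁻¹ := by
  rw [sub_eq_add_neg, h.add_left, h.neg_left]

theorem sub_right (x y z : W) : β x (y - z) = β x y * (β x z)⁻¹ := by
  rw [sub_eq_add_neg, h.add_right, h.neg_right]

theorem skew (x y : W) : β x y = (β y x)⁻¹ := by
  have := h.self (x + y)
  rw [h.add_left, h.add_right, h.add_right, h.self, h.self, one_mul, mul_one] at this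
  exact eq_inv_iff_mul_eq_one.2 this

theorem symm_one {x y : W} (e : β x y = 1) : β y x = 1 := by rw [h.skew, e, inv_one]

theorem nsmul_left (n : ℕ) (x y : W) : β (n • x) y = β x y ^ n := by
  induction n with
  | zero => simp [h.zero_left]
  | succ n ih => rw [succ_nsmul, h.add_left, ih, pow_succ]

theorem nsmul_right (n : ℕ) (x y : W) : β x (n • y) = β x y ^ n := by
  rw [h.skew, h.nsmul_left, h.skew x y, inv_pow]

theorem zsmul_left (n : ℤ) (x y : W) : β (n • x) y = β x y ^ n := by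
  obtain ⟨m, rfl | rfl⟩ := n.eq_nat_or_neg
  · simp [h.nsmul_left]
  · simp [h.nsmul_left, h.neg_left]

/-- the orthogonal complement -/
def perp (L : AddSubgroup W) : AddSubgroup W where
  carrier := {y | ∀ x ∈ L, β x y = 1}
  zero_mem' := fun x _ => h.zero_right x
  add_mem' := fun {a b} ha hb x hx => by rw [h.add_right, ha x hx, hb x hx, one_mul]
  neg_mem' := fun {a} ha x hx => by rw [h.neg_right, ha x hx, inv_one]

theorem mem_perp {L : AddSubgroup W} {y : W} : y ∈ h.perp L ↔ ∀ x ∈ L, β x y = 1 := Iff.rfl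

theorem perp_anti {L L' : AddSubgroup W} (hl : L ≤ L') : h.perp L' ≤ h.perp L :=
  fun _ hy x hx => hy x (hl hx)

theorem le_perp_comm {L L' : AddSubgroup W} (hl : L ≤ h.perp L') : L' ≤ h.perp L :=
  fun y hy _ hx => h.symm_one (hl hx y hy)

theorem mem_perp_zm {x y : W} : y ∈ h.perp (AddSubgroup.zmultiples x) ↔ β x y = 1 :=
  ⟨fun e => e x (AddSubgroup.mem_zmultiples x), fun e => by
    rintro _ ⟨n, rfl⟩
    simp only [h.zsmul_left, e, one_zpow]⟩

theorem perp_sup (L L' : AddSubgroup W) : h.perp (L ⊔ L') = h.perp L ⊓ h.perp L' :=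
  le_antisymm (le_inf (h.perp_anti le_sup_left) (h.perp_anti le_sup_right))
    (h.le_perp_comm (sup_le (h.le_perp_comm inf_le_left) (h.le_perp_comm inf_le_right)))

end Alt

theorem exists_emb (Z : Type u) [CommGroup Z] [Finite Z] [IsCyclic Z] :
    ∃ ι : Z →* ℂ, Function.Injective ι := by
  have : NeZero (Nat.card Z) := ⟨Nat.card_pos.ne'⟩
  let e : Z ≃* rootsOfUnity (Nat.card Z) ℂ :=
    mulEquivOfCyclicCardEq (by rw [Complex.card_rootsOfUnity])
  exact ⟨(Units.coeHom ℂ).comp ((Subgroup.subtype _).comp e.toMonoidHom),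
    Units.val_injective.comp (Subtype.val_injective.comp e.injective)⟩

/-- a homomorphism into `Z` as a complex character -/
def toChar {X : Type u} [AddCommGroup X] (ι : Z →* ℂ) (f : X → Z)
    (hf : ∀ x y, f (x + y) = f x * f y) : AddChar X ℂ where
  toFun x := ι (f x)
  map_zero_eq_one' := by
    have := hf 0 0
    rw [add_zero] at this
    rw [left_eq_mul.1 this, map_one]
  map_add_eq_mul' x y := by rw [hf, map_mul]

theorem Alt.count (h : Alt β) (L L' : AddSubgroup W) :
    Nat.card L * Nat.card ↥(L' ⊓ h.perp L) = Nat.card L' * Nat.card ↥(L ⊓ h.perp L') := by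
  classical
  obtain ⟨ι, hι⟩ := exists_emb Z
  have _ : Fintype W := Fintype.ofFinite W
  have key : ∀ (β : W → W → Z) (h : Alt β) (L L' : AddSubgroup W),
      ∑ y : L', ∑ x : L, ι (β x y) = Nat.card L * Nat.card ↥(L' ⊓ h.perp L) := by
    intro β h L L'
    have h1 : ∀ y : L', ∑ x : L, ι (β x y) = if (y : W) ∈ h.perp L then (Nat.card L : ℂ) else 0 := by
      intro y
      have := AddChar.sum_eq_ite (toChar ι (fun x : L => β x y) fun a b => h.add_left _ _ _)
      refine this.trans (if_congr ?_ (by simp) rfl)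
      constructor
      · intro e x hx
        exact hι ((DFunLike.congr_fun e ⟨x, hx⟩).trans (map_one ι).symm)
      · intro e
        ext x
        exact (congrArg ι (e x x.2)).trans (map_one ι)
    rw [Finset.sum_congr rfl fun y _ => h1 y, ← Finset.sum_filter, Finset.sum_const, nsmul_eq_mul,
      mul_comm]
    congr 2
    rw [← Fintype.card_subtype, ← Nat.card_eq_fintype_card]
    exact Nat.card_congr ⟨fun y => ⟨y.1, y.1.2, y.2⟩, fun y => ⟨⟨y.1, y.2.1⟩, y.2.2⟩,
      fun _ => rfl, fun _ => rfl⟩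
  let h' : Alt fun x y => β y x :=
    ⟨fun x y z => h.add_right _ _ _, fun x y z => h.add_left _ _ _, h.self⟩
  have h2 := key _ h' L' L
  have h3 : h'.perp L' = h.perp L' := by
    ext y
    exact ⟨fun e x hx => h.symm_one (e x hx), fun e x hx => h.symm_one (e x hx)⟩
  rw [Finset.sum_comm, key β h L L', h3] at h2
  exact_mod_cast h2

theorem Alt.sq (h : Alt β) : ∃ s, (h.perp ⊤).index = s ^ 2 := by
  obtain ⟨L, ⟨h1, h2⟩, hm⟩ := exists_maximal_of_wellFoundedGT
    (fun L : AddSubgroup W => h.perp ⊤ ≤ L ∧ L ≤ h.perp L)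
    ⟨h.perp ⊤, le_rfl, h.perp_anti le_top⟩
  have h3 : h.perp L ≤ L := by
    intro x hx
    have hx' : AddSubgroup.zmultiples x ≤ h.perp L := AddSubgroup.zmultiples_le_of_mem hx
    have h4 : L ⊔ AddSubgroup.zmultiples x ≤ h.perp (L ⊔ AddSubgroup.zmultiples x) := by
      rw [h.perp_sup]
      exact sup_le (le_inf h2 (h.le_perp_comm hx'))
        (le_inf hx' (AddSubgroup.zmultiples_le_of_mem (h.mem_perp_zm.2 (h.self x))))
    exact hm ⟨h1.trans le_sup_left, h4⟩ le_sup_left
      (AddSubgroup.mem_sup_right (AddSubgroup.mem_zmultiples x))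
  have h4 := h.count L ⊤
  rw [top_inf_eq, le_antisymm h3 h2, inf_eq_right.2 h1, AddSubgroup.card_top] at h4
  obtain ⟨s, hs⟩ := AddSubgroup.card_dvd_of_le h1
  refine ⟨s, ?_⟩
  have h5 := (h.perp ⊤).card_mul_index
  have h6 : 0 < Nat.card (h.perp ⊤) := Nat.card_pos
  rw [hs, ← h5] at h4
  refine Nat.eq_of_mul_eq_mul_left (Nat.mul_pos h6 h6) ?_
  linarith

namespace Form
variable (h : Form β)
include h

theorem perp_top : h.perp ⊤ = ⊥ :=
  eq_bot_iff.2 fun y hy => h.nondeg y fun x => h.symm_one (hy x trivial)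

theorem card_perp (L : AddSubgroup W) : Nat.card L * Nat.card (h.perp L) = Nat.card W := by
  have := h.count L ⊤
  rwa [top_inf_eq, h.perp_top, inf_bot_eq, AddSubgroup.card_top, AddSubgroup.card_bot,
    mul_one] at this

theorem perp_perp (L : AddSubgroup W) : h.perp (h.perp L) = L := by
  refine (AddSubgroup.eq_of_le_of_card_ge (h.le_perp_comm le_rfl) (le_of_eq ?_)).symm
  have h1 := h.card_perp L
  rw [← h.card_perp (h.perp L), mul_comm] at h1
  exact (Nat.eq_of_mul_eq_mul_left Nat.card_pos h1).symm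

theorem card_sq : ∃ e, Nat.card W = e ^ 2 := by
  obtain ⟨s, hs⟩ := h.sq
  exact ⟨s, by rw [← hs, h.perp_top, AddSubgroup.index_bot]⟩

theorem sub_sq (L : AddSubgroup W) (hL : L ⊓ h.perp L = ⊥) : ∃ e, Nat.card L = e ^ 2 := by
  refine Form.card_sq (β := fun x y : L => β x y)
    ⟨⟨fun x y z => h.add_left _ _ _, fun x y z => h.add_right _ _ _, fun x => h.self _⟩, ?_⟩
  intro x hx
  have : (x : W) ∈ L ⊓ h.perp L := ⟨x.2, fun y hy => h.symm_one (hx ⟨y, hy⟩)⟩
  rw [hL] at this
  exact Subtype.ext this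

theorem hom_eq (f : W → Z) (hf : ∀ x y, f (x + y) = f x * f y) : ∃ w, ∀ y, f y = β w y := by
  classical
  obtain ⟨ι, hι⟩ := exists_emb Z
  have _ : Fintype W := Fintype.ofFinite W
  let Φ : W → AddChar W ℂ := fun w => toChar ι (β w) (h.add_right w)
  have h1 : Function.Injective Φ := fun a b e => sub_eq_zero.1 (h.nondeg _ fun y => by
    rw [h.sub_left, mul_inv_eq_one]
    exact hι (DFunLike.congr_fun e y))
  obtain ⟨w, hw⟩ := ((Fintype.bijective_iff_injective_and_card Φ).2 ⟨h1, by simp⟩).2 (toChar ι f hf)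
  exact ⟨w, fun y => hι (DFunLike.congr_fun hw y).symm⟩

theorem exists_sep {a b : W} (hb : b ∉ AddSubgroup.zmultiples a) : ∃ x, β a x = 1 ∧ β b x ≠ 1 := by
  by_contra hh
  push Not at hh
  apply hb
  rw [← h.perp_perp (AddSubgroup.zmultiples a)]
  exact fun x hx => h.symm_one (hh x (h.mem_perp_zm.1 hx))

end Form

end Form

section Act
variable {G : Type v} [Group G] {W : Type u} [AddCommGroup W] [Finite W] [DistribMulAction G W]
  {Z : Type u} [CommGroup Z] [Finite Z] [IsCyclic Z] {β : W → W → Z}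

variable (W) in
/-- the map `w ↦ g w - w` -/
def dl (g : G) : W →+ W := DistribSMul.toAddMonoidHom W g - AddMonoidHom.id W

theorem dl_apply (g : G) (w : W) : dl W g w = g • w - w := rfl

variable (W) in
/-- fixed points -/
def Fx (g : G) : AddSubgroup W := (dl W g).ker

variable (W) in
/-- the commutator subgroup `[W, g]` -/
def Cm (g : G) : AddSubgroup W := (dl W g).range

theorem mem_Fx {g : G} {w : W} : w ∈ Fx W g ↔ g • w = w := sub_eq_zero

theorem mem_Cm {g : G} {w : W} : w ∈ Cm W g ↔ ∃ x, g • x - x = w := Iff.rfl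

theorem sub_mem_Cm (g : G) (w : W) : g • w - w ∈ Cm W g := ⟨w, rfl⟩

theorem smul_mem_Cm {g : G} {w : W} (h : w ∈ Cm W g) : g • w ∈ Cm W g := by
  obtain ⟨x, rfl⟩ := h
  exact ⟨g • x, by simp only [dl_apply, smul_sub]⟩

theorem index_Fx (g : G) : (Fx W g).index = Nat.card (Cm W g) := AddSubgroup.index_ker _

theorem card_Fx_mul (g : G) : Nat.card (Fx W g) * Nat.card (Cm W g) = Nat.card W := by
  rw [← index_Fx, AddSubgroup.card_mul_index]

theorem index_Cm (g : G) : (Cm W g).index = Nat.card (Fx W g) := AddSubgroup.index_range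

theorem Cm_eq_bot {g : G} : Cm W g = ⊥ ↔ ∀ w : W, g • w = w := by
  constructor
  · intro h w
    have := sub_mem_Cm g w
    rw [h] at this
    exact sub_eq_zero.1 this
  · intro h
    rw [eq_bot_iff]
    rintro _ ⟨x, rfl⟩
    exact sub_eq_zero.2 (h x)

theorem pow_smul_of_mem_Fx {g : G} {w : W} (h : g • w = w) (n : ℕ) : g ^ n • w = w := by
  induction n with
  | zero => simp
  | succ n ih => rw [pow_succ, mul_smul, h, ih]

/-- squarefree exponent -/
def SqF (W : Type u) [AddCommGroup W] : Prop := ∀ (r : ℕ) (w : W), r • r • w = 0 → r • w = 0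

theorem CR.sqf (h : CR G W) : SqF W := by
  intro r w hw
  obtain ⟨Y, -, h1, h2⟩ := h (nsmulAddMonoidHom r).ker fun g v hv => by
    change r • g • v = 0
    rw [← smul_comm, show r • v = 0 from hv, smul_zero]
  obtain ⟨x, hx, y, hy, rfl⟩ := AddSubgroup.mem_sup.1 (h2 ▸ trivial : w ∈ (nsmulAddMonoidHom r).ker ⊔ Y)
  have hx' : r • x = 0 := hx
  rw [smul_add, hx', zero_add] at hw ⊢
  have : r • y ∈ (nsmulAddMonoidHom r).ker ⊓ Y := ⟨hw, Y.nsmul_mem hy r⟩
  rwa [h1] at this

/-- coprime action: fixed points and commutators intersect trivially -/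
theorem Fx_inf_Cm {g : G} {s : ℕ} (hs : ∀ w : W, g ^ s • w = w) (hc : s.Coprime (Nat.card W)) :
    Fx W g ⊓ Cm W g = ⊥ := by
  rw [eq_bot_iff]
  rintro _ ⟨hx, z, rfl⟩
  have h1 : ∀ n : ℕ, g ^ n • z = z + n • dl W g z := by
    intro n
    induction n with
    | zero => simp
    | succ n ih =>
      rw [pow_succ', mul_smul, ih, smul_add, smul_comm, mem_Fx.1 hx, succ_nsmul, dl_apply]; abel
  have h2 := h1 s
  rw [hs, left_eq_add] at h2
  have h3 := Nat.Coprime.eq_one_of_dvd (hc.coprime_dvd_left (addOrderOf_dvd_of_nsmul_eq_zero h2))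
    (addOrderOf_dvd_natCard _)
  exact AddMonoid.addOrderOf_eq_one_iff.1 h3

variable (β) in
/-- `g` preserves the form -/
def Pres (g : G) : Prop := ∀ x y, β (g • x) (g • y) = β x y

theorem Pres.inv {g : G} (h : Pres β g) : Pres β g⁻¹ := fun x y => by
  rw [← h, smul_inv_smul, smul_inv_smul]

theorem Pres.mul {g g' : G} (h : Pres β g) (h' : Pres β g') : Pres β (g * g') := fun x y => by
  rw [mul_smul, mul_smul, h, h']

theorem Form.perp_Cm (h : Form β) {g : G} (hg : Pres β g) : h.perp (Cm W g) = Fx W g := by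
  ext y
  rw [mem_Fx]
  constructor
  · intro hy
    have : g⁻¹ • y - y = 0 := h.nondeg _ fun x => h.symm_one (by
      rw [h.sub_right, ← hg, smul_inv_smul, ← h.sub_left]
      exact hy _ (sub_mem_Cm g x))
    rw [sub_eq_zero, inv_smul_eq_iff] at this
    exact this.symm
  · rintro hy _ ⟨x, rfl⟩
    rw [dl_apply, h.sub_left, mul_inv_eq_one]
    conv_lhs => rw [← hy, hg]

theorem Form.perp_Fx (h : Form β) {g : G} (hg : Pres β g) : h.perp (Fx W g) = Cm W g := by
  rw [← h.perp_Cm hg, h.perp_perp]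

theorem Form.Cm_sq (h : Form β) {g : G} (hg : Pres β g) {s : ℕ} (hs : ∀ w : W, g ^ s • w = w)
    (hc : s.Coprime (Nat.card W)) : ∃ e, Nat.card (Cm W g) = e ^ 2 :=
  h.sub_sq _ (by rw [h.perp_Cm hg, inf_comm, Fx_inf_Cm hs hc])

/-- bad elements of odd prime order -/
theorem Form.bad_odd (h : Form β) {g : G} (hg : Pres β g) {s : ℕ} (hs : ∀ w : W, g ^ s • w = w)
    (ho : Odd s) (hb : ∀ v ∈ Cm W g, β v (g • v) = 1) :
    (∀ y ∈ Cm W g, s • y = 0) ∧ (Cm W g ≠ ⊥ → Cm W g ⊓ Fx W g ≠ ⊥) := by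
  obtain ⟨j, rfl⟩ := ho
  have h1 : ∀ w ∈ Cm W g, g • g • w - w ∈ Fx W g := by
    intro w hw
    rw [← h.perp_Cm hg]
    intro v hv
    have h2 := hb _ (add_mem hv (smul_mem_Cm hw))
    rw [smul_add, h.add_left, h.add_right, h.add_right, hb v hv, hb _ (smul_mem_Cm hw), hg,
      one_mul, mul_one] at h2
    rw [h.sub_right, ← h.skew, h2]
  have h2 : ∀ w ∈ Cm W g, g • w - w ∈ Fx W g := by
    intro w hw
    have h3 : ∀ n : ℕ, ∀ w ∈ Cm W g, g ^ (2 * n) • w - w ∈ Fx W g := by
      intro n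
      induction n with
      | zero => intro w _; simp
      | succ n ih =>
        intro w hw
        have := add_mem (ih _ (smul_mem_Cm (smul_mem_Cm hw))) (h1 w hw)
        rwa [sub_add_sub_cancel, ← mul_smul, ← mul_smul, ← pow_succ, ← pow_succ] at this
    have h4 := h3 (j + 1) w hw
    rwa [show 2 * (j + 1) = 2 * j + 1 + 1 by ring, pow_succ, mul_smul, hs] at h4
  have h3 : ∀ x : W, ∀ n : ℕ, g ^ n • x =
      x + n • dl W g x + n.choose 2 • dl W g (dl W g x) := by
    intro x n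
    induction n with
    | zero => simp
    | succ n ih =>
      have h4 : g • dl W g (dl W g x) = dl W g (dl W g x) := mem_Fx.1 (h2 _ ⟨x, rfl⟩)
      rw [pow_succ', mul_smul, ih, smul_add, smul_add, smul_comm g, smul_comm g, h4,
        Nat.choose_succ_succ' n 1, Nat.choose_one_right, add_nsmul, add_nsmul,
        show g • dl W g x = dl W g x + dl W g (dl W g x) by rw [dl_apply g (dl W g x)]; abel,
        show g • x = x + dl W g x by rw [dl_apply]; abel, smul_add, one_nsmul]
      abel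
  refine ⟨?_, fun h0 => ?_⟩
  · rintro _ ⟨x, rfl⟩
    have h4 := h3 (dl W g x) (2 * j + 1)
    have h5 : dl W g (dl W g (dl W g x)) = 0 := h2 _ ⟨x, rfl⟩
    rw [hs, h5, smul_zero, add_zero, left_eq_add] at h4
    have h6 := h3 x (2 * j + 1)
    have h7 : (2 * j + 1).choose 2 = j * (2 * j + 1) := by
      rw [Nat.choose_two_right, Nat.add_sub_cancel, show (2 * j + 1) * (2 * j) = 2 * (j * (2 * j + 1))
        by ring, Nat.mul_div_cancel_left _ two_pos]
    rwa [hs, h7, mul_comm j, mul_nsmul, h4, smul_zero, add_zero, left_eq_add] at h6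
  · intro e
    apply h0
    rw [eq_bot_iff]
    intro y hy
    have h4 : g • y - y ∈ Cm W g ⊓ Fx W g := ⟨sub_mem_Cm _ _, h2 y hy⟩
    rw [e] at h4
    have h5 : y ∈ Cm W g ⊓ Fx W g := ⟨hy, h4⟩
    rwa [e] at h5

theorem Form.bad_odd' (h : Form β) {g : G} (hg : Pres β g) {s : ℕ} (hp : s.Prime)
    (hs : ∀ w : W, g ^ s • w = w) (ho : Odd s) (hb : ∀ v ∈ Cm W g, β v (g • v) = 1)
    (h0 : Cm W g ≠ ⊥) : (∀ y ∈ Cm W g, s • y = 0) ∧ ∃ j, Nat.card (Cm W g) = s ^ (j + 1) ∧
      Nat.card (Cm W g) * s ∣ Nat.card W := by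
  obtain ⟨h1, h2⟩ := h.bad_odd hg hs ho hb
  have := Fact.mk hp
  refine ⟨h1, ?_⟩
  have h3 : IsPGroup s (Multiplicative (Cm W g)) := fun y => ⟨1, by
    rw [pow_one]; exact Subtype.ext (h1 _ (Multiplicative.toAdd y).2)⟩
  obtain ⟨j, hj⟩ := IsPGroup.iff_card.1 h3
  have hj' : Nat.card (Cm W g) = s ^ j := hj
  obtain ⟨⟨y, hy1, hy2⟩, hy⟩ := (AddSubgroup.ne_bot_iff_exists_ne_zero.1 (h2 h0))
  have h4 : addOrderOf y = s := addOrderOf_eq_prime (h1 y hy1) fun e => hy (Subtype.ext e)
  cases j with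
  | zero => exact absurd (AddSubgroup.eq_bot_of_card_eq _ (by simpa using hj')) h0
  | succ j =>
    refine ⟨j, hj', ?_⟩
    rw [← card_Fx_mul (W := W) g, mul_comm]
    exact Nat.mul_dvd_mul_right (h4 ▸ AddSubgroup.addOrderOf_dvd_natCard _ hy2) _

theorem neg_of_mem_Cm {g : G} (hs : ∀ w : W, g • g • w = w) {y : W} (hy : y ∈ Cm W g) :
    g • y = -y := by
  obtain ⟨x, rfl⟩ := hy
  rw [dl_apply, smul_sub, hs]; abel

/-- bad involutions: the order of the commutator subgroup is a square -/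
theorem Form.bad_two (h : Form β) {g : G} (hb : ∀ v, β v (g • v) = 1) :
    ∃ s, Nat.card (Cm W g) = s ^ 2 := by
  let h' : Alt fun x y => β x (dl W g y) :=
    ⟨fun x y z => h.add_left _ _ _, fun x y z => by rw [map_add, h.add_right], fun x => by
      rw [dl_apply, h.sub_right, hb, h.self, inv_one, mul_one]⟩
  obtain ⟨s, hs⟩ := h'.sq
  refine ⟨s, ?_⟩
  rw [← hs, ← index_Fx]
  congr 1
  ext y
  exact ⟨fun e x _ => by simp only [show dl W g y = 0 from e, h.zero_right],
    fun e => h.nondeg _ fun x => h.symm_one (e x trivial)⟩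

theorem two_pow_dvd (hq : SqF W) {g : G} (hs : ∀ w : W, g • g • w = w) {j : ℕ}
    (hj : 2 ^ j ∣ Nat.card (Cm W g)) : 2 ^ j * Nat.card (Cm W g) ∣ Nat.card W := by
  let D : Cm W g →+ Cm W g := nsmulAddMonoidHom 2
  have h1 : Nat.card D.ker * Nat.card D.range = Nat.card (Cm W g) := by
    rw [← AddSubgroup.index_ker, AddSubgroup.card_mul_index]
  have h2 : ¬ 2 ∣ Nat.card D.range := by
    intro hd
    obtain ⟨⟨_, y, rfl⟩, hy⟩ := exists_prime_addOrderOf_dvd_card' 2 hd
    have h3 := addOrderOf_nsmul_eq_zero (⟨D y, y, rfl⟩ : D.range)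
    rw [hy] at h3
    have h4 : 2 • (y : W) = 0 := hq 2 y (congrArg (fun z : D.range => ((z : Cm W g) : W)) h3)
    have h5 : (⟨D y, y, rfl⟩ : D.range) = 0 := Subtype.ext (Subtype.ext h4)
    rw [h5, addOrderOf_zero] at hy
    omega
  have h3 : 2 ^ j ∣ Nat.card D.ker := by
    rw [← h1] at hj
    exact (Nat.Coprime.pow_left j ((Nat.Prime.coprime_iff_not_dvd Nat.prime_two).2 h2)).dvd_of_dvd_mul_right hj
  have h4 : D.ker.map (Cm W g).subtype ≤ Fx W g := by
    rintro _ ⟨y, hy, rfl⟩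
    have h5 : 2 • (y : W) = 0 := congrArg Subtype.val hy
    rw [mem_Fx, AddSubgroup.subtype_apply, neg_of_mem_Cm hs y.2, neg_eq_iff_add_eq_zero, ← two_nsmul, h5]
  have h5 := AddSubgroup.card_dvd_of_le h4
  rw [AddSubgroup.card_map_of_injective (Cm W g).subtype_injective] at h5
  rw [← card_Fx_mul (W := W) g]
  exact Nat.mul_dvd_mul_right (h3.trans h5) _

theorem inv_unique {g g' : G} (hs : ∀ w : W, g • g • w = w) (hs' : ∀ w : W, g' • g' • w = w)
    (ht : Nat.card (Cm W g') = Nat.card (Cm W g))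
    (hc : (Nat.card (Cm W g)).Coprime (Nat.card W / Nat.card (Cm W g))) (w : W) :
    g • w = g' • w := by
  have key : ∀ a : G, (∀ w : W, a • a • w = w) → Nat.card (Cm W a) = Nat.card (Cm W g) → ∀ w : W,
      a • (Nat.card (Cm W g) • w) = Nat.card (Cm W g) • w ∧
      a • ((Nat.card W / Nat.card (Cm W g)) • w) = -((Nat.card W / Nat.card (Cm W g)) • w) := by
    intro a ha e w
    constructor
    · rw [← e, ← index_Fx]; exact mem_Fx.1 (AddSubgroup.nsmul_index_mem _ w)
    · refine neg_of_mem_Cm ha ?_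
      rw [← e, ← card_Fx_mul a, Nat.mul_div_cancel _ Nat.card_pos, ← index_Cm]
      exact AddSubgroup.nsmul_index_mem _ w
  obtain ⟨a, b, hab⟩ := Nat.isCoprime_iff_coprime.2 hc
  have : w = Nat.card (Cm W g) • (a • w) + (Nat.card W / Nat.card (Cm W g)) • (b • w) := by
    rw [← natCast_zsmul, ← natCast_zsmul, smul_smul, smul_smul, ← add_smul, mul_comm _ a,
      mul_comm _ b, hab, one_smul]
  rw [this, smul_add, smul_add, (key g hs rfl _).1, (key g hs rfl _).2, (key g' hs' ht _).1,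
    (key g' hs' ht _).2]

/-- the number of transvections -/
theorem Form.card_transv (h : Form β) [Finite G] [FaithfulSMul G W] :
    {g : G | Pres β g ∧ (Nat.card (Cm W g)).Prime}.ncard ≤ Nat.card W - 1 := by
  classical
  have hz : ∀ L : AddSubgroup W, ∃ z, L ≠ ⊥ → z ∉ h.perp L := by
    intro L
    by_cases hL : h.perp L = ⊤
    · exact ⟨0, fun h0 => absurd (by rw [← h.perp_perp L, hL, h.perp_top]) h0⟩
    · obtain ⟨z, hz⟩ := (AddSubgroup.eq_top_iff' _).not.1 hL |> not_forall.1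
      exact ⟨z, fun _ => hz⟩
  choose z hz using hz
  have key : ∀ g : G, Pres β g → (Nat.card (Cm W g)).Prime → z (Cm W g) ∉ Fx W g ∧
      AddSubgroup.zmultiples (dl W g (z (Cm W g))) = Cm W g := by
    intro g hg hp
    have h0 : Cm W g ≠ ⊥ := fun e => by rw [e] at hp; simp [Nat.not_prime_one] at hp
    have h1 := hz _ h0
    rw [h.perp_Cm hg] at h1
    refine ⟨h1, AddSubgroup.eq_of_le_of_card_ge (AddSubgroup.zmultiples_le_of_mem ⟨_, rfl⟩) ?_⟩
    rcases (Nat.dvd_prime hp).1 (AddSubgroup.card_dvd_of_le (AddSubgroup.zmultiples_le_of_mem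
      (⟨_, rfl⟩ : dl W g (z (Cm W g)) ∈ Cm W g))) with e | e
    · exact absurd (AddSubgroup.zmultiples_eq_bot.1 (AddSubgroup.eq_bot_of_card_eq _ e)) h1
    · exact e.ge
  rw [← Set.ncard_univ, ← Set.ncard_sdiff_singleton_of_mem (Set.mem_univ (0 : W))]
  refine Set.ncard_le_ncard_of_injOn (fun g => dl W g (z (Cm W g)))
    (fun g hg => ⟨trivial, (key g hg.1 hg.2).1⟩) ?_
  rintro g ⟨hg, hp⟩ g' ⟨hg', hp'⟩ e
  obtain ⟨h1, h2⟩ := key g hg hp
  obtain ⟨h1', h2'⟩ := key g' hg' hp'
  have hL : Cm W g = Cm W g' := by rw [← h2, ← h2']; exact congrArg _ e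
  have hF : Fx W g = Fx W g' := by rw [← h.perp_Cm hg, ← h.perp_Cm hg', hL]
  have h3 : Fx W g < Fx W (g'⁻¹ * g) := by
    refine lt_of_le_of_ne (fun w hw => ?_) fun e' => h1 (e' ▸ ?_)
    · rw [mem_Fx, mul_smul, mem_Fx.1 hw, inv_smul_eq_iff, mem_Fx.1 (hF ▸ hw)]
    · simp only [← hL, dl_apply, sub_left_inj] at e
      rw [mem_Fx, mul_smul, e, inv_smul_smul]
  have h4 : (Fx W (g'⁻¹ * g)).index = 1 := by
    have h5 := AddSubgroup.index_dvd_of_le h3.le
    rw [index_Fx g] at h5
    rcases (Nat.dvd_prime hp).1 h5 with e' | e'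
    · exact e'
    · exact absurd (e'.trans (index_Fx g).symm) (AddSubgroup.index_strictAnti h3).ne
  rw [AddSubgroup.index_eq_one] at h4
  exact FaithfulSMul.eq_of_smul_eq_smul (α := W) fun w => by
    have := mem_Fx.1 (h4 ▸ trivial : w ∈ Fx W (g'⁻¹ * g))
    rwa [mul_smul, inv_smul_eq_iff] at this

end Act

end H6.BS
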