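import Cfsg.Agent.H6.BS4
import Cfsg.Agent.H18.G1b

/-! Base sizes of solvable linear groups V: solvable subgroups of `Sp(2n,2)`, involutions of type
`a₂`. -/

set_option autoImplicit false
set_option linter.unusedSectionVars false

open Cfsg Subgroup

namespace H6.BS
open H19

universe u

section Gen
variable {R : Type u} [Group R] [Finite R] {W : Type u} [AddCommGroup W] [Finite W]
  [DistribMulAction R W]

theorem pcore_triv [FaithfulSMul R W] (hcr : CR R W) {p : ℕ} (hp : p.Prime)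
    (hW : ∀ w : W, p • w = 0) (P : Subgroup R) [hn : P.Normal] (hP : IsPGroup p P) : P = ⊥ := by
  have := Fact.mk hp
  let X : AddSubgroup W :=
    { carrier := {w | ∀ g ∈ P, g • w = w}
      zero_mem' := fun g _ => smul_zero g
      add_mem' := fun {a b} ha hb g hg => by rw [smul_add, ha g hg, hb g hg]
      neg_mem' := fun {a} ha g hg => by rw [smul_neg, ha g hg] }
  obtain ⟨Y, hY, h1, h2⟩ := hcr X fun r w hw g hg => by
    have := hw _ (hn.conj_mem g hg r⁻¹)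
    rwa [inv_inv, mul_smul, mul_smul, inv_smul_eq_iff] at this
  let _ := subAct Y hY
  have h3 : Y = ⊥ := by
    by_contra h0
    obtain ⟨y, hy⟩ := AddSubgroup.ne_bot_iff_exists_ne_zero.1 h0
    have h4 : p ∣ Nat.card Y := by
      rw [← addOrderOf_eq_prime (show p • y = 0 from Subtype.ext (hW y)) hy]
      exact addOrderOf_dvd_natCard y
    obtain ⟨b, hb, hne⟩ := hP.exists_fixed_point_of_prime_dvd_card_of_fixed_point Y h4
      (a := 0) fun g => smul_zero g
    have : (b : W) ∈ X ⊓ Y := ⟨fun g hg => congrArg Subtype.val (hb ⟨g, hg⟩), b.2⟩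
    rw [h1] at this
    exact hne (Subtype.ext (AddSubgroup.mem_bot.1 this)).symm
  rw [h3, sup_bot_eq] at h2
  exact eq_bot_iff.2 fun g hg => eq_one_of_triv (V := W) fun w => (h2 ▸ trivial : w ∈ X) g hg

theorem cr_of_coprime (hq : ∀ X : AddSubgroup W, ∃ Y, IsCompl X Y)
    (hc : (Nat.card R).Coprime (Nat.card W)) : CR R W := by
  classical
  intro X hX
  obtain ⟨Y, hY⟩ := hq X
  have _ := Fintype.ofFinite R
  have hY' := (AddSubgroup.toIntSubmodule (M := W)).isCompl hY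
  let π : W →ₗ[ℤ] W := Submodule.projection _ _ hY'
  have hπ : ∀ w, π w ∈ X := fun w => Submodule.projection_apply_mem hY' w
  have hπ' : ∀ w ∈ X, π w = w := fun w hw => Submodule.projection_apply_of_mem_left hY' hw
  let f : W →+ W :=
    { toFun := fun w => ∑ g : R, g • π (g⁻¹ • w)
      map_zero' := by simp
      map_add' := fun a b => by simp [Finset.sum_add_distrib] }
  have hf : ∀ w, f w = ∑ g : R, g • π (g⁻¹ • w) := fun _ => rfl
  have h1 : ∀ w, f w ∈ X := fun w => sum_mem fun g _ => hX g _ (hπ _)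
  have h2 : ∀ w ∈ X, f w = Nat.card R • w := fun w hw => by
    rw [hf, Finset.sum_congr rfl fun g _ => by rw [hπ' _ (hX _ _ hw), smul_inv_smul]]
    simp
  obtain ⟨a, b, hab⟩ := Nat.isCoprime_iff_coprime.2 hc
  have h3 : ∀ w : W, a • Nat.card R • w = w := fun w => by
    conv_rhs => rw [← one_zsmul w, ← hab, add_zsmul, mul_zsmul, mul_zsmul, natCast_zsmul,
      natCast_zsmul, card_nsmul_eq_zero', zsmul_zero, add_zero]
  refine ⟨f.ker, fun r w hw => ?_, ?_, ?_⟩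
  · have : f (r • w) = r • f w := by
      rw [hf, hf, Finset.smul_sum]
      exact (Fintype.sum_equiv (Equiv.mulLeft r) _ _ fun g => by simp [mul_smul]).symm
    rw [AddMonoidHom.mem_ker, this, hw, smul_zero]
  · rw [eq_bot_iff]
    rintro x ⟨hx, hk⟩
    rw [AddSubgroup.mem_bot, ← h3 x, ← h2 x hx, hk, zsmul_zero]
  · rw [eq_top_iff]
    intro w _
    refine AddSubgroup.mem_sup.2 ⟨a • f w, X.zsmul_mem (h1 w) a, w - a • f w, ?_, by abel⟩
    rw [AddMonoidHom.mem_ker, map_sub, map_zsmul, h2 _ (h1 w), h3, sub_self]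

theorem compl_of_prime {p : ℕ} (hp : p.Prime) (hW : ∀ w : W, p • w = 0) (X : AddSubgroup W) :
    ∃ Y, IsCompl X Y := by
  have := Fact.mk hp
  let _ : Module (ZMod p) W := AddCommGroup.zmodModule hW
  obtain ⟨Y, hY⟩ := (AddSubgroup.toZModSubmodule p X).exists_isCompl
  exact ⟨(AddSubgroup.toZModSubmodule p).symm Y, by
    simpa using (AddSubgroup.toZModSubmodule p).symm.isCompl hY⟩

theorem Cm_mul_le (g g' : R) : Cm W (g * g') ≤ Cm W g ⊔ Cm W g' := by
  rintro _ ⟨w, rfl⟩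
  exact AddSubgroup.mem_sup.2 ⟨_, sub_mem_Cm g (g' • w), _, sub_mem_Cm g' w, by
    rw [dl_apply, mul_smul]; abel⟩

theorem card_sup_mul {W : Type u} [AddCommGroup W] (X Y : AddSubgroup W) :
    Nat.card ↥(X ⊔ Y) * Nat.card ↥(X ⊓ Y) = Nat.card X * Nat.card Y := by
  rw [← AddSubgroup.card_mul_index (X.addSubgroupOf (X ⊔ Y)), ← AddSubgroup.card_mul_index
    (X.addSubgroupOf Y), Nat.card_congr (AddSubgroup.addSubgroupOfEquivOfLe le_sup_left).toEquiv]
  have h1 : (X.addSubgroupOf (X ⊔ Y)).index = (X.addSubgroupOf Y).index :=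
    AddSubgroup.relIndex_sup_left Y X
  have h2 : Nat.card (X.addSubgroupOf Y) = Nat.card ↥(X ⊓ Y) := by
    rw [← AddSubgroup.inf_addSubgroupOf_right]
    exact Nat.card_congr (AddSubgroup.addSubgroupOfEquivOfLe inf_le_right).toEquiv
  rw [h1, h2]; ring

theorem card_sup_le (X Y : AddSubgroup W) : Nat.card ↥(X ⊔ Y) ≤ Nat.card X * Nat.card Y := by
  rw [← card_sup_mul]
  exact Nat.le_mul_of_pos_right _ Nat.card_pos

theorem Fx_conj (x g : R) : Fx W (x * g * x⁻¹) = (Fx W g).map (DistribSMul.toAddMonoidHom W x) := by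
  ext w
  rw [mem_Fx, mul_smul, mul_smul, smul_eq_iff_eq_inv_smul]
  exact ⟨fun h => ⟨x⁻¹ • w, mem_Fx.2 h, smul_inv_smul x w⟩, by
    rintro ⟨y, hy, rfl⟩
    simpa using mem_Fx.1 hy⟩

theorem card_Fx_conj (x g : R) : Nat.card (Fx W (x * g * x⁻¹)) = Nat.card (Fx W g) := by
  rw [Fx_conj]
  exact AddSubgroup.card_map_of_injective (MulAction.injective x)

theorem card_Cm_conj (x g : R) : Nat.card (Cm W (x * g * x⁻¹)) = Nat.card (Cm W g) := by
  have := card_Fx_mul (W := W) (x * g * x⁻¹)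
  rw [card_Fx_conj, ← card_Fx_mul (W := W) g] at this
  exact Nat.eq_of_mul_eq_mul_left Nat.card_pos this

theorem card_modEq_one {y : R} {s : ℕ} (hs : s.Prime) (hy : orderOf y = s) (X : AddSubgroup W)
    (hX : ∀ w ∈ X, y • w ∈ X) (h0 : X ⊓ Fx W y = ⊥) : Nat.card X ≡ 1 [MOD s] := by
  have := Fact.mk hs
  have hI : Inv (zpowers y) W X := by
    rintro ⟨g, hg⟩ w hw
    obtain ⟨n, rfl⟩ := (mem_powers_iff_mem_zpowers).2 hg
    change y ^ n • w ∈ X
    clear hg
    induction n with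
    | zero => simpa using hw
    | succ n ih => rw [pow_succ', mul_smul]; exact hX _ ih
  let _ := subAct X hI
  have hP : IsPGroup s (zpowers y) := IsPGroup.of_card (n := 1) (by rw [Nat.card_zpowers, hy, pow_one])
  refine (hP.card_modEq_card_fixedPoints X).trans (congrArg (· % s) ?_)
  rw [Nat.card_eq_one_iff_exists]
  refine ⟨⟨0, fun g => smul_zero g⟩, fun b => Subtype.ext (Subtype.ext ?_)⟩
  have : (b.1 : W) ∈ X ⊓ Fx W y := ⟨b.1.2, mem_Fx.2 (congrArg Subtype.val (b.2 ⟨y, mem_zpowers y⟩))⟩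
  rwa [h0] at this

theorem four {L : AddSubgroup W} (h2 : ∀ w : W, w + w = 0) (hL : Nat.card L = 4) {v a : W}
    (hv : v ∈ L) (ha : a ∈ L) (v0 : v ≠ 0) (a0 : a ≠ 0) (av : a ≠ v) {b : W} (hb : b ∈ L) :
    b = 0 ∨ b = v ∨ b = a ∨ b = a + v := by
  have h1 : ({0, v, a, a + v} : Set W) ⊆ L := by
    rintro x (rfl | rfl | rfl | rfl)
    exacts [L.zero_mem, hv, ha, L.add_mem ha hv]
  have h3 : a + v ≠ 0 := fun e => av (by rw [← add_zero a, ← h2 v, ← add_assoc, e, zero_add])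
  have h4 : ({0, v, a, a + v} : Set W).ncard = 4 := by
    rw [Set.ncard_insert_of_notMem (by simp [v0.symm, a0.symm, h3.symm]),
      Set.ncard_insert_of_notMem (by simp [av.symm, a0]), Set.ncard_pair (by simp [v0])]
  have := Set.eq_of_subset_of_ncard_le h1 (by rw [h4, ← Nat.card_coe_set_eq]; exact hL.le)
  have hb' : b ∈ ({0, v, a, a + v} : Set W) := this ▸ hb
  simpa using hb'

end Gen

section SP
variable {R : Type u} [Group R] [Finite R] {W : Type u} [AddCommGroup W] [Finite W]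
  [DistribMulAction R W] {Z : Type u} [CommGroup Z] [Finite Z] [IsCyclic Z] {β : W → W → Z}

variable (β) in
/-- involutions of type `a₂` -/
def A2 (g : R) : Prop :=
  (∀ w : W, g • g • w = w) ∧ (∀ v, β v (g • v) = 1) ∧ Nat.card (Cm W g) = 4

variable (R β) in
structure SP : Prop where
  form : Form β
  two : ∀ w : W, w + w = 0
  pres : ∀ g : R, Pres β g
  cr : CR R W

theorem sq_one_eq {a b : Z} (ha : a * a = 1) (hb : b * b = 1) (a1 : a ≠ 1) (b1 : b ≠ 1) :
    a = b := by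
  obtain ⟨ι, hι⟩ := exists_emb Z
  have key : ∀ a : Z, a * a = 1 → a ≠ 1 → ι a = -1 := fun a ha a1 =>
    (mul_self_eq_one_iff.1 (by rw [← map_mul, ha, map_one])).resolve_left
      fun e => a1 (hι (e.trans (map_one ι).symm))
  exact hι ((key a ha a1).trans (key b hb b1).symm)

namespace SP
variable [FaithfulSMul R W] [Group.IsSolvable R] (h : SP R β)
include h

theorem neg (w : W) : -w = w := neg_eq_of_add_eq_zero_left (h.two w)

theorem sub (a b : W) : a - b = a + b := by rw [sub_eq_add_neg, h.neg]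

theorem sq (x y : W) : β x y * β x y = 1 := by rw [← h.form.add_left, h.two, h.form.zero_left]

theorem card_pow (X : AddSubgroup W) : ∃ j, Nat.card X = 2 ^ j :=
  (IsPGroup.iff_card (G := Multiplicative X)).1 (show IsPGroup 2 (Multiplicative X) from fun y => ⟨1, by
    rw [pow_one, pow_two]; exact Subtype.ext (h.two _)⟩)

theorem odd_F : Odd #(Fit (⊤ : Subgroup R)) := by
  have h1 := Oc_Fit_syl 2 (⊤ : Subgroup R)
  have := (Oc_normal {2} (⊤ : Subgroup R)).normal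
  rw [pcore_triv h.cr Nat.prime_two (fun w => by rw [two_nsmul, h.two]) _ h1.pi.isPGroup] at h1
  exact Nat.odd_iff.2 (Nat.two_dvd_ne_zero.1 fun hd => h1.pi'_of_eq_bot 2 Nat.prime_two hd rfl)

theorem cent_F {g : R} (hg : g ∈ C(Fit (⊤ : Subgroup R))) : g ∈ Fit (⊤ : Subgroup R) :=
  cent_Fit_le (M := ⊤) inferInstance ⟨trivial, hg⟩

theorem not_mem_F {g : R} (h1 : g ≠ 1) (h2 : g * g = 1) : g ∉ Fit (⊤ : Subgroup R) := fun hg => by
  have h3 : orderOf g = 2 := orderOf_eq_prime (by rw [pow_two, h2]) h1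
  have := h.odd_F.of_dvd_nat (h3 ▸ Subgroup.orderOf_dvd_natCard _ hg)
  exact absurd this (by decide)

theorem inv_elt {g : R} (h1 : g ≠ 1) (h2 : g * g = 1) : ∃ y ∈ Fit (⊤ : Subgroup R),
    (orderOf y).Prime ∧ Odd (orderOf y) ∧ g * y * g = y⁻¹ ∧ ∃ x, y = g * (x * g * x⁻¹) := by
  have hn := (Fit_normal (⊤ : Subgroup R)).normal
  have hi : g⁻¹ = g := inv_eq_of_mul_eq_one_left h2
  obtain ⟨x, hx, hne⟩ : ∃ x ∈ Fit (⊤ : Subgroup R), x * g ≠ g * x := by
    by_contra hh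
    push Not at hh
    exact h.not_mem_F h1 h2 (h.cent_F hh)
  have hz : x⁻¹ * (g * x * g⁻¹) ∈ Fit (⊤ : Subgroup R) := mul_mem (inv_mem hx) (hn.conj_mem x hx g)
  have hz1 : x⁻¹ * (g * x * g⁻¹) ≠ 1 := fun e => hne (by
    rw [inv_mul_eq_one, eq_mul_inv_iff_mul_eq] at e; exact e)
  set z := x⁻¹ * (g * x * g⁻¹) with hzd
  have hzi : g * z * g⁻¹ = z⁻¹ := by
    rw [hzd, hi]
    calc g * (x⁻¹ * (g * x * g)) * g = g * x⁻¹ * g * x * (g * g) := by group
      _ = (x⁻¹ * (g * x * g))⁻¹ := by rw [h2, mul_inv_rev, mul_inv_rev, mul_inv_rev, hi]; group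
  obtain ⟨s, hs, hd⟩ := Nat.exists_prime_and_dvd (orderOf_eq_one_iff.not.2 hz1)
  have ho : orderOf (z ^ (orderOf z / s)) = s := orderOf_pow_orderOf_div (orderOf_pos z).ne' hd
  set y := z ^ (orderOf z / s) with hyd
  have hy : y ∈ Fit (⊤ : Subgroup R) := pow_mem hz _
  have hodd : Odd s := ho ▸ h.odd_F.of_dvd_nat (Subgroup.orderOf_dvd_natCard _ hy)
  have hyi : g * y * g⁻¹ = y⁻¹ := by rw [hyd, ← conj_pow, hzi, inv_pow]
  refine ⟨y, hy, ho ▸ hs, ho ▸ hodd, by rwa [hi] at hyi, ?_⟩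
  obtain ⟨i, rfl⟩ := hodd
  refine ⟨y ^ i, ?_⟩
  have h3 : g * y ^ i * g⁻¹ = (y ^ i)⁻¹ := by rw [← conj_pow, hyi, inv_pow]
  have h4 : y ^ (2 * i + 1) = 1 := ho ▸ pow_orderOf_eq_one y
  rw [← mul_assoc, ← mul_assoc, show g * y ^ i * g = (y ^ i)⁻¹ by rwa [hi] at h3, ← mul_inv_rev,
    eq_inv_iff_mul_eq_one, ← pow_add, ← pow_succ', ← two_mul, h4]

theorem odd_facts {y : R} (hp : (orderOf y).Prime) (ho : Odd (orderOf y)) :
    Fx W y ⊓ Cm W y = ⊥ ∧ (∃ j, Nat.card (Cm W y) = 4 ^ (j + 1)) ∧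
      Nat.card (Cm W y) ≡ 1 [MOD orderOf y] := by
  obtain ⟨n, hn⟩ := h.card_pow ⊤
  rw [AddSubgroup.card_top] at hn
  have hc : (orderOf y).Coprime (Nat.card W) := by
    rw [hn]; exact Nat.Coprime.pow_right _ (Nat.coprime_two_right.2 ho)
  have hs : ∀ w : W, y ^ orderOf y • w = w := fun w => by rw [pow_orderOf_eq_one, one_smul]
  have h1 := Fx_inf_Cm hs hc
  refine ⟨h1, ?_, card_modEq_one hp rfl _ (fun w hw => smul_mem_Cm hw) (by rw [inf_comm, h1])⟩
  obtain ⟨e, he⟩ := h.form.Cm_sq (h.pres y) hs hc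
  obtain ⟨j, hj⟩ := h.card_pow (Cm W y)
  obtain ⟨i, -, rfl⟩ := (Nat.dvd_prime_pow Nat.prime_two).1
    (show e ∣ 2 ^ j by rw [← hj, he]; exact dvd_pow_self e two_ne_zero)
  cases i with
  | zero =>
    have := eq_one_of_triv (Cm_eq_bot.1 (AddSubgroup.eq_bot_of_card_eq _ (by simpa using he)))
    rw [this, orderOf_one] at hp
    exact absurd hp Nat.not_prime_one
  | succ i => exact ⟨i, by rw [he, ← pow_mul, mul_comm, pow_mul]; rfl⟩

theorem Cm_le_Fx {g : R} (hg : ∀ w : W, g • g • w = w) : Cm W g ≤ Fx W g := fun y hy =>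
  mem_Fx.2 (by rw [neg_of_mem_Cm hg hy, h.neg])

theorem a2_aux {g g' : R} (hg : A2 β g) (hg' : A2 β g')
    (h0 : (Cm W g ⊔ Cm W g') ⊓ h.form.perp (Cm W g ⊔ Cm W g') = ⊥) {x : W} (hx : x ∈ Cm W g') :
    (g * g') ^ 3 • x = x := by
  by_cases x0 : x = 0
  · rw [x0, smul_zero]
  have key : ∀ a a' : R, A2 β a → A2 β a' →
      (Cm W a ⊔ Cm W a') ⊓ h.form.perp (Cm W a ⊔ Cm W a') = ⊥ → ∀ x ∈ Cm W a', x ≠ 0 →
      a • x - x ≠ 0 ∧ β x (a • x - x) = 1 := by
    intro a a' ha ha' h0 x hx x0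
    refine ⟨fun e => x0 ?_, by rw [h.form.sub_right, ha.2.1, h.form.self, inv_one, mul_one]⟩
    have : x ∈ (Cm W a ⊔ Cm W a') ⊓ h.form.perp (Cm W a ⊔ Cm W a') := by
      refine ⟨AddSubgroup.mem_sup_right hx, ?_⟩
      rw [h.form.perp_sup, h.form.perp_Cm (h.pres _), h.form.perp_Cm (h.pres _)]
      exact ⟨e, h.Cm_le_Fx ha'.1 hx⟩
    rwa [h0] at this
  obtain ⟨z0, hz⟩ := key g g' hg hg' h0 x hx x0
  have hzm := sub_mem_Cm g x
  set z := g • x - x with hzd
  obtain ⟨w0, hw⟩ := key g' g hg' hg (by rwa [sup_comm]) z hzm z0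
  have hwx : g' • z - z = x := by
    by_contra hne
    apply w0
    rw [← dl_apply, ← AddMonoidHom.mem_ker]
    change z ∈ Fx W g'
    rw [← h.form.perp_Cm (h.pres _)]
    intro b hb
    rcases four h.two hg'.2.2 hx (sub_mem_Cm g' z) x0 w0 hne hb with rfl | rfl | rfl | rfl
    · exact h.form.zero_left _
    · exact hz
    · exact h.form.symm_one hw
    · rw [h.form.add_left, h.form.symm_one hw, hz, mul_one]
  have e1 : g • x = x + z := by rw [hzd]; abel
  have e2 : g • z = z := mem_Fx.1 (h.Cm_le_Fx hg.1 hzm)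
  have e3 : g' • z = z + x := by rw [← hwx]; abel
  have e4 : g' • x = x := mem_Fx.1 (h.Cm_le_Fx hg'.1 hx)
  have e5 : (g * g') • x = x + z := by rw [mul_smul, e4, e1]
  have e6 : (g * g') • z = x := by
    rw [mul_smul, e3, smul_add, e2, e1, add_left_comm, h.two, add_zero]
  rw [pow_three, mul_smul (g * g'), mul_smul (g * g'), e5, smul_add, e5, e6, add_right_comm, h.two, zero_add, e6]

theorem a2_conj {g : R} (hg : A2 β g) (x : R) : A2 β (x * g * x⁻¹) :=
  ⟨fun w => by simp only [mul_smul, inv_smul_smul, hg.1, smul_inv_smul], fun v => by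
    rw [← h.pres x⁻¹, mul_smul, mul_smul, inv_smul_smul, hg.2.1], by rw [card_Cm_conj, hg.2.2]⟩

theorem a2_inv {g : R} (hg : A2 β g) : g ≠ 1 ∧ g * g = 1 :=
  ⟨fun e => by
    have := hg.2.2
    rw [Cm_eq_bot.2 (fun w => by rw [e, one_smul])] at this
    simp at this, eq_one_of_triv (V := W) fun w => by rw [mul_smul, hg.1]⟩

theorem a2_three {g : R} (hg : A2 β g) : ∃ y ∈ Fit (⊤ : Subgroup R), orderOf y = 3 := by
  obtain ⟨y, hy, hp, ho, -, x, hx⟩ := h.inv_elt (h.a2_inv hg).1 (h.a2_inv hg).2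
  have hg' := h.a2_conj hg x
  set g' := x * g * x⁻¹
  refine ⟨y, hy, ?_⟩
  obtain ⟨h1, ⟨j, h2⟩, h3⟩ := h.odd_facts hp ho
  have h4 : Cm W y ≤ Cm W g ⊔ Cm W g' := hx ▸ Cm_mul_le g g'
  have h5 := card_sup_le (Cm W g) (Cm W g')
  rw [hg.2.2, hg'.2.2] at h5
  have h6 := AddSubgroup.card_le_of_le h4
  rcases j with _ | _ | j
  · rw [h2] at h3
    exact (Nat.prime_dvd_prime_iff_eq hp Nat.prime_three).1 ((Nat.modEq_iff_dvd' (by decide)).1 h3.symm)
  · have h7 := AddSubgroup.eq_of_le_of_card_ge h4 (by omega)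
    have h8 : (Cm W g ⊔ Cm W g') ⊓ h.form.perp (Cm W g ⊔ Cm W g') = ⊥ := by
      rw [← h7, h.form.perp_Cm (h.pres _), inf_comm, h1]
    have h9 : Cm W y ≤ Fx W (y ^ 3) := by
      rw [h7, hx]
      refine sup_le (fun w hw => ?_) fun w hw => mem_Fx.2 (h.a2_aux hg hg' h8 hw)
      have := h.a2_aux hg' hg (by rwa [sup_comm]) hw
      rwa [show g' * g = (g * g')⁻¹ by
        rw [eq_inv_iff_mul_eq_one, mul_assoc, ← mul_assoc g, (h.a2_inv hg).2, one_mul,
          (h.a2_inv hg').2], inv_pow, inv_smul_eq_iff, eq_comm, ← mem_Fx] at this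
    have h10 : Fx W y ⊔ Cm W y = ⊤ := by
      refine AddSubgroup.eq_top_of_card_eq _ ?_
      have := card_sup_mul (Fx W y) (Cm W y)
      rwa [h1, AddSubgroup.card_bot, mul_one, card_Fx_mul] at this
    refine orderOf_eq_prime (eq_one_of_triv (V := W) fun w => mem_Fx.1 ?_) fun e => ?_
    · exact (sup_le (fun w hw => mem_Fx.2 (pow_smul_of_mem_Fx (mem_Fx.1 hw) 3)) h9 :
        Fx W y ⊔ Cm W y ≤ _) (h10 ▸ trivial)
    · rw [e, orderOf_one] at hp; exact Nat.not_prime_one hp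
  · rw [h2, pow_succ, pow_succ, pow_succ] at h6
    have : 0 < 4 ^ j := by positivity
    omega

end SP

end SP

end H6.BS
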