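import Cfsg.Agent.H6.BS5

/-! Base sizes of solvable linear groups VI: counting involutions of type `a₂`; solvable
subgroups of `Sp(4,2)`. -/

set_option autoImplicit false
set_option linter.unusedSectionVars false

open Cfsg Subgroup

namespace H6.BS
open H19

universe u

variable {R : Type u} [Group R] [Finite R] {W : Type u} [AddCommGroup W] [Finite W]
  [DistribMulAction R W] {Z : Type u} [CommGroup Z] [Finite Z] [IsCyclic Z] {β : W → W → Z}

/-- `W` is an orthogonal sum of two planes permuted by the group -/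
def Split (R : Type u) [Group R] {W : Type u} [AddCommGroup W] [DistribMulAction R W]
    {Z : Type u} [CommGroup Z] (β : W → W → Z) : Prop :=
  ∃ C D : AddSubgroup W, Nat.card C = 4 ∧ Nat.card D = 4 ∧ (∀ x ∈ C, ∀ y ∈ D, β x y = 1) ∧
    C ⊓ D = ⊥ ∧ (∀ g : R, ((∀ x ∈ C, g • x ∈ C) ∧ ∀ x ∈ D, g • x ∈ D) ∨
      ((∀ x ∈ C, g • x ∈ D) ∧ ∀ x ∈ D, g • x ∈ C)) ∧
    (∃ g : R, ∃ a ∈ C, a ≠ 0 ∧ g • a ≠ a ∧ g • a ∈ C ∧ g • g • a = a + g • a) ∧
    (∃ g : R, ∃ a ∈ D, a ≠ 0 ∧ g • a ≠ a ∧ g • a ∈ D ∧ g • g • a = a + g • a)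

theorem ncard_pair_le {α : Type*} (a b : α) : ({a, b} : Set α).ncard ≤ 2 :=
  (Set.ncard_insert_le _ _).trans (by rw [Set.ncard_singleton])

namespace SP
variable [FaithfulSMul R W] [Group.IsSolvable R] (h : SP R β)
include h

/-- the stabilizer of the chain `0 < ⟨v⟩ < v^⊥ < W` -/
def Pv (v : W) : Subgroup R where
  carrier := {x | x • v = v ∧ ∀ u, β v u = 1 → x • u = u ∨ x • u = u + v}
  one_mem' := ⟨one_smul _ _, fun u _ => Or.inl (one_smul _ _)⟩
  mul_mem' := fun {a b} ha hb => ⟨by rw [mul_smul, hb.1, ha.1], fun u hu => by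
    rw [mul_smul]
    rcases hb.2 u hu with e | e <;> rcases ha.2 u hu with e' | e' <;>
      simp [e, e', ha.1, add_assoc, h.two]⟩
  inv_mem' := fun {a} ha => ⟨inv_smul_eq_iff.2 ha.1.symm, fun u hu => by
    rcases ha.2 u hu with e | e
    · exact Or.inl (inv_smul_eq_iff.2 e.symm)
    · exact Or.inr (inv_smul_eq_iff.2 (by rw [smul_add, e, ha.1, add_assoc, h.two, add_zero]))⟩

theorem a2_mem_Pv {g : R} (hg : A2 β g) {v : W} (hv : v ∈ Cm W g) (v0 : v ≠ 0) : g ∈ h.Pv v := by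
  refine ⟨mem_Fx.1 (h.Cm_le_Fx hg.1 hv), fun u hu => ?_⟩
  by_contra hh
  push Not at hh
  apply hh.1
  rw [← mem_Fx, ← h.form.perp_Cm (h.pres g)]
  have h1 : β (g • u - u) u = 1 :=
    h.form.symm_one (by rw [h.form.sub_right, hg.2.1, h.form.self, inv_one, mul_one])
  intro b hb
  rcases four h.two hg.2.2 hv (sub_mem_Cm g u) v0 (sub_ne_zero.2 hh.1)
    (fun e => hh.2 (by rw [← e]; abel)) hb with rfl | rfl | rfl | rfl
  · exact h.form.zero_left _
  · exact hu
  · exact h1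
  · rw [h.form.add_left, h1, hu, mul_one]

section
variable {v z : W} (v0 : v ≠ 0) (hz : β v z ≠ 1)
include v0 hz

theorem Pv_perp {x : R} (hx : x ∈ h.Pv v) : β v (x • z - z) = 1 := by
  rw [h.form.sub_right, mul_inv_eq_one]
  conv_lhs => rw [← hx.1, h.pres]

theorem Pv_act {x : R} (hx : x ∈ h.Pv v) {u : W} (hu : β v u = 1) :
    (β u (x • z - z) = 1 ∧ x • u = u) ∨ (β u (x • z - z) ≠ 1 ∧ x • u = u + v) := by
  have h1 := h.pres x u z
  rcases hx.2 u hu with e | e
  · exact Or.inl ⟨by rw [h.form.sub_right, mul_inv_eq_one, ← h1, e], e⟩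
  · refine Or.inr ⟨fun e' => hz ?_, e⟩
    rw [h.form.sub_right, mul_inv_eq_one] at e'
    rw [e, h.form.add_left, e', mul_eq_left] at h1
    rw [← h.pres x, hx.1, h1]

theorem cases_perp (u : W) : β v u = 1 ∨ β v (u + z) = 1 := by
  by_cases e : β v u = 1
  · exact Or.inl e
  · exact Or.inr (by rw [h.form.add_right, sq_one_eq (h.sq _ _) (h.sq _ _) e hz, h.sq])

theorem Pv_inj {x y : R} (hx : x ∈ h.Pv v) (hy : y ∈ h.Pv v) (e : x • z = y • z) : x = y := by
  have key : ∀ u, β v u = 1 → x • u = y • u := fun u hu => by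
    rcases h.Pv_act v0 hz hx hu with ⟨a, b⟩ | ⟨a, b⟩ <;>
      rcases h.Pv_act v0 hz hy hu with ⟨c, d⟩ | ⟨c, d⟩
    · rw [b, d]
    · exact absurd (e ▸ a) c
    · exact absurd (e ▸ c) a
    · rw [b, d]
  refine FaithfulSMul.eq_of_smul_eq_smul (α := W) fun u => ?_
  rcases h.cases_perp v0 hz u with hu | hu
  · exact key u hu
  · have := key _ hu
    rwa [smul_add, smul_add, e, add_left_inj] at this

theorem Pv_abelem : Abelem 2 (h.Pv v) := by
  have key : ∀ x y : R, (x * y) • z = x • z + x • (y • z - z) := fun x y => by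
    rw [mul_smul, smul_sub]; abel
  refine ⟨⟨⟨fun ⟨x, hx⟩ ⟨y, hy⟩ => Subtype.ext (h.Pv_inj v0 hz (mul_mem hx hy) (mul_mem hy hx) ?_)⟩⟩,
    fun x hx => h.Pv_inj v0 hz (pow_mem hx 2) (one_mem _) ?_⟩
  · show (x * y) • z = (y * x) • z
    rw [key, key]
    rcases h.Pv_act v0 hz hx (h.Pv_perp v0 hz hy) with ⟨a, b⟩ | ⟨a, b⟩ <;>
      rcases h.Pv_act v0 hz hy (h.Pv_perp v0 hz hx) with ⟨c, d⟩ | ⟨c, d⟩
    · rw [b, d]; abel
    · exact absurd (h.form.symm_one a) c
    · exact absurd (h.form.symm_one c) a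
    · rw [b, d]; abel
  · rw [pow_two, key, one_smul]
    rcases h.Pv_act v0 hz hx (h.Pv_perp v0 hz hx) with ⟨-, b⟩ | ⟨a, -⟩
    · rw [b, add_sub, h.two, zero_sub, h.neg]
    · exact absurd (h.form.self _) a

theorem Pv_Cm {x : R} (hx : x ∈ h.Pv v) (x1 : x ≠ 1) : v ∈ Cm W x ∧ ∀ b ∈ Cm W x,
    b = 0 ∨ b = v ∨ b = x • z - z ∨ b = x • z - z + v := by
  have key : ∀ u, β v u = 1 → x • u - u = 0 ∨ x • u - u = v := fun u hu =>
    (hx.2 u hu).imp (fun e => by rw [e, sub_self]) fun e => by rw [e]; abel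
  constructor
  · by_contra hv
    have h1 : h.form.perp (AddSubgroup.zmultiples v) ≤ Fx W x := fun u hu =>
      (key u (h.form.mem_perp_zm.1 hu)).resolve_right fun e => hv (e ▸ sub_mem_Cm x u)
    have h2 := h.form.perp_anti h1
    rw [h.form.perp_Fx (h.pres x), h.form.perp_perp] at h2
    refine x1 (eq_one_of_triv (V := W) (Cm_eq_bot.1 (eq_bot_iff.2 fun b hb => ?_)))
    obtain ⟨n, rfl⟩ := h2 hb
    rcases Int.even_or_odd' n with ⟨m, rfl | rfl⟩
    · simp [two_mul, add_smul, h.two]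
    · exact absurd (by simpa [two_mul, add_smul, h.two] using hb) hv
  · rintro _ ⟨u, rfl⟩
    rw [dl_apply]
    rcases h.cases_perp v0 hz u with hu | hu
    · exact (key u hu).elim Or.inl fun e => Or.inr (Or.inl e)
    · have h1 : x • u - u = (x • z - z) + (x • (u + z) - (u + z)) := by
        rw [smul_add, show x • z - z + (x • u + x • z - (u + z)) =
          x • u - u + ((x • z - z) + (x • z - z)) by abel, h.two, add_zero]
      rcases key _ hu with e | e <;> rw [h1, e] <;> simp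

end

theorem cent_of_fix {v : W} (v0 : v ≠ 0) (hF : ∀ y ∈ Fit (⊤ : Subgroup R), y • v = v) {x : R}
    (hx : x ∈ h.Pv v) : x ∈ C(Fit (⊤ : Subgroup R)) := by
  have hn := (Fit_normal (⊤ : Subgroup R)).normal
  let X : AddSubgroup W := ⨅ y ∈ Fit (⊤ : Subgroup R), Fx W y
  have hX : ∀ w, w ∈ X ↔ ∀ y ∈ Fit (⊤ : Subgroup R), y • w = w := fun w => by
    simp only [X, AddSubgroup.mem_iInf, mem_Fx]
  obtain ⟨Y, hY, h1, h2⟩ := h.cr X fun r w hw => (hX _).2 fun g hg => by
    have := (hX w).1 hw _ (hn.conj_mem g hg r⁻¹)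
    rwa [inv_inv, mul_smul, mul_smul, inv_smul_eq_iff] at this
  have h3 : ∀ y ∈ Fit (⊤ : Subgroup R), Cm W y ≤ Fx W x := by
    intro y hy u hu
    have hu1 : u ∈ Y := by
      obtain ⟨w, rfl⟩ := hu
      obtain ⟨c, hc, d, hd, rfl⟩ := AddSubgroup.mem_sup.1 (h2 ▸ trivial : w ∈ X ⊔ Y)
      rw [dl_apply, smul_add, (hX c).1 hc y hy, add_sub_add_left_eq_sub]
      exact Y.sub_mem (hY _ _ hd) hd
    have hu2 : β v u = 1 :=
      h.form.symm_one ((h.form.perp_Cm (h.pres y) ▸ mem_Fx.2 (hF y hy) : v ∈ h.form.perp _) u hu)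
    rcases hx.2 u hu2 with e | e
    · exact mem_Fx.2 e
    · have : v ∈ X ⊓ Y := ⟨(hX v).2 hF, by
        have := Y.sub_mem (hY x u hu1) hu1
        rwa [e, add_sub_cancel_left] at this⟩
      rw [h1] at this
      exact absurd this v0
  intro y hy
  refine FaithfulSMul.eq_of_smul_eq_smul (α := W) fun w => ?_
  have h4 := h.form.perp_anti (h3 y hy)
  rw [h.form.perp_Fx (h.pres x), h.form.perp_Cm (h.pres y)] at h4
  have h5 := mem_Fx.1 (h4 (sub_mem_Cm x w))
  have h6 := mem_Fx.1 (h3 y hy (sub_mem_Cm y w))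
  rw [smul_sub] at h5 h6
  rw [mul_smul, mul_smul, sub_eq_iff_eq_add.1 h5, sub_eq_iff_eq_add.1 h6]; abel

theorem card_Pv {v : W} (v0 : v ≠ 0) : #(h.Pv v) ≤ 4 := by
  obtain ⟨z, hz⟩ : ∃ z, β v z ≠ 1 := not_forall.1 fun hh => v0 (h.form.nondeg v hh)
  have hab := h.Pv_abelem v0 hz
  obtain ⟨m, hm⟩ := abelem_el Nat.prime_two hab le_rfl
  by_contra hlt
  obtain ⟨n, rfl⟩ : ∃ n, m = n + 2 + 1 := by
    have := hm.card
    rcases m with _ | _ | _ | n
    iterate 3 omega
    exact ⟨n, rfl⟩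
  have hn := (Fit_normal (⊤ : Subgroup R)).normal
  have h1 : Fit (⊤ : Subgroup R) ≤ MulAction.stabilizer R v := by
    refine H18.coprime_abelem_gen_cent hm (le_top.trans (Fit_norm ⊤))
      (by rw [hm.card]; exact Nat.Coprime.pow_right _ (Nat.coprime_two_right.2 h.odd_F)) ?_
    rintro B hB y ⟨-, hy⟩
    by_contra hyv
    have h2 : ((B : Set R) \ {1}).ncard ≤ ({y • v, y • v + v} : Set W).ncard := by
      refine Set.ncard_le_ncard_of_injOn (fun x => x • z - z) ?_ ?_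
      · rintro x ⟨hx, x1⟩
        obtain ⟨k1, k2⟩ := h.Pv_Cm v0 hz (hB.le hx) x1
        have k3 : y • v ∈ Cm W x := by
          obtain ⟨w, hw⟩ := k1
          exact ⟨y • w, by rw [← hw, dl_apply, dl_apply, smul_sub, ← mul_smul, hy x hx, mul_smul]⟩
        rcases k2 _ k3 with e | e | e | e
        · exact absurd ((smul_eq_zero_iff_eq y).1 e) v0
        · exact absurd e hyv
        · exact Or.inl e.symm
        · exact Or.inr (by rw [e, add_assoc, h.two, add_zero]; rfl)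
      · rintro x ⟨hx, -⟩ x' ⟨hx', -⟩ e
        exact h.Pv_inj v0 hz (hB.le hx) (hB.le hx') (sub_left_injective e)
    have h3 := ncard_pair_le (y • v) (y • v + v)
    rw [Set.ncard_sdiff_singleton_of_mem B.one_mem, ← Nat.card_coe_set_eq] at h2
    have h4 : Nat.card (B : Set R) = 2 ^ (n + 2) := hB.card
    have : 0 < 2 ^ n := by positivity
    rw [pow_succ, pow_succ] at h4
    omega
  obtain ⟨⟨x, hx⟩, x1⟩ : ∃ x : h.Pv v, x ≠ 1 := by
    have : Nontrivial (h.Pv v) := Finite.one_lt_card_iff_nontrivial.1 (by omega)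
    exact exists_ne 1
  exact h.not_mem_F (fun e => x1 (Subtype.ext e)) (by rw [← pow_two]; exact hab.2 x hx)
    (h.cent_F (h.cent_of_fix v0 h1 hx))

theorem card_A2 : {g : R | A2 β g}.ncard ≤ Nat.card W - 1 := by
  classical
  have _ := Fintype.ofFinite R
  have _ := Fintype.ofFinite W
  have := Finset.card_mul_le_card_mul (fun (g : R) (v : W) => v ∈ Cm W g)
    (s := Finset.univ.filter (A2 β)) (t := Finset.univ.erase 0) (m := 3) (n := 3) ?_ ?_
  · rw [Finset.card_erase_of_mem (Finset.mem_univ _), Finset.card_univ, ← Nat.card_eq_fintype_card]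
      at this
    rw [Set.ncard_eq_toFinset_card', Set.toFinset_ofPred]
    omega
  · intro g hg
    have h1 := (Finset.mem_filter.1 hg).2.2.2
    rw [← Set.ncard_coe_finset, show ((Finset.bipartiteAbove (fun (g : R) (v : W) => v ∈ Cm W g)
      (Finset.univ.erase 0) g : Finset W) : Set W) = (Cm W g : Set W) \ {0} by
        ext v; simp [and_comm], Set.ncard_sdiff_singleton_of_mem (Cm W g).zero_mem,
      ← Nat.card_coe_set_eq]
    exact (congrArg (· - 1) h1).ge
  · intro v hv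
    have v0 := Finset.ne_of_mem_erase hv
    have h1 := h.card_Pv v0
    have h2 : ((Finset.bipartiteBelow (fun (g : R) (v : W) => v ∈ Cm W g)
      (Finset.univ.filter (A2 β)) v : Finset R) : Set R) ⊆ (h.Pv v : Set R) \ {1} := by
      intro g hg
      simp only [Finset.coe_bipartiteBelow, Finset.mem_filter, Finset.mem_univ, true_and,
        Set.mem_ofPred_eq] at hg
      exact ⟨h.a2_mem_Pv hg.1 hg.2 v0, (h.a2_inv hg.1).1⟩
    have h3 := Set.ncard_le_ncard h2
    rw [Set.ncard_coe_finset, Set.ncard_sdiff_singleton_of_mem (h.Pv v).one_mem,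
      ← Nat.card_coe_set_eq] at h3
    exact h3.trans (Nat.sub_le_of_le_add h1)

theorem prime_F (hp : (#(Fit (⊤ : Subgroup R))).Prime) :
    Nat.card R ≤ (#(Fit (⊤ : Subgroup R)) - 1) * #(Fit (⊤ : Subgroup R)) ∧
      {g : R | g ≠ 1 ∧ g * g = 1}.ncard ≤ #(Fit (⊤ : Subgroup R)) := by
  set F := Fit (⊤ : Subgroup R)
  have hn : F.Normal := (Fit_normal (⊤ : Subgroup R)).normal
  obtain ⟨⟨y, hy⟩, y1⟩ : ∃ y : F, y ≠ 1 := by
    have : Nontrivial F := Finite.one_lt_card_iff_nontrivial.1 hp.one_lt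
    exact exists_ne 1
  have y1' : y ≠ 1 := fun e => y1 (Subtype.ext e)
  have hz : ∀ y ∈ F, y ≠ 1 → zpowers y = F := fun y hy y1 => by
    rcases (Nat.dvd_prime hp).1 (card_dvd_of_le (zpowers_le.2 hy)) with e | e
    · exact absurd (zpowers_eq_bot.1 (card_eq_one.1 e)) y1
    · exact eq_of_le_of_card_ge (zpowers_le.2 hy) e.ge
  have hc : ∀ g, g * y * g⁻¹ = y → g ∈ F := fun g hg => h.cent_F (by
    change g ∈ C(F)
    rw [← hz y hy y1', cent_zpowers, mem_centralizer_singleton_iff]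
    exact mul_inv_eq_iff_eq_mul.1 hg)
  constructor
  · have h1 := (C[y]).index_mul_card
    have h2 : #C[y] ≤ #F := card_le_of_le fun g hg => hc g (by
      rw [mem_centralizer_singleton_iff] at hg; rw [hg, mul_inv_cancel_right])
    have h3 : (C[y]).index ≤ #F - 1 := by
      rw [show #F = (F : Set R).ncard from Nat.card_coe_set_eq _,
        ← Set.ncard_sdiff_singleton_of_mem F.one_mem, ← Nat.card_coe_set_eq]
      refine Nat.card_le_card_of_injective (fun c : R ⧸ C[y] => (⟨c.out * y * c.out⁻¹,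
        hn.conj_mem y hy _, by simpa using y1'⟩ : ((F : Set R) \ {1} : Set R))) fun a b e => ?_
      rw [← a.out_eq, ← b.out_eq]
      refine QuotientGroup.eq.2 (mem_centralizer_singleton_iff.2 ?_)
      have e' : a.out * y * a.out⁻¹ = b.out * y * b.out⁻¹ := congrArg Subtype.val e
      calc a.out⁻¹ * b.out * y = a.out⁻¹ * (b.out * y * b.out⁻¹) * b.out := by group
        _ = _ := by rw [← e']; group
    rw [← h1]; exact Nat.mul_le_mul h3 h2
  · have hi : ∀ g : R, g ≠ 1 ∧ g * g = 1 → g * y * g = y⁻¹ := by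
      rintro g ⟨g1, g2⟩
      obtain ⟨y', hy', hp', -, e, -⟩ := h.inv_elt g1 g2
      have hi : g⁻¹ = g := inv_eq_of_mul_eq_one_left g2
      obtain ⟨n, rfl⟩ : y ∈ zpowers y' := by
        rw [hz y' hy' fun e => by rw [e, orderOf_one] at hp'; exact Nat.not_prime_one hp']; exact hy
      have : g * y' * g⁻¹ = y'⁻¹ := by rw [hi, e]
      calc g * y' ^ n * g = g * y' ^ n * g⁻¹ := by rw [hi]
        _ = (y' ^ n)⁻¹ := by rw [← conj_zpow, this, inv_zpow]
    rcases Set.eq_empty_or_nonempty {g : R | g ≠ 1 ∧ g * g = 1} with e | ⟨g0, hg0⟩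
    · simp [e]
    · rw [show #F = (F : Set R).ncard from Nat.card_coe_set_eq _]
      refine Set.ncard_le_ncard_of_injOn (fun g => g0 * g) (fun g hg => hc _ ?_)
        fun a _ b _ e => mul_left_cancel e
      have e1 := hi g hg
      have e2 := hi g0 hg0
      rw [mul_inv_rev, inv_eq_of_mul_eq_one_left hg.2, inv_eq_of_mul_eq_one_left hg0.2]
      calc g0 * g * y * (g * g0) = g0 * (g * y * g) * g0 := by group
        _ = (g0⁻¹ * y * g0⁻¹)⁻¹ := by rw [e1]; group
        _ = y := by rw [inv_eq_of_mul_eq_one_left hg0.2, e2, inv_inv]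

section Sixteen
variable (hW : Nat.card W = 16)
include hW

theorem t16 {y : R} (hp : (orderOf y).Prime) (ho : Odd (orderOf y)) :
    (Nat.card (Cm W y) = 4 ∧ Nat.card (Fx W y) = 4 ∧ orderOf y = 3) ∨
      (Nat.card (Cm W y) = 16 ∧ Fx W y = ⊥ ∧ (orderOf y = 3 ∨ orderOf y = 5)) := by
  obtain ⟨-, ⟨j, h2⟩, h3⟩ := h.odd_facts hp ho
  have h4 := card_Fx_mul (W := W) y
  have h5 : 0 < Nat.card (Fx W y) := Nat.card_pos
  rw [hW, h2] at h4
  rw [h2] at h3 ⊢
  rcases j with _ | _ | j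
  · exact Or.inl ⟨rfl, by omega, (Nat.prime_dvd_prime_iff_eq hp Nat.prime_three).1
      ((Nat.modEq_iff_dvd' (by decide)).1 h3.symm)⟩
  · refine Or.inr ⟨rfl, AddSubgroup.eq_bot_of_card_eq _ (by omega), ?_⟩
    have : orderOf y ∣ 3 * 5 := (Nat.modEq_iff_dvd' (by decide)).1 h3.symm
    exact ((Nat.Prime.dvd_mul hp).1 this).imp (Nat.prime_dvd_prime_iff_eq hp Nat.prime_three).1
      (Nat.prime_dvd_prime_iff_eq hp Nat.prime_five).1
  · rw [pow_succ, pow_succ, pow_succ] at h4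
    have : 0 < 4 ^ j := by positivity
    nlinarith

theorem free {F : Subgroup R} (hF : ∀ y ∈ F, (orderOf y).Prime → Fx W y = ⊥) {y : R} (hy : y ∈ F)
    {w : W} (w0 : w ≠ 0) (e : y • w = w) : y = 1 := by
  by_contra y1
  obtain ⟨s, hs, hd⟩ := Nat.exists_prime_and_dvd (orderOf_eq_one_iff.not.2 y1)
  have ho : orderOf (y ^ (orderOf y / s)) = s := orderOf_pow_orderOf_div (orderOf_pos y).ne' hd
  have := hF _ (pow_mem hy _) (ho ▸ hs)
  exact w0 (by rw [← AddSubgroup.mem_bot, ← this]; exact mem_Fx.2 (pow_smul_of_mem_Fx e _))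

theorem not_fifteen : #(Fit (⊤ : Subgroup R)) ≠ 15 := by
  intro hc
  set F := Fit (⊤ : Subgroup R)
  have := Fact.mk Nat.prime_three
  have := Fact.mk Nat.prime_five
  obtain ⟨a, ha⟩ := exists_prime_orderOf_dvd_card' (G := F) 3 (by rw [hc]; decide)
  obtain ⟨b, hb⟩ := exists_prime_orderOf_dvd_card' (G := F) 5 (by rw [hc]; decide)
  have hab := H1.commute_of_isNilpotent_of_coprime (Fit_nil ⊤) (x := a) (y := b)
    (by rw [ha, hb]; decide)
  have hcyc : IsCyclic F := isCyclic_of_orderOf_eq_card (a * b) (by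
    rw [(show Commute a b from hab).orderOf_mul_eq_mul_orderOf_of_coprime (by rw [ha, hb]; decide),
      ha, hb, hc])
  have hcomm : ∀ x ∈ F, ∀ y ∈ F, x * y = y * x := fun x hx y hy =>
    congrArg Subtype.val ((comm_of_cyclic hcyc).is_comm.comm (⟨x, hx⟩ : F) ⟨y, hy⟩)
  have ha' : orderOf (a : R) = 3 := by rw [Subgroup.orderOf_coe, ha]
  have hb' : orderOf (b : R) = 5 := by rw [Subgroup.orderOf_coe, hb]
  have hb0 : Fx W (b : R) = ⊥ := by
    rcases h.t16 hW (hb' ▸ Nat.prime_five) (by rw [hb']; decide) with e | e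
    · omega
    · exact e.2.1
  have hfree : ∀ y ∈ F, (orderOf y).Prime → Fx W y = ⊥ := by
    intro y hy hp
    rcases h.t16 hW hp (h.odd_F.of_dvd_nat (Subgroup.orderOf_dvd_natCard _ hy)) with e | e
    · have := card_modEq_one Nat.prime_five hb' (Fx W y) (fun w hw => mem_Fx.2 (by
        rw [← mul_smul, hcomm y hy b b.2, mul_smul, mem_Fx.1 hw])) (by rw [hb0, inf_bot_eq])
      rw [e.2.1] at this
      exact absurd this (by decide)
    · exact e.2.1
  have htr : ∀ w w' : W, w ≠ 0 → w' ≠ 0 → ∃ y ∈ F, y • w = w' := by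
    intro w w' w0 w0'
    let f : F → (Set.univ \ {0} : Set W) := fun y => ⟨(y : R) • w, trivial,
      (smul_eq_zero_iff_eq _).not.2 w0⟩
    have h1 : Function.Injective f := fun y y' e => Subtype.ext (by
      have e' : (y : R) • w = (y' : R) • w := congrArg Subtype.val e
      exact (inv_mul_eq_one.1 (h.free hW hfree (mul_mem (inv_mem y'.2) y.2) w0
        (by rw [mul_smul, e', inv_smul_smul]))).symm)
    obtain ⟨y, hy⟩ := (h1.bijective_of_nat_card_le (by
      rw [Nat.card_coe_set_eq, Set.ncard_sdiff_singleton_of_mem (Set.mem_univ _), Set.ncard_univ, hW,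
        hc])).2 ⟨w', trivial, w0'⟩
    exact ⟨y, y.2, congrArg Subtype.val hy⟩
  have ha0 := hfree a a.2 (ha' ▸ Nat.prime_three)
  obtain ⟨v, hv⟩ : ∃ v, β v ((a : R) • v) ≠ 1 := by
    by_contra hh
    push Not at hh
    have h1 := (h.form.bad_odd (h.pres (a : R)) (s := 3)
      (fun w => by rw [← ha', pow_orderOf_eq_one, one_smul]) (by decide) fun v _ => hh v).2
    rw [ha0, inf_bot_eq] at h1
    have h2 := card_Fx_mul (W := W) (a : R)
    rw [ha0, not_not.1 fun e => h1 e rfl] at h2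
    simp [hW] at h2
  have v0 : v ≠ 0 := fun e => hv (by rw [e, h.form.zero_left])
  have hall : ∀ w, w ≠ 0 → β w ((a : R) • w) = β v ((a : R) • v) := by
    intro w w0
    obtain ⟨y, hy, rfl⟩ := htr v w v0 w0
    rw [← mul_smul, hcomm a a.2 y hy, mul_smul, h.pres]
  set m := β v ((a : R) • v)
  have hb : ∀ w, w ≠ 0 → w + v ≠ 0 → β v ((a : R) • w) * β w ((a : R) • v) = m := by
    intro w w0 wv
    have h1 := hall _ wv
    rw [smul_add, h.form.add_left, h.form.add_right, h.form.add_right, hall w w0] at h1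
    have h2 : m * m = 1 := h.sq _ _
    calc _ = m * m * (β v ((a : R) • w) * β w ((a : R) • v)) := by rw [h2, one_mul]
      _ = m * β w ((a : R) • v) * (β v ((a : R) • w) * m) := by
        simp only [mul_comm, mul_left_comm, mul_assoc]
      _ = m := h1
  obtain ⟨w1, -, hw1⟩ := Set.exists_mem_notMem_of_ncard_lt_ncard (s := {0, v}) (t := Set.univ)
    (lt_of_le_of_lt (ncard_pair_le _ _) (by rw [Set.ncard_univ, hW]; decide))
  obtain ⟨w2, -, hw2⟩ := Set.exists_mem_notMem_of_ncard_lt_ncard (s := {0, v, w1, w1 + v})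
    (t := Set.univ) (lt_of_le_of_lt ((Set.ncard_insert_le _ _).trans (Nat.succ_le_succ
      ((Set.ncard_insert_le _ _).trans (Nat.succ_le_succ (ncard_pair_le _ _)))))
      (by rw [Set.ncard_univ, hW]; decide))
  simp only [Set.mem_insert_iff, Set.mem_singleton_iff, not_or] at hw1 hw2
  have hne : ∀ a b : W, a + b = 0 → a = b := fun a b e => by
    rw [← h.neg b]; exact eq_neg_of_add_eq_zero_left e
  have e1 := hb w1 hw1.1 fun e => hw1.2 (hne _ _ e)
  have e2 := hb w2 hw2.1 fun e => hw2.2.1 (hne _ _ e)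
  have e3 := hb (w1 + w2) (fun e => hw2.2.2.1 (hne _ _ e).symm)
    fun e => hw2.2.2.2 (hne _ _ (by rw [← e]; abel))
  rw [smul_add, h.form.add_right, h.form.add_left, mul_mul_mul_comm, e1, e2, h.sq] at e3
  exact hv e3.symm

theorem inv_four {y : R} (h0 : Fx W y ⊓ Cm W y = ⊥) (h1 : Nat.card (Cm W y) = 4)
    (h2 : Nat.card (Fx W y) = 4) {X : AddSubgroup W} (hX : Nat.card X = 4)
    (hi : ∀ w ∈ X, y • w ∈ X) : X = Fx W y ∨ X = Cm W y := by
  by_cases hle : X ≤ Fx W y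
  · exact Or.inl (AddSubgroup.eq_of_le_of_card_ge hle (by omega))
  · right
    obtain ⟨x, hx, hx'⟩ := SetLike.not_le_iff_exists.1 hle
    have a0 : y • x - x ≠ 0 := hx'
    have ha : y • x - x ∈ X := X.sub_mem (hi x hx) hx
    have a1 : y • (y • x - x) ≠ y • x - x := fun e => a0 (by
      rw [← AddSubgroup.mem_bot, ← h0]; exact ⟨mem_Fx.2 e, sub_mem_Cm y x⟩)
    refine AddSubgroup.eq_of_le_of_card_ge (fun b hb => ?_) (by omega)
    rcases four h.two hX ha (hi _ ha) a0 ((smul_eq_zero_iff_eq _).not.2 a0) a1 hb with rfl | rfl | rfl | rfl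
    exacts [zero_mem _, sub_mem_Cm y x, smul_mem_Cm (sub_mem_Cm y x),
      add_mem (smul_mem_Cm (sub_mem_Cm y x)) (sub_mem_Cm y x)]

theorem nine (hc : #(Fit (⊤ : Subgroup R)) = 9) : Split R β := by
  classical
  set F := Fit (⊤ : Subgroup R)
  have hn : F.Normal := (Fit_normal (⊤ : Subgroup R)).normal
  have := Fact.mk Nat.prime_three
  have hcomm : ∀ x ∈ F, ∀ y ∈ F, x * y = y * x := fun x hx y hy =>
    congrArg Subtype.val ((IsPGroup.isMulCommutative_of_card_eq_prime_sq (p := 3) hc).is_comm.comm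
      (⟨x, hx⟩ : F) ⟨y, hy⟩)
  have hodd : ∀ y ∈ F, Odd (orderOf y) := fun y hy =>
    h.odd_F.of_dvd_nat (Subgroup.orderOf_dvd_natCard _ hy)
  obtain ⟨y, hy, hp, hy0⟩ : ∃ y ∈ F, (orderOf y).Prime ∧ Fx W y ≠ ⊥ := by
    by_contra hh
    push Not at hh
    have _ := Fintype.ofFinite F
    have _ := Fintype.ofFinite W
    have _ := Fintype.ofFinite (Quotient (MulAction.orbitRel F W))
    have h1 := MulAction.sum_card_fixedBy_eq_card_orbits_mul_card_group F W
    have h2 : ∀ a : F, Fintype.card (MulAction.fixedBy W a) = if a = 1 then 16 else 1 := by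
      intro a
      split_ifs with e
      · rw [e, ← hW, ← Nat.card_eq_fintype_card, MulAction.fixedBy_one_eq_univ]; simp
      · rw [Fintype.card_eq_one_iff]
        refine ⟨⟨0, smul_zero a⟩, fun w => Subtype.ext ?_⟩
        by_contra w0
        exact e (Subtype.ext (h.free hW hh a.2 w0 w.2))
    rw [Finset.sum_congr rfl fun a _ => h2 a, Finset.sum_ite, Finset.filter_eq', if_pos
      (Finset.mem_univ _), Finset.filter_ne', ← Nat.card_eq_fintype_card (α := F), hc] at h1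
    simp [Finset.card_erase_of_mem, ← Nat.card_eq_fintype_card, hc] at h1
    omega
  have key : ∀ y ∈ F, (orderOf y).Prime → Fx W y ≠ ⊥ → Fx W y ⊓ Cm W y = ⊥ ∧
      Nat.card (Cm W y) = 4 ∧ Nat.card (Fx W y) = 4 ∧
      ∃ a ∈ Cm W y, a ≠ 0 ∧ y • a ≠ a ∧ y • a ∈ Cm W y ∧ y • y • a = a + y • a := by
    intro y hy hp h0
    have h1 := (h.odd_facts hp (hodd y hy)).1
    obtain ⟨h2, h3, h4⟩ := (h.t16 hW hp (hodd y hy)).resolve_right fun e => h0 e.2.1
    obtain ⟨⟨a, ha⟩, a0⟩ := AddSubgroup.ne_bot_iff_exists_ne_zero.1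
      (show Cm W y ≠ ⊥ from fun e => by rw [e] at h2; simp at h2)
    have a0' : a ≠ 0 := fun e => a0 (Subtype.ext e)
    refine ⟨h1, h2, h3, a, ha, a0', fun e => a0' ?_, smul_mem_Cm ha, ?_⟩
    · rw [← AddSubgroup.mem_bot, ← h1]; exact ⟨mem_Fx.2 e, ha⟩
    · have h5 : y • y • y • a = a := by
        rw [← mul_smul, ← mul_smul, ← pow_three', ← h4, pow_orderOf_eq_one, one_smul]
      have : a + y • a + y • y • a ∈ Fx W y ⊓ Cm W y :=
        ⟨mem_Fx.2 (by rw [smul_add, smul_add, h5]; abel),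
          add_mem (add_mem ha (smul_mem_Cm ha)) (smul_mem_Cm (smul_mem_Cm ha))⟩
      rw [h1, AddSubgroup.mem_bot, add_eq_zero_iff_neg_eq, h.neg] at this
      exact this.symm
  obtain ⟨h1, h2, h3, a, ha, a0, ha'⟩ := key y hy hp hy0
  have hfx : ∀ y' ∈ F, Nat.card (Fx W y') = 4 → Fx W y' = Fx W y ∨ Fx W y' = Cm W y :=
    fun y' hy' e => h.inv_four hW h1 h2 h3 e fun w hw => mem_Fx.2 (by
      rw [← mul_smul, hcomm y' hy' y hy, mul_smul, mem_Fx.1 hw])
  obtain ⟨y', hy', hp', hy0'⟩ : ∃ y' ∈ F, (orderOf y').Prime ∧ a ∈ Fx W y' := by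
    let f : F → Cm W y := fun x => ⟨(x : R) • a, by
      obtain ⟨w, rfl⟩ := ha
      exact ⟨(x : R) • w, by
        rw [dl_apply, dl_apply, smul_sub, ← mul_smul, hcomm y hy x x.2, mul_smul]⟩⟩
    have : ¬ Function.Injective f := fun hf => by
      have := Nat.card_le_card_of_injective f hf
      omega
    obtain ⟨x, x', e, hne⟩ := Function.not_injective_iff.1 this
    have e' : (x : R) • a = (x' : R) • a := congrArg Subtype.val e
    have y1 : (x' : R)⁻¹ * x ≠ 1 := fun e => hne (Subtype.ext (inv_mul_eq_one.1 e).symm)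
    obtain ⟨s, hs, hd⟩ := Nat.exists_prime_and_dvd (orderOf_eq_one_iff.not.2 y1)
    have ho := orderOf_pow_orderOf_div (orderOf_pos ((x' : R)⁻¹ * x)).ne' hd
    exact ⟨_, pow_mem (mul_mem (inv_mem x'.2) x.2) _, ho ▸ hs,
      mem_Fx.2 (pow_smul_of_mem_Fx (by rw [mul_smul, e', inv_smul_smul]) _)⟩
  obtain ⟨-, -, k3, k4⟩ := key y' hy' hp' fun e => a0 (by rwa [e] at hy0')
  have k5 : Fx W y' = Cm W y := (hfx y' hy' k3).resolve_left fun e => ha'.1 (mem_Fx.1 (e ▸ hy0'))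
  have k6 : Cm W y' = Fx W y := by
    rw [← h.form.perp_Fx (h.pres _), k5, h.form.perp_Cm (h.pres _)]
  refine ⟨Fx W y, Cm W y, h3, h2, fun x hx w hw => h.form.symm_one
    ((h.form.perp_Cm (h.pres y) ▸ hx : x ∈ h.form.perp _) w hw), h1, fun g => ?_,
    ⟨y', k6 ▸ k4⟩, y, a, ha, a0, ha'⟩
  have m1 : ∀ x ∈ Fx W y, g • x ∈ Fx W (g * y * g⁻¹) := fun x hx => by
    rw [Fx_conj]; exact ⟨x, hx, rfl⟩
  have m2 : ∀ x ∈ Cm W y, g • x ∈ Cm W (g * y * g⁻¹) := by
    rintro _ ⟨w, rfl⟩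
    exact ⟨g • w, by simp [dl_apply, mul_smul, smul_sub]⟩
  rcases hfx _ (hn.conj_mem y hy g) (by rw [card_Fx_conj, h3]) with e | e
  · refine Or.inl ⟨e ▸ m1, ?_⟩
    rwa [← h.form.perp_Fx (h.pres (g * y * g⁻¹)), e, h.form.perp_Fx (h.pres _)] at m2
  · refine Or.inr ⟨e ▸ m1, ?_⟩
    rwa [← h.form.perp_Fx (h.pres (g * y * g⁻¹)), e, h.form.perp_Cm (h.pres _)] at m2

theorem sixteen (hb : ∀ H : Subgroup R, Odd #H → #H ≤ 21) :
    (Nat.card R ≤ 20 ∧ (∀ g : R, ¬ A2 β g) ∧ {g : R | g ≠ 1 ∧ g * g = 1}.ncard ≤ 5 ∧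
      ∀ g : R, g ≠ 1 → g * g = 1 → Nat.card (Fx W g) ≤ 4) ∨
    (3 ∣ Nat.card R ∧ ((Nat.card R ≤ 6 ∧ {g : R | A2 β g}.ncard ≤ 3) ∨ Split R β)) := by
  have h1 := hb _ h.odd_F
  have h2 : ∀ s, s.Prime → s ∣ #(Fit (⊤ : Subgroup R)) → s = 3 ∨ s = 5 := by
    intro s hs hd
    have := Fact.mk hs
    obtain ⟨a, ha⟩ := exists_prime_orderOf_dvd_card' s hd
    have ha' : orderOf (a : R) = s := by rw [Subgroup.orderOf_coe, ha]
    have := h.t16 hW (ha' ▸ hs) (ha' ▸ h.odd_F.of_dvd_nat hd)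
    omega
  have h3 := h.odd_F
  have h4 := h.not_fifteen hW
  have h5 := card_subgroup_dvd_card (Fit (⊤ : Subgroup R))
  have h6 : #(Fit (⊤ : Subgroup R)) = 1 ∨ #(Fit (⊤ : Subgroup R)) = 3 ∨
      #(Fit (⊤ : Subgroup R)) = 5 ∨ #(Fit (⊤ : Subgroup R)) = 9 := by
    have k7 := h2 7 (by norm_num)
    have k11 := h2 11 (by norm_num)
    have k13 := h2 13 (by norm_num)
    have k17 := h2 17 (by norm_num)
    have k19 := h2 19 (by norm_num)
    rw [Nat.odd_iff] at h3
    generalize #(Fit (⊤ : Subgroup R)) = n at *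
    interval_cases n <;> simp_all
  rcases h6 with e | e | e | e
  · have h7 : ∀ g : R, g = 1 := fun g => by
      have := h.cent_F (g := g) (by rw [card_eq_one.1 e]; simp)
      rwa [card_eq_one.1 e] at this
    have : Subsingleton R := ⟨fun a b => (h7 a).trans (h7 b).symm⟩
    refine Or.inl ⟨by rw [Nat.card_of_subsingleton (1 : R)]; decide, fun g hg => (h.a2_inv hg).1 (h7 g),
      ?_, fun g hg => absurd (h7 g) hg⟩
    rw [Set.eq_empty_of_forall_notMem (s := {g : R | g ≠ 1 ∧ g * g = 1}) fun g hg => hg.1 (h7 g)]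
    simp
  · have := h.prime_F (e ▸ Nat.prime_three)
    rw [e] at this h5
    exact Or.inr ⟨h5, Or.inl ⟨this.1, (Set.ncard_le_ncard fun g hg => h.a2_inv hg).trans this.2⟩⟩
  · have := h.prime_F (e ▸ Nat.prime_five)
    rw [e] at this
    refine Or.inl ⟨this.1, fun g hg => ?_, this.2, fun g g1 g2 => ?_⟩
    · obtain ⟨y, hy, ho⟩ := h.a2_three hg
      have := Subgroup.orderOf_dvd_natCard _ hy
      rw [ho, e] at this
      exact absurd this (by decide)
    · obtain ⟨y, hy, hp, ho, -, x, hx⟩ := h.inv_elt g1 g2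
      have k1 := Subgroup.orderOf_dvd_natCard _ hy
      rw [e] at k1
      have k2 := (Nat.prime_dvd_prime_iff_eq hp Nat.prime_five).1 k1
      have k3 := ((h.t16 hW hp ho).resolve_left (by omega)).1
      have k4 := (AddSubgroup.card_le_of_le (hx ▸ Cm_mul_le g (x * g * x⁻¹) : Cm W y ≤ _)).trans
        (card_sup_le _ _)
      have k5 := card_Fx_mul (W := W) g
      rw [card_Cm_conj, k3] at k4
      rw [hW] at k5
      by_contra hh
      have : Nat.card (Cm W g) ≤ 3 := by nlinarith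
      nlinarith
  · exact Or.inr ⟨(show 3 ∣ 9 by decide).trans (e ▸ h5), Or.inr (h.nine hW e)⟩

end Sixteen

end SP

end H6.BS
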