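import Cfsg.Agent.H6.BS3
import Cfsg.Agent.H6.BS5

/-! Base sizes of solvable linear groups VII: orders and fixed spaces in the primitive case. -/

set_option autoImplicit false
set_option linter.unusedSectionVars false

open Cfsg Subgroup

namespace H6.BS

universe u

variable {G V K W : Type u} [Group G] [Finite G] [AddCommGroup V] [Finite V] [Nontrivial V]
  [DistribMulAction G V] [FaithfulSMul G V] [Field K] [Finite K] [Module K V] [AddCommGroup W]
  [Finite W] [DistribMulAction G W] {U A E : Subgroup G} {sc : G → Kˣ} {σ : G →* RingAut K}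
  {π : G → W}

theorem two_le {X Y Z : AddSubgroup V} (hX : X ≤ Z) (hY : Y ≤ Z) :
    Nat.card X * Nat.card Y ≤ Nat.card ↥(X ⊓ Y) * Nat.card Z := by
  rw [← card_sup_mul, mul_comm]
  exact Nat.mul_le_mul_left _ (AddSubgroup.card_le_of_le (sup_le hX hY))

theorem fx_sq_le (g x : G) {Y : AddSubgroup V} (hY : Fx V g ⊓ Fx V (x * g * x⁻¹) ≤ Y) :
    Nat.card (Fx V g) ^ 2 ≤ Nat.card Y * Nat.card V := by
  have := two_le (le_top : Fx V g ≤ ⊤) (le_top : Fx V (x * g * x⁻¹) ≤ ⊤)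
  rw [card_Fx_conj, AddSubgroup.card_top, ← pow_two] at this
  exact this.trans (Nat.mul_le_mul_right _ (AddSubgroup.card_le_of_le hY))

theorem Fx_inf_le (g x : G) : Fx V g ⊓ Fx V (x * g * x⁻¹) ≤ Fx V (g * x * g⁻¹ * x⁻¹) := by
  rintro v ⟨h1, h2⟩
  have h3 : (x * g * x⁻¹)⁻¹ • v = v := inv_smul_eq_iff.2 (mem_Fx.1 h2).symm
  rw [mem_Fx, show g * x * g⁻¹ * x⁻¹ = g * (x * g * x⁻¹)⁻¹ by group, mul_smul, h3, mem_Fx.1 h1]

variable (V) in
/-- small fixed space -/
def Good (g : G) : Prop := Nat.card (Fx V g) ^ 2 ≤ Nat.card V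

theorem good_of_bot {g x : G} (h : Fx V g ⊓ Fx V (x * g * x⁻¹) ≤ ⊥) : Good V g := by
  simpa [Good] using fx_sq_le g x h

theorem smul_inj {a b : K} (h : ∀ v : V, a • v = b • v) : a = b :=
  let ⟨v, hv⟩ := exists_ne (0 : V)
  smul_left_injective K hv (h v)

namespace Prim
variable (h : Prim (V := V) U A E sc σ π)
include h

theorem nA : A.Normal := h.hA ▸ inferInstance

theorem lin {g : G} (hg : g ∈ A) (a : K) (v : V) : g • a • v = a • g • v := by
  rw [h.hσ, show σ g = 1 from MonoidHom.mem_ker.1 (h.hA ▸ hg)]; rfl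

theorem comm {g x : G} (hg : g ∈ A) (hx : x ∈ U) : g * x = x * g :=
  FaithfulSMul.eq_of_smul_eq_smul (α := V) fun v => by
    rw [mul_smul, mul_smul, h.hsc x hx, h.hsc x hx, h.lin hg]

theorem sc_mul {x y : G} (hx : x ∈ U) (hy : y ∈ U) : sc (x * y) = sc x * sc y :=
  Units.ext (smul_inj (V := V) fun v => by
    rw [← h.hsc _ (mul_mem hx hy), mul_smul, h.hsc x hx, h.hsc y hy, Units.val_mul, mul_smul])

theorem sc_inj {x y : G} (hx : x ∈ U) (hy : y ∈ U) (e : sc x = sc y) : x = y :=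
  FaithfulSMul.eq_of_smul_eq_smul (α := V) fun v => by rw [h.hsc x hx, h.hsc y hy, e]

/-- the scalars as a homomorphism -/
def scHom : U →* Kˣ := MonoidHom.mk' (fun x => sc x) fun a b => h.sc_mul a.2 b.2

theorem scHom_inj : Function.Injective h.scHom := fun a b e => Subtype.ext (h.sc_inj a.2 b.2 e)

theorem sc_one : sc 1 = 1 := h.scHom.map_one

theorem u_dvd : Nat.card U ∣ Nat.card K - 1 := by
  rw [← Nat.card_units]
  exact card_dvd_of_injective _ h.scHom_inj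

theorem Fx_U {x : G} (hx : x ∈ U) (x1 : x ≠ 1) : Fx V x = ⊥ := by
  rw [eq_bot_iff]
  intro v hv
  by_contra v0
  rw [mem_Fx, h.hsc x hx] at hv
  exact x1 (h.sc_inj hx U.one_mem (Units.ext (smul_left_injective K v0
    (hv.trans (by rw [h.sc_one]; simp)))))

theorem π_one : π 1 = 0 := (h.π_zero 1 E.one_mem).2 U.one_mem

theorem π_inv {x : G} (hx : x ∈ E) : π x⁻¹ = -π x := by
  rw [eq_neg_iff_add_eq_zero, ← h.π_mul _ (inv_mem hx) _ hx, inv_mul_cancel, h.π_one]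

theorem π_eq {x y : G} (hx : x ∈ E) (hy : y ∈ E) : π x = π y ↔ x⁻¹ * y ∈ U := by
  rw [← h.π_zero _ (mul_mem (inv_mem hx) hy), h.π_mul _ (inv_mem hx) _ hy, h.π_inv hx,
    neg_add_eq_zero]

theorem π_comm (g : G) {x : G} (hx : x ∈ E) : π (g * x * g⁻¹ * x⁻¹) = g • π x - π x := by
  rw [h.π_mul _ (h.nE.conj_mem x hx g) _ (inv_mem hx), h.π_conj g x hx, h.π_inv hx, sub_eq_add_neg]

theorem comm_mem (g : G) {x : G} (hx : x ∈ E) : g * x * g⁻¹ * x⁻¹ ∈ E :=
  mul_mem (h.nE.conj_mem x hx g) (inv_mem hx)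

theorem E_triv {x : G} (hx : x ∈ E) (w : W) : x • w = w := by
  obtain ⟨y, hy, rfl⟩ := h.π_surj w
  rw [← h.π_conj x y hy, h.π_mul _ (mul_mem hx hy) _ (inv_mem hx), h.π_mul _ hx _ hy, h.π_inv hx]
  abel

theorem comm_U {x y : G} (hx : x ∈ E) (hy : y ∈ E) : x * y * x⁻¹ * y⁻¹ ∈ U := by
  rw [← h.π_zero _ (h.comm_mem x hy), h.π_comm x hy, h.E_triv hx, sub_self]

/-- a section of `π` -/
noncomputable def sec (w : W) : G := (h.π_surj w).choose

theorem sec_mem (w : W) : h.sec w ∈ E := (h.π_surj w).choose_spec.1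
theorem π_sec (w : W) : π (h.sec w) = w := (h.π_surj w).choose_spec.2

/-- the commutator form -/
noncomputable def β (w w' : W) : Kˣ := sc (h.sec w * h.sec w' * (h.sec w)⁻¹ * (h.sec w')⁻¹)

theorem comm_congr {g x x' : G} (hg : g ∈ A) (hx : x ∈ E) (hx' : x' ∈ E) (e : π x = π x') :
    g * x * g⁻¹ * x⁻¹ = g * x' * g⁻¹ * x'⁻¹ := by
  obtain ⟨u, hu, rfl⟩ : ∃ u ∈ U, x' = x * u := ⟨_, (h.π_eq hx hx').1 e, by group⟩
  calc g * x * g⁻¹ * x⁻¹ = g * x * (g⁻¹ * u) * u⁻¹ * x⁻¹ := by group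
    _ = _ := by rw [h.comm (inv_mem hg) hu]; group

theorem β_eq {x y : G} (hx : x ∈ E) (hy : y ∈ E) : h.β (π x) (π y) = sc (x * y * x⁻¹ * y⁻¹) := by
  rw [β, h.comm_congr (h.EA (h.sec_mem _)) (h.sec_mem _) hy (h.π_sec _)]
  congr 1
  have := h.comm_congr (h.EA hy) (h.sec_mem _) hx (h.π_sec _)
  calc _ = (y * h.sec (π x) * y⁻¹ * (h.sec (π x))⁻¹)⁻¹ := by group
    _ = _ := by rw [this]; group

theorem hβ {x y : G} (hx : x ∈ E) (hy : y ∈ E) (v : V) :
    x • y • v = (h.β (π x) (π y) : K) • y • x • v := by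
  rw [h.β_eq hx hy, ← h.hsc _ (h.comm_U hx hy), ← mul_smul, ← mul_smul, ← mul_smul]
  congr 1; group

theorem β_one {x y : G} (hx : x ∈ E) (hy : y ∈ E) : h.β (π x) (π y) = 1 ↔ x * y = y * x := by
  rw [h.β_eq hx hy, ← h.sc_one]
  exact ⟨fun e => by
    have := h.sc_inj (h.comm_U hx hy) U.one_mem e
    rwa [mul_inv_eq_one, mul_inv_eq_iff_eq_mul] at this, fun e => by rw [e]; group⟩

theorem β_uniq {x y : G} (hx : x ∈ E) (hy : y ∈ E) {a : K}
    (e : ∀ v : V, x • y • v = a • y • x • v) : (h.β (π x) (π y) : K) = a :=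
  smul_inj (V := V) fun v => by
    have := e (x⁻¹ • y⁻¹ • v)
    rwa [h.hβ hx hy, smul_inv_smul, smul_inv_smul] at this

theorem form : Form h.β := by
  refine ⟨⟨fun a b c => ?_, fun a b c => ?_, fun a => ?_⟩, fun a ha => ?_⟩
  · obtain ⟨x, hx, rfl⟩ := h.π_surj a
    obtain ⟨y, hy, rfl⟩ := h.π_surj b
    obtain ⟨z, hz, rfl⟩ := h.π_surj c
    rw [← h.π_mul x hx y hy]
    refine Units.ext (h.β_uniq (mul_mem hx hy) hz fun v => ?_)
    rw [mul_smul, h.hβ hy hz, h.lin (h.EA hx), h.hβ hx hz, mul_smul x, smul_smul, mul_comm]; rfl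
  · obtain ⟨x, hx, rfl⟩ := h.π_surj a
    obtain ⟨y, hy, rfl⟩ := h.π_surj b
    obtain ⟨z, hz, rfl⟩ := h.π_surj c
    rw [← h.π_mul y hy z hz]
    refine Units.ext (h.β_uniq hx (mul_mem hy hz) fun v => ?_)
    rw [mul_smul, h.hβ hx hy, h.hβ hx hz, h.lin (h.EA hy), mul_smul y, smul_smul]; rfl
  · obtain ⟨x, hx, rfl⟩ := h.π_surj a
    exact (h.β_one hx hx).2 rfl
  · obtain ⟨x, hx, rfl⟩ := h.π_surj a
    exact (h.π_zero x hx).2 (h.centE x (h.EA hx) fun y hy => (h.β_one hx hy).1 (ha _))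

theorem β_smul (g : G) (a b : W) : (h.β (g • a) (g • b) : K) = σ g (h.β a b) := by
  obtain ⟨x, hx, rfl⟩ := h.π_surj a
  obtain ⟨y, hy, rfl⟩ := h.π_surj b
  rw [← h.π_conj g x hx, ← h.π_conj g y hy]
  refine h.β_uniq (h.nE.conj_mem x hx g) (h.nE.conj_mem y hy g) fun v => ?_
  simp only [mul_smul, inv_smul_smul]
  rw [h.hβ hx hy, h.hσ]

theorem pres {g : G} (hg : g ∈ A) : Pres h.β g := fun a b => Units.ext (by
  rw [h.β_smul, show σ g = 1 from MonoidHom.mem_ker.1 (h.hA ▸ hg)]; rfl)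

theorem pres_two (h2 : ∀ w : W, w + w = 0) (g : G) : Pres h.β g := fun a b => Units.ext (by
  have : (h.β a b : K) * h.β a b = 1 := by
    rw [← Units.val_mul, ← h.form.add_left, h2, h.form.zero_left, Units.val_one]
  rw [h.β_smul]
  rcases mul_self_eq_one_iff.1 this with e | e <;> rw [e] <;> simp)

theorem mem_E {g : G} (hg : g ∈ A) (hw : ∀ w : W, g • w = w) : g ∈ E := by
  have hU : ∀ x ∈ E, g * x * g⁻¹ * x⁻¹ ∈ U := fun x hx => by
    rw [← h.π_zero _ (h.comm_mem g hx), h.π_comm g hx, hw, sub_self]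
  obtain ⟨w, hw'⟩ := h.form.hom_eq (fun w => sc (g * h.sec w * g⁻¹ * (h.sec w)⁻¹)) (by
    intro a b
    have ha := h.sec_mem a
    have hb := h.sec_mem b
    rw [h.comm_congr hg (h.sec_mem _) (mul_mem ha hb) (by rw [h.π_mul _ ha _ hb]; simp [h.π_sec]),
      ← h.sc_mul (hU _ ha) (hU _ hb)]
    congr 1
    calc _ = g * h.sec a * g⁻¹ * (g * h.sec b * g⁻¹ * (h.sec b)⁻¹ * (h.sec a)⁻¹) := by group
      _ = _ := by rw [← h.comm (inv_mem (h.EA ha)) (hU _ hb)]; group)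
  obtain ⟨y, hy, rfl⟩ := h.π_surj w
  have : y⁻¹ * g ∈ U := h.centE _ (mul_mem (inv_mem (h.EA hy)) hg) fun x hx => by
    have h1 := hw' (π x)
    rw [h.comm_congr hg (h.sec_mem _) hx (h.π_sec _), h.β_eq hy hx] at h1
    have h2 := h.sc_inj (hU x hx) (h.comm_U hy hx) h1
    calc y⁻¹ * g * x = y⁻¹ * (g * x * g⁻¹ * x⁻¹) * x * g := by group
      _ = _ := by rw [h2]; group
  simpa using mul_mem hy (h.UE this)

theorem card_E : Nat.card E = Nat.card U * Nat.card W := by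
  let f : E →* Multiplicative W := MonoidHom.mk' (fun x => Multiplicative.ofAdd (π x))
    fun a b => congrArg Multiplicative.ofAdd (h.π_mul _ a.2 _ b.2)
  have h1 : f.ker = U.subgroupOf E := by
    ext x; exact h.π_zero _ x.2
  have h2 : f.range = ⊤ := MonoidHom.range_eq_top.2 fun w =>
    let ⟨x, hx, e⟩ := h.π_surj w.toAdd; ⟨⟨x, hx⟩, e⟩
  rw [← f.ker.card_mul_index, index_ker, h1, h2, card_top,
    Nat.card_congr (subgroupOfEquivOfLe h.UE).toEquiv]
  rfl

theorem card_A : Nat.card A = Nat.card U * Nat.card W * Nat.card (A.map (toImg G W)) := by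
  let f : A →* Img G W := (toImg G W).comp A.subtype
  have h1 : f.ker = E.subgroupOf A := by
    ext x
    exact ⟨fun e => h.mem_E x.2 fun w => (toImg_smul (x : G) w).symm.trans (by
      rw [show toImg G W x = 1 from e, one_smul]),
      fun e => eq_one_of_triv (V := W) fun w => h.E_triv e w⟩
  have h2 : f.range = A.map (toImg G W) := by rw [MonoidHom.range_comp, range_subtype]
  rw [← f.ker.card_mul_index, index_ker, h1, h2,
    Nat.card_congr (subgroupOfEquivOfLe h.EA).toEquiv, h.card_E]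

theorem card_G : Nat.card G =
    A.index * Nat.card U * Nat.card W * Nat.card (A.map (toImg G W)) := by
  rw [← A.index_mul_card, h.card_A]; ring

theorem artin : ∃ q, 2 ≤ q ∧ Nat.card K = q ^ A.index := by
  have : Finite σ.range := Finite.of_surjective _ σ.rangeRestrict_surjective
  have _ := Fintype.ofFinite σ.range
  refine ⟨Nat.card (FixedPoints.subfield σ.range K), Finite.one_lt_card, ?_⟩
  rw [Module.natCard_eq_pow_finrank (K := FixedPoints.subfield σ.range K),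
    FixedPoints.finrank_eq_card, h.hA, index_ker, Nat.card_eq_fintype_card (α := σ.range)]

theorem prime_dvd {r : ℕ} (hr : r.Prime) (hd : r ∣ Nat.card W) : r ∣ Nat.card U := by
  have := Fact.mk hr
  obtain ⟨w, hw⟩ := exists_prime_addOrderOf_dvd_card' r hd
  obtain ⟨x, hx, rfl⟩ := h.π_surj w
  obtain ⟨w', hw'⟩ := not_forall.1 fun hh => hr.one_lt.ne' (by
    rw [← hw, h.form.nondeg (π x) hh, addOrderOf_zero])
  obtain ⟨y, hy, rfl⟩ := h.π_surj w'
  have h1 : orderOf (h.β (π x) (π y)) = r := orderOf_eq_prime (by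
    rw [← h.form.nsmul_left, ← hw, addOrderOf_nsmul_eq_zero, h.form.zero_left]) hw'
  rw [h.β_eq hx hy] at h1
  rw [← h1, show sc _ = h.scHom ⟨_, h.comm_U hx hy⟩ from rfl, orderOf_injective _ h.scHom_inj]
  exact orderOf_dvd_natCard _

/-- the linear map given by an element of `A` -/
def lm {g : G} (hg : g ∈ A) : Module.End K V where
  toFun v := g • v
  map_add' := smul_add g
  map_smul' := h.lin hg

theorem card_W_le : Nat.card W ≤ Module.finrank K V ^ 2 := by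
  have _ := Fintype.ofFinite W
  let L : W → Module.End K V := fun w => h.lm (h.EA (h.sec_mem w))
  let χ : W → (Multiplicative W →* K) := fun w => (Units.coeHom K).comp
    (MonoidHom.mk' (fun x => h.β x.toAdd w) fun a b => h.form.add_left _ _ _)
  have hχ : Function.Injective χ := fun a b e => sub_eq_zero.1 (h.form.nondeg _ fun y =>
    h.form.symm_one (by
      rw [h.form.sub_right, mul_inv_eq_one]
      exact Units.ext (DFunLike.congr_fun e (Multiplicative.ofAdd y))))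
  have h1 := Fintype.linearIndependent_iff.1 ((linearIndependent_monoidHom _ K).comp χ hχ)
  have h2 : LinearIndependent K L := by
    rw [Fintype.linearIndependent_iff]
    intro c hc w
    obtain ⟨v, v0⟩ := exists_ne (0 : V)
    have h3 : c w • h.sec w • v = 0 := by
      rw [← Module.forall_dual_apply_eq_zero_iff K]
      intro φ
      refine h1 (fun w => φ (c w • h.sec w • v)) (funext fun x => ?_) w
      have hx := h.sec_mem x.toAdd
      have h4 := congrArg (fun v => φ (h.sec x.toAdd • v))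
        (LinearMap.congr_fun hc ((h.sec x.toAdd)⁻¹ • v))
      simp only [LinearMap.coe_sum, Finset.sum_apply, LinearMap.smul_apply, Finset.smul_sum,
        LinearMap.zero_apply, smul_zero, map_zero, map_sum] at h4
      rw [Finset.sum_apply, Pi.zero_apply, ← h4]
      refine Finset.sum_congr rfl fun w _ => ?_
      change _ * (h.β x.toAdd w : K) = φ (_ • c w • h.sec w • _)
      rw [h.lin (h.EA hx), h.hβ hx (h.sec_mem w), smul_inv_smul, h.π_sec, h.π_sec, smul_comm (c w) (_ : K),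
        map_smul φ (h.β x.toAdd w : K), smul_eq_mul, mul_comm]
    exact (smul_eq_zero.1 h3).resolve_right ((smul_eq_zero_iff_eq _).not.2 v0)
  have := h2.fintype_card_le_finrank
  rwa [Module.finrank_linearMap, ← pow_two, ← Nat.card_eq_fintype_card] at this

/-- the fixed space of an element of `A` -/
def FxK {g : G} (hg : g ∈ A) : Submodule K V :=
  { Fx V g with smul_mem' := fun a v hv => mem_Fx.2 (by rw [h.lin hg, mem_Fx.1 hv]) }

theorem card_Fx {g : G} (hg : g ∈ A) :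
    Nat.card (Fx V g) = Nat.card K ^ Module.finrank K (h.FxK hg) :=
  Module.natCard_eq_pow_finrank (K := K) (V := h.FxK hg)

theorem fx_pow_le {g : G} (hg : g ∈ A) {a b : ℕ} (ha : 0 < a)
    (e : Nat.card (Fx V g) ^ a ≤ Nat.card V ^ b) (k : ℕ) :
    Nat.card (Fx V g) ^ k ≤ (Nat.card K ^ k) ^ (b * Module.finrank K V / a) := by
  have h1 : 1 < Nat.card K := Finite.one_lt_card
  rw [h.card_Fx hg, Module.natCard_eq_pow_finrank (K := K) (V := V), ← pow_mul, ← pow_mul,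
    Nat.pow_le_pow_iff_right h1] at e
  rw [h.card_Fx hg, ← pow_mul, ← pow_mul, mul_comm]
  exact Nat.pow_le_pow_right h1.le (Nat.mul_le_mul_left _ ((Nat.le_div_iff_mul_le ha).2
    (e.trans_eq (mul_comm _ _))))

theorem sum_dim_le (s : Finset G) (hs : ∀ g ∈ s, g ∈ A) (hU : ∀ a ∈ s, ∀ b ∈ s, a⁻¹ * b ∈ U) :
    ∑ g : s, Module.finrank K (h.FxK (hs g g.2)) ≤ Module.finrank K V := by
  classical
  rcases s.eq_empty_or_nonempty with rfl | ⟨g0, hg0⟩
  · simp
  have h1 := (Module.End.eigenspaces_iSupIndep (h.lm (hs g0 hg0))).comp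
    (f := fun g : s => (sc ((g : G)⁻¹ * g0) : K)) fun a b e => Subtype.ext (by
      simpa using h.sc_inj (hU _ a.2 _ hg0) (hU _ b.2 _ hg0) (Units.ext e))
  have h2 : iSupIndep fun g : s => h.FxK (hs g g.2) := h1.mono fun g v hv => by
    refine Module.End.mem_eigenspace_iff.2 ?_
    change g0 • v = _
    have e1 := h.comm (hs g g.2) (hU _ g.2 _ hg0)
    rw [mul_inv_cancel_left] at e1
    rw [← h.hsc _ (hU _ g.2 _ hg0)]
    conv_lhs => rw [e1, mul_smul, mem_Fx.1 hv]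
  have h3 := LinearMap.finrank_le_finrank_of_injective h2.dfinsupp_lsum_injective
  exact (Module.finrank_directSum K fun g : s => h.FxK (hs g g.2)).symm.trans_le h3

theorem prod_fx_le (s : Finset G) (hs : ∀ g ∈ s, g ∈ A) (hU : ∀ a ∈ s, ∀ b ∈ s, a⁻¹ * b ∈ U) :
    ∏ g ∈ s, Nat.card (Fx V g) ≤ Nat.card V := by
  rw [← Finset.prod_coe_sort, Finset.prod_congr rfl fun (g : s) _ => h.card_Fx (hs g g.2),
    Finset.prod_pow_eq_pow_sum, Module.natCard_eq_pow_finrank (K := K) (V := V)]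
  exact Nat.pow_le_pow_right Nat.card_pos (h.sum_dim_le s hs hU)

theorem good_of_comm {g x : G} (h1 : g * x * g⁻¹ * x⁻¹ ∈ U) (h2 : g * x ≠ x * g) : Good V g :=
  good_of_bot ((Fx_inf_le g x).trans (h.Fx_U h1 fun e => h2 (by
    rwa [mul_inv_eq_one, mul_inv_eq_iff_eq_mul] at e)).le)

theorem good_out {g : G} (hg : g ∉ A) : Good V g := by
  obtain ⟨x, hx, hne⟩ : ∃ x ∈ U, g * x ≠ x * g := by
    by_contra hh
    push Not at hh
    exact hg (h.cent g hh)
  exact h.good_of_comm (mul_mem (h.nU.conj_mem x hx g) (inv_mem hx)) hne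

theorem good_E {y : G} (hy : y ∈ E) (y1 : y ≠ 1) : Good V y := by
  by_cases hU : y ∈ U
  · rw [Good, h.Fx_U hU y1, AddSubgroup.card_bot]; exact Nat.card_pos
  · obtain ⟨x, hx, hne⟩ : ∃ x ∈ E, y * x ≠ x * y := by
      by_contra hh
      push Not at hh
      exact hU (h.centE y (h.EA hy) hh)
    exact h.good_of_comm (h.comm_U hy hx) hne

theorem fix34 {g : G} (g1 : g ≠ 1) : Nat.card (Fx V g) ^ 4 ≤ Nat.card V ^ 3 := by
  have key : Good V g → Nat.card (Fx V g) ^ 4 ≤ Nat.card V ^ 3 := fun hg =>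
    calc _ = (Nat.card (Fx V g) ^ 2) ^ 2 := by ring
      _ ≤ Nat.card V ^ 2 := Nat.pow_le_pow_left hg 2
      _ ≤ _ := Nat.pow_le_pow_right Nat.card_pos (by decide)
  by_cases hA : g ∈ A
  swap
  · exact key (h.good_out hA)
  by_cases hU : g ∈ U
  · exact key (h.good_E (h.UE hU) g1)
  obtain ⟨x, hx, hne⟩ : ∃ x ∈ E, g * x ≠ x * g := by
    by_contra hh
    push Not at hh
    exact hU (h.centE g hA hh)
  have h1 := fx_sq_le g x (Fx_inf_le (V := V) g x)
  have h2 := h.good_E (h.comm_mem g hx) fun e => hne (by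
    rwa [mul_inv_eq_one, mul_inv_eq_iff_eq_mul] at e)
  calc _ = (Nat.card (Fx V g) ^ 2) ^ 2 := by ring
    _ ≤ _ := Nat.pow_le_pow_left h1 2
    _ = _ * Nat.card V ^ 2 := mul_pow _ _ _
    _ ≤ Nat.card V * Nat.card V ^ 2 := Nat.mul_le_mul_right _ h2
    _ = _ := by ring

theorem third {y : G} (hy : y ∈ E) (y0 : π y ≠ 0) {s : ℕ} (ho : Odd s) (hs : s • π y = 0) :
    Nat.card (Fx V y) ^ 3 ≤ Nat.card V := by
  classical
  obtain ⟨w, hw⟩ := not_forall.1 fun hh => y0 (h.form.nondeg _ hh)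
  obtain ⟨x, hx, rfl⟩ := h.π_surj w
  have h1 : ∀ x ∈ E, h.β (π y) (π x) ≠ 1 → x * y * x⁻¹ ≠ y := fun x hx hb e =>
    hb ((h.β_one hy hx).2 (mul_inv_eq_iff_eq_mul.1 e).symm)
  have h2 : x * y * x⁻¹ ≠ x⁻¹ * y * x⁻¹⁻¹ := fun e => h1 (x * x) (mul_mem hx hx) (fun e' => hw (by
    obtain ⟨j, rfl⟩ := ho
    have := h.form.nsmul_left (2 * j + 1) (π y) (π x)
    rw [hs, h.form.zero_left, pow_succ, pow_mul, pow_two, ← h.form.add_right, ← h.π_mul x hx x hx,
      e', one_pow, one_mul] at this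
    exact this.symm)) (by
      calc x * x * y * (x * x)⁻¹ = x * (x * y * x⁻¹) * x⁻¹ := by group
        _ = y := by rw [e]; group)
  have h3 := h1 x hx hw
  have h4 := h1 x⁻¹ (inv_mem hx) (by rwa [h.π_inv hx, h.form.neg_right, ne_eq, inv_eq_one])
  have hm : ∀ g ∈ ({y, x * y * x⁻¹, x⁻¹ * y * x⁻¹⁻¹} : Finset G), g ∈ E ∧ π g = π y := by
    intro g hg
    simp only [Finset.mem_insert, Finset.mem_singleton] at hg
    rcases hg with rfl | rfl | rfl
    · exact ⟨hy, rfl⟩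
    · exact ⟨h.nE.conj_mem _ hy _, by rw [h.π_conj _ _ hy, h.E_triv hx]⟩
    · exact ⟨h.nE.conj_mem _ hy _, by rw [h.π_conj _ _ hy, h.E_triv (inv_mem hx)]⟩
  have := h.prod_fx_le _ (fun g hg => h.EA (hm g hg).1) fun a ha b hb =>
    (h.π_eq (hm a ha).1 (hm b hb).1).1 ((hm a ha).2.trans (hm b hb).2.symm)
  rwa [Finset.prod_insert (by simp only [Finset.mem_insert, Finset.mem_singleton, not_or]; exact
    ⟨h3.symm, h4.symm⟩), Finset.prod_pair h2, card_Fx_conj, card_Fx_conj, ← pow_three] at this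

theorem bad_comm {g x : G} (hb : ¬ Good V g) (hx : x ∈ E) (e : g • π x = π x) : g * x = x * g := by
  by_contra hne
  exact hb (h.good_of_comm (by
    rw [← h.π_zero _ (h.comm_mem g hx), h.π_comm g hx, e, sub_self]) hne)

theorem bad_form {g : G} (hb : ¬ Good V g) {w : W} (hw : w ∈ Cm W g) : h.β w (g • w) = 1 := by
  obtain ⟨w, rfl⟩ := hw
  obtain ⟨x, hx, rfl⟩ := h.π_surj w
  have hy := h.comm_mem g hx
  rw [dl_apply, ← h.π_comm g hx, ← h.π_conj g _ hy]
  set y := g * x * g⁻¹ * x⁻¹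
  by_contra hne
  refine hb (good_of_bot (x := x) fun v hv => ?_)
  have h1 : y • v = v := mem_Fx.1 (Fx_inf_le g x hv)
  have h2 : (g * y * g⁻¹) • v = v := by
    rw [mul_smul, mul_smul, inv_smul_eq_iff.2 (mem_Fx.1 hv.1).symm, h1, mem_Fx.1 hv.1]
  have h3 := h.hβ hy (h.nE.conj_mem y hy g) v
  rw [h2, h1, h2] at h3
  by_contra v0
  exact hne (Units.ext (smul_left_injective K v0 (h3.symm.trans (one_smul K v).symm)))

theorem bad_inv {g : G} (hg : g ∈ A) (h2 : g * g = 1) (hb : ¬ Good V g) (w : W) :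
    h.β w (g • w) = 1 := by
  by_contra hne
  have hsq : h.β w (g • w) * h.β w (g • w) = 1 := by
    have := h.pres hg w (g • w)
    rw [← mul_smul g g w, h2, one_smul, h.form.skew] at this
    nth_rewrite 1 [← this]
    exact inv_mul_cancel _
  obtain ⟨j, N, hN, e⟩ := Nat.exists_eq_two_pow_mul_odd (addOrderOf_pos w).ne'
  have h3 : ∀ j : ℕ, ∀ z : W, 2 ^ j • z = 0 → 2 • z = 0 := by
    intro j
    induction j with
    | zero => intro z hz; rw [pow_zero, one_nsmul] at hz; rw [hz, smul_zero]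
    | succ j ih => intro z hz; exact h.cr.sqf 2 z (ih _ (by rwa [pow_succ', mul_nsmul] at hz))
  have h4 : 2 • N • w = 0 := h3 j _ (by rw [← mul_nsmul', ← e, addOrderOf_nsmul_eq_zero])
  have h5 : h.β (N • w) (g • N • w) ≠ 1 := by
    obtain ⟨i, hi⟩ := hN.mul hN
    rw [smul_comm g, h.form.nsmul_left, h.form.nsmul_right, ← pow_mul, hi, pow_succ, pow_mul,
      pow_two, hsq, one_pow, one_mul]
    exact hne
  obtain ⟨x, hx, e'⟩ := h.π_surj (N • w)
  rw [← e'] at h4 h5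
  have h6 : x * x ∈ U := by rw [← h.π_zero _ (mul_mem hx hx), h.π_mul x hx x hx, ← two_nsmul, h4]
  refine hb (good_of_bot (x := x) fun v hv => ?_)
  have h7 : (g * x * g⁻¹) • x⁻¹ • v = v := by
    rw [← mul_smul]; exact mem_Fx.1 (Fx_inf_le g x hv)
  have h8 := h.hβ (inv_mem hx) (h.nE.conj_mem x hx g) (x⁻¹ • v)
  have h9 : (g * x * g⁻¹) * (g * x * g⁻¹) * x⁻¹ * x⁻¹ = 1 := by
    calc _ = g * (x * x) * g⁻¹ * x⁻¹ * x⁻¹ := by group
      _ = 1 := by rw [h.comm hg h6]; group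
  have h10 := congrArg ((g * x * g⁻¹) • ·) h8
  simp only [h7] at h10
  rw [h.lin (h.EA (h.nE.conj_mem x hx g)), ← mul_smul, ← mul_smul, ← mul_smul, h9, one_smul,
    h.π_inv hx, h.π_conj g x hx, h.form.neg_left] at h10
  by_contra v0
  exact h5 (inv_eq_one.1 (Units.ext (smul_left_injective K v0 (h10.symm.trans (one_smul K v).symm))))

theorem bad_two_thirds {g : G} {w : W} (hw : w ∈ Cm W g) (w0 : w ≠ 0) {s : ℕ} (ho : Odd s)
    (hs : s • w = 0) : Nat.card (Fx V g) ^ 6 ≤ Nat.card V ^ 4 := by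
  obtain ⟨w, rfl⟩ := hw
  obtain ⟨x, hx, rfl⟩ := h.π_surj w
  rw [dl_apply, ← h.π_comm g hx] at w0 hs
  have h1 := fx_sq_le g x (Fx_inf_le (V := V) g x)
  have h2 := h.third (h.comm_mem g hx) w0 ho hs
  calc _ = (Nat.card (Fx V g) ^ 2) ^ 3 := by ring
    _ ≤ _ := Nat.pow_le_pow_left h1 3
    _ = _ * Nat.card V ^ 3 := mul_pow _ _ _
    _ ≤ Nat.card V * Nat.card V ^ 3 := Nat.mul_le_mul_right _ h2
    _ = _ := by ring

theorem bad_sixteen {g : G} (h2 : ∀ w ∈ Cm W g, w + w = 0) (ht : 4 < Nat.card (Cm W g)) :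
    Nat.card (Fx V g) ^ 16 ≤ Nat.card V ^ 11 := by
  have hz : ∀ w ∈ Cm W g, Nat.card (AddSubgroup.zmultiples w) ≤ 2 := fun w hw => by
    rw [Nat.card_zmultiples]
    exact addOrderOf_le_of_nsmul_eq_zero two_pos (by rw [two_nsmul, h2 w hw])
  obtain ⟨⟨_, w1, rfl⟩, a0⟩ := AddSubgroup.ne_bot_iff_exists_ne_zero.1
    (show Cm W g ≠ ⊥ from fun e => by rw [e] at ht; simp at ht)
  have a0' : dl W g w1 ≠ 0 := fun e => a0 (Subtype.ext e)
  set a := dl W g w1 with ha
  have hza := hz a ⟨w1, rfl⟩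
  obtain ⟨w2, k1, k2⟩ : ∃ w2, h.β a w2 = 1 ∧ dl W g w2 ∉ AddSubgroup.zmultiples a := by
    by_contra hh
    push Not at hh
    have k1 : h.form.perp (AddSubgroup.zmultiples a) ≤ (AddSubgroup.zmultiples a).comap (dl W g) :=
      fun w hw => hh w (h.form.mem_perp_zm.1 hw)
    have k2 := AddSubgroup.index_antitone k1
    have k3 := h.form.card_perp (AddSubgroup.zmultiples a)
    rw [← (h.form.perp (AddSubgroup.zmultiples a)).card_mul_index, mul_comm] at k3
    rw [AddSubgroup.index_comap, ← Nat.eq_of_mul_eq_mul_left Nat.card_pos k3] at k2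
    have k4 := ((AddSubgroup.zmultiples a).addSubgroupOf (Cm W g)).card_mul_index
    rw [Nat.card_congr (AddSubgroup.addSubgroupOfEquivOfLe (AddSubgroup.zmultiples_le_of_mem
      (⟨w1, rfl⟩ : a ∈ Cm W g))).toEquiv] at k4
    have k5 := Nat.mul_le_mul hza (k2.trans hza)
    exact absurd (k4.ge.trans k5) (by omega)
  obtain ⟨w3, k3, k4⟩ := h.form.exists_sep k2
  obtain ⟨x1, hx1, rfl⟩ := h.π_surj w1
  obtain ⟨x2, hx2, rfl⟩ := h.π_surj w2
  obtain ⟨x3, hx3, rfl⟩ := h.π_surj w3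
  rw [ha, dl_apply, ← h.π_comm g hx1] at k1 k3 a0'
  rw [dl_apply, ← h.π_comm g hx2] at k4
  have hy1 := h.comm_mem g hx1
  have hy2 := h.comm_mem g hx2
  set y1 := g * x1 * g⁻¹ * x1⁻¹
  set y2 := g * x2 * g⁻¹ * x2⁻¹
  have c1 : ∀ x ∈ E, h.β (π y1) (π x) = 1 → x * y1 * x⁻¹ = y1 := fun x hx e => by
    rw [← (h.β_one hy1 hx).1 e, mul_inv_cancel_right]
  have m1 : ∀ (x : G) (X : AddSubgroup V),
      Nat.card (X.map (DistribSMul.toAddMonoidHom V x)) = Nat.card X := fun x X =>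
    AddSubgroup.card_map_of_injective (MulAction.injective x)
  have g1 : Good V y1 := h.good_E hy1 fun e => a0' (by rw [e, h.π_one])
  have g2 : Nat.card ↥(Fx V y1 ⊓ Fx V y2) ^ 2 ≤ Nat.card (Fx V y1) := by
    have k5 : (Fx V y1 ⊓ Fx V y2).map (DistribSMul.toAddMonoidHom V x3) ≤
        Fx V y1 ⊓ Fx V (x3 * y2 * x3⁻¹) := by
      refine (AddSubgroup.map_inf_le _ _ _).trans ?_
      rw [← Fx_conj, ← Fx_conj, c1 x3 hx3 k3]
    have := two_le (inf_le_left : Fx V y1 ⊓ Fx V y2 ≤ _) (k5.trans inf_le_left)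
    rwa [m1, ← pow_two, AddSubgroup.card_eq_one.2 (eq_bot_iff.2 (((inf_le_inf inf_le_right
      (k5.trans inf_le_right)).trans (Fx_inf_le y2 x3)).trans (h.Fx_U (h.comm_U hy2 hx3) fun e =>
      k4 (by rw [h.β_eq hy2 hx3, e, h.sc_one])).le)), one_mul] at this
  set P := Fx V g ⊓ Fx V (x1 * g * x1⁻¹)
  have g3 : Nat.card P ^ 2 ≤ Nat.card ↥(Fx V y1 ⊓ Fx V y2) * Nat.card (Fx V y1) := by
    have k5 : P.map (DistribSMul.toAddMonoidHom V x2) ≤ Fx V y1 := by
      rw [← c1 x2 hx2 k1, Fx_conj]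
      exact AddSubgroup.map_mono (Fx_inf_le g x1)
    have := two_le (Fx_inf_le g x1) k5
    rw [m1, ← pow_two] at this
    refine this.trans (Nat.mul_le_mul_right _ (AddSubgroup.card_le_of_le
      (le_inf (inf_le_left.trans (Fx_inf_le g x1)) (le_trans ?_ (Fx_inf_le g x2)))))
    rw [Fx_conj x2 g]
    exact inf_le_inf inf_le_left (AddSubgroup.map_mono inf_le_left)
  have g4 := fx_sq_le g x1 (le_refl P)
  have g5 := Nat.pow_le_pow_left g1 2
  have g6 := (Nat.pow_le_pow_left g2 2).trans g1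
  calc _ = (Nat.card (Fx V g) ^ 2) ^ 8 := by ring
    _ ≤ _ := Nat.pow_le_pow_left g4 8
    _ = (Nat.card P ^ 2) ^ 4 * Nat.card V ^ 8 := by ring
    _ ≤ _ := Nat.mul_le_mul_right _ (Nat.pow_le_pow_left g3 4)
    _ = (Nat.card ↥(Fx V y1 ⊓ Fx V y2) ^ 2) ^ 2 * (Nat.card (Fx V y1) ^ 2) ^ 2 * Nat.card V ^ 8 := by
      ring
    _ ≤ Nat.card V * Nat.card V ^ 2 * Nat.card V ^ 8 :=
      Nat.mul_le_mul_right _ (Nat.mul_le_mul g6 g5)
    _ = _ := by ring

theorem bad_uniq {g g' : G} (hb : ¬ Good V g) (hb' : ¬ Good V g') (e : g⁻¹ * g' ∈ U) : g = g' := by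
  by_contra hne
  have h1 := two_le (le_top : Fx V g ≤ ⊤) (le_top : Fx V g' ≤ ⊤)
  have h2 : Fx V g ⊓ Fx V g' = ⊥ := by
    rw [eq_bot_iff, ← h.Fx_U e fun e => hne (inv_mul_eq_one.1 e)]
    rintro v ⟨a, b⟩
    rw [mem_Fx, mul_smul, mem_Fx.1 b, inv_smul_eq_iff, mem_Fx.1 a]
  rw [h2, AddSubgroup.card_bot, one_mul, AddSubgroup.card_top] at h1
  rw [Good, not_le] at hb hb'
  have h3 := Nat.mul_lt_mul'' hb hb'
  rw [← mul_pow, ← pow_two] at h3
  exact absurd (Nat.pow_le_pow_left h1 2) h3.not_ge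

end Prim

end H6.BS
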