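import Mathlib

/-! Base sizes of solvable linear groups VIII: the numerical part. -/

set_option autoImplicit false
set_option synthInstance.maxSize 100000
set_option synthInstance.maxHeartbeats 400000

namespace H6.BS

def tab1 : List ℕ :=
  [1, 1, 1, 2, 6, 4, 2, 6, 21, 48, 4, 10, 12, 12, 6, 8, 72, 16, 48, 18, 24, 12, 10, 22, 42, 96,
   12, 96, 36, 28, 8, 30, 155, 20, 16, 24, 288, 36, 18, 24, 84, 40, 12, 42, 60, 192, 22, 46, 144,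
   144, 96, 32, 72, 52, 96, 40, 126, 36, 28, 58, 48, 60, 30, 288, 2592, 48, 20, 66, 96, 44, 24,
   70, 1008, 72, 36, 192, 108, 60, 24, 78, 288, 4608, 40, 82, 72, 64, 42, 56, 210, 88, 192, 72,
   132, 60, 46, 72, 310, 96, 144, 480, 576, 100, 32, 102, 252, 48, 52, 106, 576, 108, 40, 72, 432,
   112, 36, 88, 168, 576, 58, 96, 168, 240, 60, 80, 180, 384, 288, 126, 2592, 84, 48, 130, 120,
   108, 66, 384, 336, 136, 44, 138, 144, 92, 70, 120, 3456, 112, 72, 288, 216, 148, 192, 150, 378,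
   768, 60, 120, 144, 156, 78, 104, 620, 132, 4608, 162, 240, 80, 82, 166, 252, 336, 64, 864, 252,
   172, 56, 576, 720, 116, 88, 178, 1152, 180, 72, 120, 462, 144, 60, 160, 276, 576, 72, 190,
   5184, 192, 96, 96, 864, 196, 480, 198, 2016, 132, 100, 168, 192, 160, 102, 1056, 864, 180, 48,
   210, 312, 140, 106, 168, 2016, 180, 108, 144, 240, 192, 72, 222, 930, 4608, 112, 226, 216, 228,
   88, 120, 588, 232, 576, 184, 348, 156, 96, 238, 576, 240, 240, 9216, 360, 576, 80, 216, 630,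
   164, 384, 250, 1728, 220, 126, 128, 31104]

def tab2 : List ℕ :=
  [1, 1, 1, 1, 3, 1, 1, 3, 21, 1, 1, 5, 3, 3, 3, 1, 21, 1, 1, 9, 3, 3, 5, 11, 21, 3, 3, 39, 9, 7,
   1, 15, 155, 5, 1, 3, 3, 9, 9, 3, 21, 5, 3, 21, 15, 1, 11, 23, 21, 9, 3, 1, 9, 13, 39, 5, 63, 9,
   7, 29, 3, 15, 15, 3, 441, 3, 5, 33, 3, 11, 3, 35, 21, 9, 9, 3, 27, 15, 3, 39, 21, 39, 5, 41, 9,
   1, 21, 7, 105, 11, 1, 9, 33, 15, 23, 9, 155, 3, 9, 5, 9, 25, 1, 51, 63, 3, 13, 53, 117, 27, 5,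
   9, 63, 7, 9, 11, 21, 3, 29, 3, 21, 25, 15, 5, 45, 93, 3, 63, 889, 21, 3, 65, 15, 27, 33, 39,
   21, 17, 11, 69, 9, 23, 35, 15, 21, 7, 9, 9, 27, 37, 3, 75, 189, 1, 15, 15, 9, 39, 39, 13, 155,
   33, 39, 81, 15, 5, 41, 83, 63, 21, 1, 9, 63, 43, 7, 9, 105, 29, 11, 89, 3, 45, 9, 15, 231, 9,
   15, 5, 69, 117, 9, 95, 441, 3, 3, 3, 27, 49, 5, 99, 63, 33, 25, 21, 3, 5, 51, 11, 63, 45, 3,
   105, 39, 35, 53, 21, 819, 45, 27, 9, 15, 3, 9, 111, 465, 3, 7, 113, 27, 57, 11, 15, 147, 29, 3,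
   23, 87, 39, 3, 119, 21, 15, 25, 605, 45, 9, 5, 27, 315, 41, 93, 125, 9, 55, 63, 1, 3255]

def tab3 : List ℕ :=
  [1, 1, 1, 2, 2, 4, 2, 2, 7, 16, 4, 10, 4, 4, 2, 8, 20, 16, 16, 2, 8, 4, 10, 22, 14, 32, 4, 32,
   4, 28, 8, 10, 155, 20, 16, 8, 32, 4, 2, 8, 28, 40, 4, 14, 20, 64, 22, 46, 40, 32, 32, 32, 8,
   52, 32, 40, 14, 4, 28, 58, 16, 20, 10, 32, 155, 16, 20, 22, 32, 44, 8, 70, 112, 8, 4, 64, 4,
   20, 8, 26, 80, 640, 40, 82, 8, 64, 14, 56, 70, 88, 64, 8, 44, 20, 46, 8, 310, 32, 32, 160, 64,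
   100, 32, 34, 28, 16, 52, 106, 64, 4, 40, 8, 40, 112, 4, 88, 56, 64, 58, 32, 56, 200, 20, 80,
   20, 128, 32, 14, 889, 28, 16, 130, 40, 4, 22, 128, 112, 136, 44, 46, 16, 92, 70, 40, 320, 112,
   8, 64, 8, 148, 64, 50, 14, 256, 20, 40, 16, 52, 26, 104, 620, 44, 640, 2, 80, 80, 82, 166, 28,
   112, 64, 32, 28, 172, 56, 64, 200, 116, 88, 178, 128, 20, 8, 40, 154, 16, 20, 160, 92, 64, 8,
   190, 310, 64, 32, 32, 64, 196, 160, 22, 224, 44, 100, 56, 64, 160, 34, 352, 80, 20, 16, 70,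
   104, 140, 106, 56, 224, 20, 4, 16, 80, 64, 8, 74, 310, 512, 112, 226, 8, 76, 88, 40, 196, 232,
   64, 184, 116, 52, 32, 238, 160, 80, 200, 1280, 40, 128, 80, 8, 70, 164, 128, 250, 64, 220, 14,
   128, 1085]

def tab93 : List ℕ :=
  [1, 1, 1, 2, 2, 4, 2, 2, 7, 16, 4, 10, 4, 4, 2, 8, 20, 16, 16, 2, 8, 4, 10, 22, 14, 32, 4, 32,
   4, 28, 8, 10, 20, 20, 16, 8, 32, 4, 2, 8, 28, 40, 4, 14, 20, 64, 22, 46, 40, 32, 32, 32, 8, 52,
   32, 40, 14, 4, 28, 58, 16, 20, 10, 32, 98, 16, 20, 22, 32, 44, 8, 70, 112, 8, 4, 64, 4, 20, 8,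
   26, 80, 640, 40, 82, 8, 64, 14, 56, 70, 88, 64, 8, 44, 20, 46, 8, 40, 32, 32, 160, 64, 100, 32,
   34, 28, 16, 52, 106, 64, 4, 40, 8, 40, 112, 4, 88, 56, 64, 58, 32, 56, 200, 20, 80, 20, 128,
   32, 14, 889, 28, 16, 130, 40, 4, 22, 128, 112, 136, 44, 46, 16, 92, 70, 40, 320, 112, 8, 64, 8,
   148, 64, 50, 14, 256, 20, 40, 16, 52, 26, 104, 80, 44, 640, 2, 80, 80, 82, 166, 28, 112, 64,
   32, 28, 172, 56, 64, 200, 116, 88, 178, 128, 20, 8, 40, 154, 16, 20, 160, 92, 64, 8, 190, 196,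
   64, 32, 32, 64, 196, 160, 22, 224, 44, 100, 56, 64, 160, 34, 352, 80, 20, 16, 70, 104, 140,
   106, 56, 224, 20, 4, 16, 80, 64, 8, 74, 40, 512, 112, 226, 8, 76, 88, 40, 196, 232, 64, 184,
   116, 52, 32, 238, 160, 80, 200, 1280, 40, 128, 80, 8, 70, 164, 128, 250, 64, 220, 14, 128, 889]

/-- bound for the order of a solvable completely reducible `c'`-group on a module of order `N` -/
def T (c N : ℕ) : ℕ :=
  (if c = 1 then tab1 else if c = 2 then tab2 else if c = 3 then tab3 else tab93).getD N 0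

def pp (p : ℕ) : Prop := 2 ≤ p ∧ ∀ d ∈ [2, 3, 5, 7, 11, 13], d ∣ p → d = p

instance ppDec : DecidablePred pp := fun p => by unfold pp; infer_instance

theorem pp_of_prime {p : ℕ} (h : p.Prime) : pp p :=
  ⟨h.two_le, fun d hd e => ((Nat.dvd_prime h).1 e).resolve_left (by
    simp only [List.mem_cons, List.not_mem_nil, or_false] at hd; omega)⟩

def umax (q c : ℕ) : ℕ := (q - 1) / Nat.gcd (q - 1) (c ^ 8)

theorem dvd_umax {q c u : ℕ} (h1 : u ∣ q - 1) (h2 : u.Coprime c) : u ∣ umax q c := by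
  obtain ⟨m, hm⟩ := Nat.gcd_dvd_left (q - 1) (c ^ 8)
  rcases Nat.eq_zero_or_pos (Nat.gcd (q - 1) (c ^ 8)) with e | e
  · simp [umax, e]
  · rw [umax, Nat.div_eq_of_eq_mul_right e hm]
    rw [hm] at h1
    exact ((h2.pow_right 8).coprime_dvd_right (Nat.gcd_dvd_right _ _)).dvd_of_dvd_mul_left h1

theorem umax_pos {q c : ℕ} (hq : 2 ≤ q) : 0 < umax q c :=
  Nat.div_pos (Nat.gcd_le_left _ (by omega)) (Nat.gcd_pos_of_pos_left _ (by omega))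

theorem clR : ∀ c ∈ [1, 2, 3, 93], ∀ a < 129, 2 ≤ a → ∀ b < 129, 2 ≤ b → a * b ≤ 256 →
    T c a * T c b ≤ T c (a * b) := by decide +kernel

theorem clI : ∀ c ∈ [1, 2, 3, 93], ∀ a < 17, 2 ≤ a → ∀ m < 9, 2 ≤ m → a ^ m ≤ 256 →
    Nat.gcd m c = 1 → T c a ^ m * m * T c m ≤ T c (a ^ m) := by decide +kernel

theorem clP : ∀ c ∈ [1, 2, 3, 93], ∀ p < 257, pp p → ∀ f < 9, 1 ≤ f → ∀ n < 9, 1 ≤ n →
    (p ^ f) ^ n ≤ 256 → ∀ g < 9, g ∣ f → Nat.gcd g c = 1 → ∀ e < n + 1, 1 ≤ e → Nat.gcd e c = 1 →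
    e ∣ umax (p ^ f) c ^ e → g * umax (p ^ f) c * (e * e) * T c (e * e) ≤ T c ((p ^ f) ^ n) := by
  decide +kernel

def two (t : ℕ) : ℕ := Nat.gcd t (2 ^ t)

def invCoef (c e a s : ℕ) : ℕ :=
  if c % 2 = 1 ∧ 3 ≤ s ∧ s ∣ e ∧ two (s * s) * (s * s) ∣ e * e then
    (if Nat.gcd (s * s) (e * e / (s * s)) = 1 then 1 else a) * (2 * (s * s)) else 0

def invExp (n s : ℕ) : ℕ := if two (s * s) = s * s then 11 * n / 16 else 2 * n / 3

def oddCoef (e a : ℕ) : ℕ :=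
  if two e = e then 0 else (e * e - 1) * e + (if 9 ≤ e then a * (e * e / 3) else 0)

/-- twice the bound for the number of tuples fixed by a linear element -/
def gen (c n e a D Q : ℕ) : ℕ :=
  (a + 2) * (e * e) * ((if n % 2 = 0 then 2 else 3) * Q ^ (n / 2)) + 8 * D * Q ^ (3 * n / 4) +
    oddCoef e a * Q ^ (2 * n / 3) + ∑ s ∈ Finset.range (e + 1), invCoef c e a s * Q ^ invExp n s

def lin (c k q n e a D : ℕ) : ℕ :=
  if e = 1 then 0 else if n = 2 then min (2 * ((q + 1) * (q ^ k - 1))) (gen c n e a D (q ^ k))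
  else gen c n e a D (q ^ k)

def per (k N u : ℕ) : ℕ :=
  min (u * N.sqrt ^ k) ((N - 1) * ∑ i ∈ Finset.range k, N.sqrt ^ i)

def ab (c e : ℕ) : ℕ := if e ≤ 16 then T c (e * e) else (e * e) ^ 3 / 5

def db (c e a : ℕ) : ℕ :=
  if e % 4 ≠ 0 then 0 else if two e ≠ e then a else if c % 3 = 0 then 0 else e * e - 1

def xb (g e a : ℕ) : ℕ := (if g % 2 = 0 then 2 else 1) * ((g - 1) * (e * e * a))

def Fine (c k m q g u n e a D X : ℕ) : Prop :=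
  2 + lin c k q n e a D + X * per k (q ^ n) u + 2 * ((m - 1) * (g * u * (e * e) * a)) <
    2 * (q ^ n) ^ k

instance fineDec (c k m q g u n e a D X : ℕ) : Decidable (Fine c k m q g u n e a D X) := by
  unfold Fine; infer_instance

def Crude (k q n e : ℕ) : Prop := 6 * e ^ 8 * q ^ 2 < q ^ (k * (n - 3 * n / 4))

instance crudeDec (k q n e : ℕ) : Decidable (Crude k q n e) := by unfold Crude; infer_instance

def Spec (c k q g n e : ℕ) : Prop :=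
  (c = 1 ∧ n = 4 ∧ e = 4 ∧ ((k = 3 ∧ q = 3) ∨ (k = 2 ∧ q = 5) ∨ (k = 2 ∧ q = 7))) ∨
  (c = 1 ∧ k = 3 ∧ q = 4 ∧ g = 2 ∧ n = 3 ∧ e = 3) ∨
  (c = 3 ∧ k = 2 ∧ q = 3 ∧ n = 4 ∧ e = 4) ∨ (c = 3 ∧ k = 2 ∧ q = 3 ∧ n = 8 ∧ e = 8)

instance specDec (c k q g n e : ℕ) : Decidable (Spec c k q g n e) := by
  unfold Spec; infer_instance

def R0 (c k m q f n e : ℕ) : Prop :=
  ∀ g < f + 1, g ∣ f → Nat.gcd g c = 1 → Spec c k q g n e ∨
    Fine c k m q g (umax q c) n e (ab c e) (db c e (ab c e)) (xb g e (ab c e))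

instance r0Dec (c k m q f n e : ℕ) : Decidable (R0 c k m q f n e) := by unfold R0; infer_instance

def R0' (c k m q f n : ℕ) : Prop :=
  (2 ≤ n ∧ Crude k q n n) ∨ ∀ e < n + 1, 1 ≤ e → Nat.gcd e c = 1 → e ∣ umax q c ^ e →
    R0 c k m q f n e

instance r0Dec' (c k m q f n : ℕ) : Decidable (R0' c k m q f n) := by unfold R0'; infer_instance

def R1 (c k m w : ℕ) : Prop :=
  ∀ p < 256, pp p → Nat.gcd p w = 1 → ∀ f < 8, 1 ≤ f → p ^ f < 256 → ∀ n < 69, 1 ≤ n →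
    R0' c k m (p ^ f) f n

instance r1Dec (c k m w : ℕ) : Decidable (R1 c k m w) := by unfold R1; infer_instance

theorem r1A : R1 1 3 5 1 := by decide +kernel
theorem r1B : R1 1 2 5 6 := by decide +kernel
theorem r1C : R1 2 2 2 1 := by decide +kernel
theorem r1D : R1 3 2 3 2 := by decide +kernel

def Big (c k q n e a D : ℕ) : Prop :=
  32 * (2 + gen c n e a D (q ^ k)) + 2 * (e * e * a) * q ^ (2 + (n * k + 1) / 2) +
    8 * (e * e * a) * q ^ 2 < 64 * q ^ (n * k)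

instance bigDec (c k q n e a D : ℕ) : Decidable (Big c k q n e a D) := by
  unfold Big; infer_instance

theorem r2 : ∀ c ∈ [1, 2, 3], ∀ k ∈ [2, 3], ∀ n < 69, 2 ≤ n → Crude k 256 n n ∨
    ∀ e < n + 1, 1 ≤ e → Big c k 256 n e (ab c e) (db c e (ab c e)) := by decide +kernel

end H6.BS
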