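/-
Simple groups of small chain length, part 5: further local configurations.
-/
import Cfsg.Agent.H6.CL4

set_option autoImplicit false
set_option linter.unusedSectionVars false

namespace H6.CL
open Cfsg Subgroup H17.GS
open H19 hiding eq_bot_mono

universe u
variable {G : Type u} [Group G] [Finite G] {A B D E H K L M N P Q R S T U V W X Y : Subgroup G}
  {a b c d e g r s t v w x y z ρ : G}

namespace CF
variable (h : CF S T t s) (hG : HH G) (hV : El 2 2 V ⊤) (l : V ≤ T) (tV : t ∉ V) (r1 : ρ ∈ C[t]) (r2 : ρ ∈ N(V))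
  (fp : Fp ρ V)
include h hG hV l tV r1 r2 fp

omit hG in
theorem cls (zV : z ∈ V) (nc : ∀ g, g * t * g⁻¹ ≠ z) (u : s * t * s⁻¹ * t = z) (g : G) (hv : v ∈ V)
    (m : g * v * g⁻¹ ∈ V ⊔ zpowers t) : g * v * g⁻¹ ∈ V := by
  have z1 : z ≠ 1 := u ▸ h.ut
  refine (mem_hyp (hyp_zp h.t2 tV (cent_le_norm V (cent_mono l h.tC))) tV m).elim id fun q => by_contra fun f => ?_
  obtain ⟨n, -, n2⟩ := fp.trans hV r2 hv (fun e => f (by simp [e])) zV z1
  by_cases q1 : g * v * g⁻¹ * t = 1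
  · exact nc (n * g⁻¹) (by rw [← isq h.t2, ← eq_inv_of_mul_eq_one_left q1, ← n2]; group)
  obtain ⟨m, m1, m2⟩ := fp.trans hV r2 q q1 zV z1
  refine nc (n * g⁻¹ * m⁻¹ * s) ?_
  rw [← conj_conj', eq_mul_inv_of_mul_eq u]
  calc _ = n * g⁻¹ * m⁻¹ * (m * (g * v * g⁻¹ * t) * m⁻¹ * (m * t * m⁻¹)⁻¹) * (n * g⁻¹ * m⁻¹)⁻¹ := by
        rw [m2, conj_of_cent (zpowers_le' r1 m1)]
    _ = z := by rw [← n2]; group

/-- the case `|T| = 16` with a normal four-group -/
theorem cf2 (nV : T ≤ N(V)) (y0 : Hyp (V ⊔ zpowers t) T) (n0 : ¬ T ≤ C(V)) : False := by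
  have tC := cent_mono l h.tC
  have y1 := hyp_zp h.t2 tV (cent_le_norm V tC)
  obtain ⟨z, ⟨zV, zC⟩, z1⟩ := exists_ne_one (hV.pg.meet_cent h.hT.pi nV hV.ne_bot)
  obtain ⟨a, aV, aC⟩ := SetLike.not_le_iff_exists.1 (mt cents_symm n0)
  have z2 := sq_one hV.ab zV
  have k : Dd z z a (zpowers z ⊔ zpowers a) := ⟨ord2_of z2 z1, mem_zpowers z, sq_one hV.ab aV,
    fun e => aC (zpowers_le' zC e), by rw [conj_of_cent (ab_cent1 hV.ab zV aV), isq z2], rfl,
    hV.pg.of_le (sup_le (zpowers_le' zV) (zpowers_le' aV))⟩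
  obtain rfl : zpowers z ⊔ zpowers a = V := eq_of_le_of_card_ge (sup_le (zpowers_le' zV) (zpowers_le' aV))
    (by rw [hV.card, k.four.card])
  have eE : T ⊓ C(zpowers z ⊔ zpowers a) = zpowers z ⊔ zpowers a ⊔ zpowers t :=
    (y0.max (le_inf y0.le (sup_le hV.le_cent (zpowers_le' tC))) inf_le_left).resolve_right fun e => n0 (e ▸ inf_le_right)
  have zT : T ≤ C[z] := le_cent1_iff.2 zC
  have cz : ∀ x ∈ zpowers z ⊔ zpowers a, x ∈ C(T) → x ≠ 1 → x = z := fun x a b c =>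
    ((mem_zp z2).1 ((k.mem.1 a).resolve_right fun e => aC ((mul_mem_cancel_left b).1 (zpowers_le' zC e)))).resolve_left c
  have ca : ∀ x ∈ N(zpowers z ⊔ zpowers a), x ∈ C[z] → x ∉ C[a] → x * a * x⁻¹ = z * a := fun x a1 a2 a3 => by
    have := k.mul_a (conj_mem_of_norm a1 aV) fun e => k.ac ((mem_normalizer_iff.1 (norms_cent1 le_rfl a2 |> fun _ =>
      cent_le_norm _ (zp_cent le_rfl a2)) a).2 e)
    rcases (mem_zp z2).1 this with e | e
    · exact (a3 ((kap_one k.aa).1 e)).elim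
    · rw [← e, mul_assoc _ a a, k.aa, mul_one]
  have ce : ∀ x ∈ T, x ∉ zpowers z ⊔ zpowers a ⊔ zpowers t → x * a * x⁻¹ = z * a := fun x a1 a2 =>
    ca x (nV a1) (zT a1) fun e => a2 (eE ▸ mem_inf.2 ⟨a1, k.cent_four (zT a1) e⟩)
  obtain ⟨e, e1, e2⟩ := hout y0
  have sz : s ∈ C[z] := cent_of_conj (cz _ (der_of_four l nV (by rw [y0.card, y1.card]; ring) (conj_mem_of_norm
    (norms_der le_rfl h.sn) (by have := comm_mem e1 (l aV); rwa [ce e e1 e2, mul_inv_cancel_right] at this)))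
    (cent_conj h.sn zC) (conj_ne_one z1 s))
  have nc := h.nc zC sz
  have u : s * t * s⁻¹ * t = z := cz _ ((mem_hyp y1 tV (eE ▸ mem_inf.2 ⟨h.uT, cent_mono l h.uC⟩)).resolve_left fun q => by
    obtain ⟨n, -, n2⟩ := fp.trans hV r2 q (conj_ne_one (fun e => tV (by rw [e]; exact one_mem _)) s) zV z1
    exact nc (n * s) (by rw [← conj_conj', n2])) (mul_mem h.uC h.tC) h.ut
  have cl := fun g v => h.cls (v := v) hV l tV r1 r2 fp zV nc u g
  have bT := conj_mem_of_norm h.sn (l aV)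
  by_cases q : s * a * s⁻¹ ∈ zpowers z ⊔ zpowers a ⊔ zpowers t
  · have n := k.norm_four sz (cl s a aV q)
    obtain ⟨s, h, sa, sz, u⟩ : ∃ s, CF S T t s ∧ s ∈ C[a] ∧ s ∈ C[z] ∧ s * t * s⁻¹ * t = z := by
      by_cases q : s ∈ C[a]
      · exact ⟨s, h, q, sz, u⟩
      refine ⟨_, h.mul e1, cent_of_conj ?_, mul_mem (zT e1) sz, ?_⟩
      · rw [← conj_conj', ca s n sz q, show e * (z * a) * e⁻¹ = e * z * e⁻¹ * (e * a * e⁻¹) by group, ce e e1 e2,
          conj_of_cent (zT e1), ← mul_assoc, z2, one_mul]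
      · rw [← conj_conj', conj_of_cent (cent_le_cent1 e1 h.uC |> mem_cent1_symm.1), u]
    have la : LA t ρ s (zpowers z ⊔ zpowers a) (zpowers z ⊔ zpowers a ⊔ zpowers t) := by
      refine ⟨hV, h.t2, tV, l.trans h.hT.le, rfl, ?_, r1, r2, fp, k.cent_four sz sa, u ▸ zV, h.sc⟩
      rw [cent_sup, cent_zpowers]
      refine syl_cent h.hT (le_inf (eE.ge.trans inf_le_right) (y0.le.trans h.hT.le)) (h.hT.pi.of_le y0.le) le_sup_left
        fun g _ m => ?_
      have := h.hT.pi.card_mul_le (inf_lt_left.2 fun f : T ≤ C(cj g (zpowers z ⊔ zpowers a)) => ?_)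
      · have := y0.card; omega
      have w : ∀ v ∈ zpowers z ⊔ zpowers a, v ≠ 1 → g * v * g⁻¹ = z := fun v a b => by
        have c := cents_symm f (conj_mem_cj.2 a)
        exact cz _ (cl g v a (eE ▸ mem_inf.2 ⟨m (conj_mem_cj.2 a), cent_mono l c⟩)) c (conj_ne_one b g)
      exact k.ac (mul_left_cancel (mul_right_cancel ((w z zV z1).trans (w a aV k.a1).symm)) ▸ mem_zpowers z)
    exact la.s4 hG (e := e) (la.nrm (nV e1) (by rw [(kap_one h.t2).2 (h.hT.le e1)]; exact one_mem _))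
      (h.hT.pi.of_le (zpowers_le' e1)) fun f => e2 (eE ▸ mem_inf.2 ⟨e1, f⟩)
  have b2 := conj_sq k.aa s
  have ss := conj_mem_of_norm (nV h.ss) aV
  rw [← conj_conj'] at ss
  generalize e : s * a * s⁻¹ = b at bT q b2 ss
  have e1 : a * b * (a * b) = z := by
    rw [show a * b * (a * b) = a * (b * a * b⁻¹) * (b * b) by group, ce b bT q, b2, mul_one, ← mul_assoc,
      mem_cent1.1 (k.cent k.aD), mul_assoc, k.aa, mul_one]
  have l1 : z ∈ zpowers (a * b) := e1 ▸ mul_mem (mem_zpowers _) (mem_zpowers _)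
  have l2 : zpowers z ⊔ zpowers a ≤ zpowers (a * b) ⊔ zpowers a := sup_le_sup_right (zpowers_le' l1) _
  obtain ⟨n, -, n2⟩ := fp.trans hV r2 aV k.a1 zV z1
  refine h.lb3 hG k.aa (l aV) e (e1 ▸ z1) k.d2 l1 ?_ (l2 ss) n2
  exact y0.sup_zp bT q ▸ sup_le (sup_le_sup_right l2 _) (zpowers_le' (mem_sup_left ((mul_mem_cancel_left
    (mem_sup_right (mem_zpowers a))).1 (mem_sup_left (mem_zpowers _)))))

/-- the case that `T` is elementary abelian of order eight -/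
theorem cf8 (e : V ⊔ zpowers t = T) : False := by
  have tC := cent_mono l h.tC
  have y1 : Hyp V T := e ▸ hyp_zp h.t2 tV (cent_le_norm V tC)
  have ab : Abelem 2 T := e ▸ abelem_sup hV.ab (abelem_zpowers (by rw [pow_two, h.t2])) (zp_cent (l.trans h.hT.le))
  have su : s * (s * t * s⁻¹) * s⁻¹ = t := by rw [conj_conj', conj_of_cent (h.hT.le h.ss)]
  have wT := mul_mem h.uT h.tT
  have sw : s ∈ C[s * t * s⁻¹ * t] := cent_of_conj (by
    rw [show s * (s * t * s⁻¹ * t) * s⁻¹ = s * (s * t * s⁻¹) * s⁻¹ * (s * t * s⁻¹) by group, su, ab_comm ab h.tT h.uT])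
  have nc := h.nc (ab_cent ab wT) sw
  have u1 := conj_ne_one (fun e => tV (e ▸ one_mem _) : t ≠ 1) s
  by_cases q : s * t * s⁻¹ ∈ V
  · have k : ∀ x ∈ V, x ≠ 1 → x ≠ s * t * s⁻¹ → s * x * s⁻¹ ∈ V := fun x a b c => by_contra fun f => by
      have m := hmul y1 (conj_mem_of_norm h.sn (l a)) h.tT f tV
      obtain ⟨n, n1, n2⟩ := fp.trans hV r2 m (fun e => c (by
        have := (eq_inv_of_mul_eq_one_left e).trans ((isq h.t2).trans su.symm)
        exact mul_left_cancel (mul_right_cancel this))) q u1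
      obtain ⟨m, -, m2⟩ := fp.trans hV r2 q u1 a b
      refine nc (n * s * m * s) ?_
      rw [← conj_conj', ← conj_conj', m2, ← n2]
      nth_rewrite 2 [← conj_of_cent (zpowers_le' r1 n1)]
      rw [show n * (s * x * s⁻¹ * t) * n⁻¹ * (n * t * n⁻¹) = n * (s * x * s⁻¹ * (t * t)) * n⁻¹ by group, h.t2]
      group
    have a := conj_mem_of_norm r2 q
    have b := fp _ q u1
    have := mul_mem (k _ (mul_mem q a) (fun e => b (by rw [eq_inv_of_mul_eq_one_right e, inv_eq hV.ab q]))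
      fun e => conj_ne_one u1 ρ (by simpa using e)) (inv_mem (k _ a (conj_ne_one u1 ρ) b))
    refine tV ?_
    convert this using 1
    nth_rewrite 1 [← su]
    group
  have wV := hmul y1 h.uT h.tT q tV
  have n : s ∈ N(V) := mem_norm_of_cj_le fun x hx => by
    obtain ⟨v, hv, rfl⟩ := mem_cj'.1 hx
    exact h.cls hV l tV r1 r2 fp wV nc rfl s hv (e ▸ conj_mem_of_norm h.sn (l hv))
  by_cases q : s ∈ C(V)
  · refine LA.a4 (s := s) ⟨hV, h.t2, tV, l.trans h.hT.le, e, ?_, r1, r2, fp, q, wV, h.sc⟩ hG h.hT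
    exact h.hT.of_le (ab_cent ab) (cent_le_cent1 h.tT)
  have w1 := h.ut
  have eu : s * t * s⁻¹ = s * t * s⁻¹ * t * t := by rw [mul_assoc _ t t, h.t2, mul_one]
  generalize s * t * s⁻¹ * t = w at wV w1 sw eu
  have f1 := fp.third hV r2 wV w1
  have a := conj_mem_of_norm r2 wV
  have b := fp _ wV w1
  have a1 := conj_ne_one w1 ρ
  have w2 := sq_one hV.ab wV
  have v2 := sq_one hV.ab a
  have cm := ab_comm hV.ab a wV
  have f0 := conj_of_cent sw
  have f5 := conj_of_cent r1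
  generalize e' : ρ * w * ρ⁻¹ = v at f1 a b a1 v2 cm
  have f2 : s * v * s⁻¹ = w * v := by
    rcases mem_four hV wV a w1 a1 b.symm (conj_mem_of_norm n a) with f | f | f | f
    · exact (conj_ne_one a1 s f).elim
    · exact (b (mul_left_cancel (mul_right_cancel (f.trans f0.symm)))).elim
    · refine (q (mem_cent.2 fun x hx => (mem_cent1.1 ?_).symm)).elim
      rcases mem_four hV wV a w1 a1 b.symm hx with rfl | rfl | rfl | rfl
      exacts [by simp, sw, cent_of_conj f, mem_cent1_symm.1 (mul_mem (mem_cent1_symm.1 sw)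
        (mem_cent1_symm.1 (cent_of_conj f)))]
    · exact f
  have ww : ∀ x, w * (w * x) = x := fun x => by rw [← mul_assoc, w2, one_mul]
  have vv : ∀ x, v * (v * x) = x := fun x => by rw [← mul_assoc, v2, one_mul]
  have vw : ∀ x, v * (w * x) = w * (v * x) := fun x => by rw [← mul_assoc, cm, mul_assoc]
  have key : ∀ y, s * ρ * s * ρ * ρ * s * y * (s * ρ * s * ρ * ρ * s)⁻¹ = MulAut.conj s (MulAut.conj ρ (MulAut.conj s
    (MulAut.conj ρ (MulAut.conj ρ (MulAut.conj s y))))) := fun y => by simp only [MulAut.conj_apply]; group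
  rw [← MulAut.conj_apply] at eu f0 f2 f5 e' f1
  refine b (no_swap_elt h.hT ((ab_cent ab).trans (cent_mono l)) (n := s * ρ * s * ρ * ρ * s) (cent_of_conj ?_)
    (mul_mem (mul_mem (mul_mem (mul_mem (mul_mem n r2) n) r2) r2) n) wV w2 ?_ ?_).symm <;> rw [key] <;>
  simp [map_mul, eu, f0, f2, f5, e', f1, mul_assoc, ww, vv, vw, v2]

end CF

theorem Dd.nsq (k : Dd d c a D) : c ∉ zpowers (c * c) := fun e => by
  obtain ⟨B, b1, -⟩ := exists_hyp (k.pg.of_le k.le) (bot_lt_iff_ne_bot.2 fun f => k.d1 (mem_bot.1 (f ▸ k.dc)))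
  refine b1.ne (le_antisymm b1.le (zpowers_le' (zpowers_le' ?_ e)))
  by_cases m : c ∈ B
  exacts [mul_mem m m, hmul b1 (mem_zpowers _) (mem_zpowers _) m m]

section field
variable (hT : Syl 2 T C[t]) (t2 : t * t = 1) (k : Dd d c a D) (hc : c ≠ d) (l : D ≤ T) (tD : t ∉ D) (n0 : T ≤ N(D))
  (y0 : Hyp (D ⊔ zpowers t) T) (hd : ∀ g ∈ C[t], ∀ x ∈ D, x * x = 1 → g * x * g⁻¹ ∈ T → g * x * g⁻¹ ∈ D)
  (cj : ∀ x ∈ D, x ∉ zpowers c → ∃ g ∈ C[t], g * x * g⁻¹ = d) (hy : y ∈ T) (y1 : y ∉ D ⊔ zpowers t)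
include hT t2 k hc l tD n0 y0 hd cj hy y1

theorem fld1 (ya : y ∈ C[a]) : y * y ∈ zpowers t ∧ ∃ n ∈ C[t] ⊓ N(zpowers d ⊔ zpowers a),
    Fp n (zpowers d ⊔ zpowers a) ∧ ∃ v ∈ zpowers d ⊔ zpowers a, n ∈ C[y * v] := by
  have tC : t ∈ C(T) := le_cent1_iff.1 hT.le
  have tT : t ∈ T := y0.le (mem_sup_right (mem_zpowers t))
  have dC : d ∈ C(T) := le_cent1_iff.1 fun x hx => cent_of_conj (k.fixd (k.norm_c hc (n0 hx)))
  obtain ⟨g, g1, g2⟩ := cj a k.aD k.ac
  obtain ⟨ρ, r1, r2⟩ := rho hT k hc l dC hd g1 g2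
  have yV := k.cent_four (cent_le_cent1 hy dC |> mem_cent1_symm.1) ya
  have c0 := k.cent0 t2 tD (cent_mono l tC)
  have c8 := k.card8 t2 tD (cent_mono l tC)
  have hV := k.four
  have l1 := k.four_le
  have b : ∀ g ∈ C[t], H19.cj g (zpowers d ⊔ zpowers a) ≤ T → #(T ⊓ C(H19.cj g (zpowers d ⊔ zpowers a))) ≤ 8 * 2 :=
    fun g hg m => by
      obtain ⟨x, x1, x2, x3⟩ := k.ex_refl (hd g hg) m
      refine (y0.card_inf inf_le_left).trans (Nat.mul_le_mul_right 2 ?_)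
      rw [← (k.out x1 x2).card8 t2 tD (cent_mono l tC)]
      exact card_le (le_trans (le_inf inf_le_right (inf_le_left.trans (inf_le_right.trans (cent_le_cent1 x3))))
        ((k.out x1 x2).cent0 t2 tD (cent_mono l tC)))
  have yy := c0 ⟨hmul y0 hy hy y1 y1, mul_mem ya ya⟩
  generalize zpowers d ⊔ zpowers a = V at *
  have tV : t ∉ V := fun e => tD (l1 e)
  have tV' := cent_mono (l1.trans l) tC
  have e1 := hyp_zp t2 tV (cent_le_norm V tV')
  have ab : Abelem 2 (V ⊔ zpowers t) := abelem_sup hV.ab (abelem_zpowers (by rw [pow_two, t2]))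
    (cents_symm (zpowers_le' tV'))
  have cE : C(V ⊔ zpowers t) = C(V) ⊓ C[t] := by rw [cent_sup, cent_zpowers]
  have yE : y ∈ C(V ⊔ zpowers t) := cE ▸ mem_inf.2 ⟨yV, hT.le hy⟩
  have y2 : y ∉ V ⊔ zpowers t := fun e => y1 (sup_le_sup_right l1 _ e)
  have e2 := hyp_sq yy y2 (cent_le_norm _ yE)
  have abP : Ab (V ⊔ zpowers t ⊔ zpowers y) := comm_sup ab.1 inferInstance (cents_symm (zpowers_le' yE))
  have sP := syl_cent hT (P := V ⊔ zpowers t ⊔ zpowers y) (V := V) (cE ▸ sup_le (ab_cent ab) (zpowers_le' yE))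
    (hpg e2 (ab_pg ab)) (le_sup_left.trans le_sup_left) (by rwa [e2.card, c8])
  have nm : C(V) ⊓ C[t] ⊴ C[t] ⊓ N(V) := ⟨le_inf inf_le_right (inf_le_left.trans (cent_le_norm V)),
    norms_inf (norms_cent inf_le_right) (norms_cent1 inf_le_left)⟩
  obtain ⟨p, p1, n, p2, e⟩ := (mem_sup_of_norm (inf_le_left.trans nm.norm)).1 ((sP.frattini nm).ge r1)
  have fp : Fp n V := fun v hv v1 q => r2 v hv v1 (by rw [e, ← conj_conj', q, conj_of_cent (cent_le_cent1 hv p1.1)])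
  have yP : y ∈ V ⊔ zpowers t ⊔ zpowers y := mem_sup_right (mem_zpowers y)
  have nE : n ∈ N(V ⊔ zpowers t) := (norms_sup (A := C[t] ⊓ N(V)) inf_le_right
    (inf_le_left.trans ((zp_cent le_rfl).trans (cent_le_norm _)))) p2.1
  have k1 : n * y * n⁻¹ * y⁻¹ ∈ V ⊔ zpowers t := hmul e2 (conj_mem_of_norm p2.2 yP) (inv_mem yP)
    (fun q => y2 ((mem_normalizer_iff.1 nE y).2 q)) (by rwa [inv_mem_iff])
  have fx : ∀ x ∈ V ⊔ zpowers t, n * x * n⁻¹ = x → x ∈ zpowers t := fun x a b => by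
    rcases mem_hyp e1 tV a with q | q
    · rw [by_contra fun f => fp x q f b]; exact one_mem _
    · have : x * t = 1 := by_contra fun f => fp _ q f (by
        rw [show n * (x * t) * n⁻¹ = n * x * n⁻¹ * (n * t * n⁻¹) by group, b, conj_of_cent p2.1.1])
      rw [eq_inv_of_mul_eq_one_left this]; exact inv_mem (mem_zpowers t)
  have k2 : ∀ v ∈ V, n * (y * v) * n⁻¹ = n * y * n⁻¹ * y⁻¹ * (n * v * n⁻¹ * v⁻¹) * (y * v) := fun v hv => by
    rw [mul_assoc _ _ (y * v), ← mul_assoc (n * v * n⁻¹ * v⁻¹) y v,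
      mem_cent.1 yV _ (mul_mem (conj_mem_of_norm p2.1.2 hv) (inv_mem hv))]
    group
  refine ⟨fx _ yy ?_, ?_⟩
  · rw [show n * (y * y) * n⁻¹ = n * y * n⁻¹ * y⁻¹ * (y * (n * y * n⁻¹ * y⁻¹)) * y by group, ← mem_cent.1 yE _ k1,
      ← mul_assoc, sq_one ab k1, one_mul]
  rcases mem_hyp e1 tV k1 with q | q
  · obtain ⟨v, hv, f⟩ := fp.onto hV p2.1.2 q
    exact ⟨n, p2.1, fp, v, hv, cent_of_conj (by rw [k2 v hv, f, sq_one hV.ab q, one_mul])⟩
  · obtain ⟨v, hv, f⟩ := fp.onto hV p2.1.2 q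
    have := k2 v hv
    rw [f, ← mul_assoc _ _ t, sq_one ab k1, one_mul] at this
    refine ⟨_, mul_mem p2.1 p2.1, fp.sq hV p2.1.2, v, hv, cent_of_conj ?_⟩
    rw [← conj_conj', this, show n * (t * (y * v)) * n⁻¹ = n * t * n⁻¹ * (n * (y * v) * n⁻¹) by group, this,
      conj_of_cent p2.1.1, ← mul_assoc, t2, one_mul]

/-- the case that `T` does not interchange the classes of reflections of `D` -/
theorem fld (sw : y * a * y⁻¹ * a ∈ zpowers (c * c)) : ∃ y ∈ T ⊓ C(T), y ∉ D ⊔ zpowers t ∧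
    ∃ V ≤ T, ∃ n ∈ C[t] ⊓ C[y] ⊓ N(V), El 2 2 V ⊤ ∧ Fp n V := by
  have n1 : T ≤ N(zpowers c) := fun x hx => k.norm_c hc (n0 hx)
  have adj : ∀ {b}, Dd d c b D → ∀ y ∈ T, y ∉ D ⊔ zpowers t → y * b * y⁻¹ * b ∈ zpowers (c * c) → ∃ x ∈ zpowers c,
      x * y ∈ T ∧ x * y ∉ D ⊔ zpowers t ∧ x * y ∈ C[b] := fun k y a1 a2 a3 => by
    obtain ⟨x, x1, x2⟩ := k.refl_conj a3
    have := k.le (inv_mem x1)
    exact ⟨_, inv_mem x1, mul_mem (l this) a1, by rwa [mul_mem_cancel_left (mem_sup_left this)],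
      cent_of_conj (by rw [← conj_conj', ← x2]; group)⟩
  obtain ⟨x, -, hy, y1, ya⟩ := adj k y hy y1 sw
  generalize x * y = y at hy y1 ya
  have a1 := mul_mem k.cD k.aD
  have a2 := k.mul_out (mem_zpowers c)
  obtain ⟨x, x1, x2, x3, x4⟩ := adj (k.out a1 a2) y hy y1 ((k.swap (n1 hy) a1 a2 (conj_mem_of_norm (n0 hy) k.aD)).2
    (by rw [conj_of_cent ya, k.aa]; exact one_mem _))
  have s1 := (fld1 hT t2 k hc l tD n0 y0 hd cj hy y1 ya).1
  have s2 := (fld1 hT t2 (k.out a1 a2) hc l tD n0 y0 hd cj x2 x3 x4).1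
  have i1 : y * x * y⁻¹ = x⁻¹ := by
    have m := mul_mem s2 (inv_mem s1)
    rw [show x * y * (x * y) * (y * y)⁻¹ = x * (y * x * y⁻¹) by group] at m
    rcases (mem_zp t2).1 m with e | e
    · exact eq_inv_of_mul_eq_one_right e
    · exact (tD (e ▸ k.le (mul_mem x1 (conj_mem_of_norm (n1 hy) x1)))).elim
  have i2 : y * c * y⁻¹ = x⁻¹ * c * x⁻¹ := by
    have := conj_of_cent x4
    rw [show x * y * (c * a) * (x * y)⁻¹ = x * (y * c * y⁻¹) * (y * a * y⁻¹ * x⁻¹ * a⁻¹) * a by group, conj_of_cent ya,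
      k.inv' (inv_mem x1), mul_left_inj] at this
    nth_rewrite 2 [← this]; group
  obtain ⟨y, hy, y1, ya, yc⟩ : ∃ y ∈ T, y ∉ D ⊔ zpowers t ∧ y ∈ C[a] ∧ y ∈ C[c] := by
    have cc := k.nsq
    by_cases q : x ∈ zpowers (c * c)
    · have m := mul_mem (mem_zpowers c) (inv_mem x1)
      refine ⟨y, hy, y1, ya, mem_cent1_symm.1 (zpowers_le' (mem_cent1_symm.1 (cent_of_conj ?_))
        ((k.gen m fun e => cc ((mul_mem_cancel_right (inv_mem q)).1 e)).ge (mem_zpowers c)))⟩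
      rw [show y * (c * x⁻¹) * y⁻¹ = y * c * y⁻¹ * (y * x * y⁻¹)⁻¹ by group, i1, i2, inv_inv, inv_mul_cancel_right,
        zp_comm (inv_mem x1) (mem_zpowers c)]
    · obtain ⟨j, e⟩ := (k.gen x1 q).ge (mem_zpowers c)
      refine ⟨_, mul_mem hy (l k.aD), by rwa [mul_mem_cancel_right (mem_sup_left k.aD)],
        mul_mem ya (mem_cent1_self a), cent_of_conj ?_⟩
      rw [← conj_conj', k.inv, ← e]
      simp only
      rw [show y * (x ^ j)⁻¹ * y⁻¹ = ((y * x * y⁻¹) ^ j)⁻¹ by rw [conj_zpow]; group, i1]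
      group
  have yC : y ∈ C(T) := cents_symm (y0.sup_zp hy y1 ▸ sup_le (sup_le (k.sup ▸ sup_le ?_ ?_) ?_) ?_ : T ≤ C(zpowers y))
    (mem_zpowers y)
  rotate_left
  · exact zp_cent (zpowers_le' (mem_cent1_symm.1 yc))
  · exact zp_cent (zpowers_le' (mem_cent1_symm.1 ya))
  · exact zp_cent (zpowers_le' (mem_cent1_symm.1 (hT.le hy)))
  · exact zp_cent (zpowers_le' (mem_cent1_self y))
  obtain ⟨-, n, m1, m2, v, m3, m4⟩ := fld1 hT t2 k hc l tD n0 y0 hd cj hy y1 ya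
  have dC : d ∈ C(T) := le_cent1_iff.1 fun x hx => cent_of_conj (k.fixd (n1 hx))
  have vD := k.four_le m3
  by_cases q : v ∈ zpowers d
  · exact ⟨_, ⟨mul_mem hy (l vD), mul_mem yC (zpowers_le' dC q)⟩, by rwa [mul_mem_cancel_right (mem_sup_left vD)],
      _, k.four_le.trans l, n, ⟨⟨m1.1, m4⟩, m1.2⟩, k.four, m2⟩
  exfalso
  have md : d ∈ zpowers d ⊔ zpowers a := mem_sup_left (mem_zpowers d)
  have v2 := sq_one k.four.ab m3
  obtain ⟨m, m5, m6⟩ := m2.trans k.four m1.2 m3 (fun e => q (by rw [e]; exact one_mem _)) (mul_mem m3 md) fun e => q (by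
    rw [eq_inv_of_mul_eq_one_left e]; exact inv_mem (mem_zpowers d))
  have m7 : m * y * m⁻¹ = y * d := by
    rw [show m * y * m⁻¹ = m * (y * v) * m⁻¹ * (m * v * m⁻¹)⁻¹ by group, conj_of_cent (zpowers_le' m4 m5), m6,
      mul_inv_rev, mul_assoc, ← mul_assoc v, isq k.dd, ab_comm k.four.ab m3 md, mul_inv_cancel_right]
  obtain ⟨n, ⟨p1, p2⟩, p3⟩ := burn hT yC (zpowers_le' m1.1 m5) (m7 ▸ mul_mem yC dC)
  have p4 : n * d * n⁻¹ = d := (k.center hc (hd n p1 d k.dD k.dd (conj_mem_of_norm p2 (l k.dD)))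
    (cent_mono l (cent_conj p2 dC))).resolve_left (conj_ne_one k.d1 n)
  obtain ⟨j, p5⟩ := exists_odd_pow (V := Z(T)) hT (cents_symm inf_le_right) p1 (norm_le_norm_center T p2)
  have p6 : ∀ i : ℕ, n ^ (2 * i + 1) * y * (n ^ (2 * i + 1))⁻¹ = y * d := fun i => by
    induction i with
    | zero => simpa [m7] using p3
    | succ i ih =>
      rw [show 2 * (i + 1) + 1 = 1 + 1 + (2 * i + 1) by ring, pow_add, pow_add, pow_one, ← conj_conj', ih, ← conj_conj']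
      have : ∀ x z : G, n * (x * z) * n⁻¹ = n * x * n⁻¹ * (n * z * n⁻¹) := fun x z => by group
      rw [this y d, p3, m7, p4, mul_assoc y, k.dd, mul_one, p3, m7]
  exact k.d1 (by simpa [conj_of_cent (cent_le_cent1 (mem_inf.2 ⟨hy, yC⟩) p5)] using (p6 j).symm)

end field

end H6.CL
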