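/-
Simple groups of small chain length, part 6: normalizers of abelian `2`-subgroups.
-/
import Cfsg.Agent.H6.CL5

set_option autoImplicit false
set_option linter.unusedSectionVars false

namespace H6.CL
open Cfsg Subgroup H17.GS
open H19 hiding eq_bot_mono
open ArithmeticFunction (cardFactors)

universe u
variable {G : Type u} [Group G] [Finite G] {A A₁ A₂ B D E H K L M N P Q R S T U V W X Y : Subgroup G} {m n p : ℕ}
  {a b c d e g r s t v w x y z ρ : G}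

theorem Lr.card : ∀ {n : ℕ} {K H : Subgroup G}, Lr n K H → #K * 2 ^ n ≤ #H
  | 0, _, _, h => by simpa using card_le h
  | n + 1, _, H, ⟨X, a, b⟩ => by
    have h1 := b.card
    have h2 := card_mul_relIndex a.le
    have h3 := relIndex_ne_one a
    have h4 := relIndex_pos X H
    rw [← h2, pow_succ, ← mul_assoc]
    exact Nat.mul_le_mul h1 (by omega)

theorem card_om (hs : Sol M) (h : ¬ Lr (n + 1) ⊥ M) (d : m ∣ #M) (e : n ≤ cardFactors m) : #M = m := by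
  obtain ⟨b, k⟩ := d
  have m0 : m * b ≠ 0 := k ▸ card_ne_zero M
  have : ¬ n + 1 ≤ cardFactors #M := fun c => h (lr_sol hs c)
  rw [k, ArithmeticFunction.cardFactors_mul (left_ne_zero_of_mul m0) (right_ne_zero_of_mul m0)] at this
  rcases ArithmeticFunction.cardFactors_eq_zero_iff_eq_zero_or_one.1 (show cardFactors b = 0 by omega) with q | q
  · simp [q] at m0
  · rw [k, q, mul_one]

theorem om_two (hp : p.Prime) (n : ℕ) : cardFactors (2 ^ n * p) = n + 1 := by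
  rw [ArithmeticFunction.cardFactors_mul (by positivity) hp.ne_zero, ArithmeticFunction.cardFactors_apply_prime hp,
    ArithmeticFunction.cardFactors_apply_prime_pow Nat.prime_two]

/-- `N` is transitive on the non-identity elements of `D` -/
def Tr (N D : Subgroup G) : Prop := ∀ a ∈ D, ∀ b ∈ D, a ≠ 1 → b ≠ 1 → ∃ n ∈ N, n * a * n⁻¹ = b

theorem Tr.orb (h : Tr N D) (hN : N ≤ N(D)) (hv : v ∈ D) (v1 : v ≠ 1) : C[v].relIndex N + 1 = #D := by
  rw [H18.Be.relIndex_eq_ncard C[v] N (fun m => m * v * m⁻¹) fun g _ g' _ => ?_]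
  · rw [show (fun m => m * v * m⁻¹) '' N = (D : Set G) \ {1} from Set.ext fun u => ⟨fun ⟨m, a, b⟩ =>
      b ▸ ⟨conj_mem_of_norm (hN a) hv, conj_ne_one v1 m⟩, fun ⟨a, b⟩ => h v hv u a v1 b⟩,
      Set.ncard_sdiff_singleton_add_one D.one_mem]
    rfl
  · rw [mem_cent1]
    exact ⟨fun e => by rw [mul_assoc, ← inv_mul_cancel_right (g' * v) g', ← e]; group,
      fun e => by rw [← mul_inv_cancel_left g g', mul_assoc g (g⁻¹ * g') v, e]; group⟩

theorem Tr.irr (h : Tr N D) (l : U ≤ D) (h0 : U ≠ ⊥) (hn : N ≤ N(U)) : D ≤ U := fun x hx => by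
  obtain ⟨u, u1, u2⟩ := exists_ne_one h0
  by_cases e : x = 1
  · rw [e]; exact one_mem _
  obtain ⟨n, n1, rfl⟩ := h u (l u1) x hx u2 e
  exact conj_mem_of_norm (hn n1) u1

theorem Tr.rho (h : Tr N D) (hN : N ≤ N(D)) (c : #D = 4 ∨ #D = 8) :
    ∃ p ρ, p.Prime ∧ p ≠ 2 ∧ p + 1 = #D ∧ ρ ∈ N ∧ PG p (zpowers ρ) ∧ Fp ρ D := by
  obtain ⟨v, hv, v1⟩ := exists_ne_one (H := D) fun e => by simp [e] at c
  have o := h.orb hN hv v1
  generalize e : C[v].relIndex N = p at o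
  have hp : p.Prime := by
    obtain rfl | rfl : p = 3 ∨ p = 7 := by omega
    all_goals norm_num
  have := Fact.mk hp
  obtain ⟨P, hP⟩ := exists_syl p N
  obtain ⟨ρ, r1, r2⟩ := SetLike.not_le_iff_exists.1 fun k : P ≤ C[v] => hP.not_dvd_relIndex hp k e.symm.dvd
  have pg := hP.pi.of_le (zpowers_le' r1)
  refine ⟨p, ρ, hp, by omega, o, hP.le r1, pg, fun w a b f => ?_⟩
  have k := H1.card_modEq_card_inf_centralizer pg.isPGroup (zpowers_le' (hN (hP.le r1)))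
  rw [cent_zpowers] at k
  have l : D ⊓ C[ρ] < D := inf_lt_left.2 fun q => r2 (mem_cent1_symm.1 (q hv))
  have h3 := card_lt l
  have h4 := ne_bot_iff_one_lt_card.1 (ne_bot_of_mem (H := D ⊓ C[ρ]) ⟨a, mem_cent1_symm.1 (cent_of_conj f)⟩ b)
  have h5 := (Nat.modEq_iff_dvd' h3.le).1 k.symm
  have := Nat.le_of_dvd (by omega) h5
  omega

theorem Fp.ne_one (h : Fp ρ V) (h0 : V ≠ ⊥) : ρ ≠ 1 := fun e =>
  let ⟨v, a, b⟩ := exists_ne_one h0; h v a b (by simp [e])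

theorem Fp.fix (h : Fp ρ D) (h1 : R ≤ C[ρ]) (h2 : R ≤ N(D)) : (D ⊔ R) ⊓ C[ρ] = R := by
  rw [sup_inf_modr h2 h1, show D ⊓ C[ρ] = ⊥ from eq_bot_iff.2 fun v hv => by_contra fun e =>
    h v hv.1 e (conj_of_cent (mem_cent1_symm.1 hv.2)), bot_sup_eq]

theorem Fp.tr (h : Fp ρ V) (hV : El 2 2 V H) (hn : ρ ∈ N(V)) : Tr (zpowers ρ) V := fun _ a _ b c d =>
  h.trans hV hn a c b d

theorem two_idx (l : X ≤ B) (h : #B ≤ #X * 2) (hR : R ≤ B) (o : OG R) : R ≤ X := by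
  rcases l.eq_or_lt with rfl | k
  · exact hR
  have := (Lr.one k).card
  have y := hyp_of_card l (by omega)
  exact le_of_pi_of_relIndex (hR.trans (hnorm y)) l hR o (by
    rw [y.idx, compl_compl]; exact PiN.prime_pow Nat.prime_two 1)

theorem nX (ab : Ab A) (hs : s ∈ N(A)) (h : s * ρ * s⁻¹ ∈ A ⊔ zpowers ρ) : s ∈ N(A ⊓ C[ρ]) := by
  have : s ∈ N(A ⊔ zpowers ρ) := mem_norm_of_cj_le (by
    rw [cj_sup, cj_of_mem_norm hs, cj_zpowers]; exact sup_le le_sup_left (zpowers_le' h))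
  have k := norms_inf (zpowers_le' hs) (norms_cent (zpowers_le' this)) (mem_zpowers s)
  rwa [cent_sup, ← inf_assoc, inf_eq_left.2 (comm_iff_le_cent.1 ab), cent_zpowers] at k

theorem card_X (hA : PG 2 A) (p2 : p ≠ 2) (hR : PG p (zpowers ρ)) (r1 : ρ ≠ 1) (n : ρ ∈ N(A)) :
    #A * p ≤ #(A ⊔ zpowers ρ) := by
  rw [card_sup_of_disjoint (zpowers_le' n) (hA.inf_eq_bot (hR.sing_ne p2))]
  exact Nat.mul_le_mul_left _ (Nat.le_of_dvd (card_pos _) (hR.dvd_of_ne_bot (zpowers_ne_bot.2 r1)))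

theorem dvd_X (hp : p.Prime) (p2 : p ≠ 2) (hR : PG p (zpowers ρ)) (r1 : ρ ≠ 1) (h1 : ρ ∈ M) (h2 : P ≤ M)
    (c : #P = 2 ^ n) : 2 ^ n * p ∣ #M :=
  ((Nat.coprime_primes Nat.prime_two hp).2 p2.symm |>.pow_left n).mul_dvd_of_dvd_of_dvd (c ▸ card_dvd h2)
    ((hR.dvd_of_ne_bot (zpowers_ne_bot.2 r1)).trans (card_dvd (zpowers_le' h1)))

/-- a solvable normalizer of an abelian `2`-group with a large Sylow subgroup -/
theorem ea (hG : HH G) (hA : PG 2 A) (ab : Ab A) (c : 16 ≤ #A) (sol : Sol N(A)) (hp : p.Prime) (p2 : p ≠ 2)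
    (hR : PG p (zpowers ρ)) (r1 : ρ ≠ 1) (n : ρ ∈ N(A)) (hP : PG 2 P) (l : P ≤ N(A)) (cP : 64 ≤ #P) :
    #N(A) = 2 ^ 6 * p ∧ N(A) ≤ N(A ⊓ C[ρ]) := by
  have nt := hG.nt hA fun e => by simp [e] at c
  have o : OG (zpowers ρ) := hR.sing_ne p2
  have np : ∀ Q, PG 2 Q → ρ ∉ Q := fun Q a b => r1 (zpowers_eq_bot.1 ((a.of_le (zpowers_le' b)).eq_bot o))
  have lt : ∀ Q, PG 2 Q → Q ≤ N(A) → Q < N(A) := fun Q a b => lt_of_le_of_ne b fun e => np Q a (e ▸ n)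
  have c64 := hG.le64 hP (lt P hP l) nt
  have cM := card_om (n := 7) sol (hG.n8 nt) (dvd_X (n := 6) hp p2 hR r1 n l (by omega)) (om_two hp 6).ge
  refine ⟨cM, fun s hs => ?_⟩
  have lA : A ≤ N(A) := le_normalizer
  have nM : N(A) ≤ N(A) := le_rfl
  generalize hM : N(A) = M at sol n l cM lt hs lA ⊢
  rw [hM] at nM
  nth_rewrite 2 [← hM] at nM
  have nB : A ⊔ ⁅M, M⁆ ⊴ M := normal_of_der_le le_sup_right (sup_le lA (der_le M))
  have lB : A ⊔ ⁅M, M⁆ < M := lt_of_le_of_ne nB.le fun e => (lt A hA lA).not_ge ((quo_eq_bot_iff nM).1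
    (sol_eq_bot_of_le_der (sol_quo sol A) (by
      rw [← quo_comm nM nM, ← quo_sup_left ((der_le M).trans nM), e])))
  have l1 : A ≤ A ⊔ ⁅M, M⁆ := le_sup_left
  have l2 : ⁅M, M⁆ ≤ A ⊔ ⁅M, M⁆ := le_sup_right
  generalize A ⊔ ⁅M, M⁆ = B at nB lB l1 l2
  by_cases k : ρ ∈ B
  · have h1 := (Lr.one lB).card
    have h2 := card_X hA p2 hR r1 (nM n)
    refine nX ab (nM hs) (two_idx (R := zpowers (s * ρ * s⁻¹)) (sup_le l1 (zpowers_le' k)) (by nlinarith)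
      (zpowers_le' (nB.conj_mem hs k)) (cj_zpowers s ρ ▸ o.J s) (mem_zpowers _))
  have pB : PG 2 B := fun q hq d => by
    rcases (Nat.Prime.dvd_mul hq).1 (cM ▸ d.trans (card_dvd nB.le)) with e | e
    · exact (Nat.prime_dvd_prime_iff_eq hq Nat.prime_two).1 (hq.dvd_of_dvd_pow e)
    obtain rfl := (Nat.prime_dvd_prime_iff_eq hq hp).1 e
    refine (k (le_of_pi_of_relIndex (zpowers_le' (nB.norm n)) nB.le (zpowers_le' n) hR (PiN.of_not_dvd fun f => ?_)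
      (mem_zpowers ρ))).elim
    have := Nat.mul_dvd_mul d f
    rw [card_mul_relIndex nB.le, cM, Nat.mul_dvd_mul_iff_right hq.pos] at this
    exact p2 ((Nat.prime_dvd_prime_iff_eq hq Nat.prime_two).1 (hq.dvd_of_dvd_pow this))
  have q := pB.sup hP (l.trans nB.norm)
  exact (hG.kill q (cP.trans (card_le le_sup_right)) le_rfl (fun e => np _ e (norms_of_der_le (l2.trans le_sup_left)
    (sup_le nB.le l) n)) (hG.nt q fun e => by simp [sup_eq_bot_iff.1 e |>.2] at cP)).elim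

theorem not84 (h : Sim L) (d : #L ∣ 84) : False := by
  have : Fact (Nat.Prime 7) := ⟨by norm_num⟩
  obtain ⟨P, hP⟩ := exists_syl 7 L
  have k : N(P).relIndex L ≡ 1 [MOD 7] := by
    obtain ⟨Q, rfl⟩ := hP.exists_sylow
    have h1 := card_sylow_modEq_one 7 L
    rw [Q.card_eq_index_normalizer] at h1
    convert h1 using 1
    rw [relIndex, subgroupOf_normalizer_eq hP.le, subgroupOf, comap_map_eq_self_of_injective (subtype_injective _)]
    rfl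
  have d1 : P.relIndex L ∣ 12 := (hP.idx.coprime_prime this.out).dvd_of_dvd_mul_right
    (((Dvd.intro_left _ hP.card_mul).trans d).trans (by norm_num))
  have d2 := (relIndex_dvd_left le_normalizer L).trans d1
  have e : N(P).relIndex L = 1 := by
    have := Nat.le_of_dvd (by norm_num) d2
    unfold Nat.ModEq at k
    generalize N(P).relIndex L = a at *
    interval_cases a <;> omega
  rcases h.cases hP.le (relIndex_eq_one.1 e) with e | e
  · have := (lr4 h.nsol).card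
    have := Nat.le_of_dvd (by norm_num) d1
    simp [e] at *
    omega
  · exact h.nsol (e ▸ hP.pi.sol)

theorem idx_gl (hE : El 2 n E M) (hn : A ≤ N(E)) : C(E).relIndex A ∣ ∏ i : Fin n, (2 ^ n - 2 ^ (i : ℕ)) := by
  have := Fact.mk hE.prime
  obtain ⟨φ, -, h, -⟩ := H18.exists_GL_hom hE hn
  rw [relIndex, ← h, index_ker]
  exact (card_subgroup_dvd_card _).trans (by rw [Matrix.card_GL_field, ZMod.card])

theorem loc (m : MinNormal V H) (l : V ≤ H) (hV : PG 2 V) (h : ¬ Sol H) (h8 : ¬ Lr 8 ⊥ H) : ¬ Sol (H ⊓ C(V)) := by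
  intro s
  have nm := inf_cent_normal m.norm
  have q : ¬ Sol (quo (H ⊓ C(V)) H) := fun e => h (sol_of_quo nm.norm (sol_mono s inf_le_left) e)
  obtain ⟨p, hp, a⟩ := H18.minnormal_abelem m hV.sol
  obtain rfl : p = 2 := (abelem_pg hp a).mem_of_ne_bot m.ne hV
  obtain ⟨n, e⟩ := abelem_el hp a le_rfl
  have k : ∀ i j, i ≤ n → Lr j ⊥ (quo (H ⊓ C(V)) H) → Lr (i + j) ⊥ H := fun i j b c => ((lr2 hV (e.card ▸
    Nat.pow_le_pow_right two_pos b)).up (le_inf l e.le_cent)).trans (Lr.quo nm c)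
  have d := idx_gl e m.norm
  rw [← inf_relIndex_left, ← card_quo nm.norm] at d
  have c := (lr4 q).card
  have : n < 4 := by_contra fun c => h8 (k 4 4 (by omega) (lr4 q))
  interval_cases n
  iterate 3
    have := Nat.le_of_dvd (by decide) d
    simp [Fin.prod_univ_succ] at this c
    omega
  obtain ⟨s, W, w1, w2⟩ := lr5 q fun e => h8 (k 3 5 le_rfl e)
  rw [← w2.card_mul, w1.card, show ∏ i : Fin 3, (2 ^ 3 - 2 ^ (i : ℕ)) = 2 ^ 2 * (21 * 2) by decide,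
    Nat.mul_dvd_mul_iff_left (by norm_num)] at d
  refine not84 s ?_
  rw [← w2.card_mul, w1.card]
  exact Nat.mul_dvd_mul_left _ ((w2.idx.coprime_prime hp).dvd_of_dvd_mul_right d)

theorem eqA (h1 : Hyp A₁ T) (h2 : Hyp A₂ T) (un : ∀ x ∈ T, x * x = 1 → x ∈ A₁ ∨ x ∈ A₂) (l : E ≤ T)
    (a : Abelem 2 E) (c : #T = #E * 2) : E = A₁ ∨ E = A₂ := by
  have c1 := h1.card
  have c2 := h2.card
  refine or_iff_not_imp_left.2 fun n => eq_of_le_of_card_eq (fun x hx => by_contra fun m => ?_) (by omega)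
  obtain ⟨y, y1, y2⟩ := SetLike.not_le_iff_exists.1 fun e : E ≤ A₁ => n (eq_of_le_of_card_eq e (by omega))
  have k := fun z hz => un z (l hz) (sq_one a hz)
  rcases k _ (mul_mem hx y1) with e | e
  · exact y2 ((mul_mem_cancel_left ((k x hx).resolve_right m)).1 e)
  · exact m ((mul_mem_cancel_right ((k y y1).resolve_left y2)).1 e)

theorem CF.two16 (h : CF S T t s) (c : #S = #T * 4) (h1 : Hyp A₁ T) (h2 : Hyp A₂ T) (ne : A₁ ≠ A₂)
    (a1 : Abelem 2 A₁) (a2 : Abelem 2 A₂) (t1 : t ∈ A₁ ⊓ A₂) (un : ∀ x ∈ T, x * x = 1 → x ∈ A₁ ∨ x ∈ A₂)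
    (nq : ∀ x ∈ S ⊓ N(T), x ∈ N(A₁) → x ∈ T) : False := by
  have c1 := h1.card
  have c2 := h2.card
  have k1 : ∀ x ∈ S ⊓ N(T), x ∉ T → cj x A₁ = A₂ := fun x a b => (eqA h1 h2 un (cj_le_of_mem_norm a.2 h1.le)
    (abelem_J a1 x) (by simpa using c1)).resolve_left fun e => b (nq x a (mem_norm_iff_cj.2 e))
  have k2 : ∀ x ∈ S ⊓ N(T), x ∉ T → cj x A₂ = A₁ := fun x a b => (eqA h1 h2 un (cj_le_of_mem_norm a.2 h2.le)
    (abelem_J a2 x) (by simpa using c2)).resolve_right fun e => ne (cj_inj.1 ((k1 x a b).trans e.symm))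
  have sP : s ∈ S ⊓ N(T) := ⟨h.sS, h.sn⟩
  have y1 : Hyp T (S ⊓ N(T)) := hyp_of (le_inf h.le le_normalizer) sP h.st fun x a b =>
    nq _ (mul_mem (inv_mem sP) a) (mem_norm_iff_cj.2 (by rw [cj_mul, k1 x a b, ← k1 s sP h.st, cj_inv_cj]))
  have c3 := y1.card
  have y2 : Hyp (S ⊓ N(T)) S := hyp_of_card inf_le_left (by omega)
  obtain ⟨x, x1, x2⟩ := hout y2
  obtain ⟨E, e1, e2, e3, e4⟩ : ∃ E ≤ S ⊓ N(T), Abelem 2 E ∧ #E = #A₁ ∧ ¬ E ≤ T := by
    by_contra! k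
    refine x2 ⟨x1, mem_norm_of_cj_le ?_⟩
    nth_rewrite 1 [← h1.sup_eq h2.le fun e => ne (eq_of_le_of_card_eq e (by omega)).symm]
    rw [cj_sup]
    exact sup_le (k _ (cj_le_of_mem_norm (hnorm y2 x1) (h1.le.trans y1.le)) (abelem_J a1 x) (by simp))
      (k _ (cj_le_of_mem_norm (hnorm y2 x1) (h2.le.trans y1.le)) (abelem_J a2 x) (by simp; omega))
  obtain ⟨e, f1, f2⟩ := SetLike.not_le_iff_exists.1 e4
  have l : E ⊓ T ≤ A₁ ⊓ A₂ := fun w hw => by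
    have q := conj_of_cent (ab_cent1 e2 hw.1 f1)
    rcases un w hw.2 (sq_one e2 hw.1) with m | m
    · exact ⟨m, k1 e (e1 f1) f2 ▸ q ▸ conj_mem_cj.2 m⟩
    · exact ⟨k2 e (e1 f1) f2 ▸ q ▸ conj_mem_cj.2 m, m⟩
  have c4 := y1.card_inf e1
  have c5 := (Lr.one (inf_lt_left.2 fun e : A₁ ≤ A₂ => ne (eq_of_le_of_card_eq e (by omega)))).card
  have c6 := card_le l
  exact f2 (h.eq ▸ mem_inf.2 ⟨(e1 f1).1, ab_cent1 e2 ((eq_of_le_of_card_eq l (by omega)).ge t1).1 f1⟩)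

/-- the Sylow subgroup `T` of the non-solvable centralizer of `t` is as large as possible -/
structure CM (S T : Subgroup G) (t s : G) : Prop extends CF S T t s where
  hG : HH G
  ns : ¬ Sol C[t]
  mx : ∀ U Q : Subgroup G, PG 2 U → U ≠ ⊥ → PG 2 Q → Q ≤ N(U) → #T < #Q → Sol N(U)

theorem cent_of_norm (t2 : t * t = 1) (h : x ∈ N(zpowers t)) : x ∈ C[t] :=
  ((mem_zp t2).1 (conj_mem_of_norm h (mem_zpowers t))).elim (fun e => by
    obtain rfl : t = 1 := by_contra fun k => conj_ne_one k x e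
    simp) cent_of_conj

namespace CM
variable (h : CM S T t s)
include h

theorem ne : C[t] ≠ ⊤ := fun e => h.toCF.sc (e ▸ mem_top s)
theorem n8 : ¬ Lr 8 ⊥ C[t] := h.hG.n8 h.ne
theorem t1 : t ≠ 1 := fun e => h.ne (by simp [e])

theorem sol (hU : PG 2 U) (h0 : U ≠ ⊥) (n1 : T ≤ N(U)) (hx : x ∈ S) (xT : x ∉ T) (n3 : x ∈ N(U)) : Sol N(U) :=
  h.mx U _ hU h0 (h.hS.pi.of_le (sup_le h.le (zpowers_le' hx))) (sup_le n1 (zpowers_le' n3))
    (card_lt (left_lt_sup.2 fun e => xT (e (mem_zpowers x))))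

theorem nrm (n : T ≤ N(R)) : T ≤ N(cj s R) := by
  rw [← cj_norm, ← cj_of_mem_norm h.sn]; exact cj_mono s n

theorem cj2 (n : T ≤ N(R)) : cj s (cj s R) = R := by rw [cj_cj, cj_of_mem_norm (n h.ss)]

theorem disj (l : R ≤ T) (n : T ≤ N(R)) (hK : ¬ Sol K) (c : K ≤ C(R)) : R ⊓ cj s R = ⊥ := by_contra fun e =>
  hK (sol_mono (h.sol ((h.hT.pi.of_le l).infl _) e (norms_inf n (h.nrm n)) h.sS h.st (mem_norm_iff_cj.2 (by
    rw [cj_inf, h.cj2 n, inf_comm]))) ((c.trans (cent_mono inf_le_left)).trans (cent_le_norm _)))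

section field
variable (k : Dd d c a D) (hc : c ≠ d) (l : D ≤ T) (tD : t ∉ D) (n0 : T ≤ N(D))
  (y0 : Hyp (D ⊔ zpowers t) T) (hd : ∀ g ∈ C[t], ∀ x ∈ D, x * x = 1 → g * x * g⁻¹ ∈ T → g * x * g⁻¹ ∈ D)
  (cj : ∀ x ∈ D, x ∉ zpowers c → ∃ g ∈ C[t], g * x * g⁻¹ = d) (hy : y ∈ T) (y1 : y ∉ D ⊔ zpowers t)
  (yC : y ∈ C(T))
include k hc l tD n0 y0 hd cj hy y1 yC

omit k hc l tD n0 hd cj in
theorem dec (hx : x ∈ T) : ∃ v ∈ D, ∃ z ∈ zpowers t ⊔ zpowers y, z ∈ C(T) ∧ x = v * z := by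
  have c : zpowers t ⊔ zpowers y ≤ C(T) := sup_le (zpowers_le' h.toCF.tC) (zpowers_le' yC)
  rw [← y0.sup_zp hy y1, sup_assoc] at hx
  obtain ⟨v, a, z, b, e⟩ := (mem_sup_of_norm (c.trans ((cent_mono (le_sup_left.trans y0.le)).trans
    (cent_le_norm D)))).1 hx
  exact ⟨v, a, z, b, c b, e⟩

theorem hz : Hyp (zpowers t) (zpowers t ⊔ zpowers y) :=
  hyp_sq (fld1 h.hT h.t2 k hc l tD n0 y0 hd cj hy y1 (cent_le_cent1 (l k.aD) yC)).1 (fun e => y1 (mem_sup_right e))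
    (cent1_le_norm_zpowers t (h.hT.le hy))

theorem zc (hx : x ∈ T) (xC : x ∈ C(T)) : ∃ v ∈ zpowers d, ∃ z ∈ zpowers t ⊔ zpowers y, x = v * z := by
  obtain ⟨v, a, z, b, e, rfl⟩ := h.dec y0 hy y1 yC hx
  exact ⟨v, (mem_zp k.dd).2 (k.center hc a (cent_mono l ((mul_mem_cancel_right e).1 xC))), z, b, rfl⟩

theorem yy : y * y = 1 := by
  have z := h.hz k hc l tD n0 y0 hd cj hy y1 yC
  have q : ∀ x ∈ zpowers t ⊔ zpowers y, x * x ∈ zpowers t := fun x hx => by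
    by_cases m : x ∈ zpowers t
    exacts [mul_mem m m, hmul z hx hx m m]
  refine ((mem_zp h.t2).1 (q y (mem_sup_right (mem_zpowers y)))).resolve_right fun e => h.toCF.sc ?_
  obtain ⟨v, a, z, b, f⟩ := h.zc k hc l tD n0 y0 hd cj hy y1 yC (conj_mem_of_norm h.sn hy) (cent_conj h.sn yC)
  have : s * t * s⁻¹ = z * z := by
    rw [← e, show s * (y * y) * s⁻¹ = s * y * s⁻¹ * (s * y * s⁻¹) by group, f, mul_assoc, ← mul_assoc z,
      ← mem_cent.1 (sup_le (zpowers_le' h.toCF.tC) (zpowers_le' yC) b) v (l (zpowers_le' k.dD a)), mul_assoc v,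
      ← mul_assoc v, sq_one (abelem_zpowers (by rw [pow_two, k.dd])) a, one_mul]
  exact cent_of_conj (((mem_zp h.t2).1 (this ▸ q z b)).resolve_left (conj_ne_one h.t1 s))

theorem side : Abelem 2 (T ⊓ C[a]) ∧ #(T ⊓ C[a]) = 16 ∧ ∃ p ρ Z, p.Prime ∧ p ≠ 2 ∧ PG p (zpowers ρ) ∧ ρ ≠ 1 ∧
    Hyp (zpowers t) Z ∧ T ⊓ C[a] ⊓ C[ρ] = Z ∧ ρ ∈ N(T ⊓ C[a]) ∧ (ρ ∈ N(A) → d ∈ A → a ∈ A) := by
  have z := h.hz k hc l tD n0 y0 hd cj hy y1 yC
  have y2 := h.yy k hc l tD n0 y0 hd cj hy y1 yC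
  obtain ⟨-, n, ⟨n1, n2⟩, fp, v, v1, n3⟩ := fld1 h.hT h.t2 k hc l tD n0 y0 hd cj hy y1 (cent_le_cent1 (l k.aD) yC)
  have hV := k.four
  have lV := k.four_le
  have tr := fp.tr hV n2
  obtain ⟨p, ρ, hp, p2, -, r1, r2, r3⟩ := tr.rho (zpowers_le' n2) (.inl hV.card)
  have c0 : zpowers t ⊔ zpowers y ≤ C(T) := sup_le (zpowers_le' h.toCF.tC) (zpowers_le' yC)
  have l0 : zpowers t ⊔ zpowers y ≤ T := sup_le (zpowers_le' h.toCF.tT) (zpowers_le' hy)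
  have e : T ⊓ C[a] = zpowers d ⊔ zpowers a ⊔ (zpowers t ⊔ zpowers y) := le_antisymm (fun x hx => by
    obtain ⟨v, a1, z, b, e, rfl⟩ := h.dec y0 hy y1 yC hx.1
    exact mul_mem (mem_sup_left (k.cent_refl a1 ((mul_mem_cancel_right (cent_le_cent1 (l k.aD) e)).1 hx.2)))
      (mem_sup_right b)) (sup_le (le_inf (lV.trans l) (ab_cent1 hV.ab (mem_sup_right (mem_zpowers a))))
      (le_inf l0 (c0.trans (cent_le_cent1 (l k.aD)))))
  have aV : a ∈ zpowers d ⊔ zpowers a := mem_sup_right (mem_zpowers a)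
  have dV : d ∈ zpowers d ⊔ zpowers a := mem_sup_left (mem_zpowers d)
  generalize zpowers d ⊔ zpowers a = V at *
  have cV := c0.trans (cent_mono (lV.trans l))
  have ab : Abelem 2 (T ⊓ C[a]) := e ▸ abelem_sup hV.ab (abelem_sup (abelem_zpowers (by rw [pow_two, h.t2]))
    (abelem_zpowers (by rw [pow_two, y2])) (zp_cent (zpowers_le' (cent_le_cent1 hy h.toCF.tC)))) (cents_symm cV)
  have yv : y * v ∉ D ⊔ zpowers t := by rwa [mul_mem_cancel_right (mem_sup_left (lV v1))]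
  have vA : v ∈ T ⊓ C[a] := e.ge (mem_sup_left v1)
  have yA : y ∈ T ⊓ C[a] := e.ge (mem_sup_right (mem_sup_right (mem_zpowers y)))
  have tA : t ∈ T ⊓ C[a] := e.ge (mem_sup_right (mem_sup_left (mem_zpowers t)))
  have lZ : zpowers t ⊔ zpowers (y * v) ≤ T ⊓ C[a] := sup_le (zpowers_le' tA) (zpowers_le' (mul_mem yA vA))
  have e2 : T ⊓ C[a] = V ⊔ (zpowers t ⊔ zpowers (y * v)) := le_antisymm (e.le.trans (sup_le le_sup_left (sup_le
    (le_sup_left.trans le_sup_right) (zpowers_le' ((mul_mem_cancel_right (mem_sup_left v1)).1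
    (mem_sup_right (mem_sup_right (mem_zpowers _)))))))) (sup_le (le_sup_left.trans e.ge) lZ)
  have cZ : zpowers t ⊔ zpowers (y * v) ≤ C[ρ] := (sup_le (zpowers_le' (mem_cent1_symm.1 n1))
    (zpowers_le' (mem_cent1_symm.1 n3))).trans (cent1_le_cent1_of_mem_zpowers r1)
  have rV := zpowers_le' n2 r1
  refine ⟨ab, ?_, p, ρ, _, hp, p2, r2, r3.ne_one hV.ne_bot, hyp_sq (by rw [sq_one ab (mul_mem yA vA)]; exact one_mem _)
    (fun q => yv (mem_sup_right q)) (cent1_le_norm_zpowers t (ab_cent1 ab tA (mul_mem yA vA))),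
    e2 ▸ r3.fix cZ (norms_of_comm ab.1 lZ (le_sup_left.trans e.ge)), e2 ▸ norms_sup (zpowers_le' rV)
    (zpowers_le' (cent_le_norm _ (le_cent1_iff.1 cZ))) (mem_zpowers ρ), fun q m => ((r3.tr hV rV).irr inf_le_right
    (ne_bot_of_mem (H := A ⊓ V) ⟨m, dV⟩ k.d1) (zpowers_le' (norms_inf (zpowers_le' q) (zpowers_le' rV)
    (mem_zpowers ρ))) aV).1⟩
  have dj : V ⊓ (zpowers t ⊔ zpowers y) = ⊥ := eq_bot_iff.2 fun x hx => (zp_inf_eq_bot h.t2 tD).le ⟨lV hx.1,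
    by_contra fun q => y1 ((mul_mem_cancel_left (inv_mem (mem_sup_left (lV hx.1)))).1
    (mem_sup_right (hdiv z hx.2 (mem_sup_right (mem_zpowers y)) q fun f => y1 (mem_sup_right f))))⟩
  rw [e, card_sup_of_disjoint (cV.trans (cent_le_norm V)) dj, hV.card, z.card, card_zp h.t2 h.t1]
  norm_num

theorem fld2 (hn : r ∈ C[t] ⊓ C[y]) (np : ¬ PG 2 (zpowers r)) : False := by
  have z := h.hz k hc l tD n0 y0 hd cj hy y1 yC
  have c0 : zpowers t ⊔ zpowers y ≤ C(T) := sup_le (zpowers_le' h.toCF.tC) (zpowers_le' yC)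
  have l0 : zpowers t ⊔ zpowers y ≤ T := sup_le (zpowers_le' h.toCF.tT) (zpowers_le' hy)
  have c4 : #(zpowers t ⊔ zpowers y) = 4 := by rw [z.card, card_zp h.t2 h.t1]
  have lt : C[t] ⊓ C[y] < C[t] := inf_lt_left.2 fun e => by
    have dj := h.disj l0 ((cents_symm c0).trans (cent_le_norm _)) h.ns (cents_sup (zp_cent le_rfl) (zp_cent e))
    have l1 : H19.cj s (zpowers t ⊔ zpowers y) ≤ Z(T) := cj_le_of_mem_norm (norm_le_norm_center T h.sn) (le_inf l0 c0)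
    have l2 : Z(T) ≤ zpowers t ⊔ zpowers y ⊔ zpowers d := fun x hx => by
      obtain ⟨v, a, z, b, rfl⟩ := h.zc k hc l tD n0 y0 hd cj hy y1 yC hx.1 hx.2
      exact mul_mem (mem_sup_right a) (mem_sup_left b)
    have q1 := card_le ((sup_le (le_inf l0 c0) l1).trans l2)
    have q2 := Nat.le_of_dvd (Nat.mul_pos (card_pos _) (card_pos _)) (card_sup_dvd (A := zpowers t ⊔ zpowers y)
      (zpowers_le' (cent_le_norm _ (cents_symm c0 (l k.dD)))))
    rw [card_sup_of_disjoint ((l1.trans inf_le_right).trans ((cent_mono l0).trans (cent_le_norm _))) dj,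
      card_cj, c4] at q1
    rw [card_zp k.dd k.d1] at q2
    omega
  have lt' : T < C[t] ⊓ C[y] := lt_of_le_of_ne (le_inf h.hT.le (le_cent1_iff.2 yC)) fun e =>
    np (h.hT.pi.of_le (zpowers_le' (e ▸ hn)))
  have cT : #T = 32 := by
    have q1 := y0.card
    rw [card_sup_zp h.t2 tD (cent_le_norm _ (cent_mono l h.toCF.tC))] at q1
    have := k.eight hc
    obtain ⟨j, e⟩ := h.hT.pi.exists_card
    have : j < 6 := by_contra fun q => h.n8 (((lr2 (n := 6) h.hT.pi (e ▸ Nat.pow_le_pow_right two_pos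
      (by omega))).succ lt').succ lt)
    interval_cases j <;> omega
  have cS := h.hG.big h.ne (((lr2 (n := 5) h.hT.pi cT.ge).succ lt').succ lt) h.hS
  have k' := k.out (mul_mem k.cD k.aD) (k.mul_out (mem_zpowers c))
  obtain ⟨a1, b1, p, ρ, Z, hp, p2, r1, r2, z1, z2, r3, -⟩ := h.side (A := ⊥) k hc l tD n0 y0 hd cj hy y1 yC
  obtain ⟨a2, b2, q, σ, W, hq, q2, s1, s2, w1, w2, s3, s4⟩ := h.side (A := T ⊓ C[a]) k' hc l tD n0 y0 hd cj hy y1 yC
  have h1 : Hyp (T ⊓ C[a]) T := hyp_of_card inf_le_left (by omega)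
  have h2 : Hyp (T ⊓ C[c * a]) T := hyp_of_card inf_le_left (by omega)
  have ca : c * a ∉ T ⊓ C[a] := fun e => k.ac (k.mem_c hc k.aD (mem_cent1.1 (mem_cent1_symm.1
    ((mul_mem_cancel_right (mem_cent1_self a)).1 e.2))))
  have dA : ∀ b ∈ D, d ∈ T ⊓ C[b] := fun b hb => ⟨l k.dD, mem_cent1_symm.1 (k.cent hb)⟩
  have tA : ∀ b ∈ D, t ∈ T ⊓ C[b] := fun b hb => ⟨h.toCF.tT, cent_le_cent1 (l hb) h.toCF.tC⟩
  have ne : T ⊓ C[a] ≠ T ⊓ C[c * a] := fun e => ca (e.ge ⟨l k'.aD, mem_cent1_self _⟩)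
  have un : ∀ x ∈ T, x * x = 1 → x ∈ T ⊓ C[a] ∨ x ∈ T ⊓ C[c * a] := fun x hx x2 => by
    obtain ⟨v, v1, w, w1, w2, rfl⟩ := h.dec y0 hy y1 yC hx
    have wA : ∀ b ∈ D, w ∈ T ⊓ C[b] := fun b hb => ⟨l0 w1, cent_le_cent1 (l hb) w2⟩
    rw [mul_mem_cancel_right (wA a k.aD), mul_mem_cancel_right (wA _ k'.aD)]
    by_cases m : v ∈ zpowers c
    · rw [mul_assoc, ← mul_assoc w, ← mem_cent.1 w2 v (l v1), mul_assoc, sq_one a1 (wA a k.aD), mul_one] at x2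
      exact .inl (zpowers_le' (dA a k.aD) ((mem_zp k.dd).2 (k.eq_d m x2)))
    obtain ⟨g, g1, e | e⟩ := k.cls k'.aD k'.ac (by rw [mul_assoc, k.aa, mul_one]; exact k.nsq) v1 m
    · exact .inl (e ▸ conj_mem_of_norm (hnorm h1 (l (k.le g1))) ⟨l k.aD, mem_cent1_self _⟩)
    · exact .inr (e ▸ conj_mem_of_norm (hnorm h2 (l (k.le g1))) ⟨l k'.aD, mem_cent1_self _⟩)
  refine h.toCF.two16 (by omega) h1 h2 ne a1 a2 ⟨tA a k.aD, tA _ k'.aD⟩ un fun x hx n1 => by_contra fun xT => ?_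
  have n2 : x ∈ N(T ⊓ C[c * a]) := mem_norm_iff_cj.2 ((eqA h1 h2 un (cj_le_of_mem_norm hx.2 h2.le) (abelem_J a2 x)
    (by rw [card_cj]; omega)).resolve_left fun e => ne (cj_inj.1 ((cj_of_mem_norm n1).trans e.symm)))
  have pQ : PG 2 (T ⊔ zpowers x) := h.hS.pi.of_le (sup_le h.le (zpowers_le' hx.1))
  have cQ := (Lr.one (left_lt_sup.2 fun e : zpowers x ≤ T => xT (e (mem_zpowers x)))).card
  have key : ∀ {A : Subgroup G} {p ρ}, Abelem 2 A → #A = 16 → Hyp A T → x ∈ N(A) → p.Prime → p ≠ 2 →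
      PG p (zpowers ρ) → ρ ≠ 1 → ρ ∈ N(A) → #N(A) = 2 ^ 6 * p ∧ N(A) ≤ N(A ⊓ C[ρ]) := fun a b e f hp p2 r1 r2 r3 =>
    ea h.hG (ab_pg a) a.1 b.ge (h.sol (ab_pg a) (fun q => by simp [q] at b) (hnorm e) hx.1 xT f) hp p2 r1 r2 r3 pQ
      (sup_le (hnorm e) (zpowers_le' f)) (by omega)
  obtain ⟨e1, e2⟩ := key a1 b1 h1 n1 hp p2 r1 r2 r3
  obtain ⟨-, e3⟩ := key a2 b2 h2 n2 hq q2 s1 s2 s3
  rw [z2] at e2
  rw [w2] at e3
  rcases z1.max (le_inf z1.le w1.le) inf_le_left with e | e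
  · exact xT (h.toCF.eq ▸ mem_inf.2 ⟨hx.1, cent_of_norm h.t2 (e ▸ norms_inf (zpowers_le' (e2 n1))
      (zpowers_le' (e3 n2)) (mem_zpowers x))⟩)
  have pZ := hpg z1 (pg_zpowers h.t2)
  have Z0 := ne_bot_of_mem (z1.le (mem_zpowers t)) h.t1
  have := card_om (n := 7) (h.sol pZ Z0 ((hnorm h1).trans e2) hx.1 xT (e2 n1)) (h.hG.n8 (h.hG.nt pZ Z0))
    (e1 ▸ card_dvd e2) (om_two hp 6).ge
  exact ca (s4 ((eq_of_le_of_card_eq e2 (by omega)).ge (cent_le_norm Z (le_cent1_iff.1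
    ((e.ge.trans inf_le_right).trans (w2.ge.trans inf_le_right))))) (dA a k.aD))

end field

/-- the component has dihedral Sylow subgroups -/
theorem dih (k : Dd d c a D) (hc : c ≠ d) (hK : K ⊴ C[t]) (e : T ⊓ K = D) (tD : t ∉ D) (l5 : Lr 5 ⊥ K)
    (cj : ∀ x ∈ D, x ∉ zpowers c → ∃ g ∈ K, g * x * g⁻¹ = d) : False := by
  have l : D ≤ T := e ▸ inf_le_left
  have cj' := fun x a b => (cj x a b).imp fun g q => And.intro (hK.le q.1) q.2
  have n0 : T ≤ N(D) := e ▸ norms_inf le_normalizer (h.hT.le.trans hK.norm)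
  have l1 : D ⊔ zpowers t ≤ T := sup_le l (zpowers_le' h.toCF.tT)
  rcases l1.eq_or_lt with q | q
  · exact h.toCF.dih1 h.hG k hc l tD q.ge cj'
  have c1 := card_sup_zp h.t2 tD (n0 h.toCF.tT)
  have y0 : Hyp (D ⊔ zpowers t) T := hyp_of_card l1 (by
    obtain ⟨X, x1, x2⟩ := exists_up h.hT.pi q
    have := x1.card
    refine x2.eq_or_lt.elim (fun f => f ▸ this) fun f => (h.n8 ((l5.trans (lr_top (n := 3) h.hT.pi
      (h.hT.le.trans hK.norm) ?_)).up (sup_le hK.le h.hT.le))).elim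
    have := (Lr.one f).card
    rw [e]; omega)
  have hd : ∀ g ∈ C[t], ∀ x ∈ D, x * x = 1 → g * x * g⁻¹ ∈ T → g * x * g⁻¹ ∈ D := fun g a x b _ m =>
    e ▸ mem_inf.2 ⟨m, hK.conj_mem a (e.ge b).2⟩
  obtain ⟨y, hy, y1⟩ := hout y0
  by_cases sw : y * a * y⁻¹ * a ∈ zpowers (c * c)
  · obtain ⟨y, hy, y1, V, lV, n, n1, hV, fp⟩ := fld h.hT h.t2 k hc l tD n0 y0 hd cj' hy y1 sw
    exact h.fld2 k hc l tD n0 y0 hd cj' hy.1 y1 hy.2 n1.1 (fp.not_pg hV.pg hV.ne_bot n1.2 (mem_zpowers n))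
  · exact h.toCF.dih2 h.hG k hc l tD n0 y0 hd cj' hy sw

end CM

end H6.CL
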