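/-
Simple groups of small chain length, part 7: components with abelian Sylow subgroups.
-/
import Cfsg.Agent.H6.CL6

set_option autoImplicit false
set_option linter.unusedSectionVars false

namespace H6.CL
open Cfsg Subgroup H17.GS
open H19 hiding eq_bot_mono

universe u
variable {G : Type u} [Group G] [Finite G] {A B D E H K L M N P Q R S T U V W X Y : Subgroup G} {m n p : ℕ}
  {a b c d g r s t v w x y z ρ : G}

theorem sol_le_cent (hK : IsQuasisimple K) (l : N ≤ K) (n : K ≤ N(N)) (s : Sol N) : N ≤ C(K) :=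
  (H1.Quasisimple.eq_or_le_centralizer hK l n).resolve_left fun e => qs_nsol hK (e ▸ s)

/-- a `2`-element centralizing an abelian Sylow subgroup induces an inner automorphism -/
theorem zk (hK : IsQuasisimple K) (hD : Syl 2 D K) (ab : Ab D) (hT : PG 2 T) (nT : T ≤ N(K)) (e : T ⊓ K = D) :
    T ⊓ C(D) ≤ D ⊔ T ⊓ C(K) := fun y hy => by
  have l : D ⊔ zpowers y ≤ T := sup_le (e ▸ inf_le_left) (zpowers_le' hy.1)
  have yn := zpowers_le' (nT hy.1)
  have aP : Ab (D ⊔ zpowers y) := comm_sup ab inferInstance (cents_symm (zpowers_le' hy.2))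
  have hP : Syl 2 (D ⊔ zpowers y) (K ⊔ zpowers y) := ⟨sup_le_sup_right hD.le _, hT.of_le l, hD.idx.dvd (by
    rw [show K ⊔ zpowers y = K ⊔ (D ⊔ zpowers y) by rw [← sup_assoc, sup_eq_left.2 hD.le],
      relIndex_sup_right_of_norm (l.trans nT)]
    exact relIndex_dvd_left le_sup_left K)⟩
  have yP : zpowers y ≤ D ⊔ zpowers y := le_sup_right
  generalize D ⊔ zpowers y = P at *
  obtain ⟨R, k1, k2, k3⟩ := exists_odd_suppl'' hP (comm_iff_le_cent.1 aP) (inf_le_left.trans le_sup_left)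
    (inf_le_right : K ⊓ N(P) ≤ _)
  have nR := k1.trans inf_le_right
  obtain ⟨v, v1, c, c1, f⟩ := (mem_sup_of_norm (norms_of_comm aP inf_le_left (commg_le_left nR))).1
    ((commg_sup_cent nR (k2.cop hP.pi).symm (.inr hP.pi.sol)).ge (yP (mem_zpowers y)))
  have cn := zpowers_le' (nT (l c1.1))
  refine f ▸ mul_mem (mem_sup_left (e ▸ mem_inf.2 ⟨l (commg_le_left nR v1), (commutator_mono le_rfl
    (k1.trans inf_le_left)).trans (commg_le_right (l.trans nT)) v1⟩)) (mem_sup_right ⟨l c1.1, qs_cents hK cn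
    ((le_inf ((commutator_mono le_sup_left le_rfl).trans (Hub0.zs hP c1.1 fun g hg m => ?_)) (commg_le_left cn)).trans
    ((O_inf_le le_sup_left).trans (sol_le_cent hK (Oc_le _ _) (Oc_norm _ _) (O_og K).sol))) (mem_zpowers c)⟩)
  obtain ⟨n, n1, n2⟩ := burn hP (comm_iff_le_cent.1 aP c1.1) hg (comm_iff_le_cent.1 aP m)
  rw [sup_inf_modr yn (norms_of_le yP)] at n1
  exact n2 ▸ conj_of_cent (sup_le (k3.trans (sup_le (cent_le_cent1 c1.1) (le_cent1_iff.2 c1.2)))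
    (yP.trans ((comm_iff_le_cent.1 aP).trans (cent_le_cent1 c1.1))) n1)

theorem lr5' (h : ¬ Sol K) (hD : Syl 2 D K) (c : #D ≠ 4) : Lr 5 ⊥ K := by_contra fun e =>
  let ⟨_, _, a, b⟩ := lr5 h e; c ((hD.card_eq b).trans a.card)

theorem sq_cent (hD : Abelem 2 D) (hn : y ∈ N(D)) (h2 : y * y ∈ C(D)) : #D ≤ #(D ⊓ C[y]) * #(D ⊓ C[y]) := by
  nth_rewrite 1 [← card_inf_mul_relIndex C[y] D, inf_comm]
  refine Nat.mul_le_mul_left _ (cls_le fun v hv => ?_)
  have m := conj_mem_of_norm hn (inv_mem hv)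
  rw [show v * y * v⁻¹ * y⁻¹ = v * (y * v⁻¹ * y⁻¹) by group]
  refine ⟨mul_mem hv m, mem_cent1_symm.1 (cent_of_conj ?_)⟩
  rw [show y * (v * (y * v⁻¹ * y⁻¹)) * y⁻¹ = y * v * y⁻¹ * (y * y * v⁻¹ * (y * y)⁻¹) by group,
    conj_of_cent (cent_le_cent1 (inv_mem hv) h2), inv_eq hD hv, ab_comm hD hv (conj_mem_of_norm hn hv)]

theorem ab_four (h : #R = 4) : Ab R :=
  have : Fact (Nat.Prime 2) := ⟨Nat.prime_two⟩
  IsPGroup.isMulCommutative_of_card_eq_prime_sq (p := 2) h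

theorem eq_zp (t2 : t * t = 1) (t1 : t ≠ 1) (h : t ∈ R) (c : #R = 2) : R = zpowers t :=
  (eq_of_le_of_card_eq (zpowers_le' h) (by rw [card_zp t2 t1, c])).symm

namespace CM
variable (h : CM S T t s)
include h

theorem up (hK : K ⊴ C[t]) (e : T ⊓ K = D) (h1 : Lr m ⊥ K) (c : #D * 2 ^ n ≤ #T) : Lr (m + n) ⊥ C[t] :=
  (h1.trans (lr_top h.hT.pi (h.hT.le.trans hK.norm) (e ▸ c))).up (sup_le hK.le h.hT.le)

theorem e16 (ab : Ab T) (c : #T = 16) (l : R ≤ T) (cR : #R = 4) (dj : R ⊓ cj s R = ⊥) (hp : p.Prime) (p2 : p ≠ 2)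
    (hR : PG p (zpowers ρ)) (r1 : ρ ≠ 1) (n : ρ ∈ N(T)) : s ∈ N(T ⊓ C[ρ]) := by
  have T0 : T ≠ ⊥ := fun e => by simp [e] at c
  have sol := h.sol h.hT.pi T0 le_normalizer h.sS h.st h.sn
  have y := h.toCF.hyp
  have c1 := y.card
  have l1 : T ⊔ zpowers s ≤ S ⊓ N(T) := sup_le (le_inf h.le le_normalizer) (zpowers_le' ⟨h.sS, h.sn⟩)
  rcases l1.eq_or_lt with e | e
  swap
  · have := (Lr.one e).card
    exact (ea h.hG h.hT.pi ab c.ge sol hp p2 hR r1 n (h.hS.pi.infl _) inf_le_right (by omega)).2 h.sn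
  have e1 : T ⊔ zpowers s = S := nil_eq_of_norm_le h.hS.pi.nil (l1.trans inf_le_left) fun x hx =>
    e.ge ⟨hx.1, mem_norm_iff_cj.2 (by_contra fun q => ?_)⟩
  · have := card_om (n := 6) sol (fun f => by have := h.hG.big (h.hG.nt h.hT.pi T0) f h.hS; rw [← e1] at this; omega)
      (dvd_X (n := 5) hp p2 hR r1 n (l1.trans inf_le_right) (by omega)) (om_two hp 5).ge
    have k := card_X h.hT.pi p2 hR r1 n
    exact nX ab h.sn (two_idx (R := zpowers (s * ρ * s⁻¹)) (sup_le le_normalizer (zpowers_le' n)) (by nlinarith)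
      (zpowers_le' (mul_mem (mul_mem h.sn n) (inv_mem h.sn))) (cj_zpowers s ρ ▸ (hR.sing_ne p2).J s) (mem_zpowers _))
  have y' : Hyp (cj x T) (T ⊔ zpowers s) := cj_of_mem_norm hx.2 ▸ y.conj x
  have k := y'.card_inf (l.trans y.le)
  obtain ⟨z, z1, z2⟩ := exists_ne_one (H := R ⊓ cj x T) fun f => by simp [f, cR] at k
  have sz : s ∈ C[z] := (y.sup_eq y'.le fun f => q (eq_of_le_of_card_eq f (card_cj x T))).ge.trans (sup_le
    ((comm_iff_le_cent.1 ab).trans (cent_le_cent1 (l z1.1))) ((comm_iff_le_cent.1 (comm_cj.2 ab)).trans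
    (cent_le_cent1 z1.2))) (mem_sup_right (mem_zpowers s))
  exact z2 (dj.le ⟨z1.1, conj_of_cent sz ▸ conj_mem_cj.2 z1.1⟩)

theorem e8 (ab : Abelem 2 D) (c : #D = 8) (tD : t ∉ D) (e : D ⊔ zpowers t = T) (l : N ≤ C[t] ⊓ N(D)) (tr : Tr N D) :
    False := by
  have lD : D ≤ T := e ▸ le_sup_left
  have tC := cent_mono lD h.toCF.tC
  have y : Hyp D T := e ▸ hyp_zp h.t2 tD (cent_le_norm D tC)
  have aT : T ≤ C(T) := ab_cent (e ▸ abelem_sup ab (abelem_zpowers (by rw [pow_two, h.t2]))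
    (cents_symm (zpowers_le' tC)))
  have c1 := y.card
  obtain ⟨z, z1, z2, z3⟩ : ∃ z ∈ D, z ≠ 1 ∧ s ∈ C[z] := by
    have n : T ≤ N(D) := hnorm y
    have k := y.card_inf (cj_le_of_mem_norm h.sn lD)
    obtain ⟨z, z1, z2⟩ := exists_ne_one ((ab_pg ab).infr (cj s D) |>.meet_cent (h.hS.pi.of_le (zpowers_le' h.sS))
      (zpowers_le' (mem_norm_iff_cj.2 (by rw [cj_inf, h.cj2 n, inf_comm]))) fun f => by simp [f, c] at k)
    exact ⟨z, z1.1.2, z2, mem_cent1_symm.1 (cent_zpowers s ▸ z1.2)⟩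
  have nc : ∀ g, g * t * g⁻¹ ∉ D := fun g m => by
    obtain ⟨n, -, f⟩ := tr _ m z z1 (conj_ne_one h.t1 g) z2
    exact h.toCF.nc (aT (lD z1)) z3 (n * g) (by rw [← conj_conj', f])
  have nT : N ≤ N(T) := e ▸ norms_sup (l.trans inf_le_right) ((l.trans inf_le_left).trans (cent1_le_norm_zpowers t))
  have k : ∀ m ∈ N(T), m * t * m⁻¹ * t⁻¹ ∈ D := fun m hm =>
    hmul y (conj_mem_of_norm hm h.toCF.tT) (inv_mem h.toCF.tT) (nc m) (by rwa [inv_mem_iff])
  have i := cls_card k fun u hu => by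
    by_cases q : u = 1
    · exact ⟨1, one_mem _, by simp [q]⟩
    obtain ⟨n, n1, f⟩ := tr _ (k s h.sn) u hu (by rw [isq h.t2]; exact h.toCF.ut) q
    refine ⟨n * s, mul_mem (nT n1) h.sn, ?_⟩
    rw [← f, ← conj_conj']
    nth_rewrite 2 [← conj_of_cent (l n1).1]
    group
  obtain ⟨p, ρ, hp, -, -, r1, -, r3⟩ := tr.rho (l.trans inf_le_right) (.inr c)
  obtain ⟨Q, hQ⟩ := exists_syl 2 N(T)
  have T0 : T ≠ ⊥ := fun e => by simp [e, c] at c1
  have := h.hG.le64 hQ.pi (lt_of_le_of_ne hQ.le fun f => r3.not_pg (ab_pg ab) (fun q => by simp [q] at c)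
    (l r1).2 (nT r1) (f ▸ hQ.pi)) (h.hG.nt h.hT.pi T0)
  have := Nat.le_of_dvd (card_pos Q) (hQ.dvd (PiN.prime_pow Nat.prime_two 7) (by
    rw [← card_inf_mul_relIndex C[t], i, c]
    exact Nat.mul_dvd_mul_right (c := 8) (a := 16) (((show 16 = #T by omega) ▸ card_dvd
      (le_inf h.hT.le le_normalizer)))))
  omega

variable (hK : K ⊴ C[t]) (qs : IsQuasisimple K) (e : T ⊓ K = D) (ab : Abelem 2 D) (tr : Tr (K ⊓ N(D)) D)
  (dj : D ⊓ C(K) = ⊥)
include hK qs e ab tr dj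

theorem f0 (c : #D = 8) : T ≤ C(D) := by
  have hD : Syl 2 D K := e ▸ h.hT.inf_normal hK
  have l : D ≤ T := e ▸ inf_le_left
  have nK := h.hT.le.trans hK.norm
  have nD : T ≤ N(D) := e ▸ norms_inf le_normalizer nK
  have l5 := lr5' (qs_nsol qs) hD (by omega)
  have tK : t ∈ C(K) := le_cent1_iff.1 hK.le
  have tD : t ∉ D := fun q => h.t1 (dj.le ⟨q, tK⟩)
  have l1 : D ⊔ zpowers t ≤ T ⊓ C(D) := sup_le (le_inf l (ab_cent ab))
    (zpowers_le' ⟨h.toCF.tT, cent_mono hD.le tK⟩)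
  have c1 := card_sup_zp h.t2 tD (nD h.toCF.tT)
  have c2 := card_le l1
  by_contra q
  obtain ⟨X, x1, x2⟩ := exists_up h.hT.pi (inf_lt_left.2 q)
  obtain ⟨y, y1, y2⟩ := hout x1
  have yT := x2 y1
  have c3 := x1.card
  have c4 := card_le x2
  have n6 : ¬ Lr 6 ⊥ K := fun f => h.n8 (h.up (n := 2) hK e f (by omega))
  have lt : K ⊓ N(D) < K := inf_lt_left.2 fun f => by
    have := card_le (le_inf le_rfl (sol_le_cent qs hD.le f hD.pi.sol))
    simp [dj, c] at this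
  have hN := hD.inf le_normalizer
  have sN : Sol (K ⊓ N(D)) := sol_of_quo inf_le_right (sol_mono hD.pi.sol inf_le_left)
    (OG.sol ((piG_quo_iff inf_le_right).2 hN.idx))
  obtain ⟨p, ρ, hp, p2, p3, r1, r2, r3⟩ := tr.rho inf_le_right (.inr c)
  obtain rfl : p = 7 := by omega
  have cN := card_om (n := 4) sN (fun f => n6 (f.succ lt)) (dvd_X (n := 3) hp p2 r2 (r3.ne_one fun f => by
    simp [f] at c) r1 hN.le c) (om_two hp 3).ge
  have k := sq_cent ab (nD yT) (hmul x1 y1 y1 y2 y2).2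
  obtain ⟨v, v1, v2⟩ := exists_ne_one (H := D ⊓ C[y]) fun f => by simp [f, c] at k
  obtain ⟨w, w1, w2⟩ := SetLike.not_le_iff_exists.1 fun f : D ⊓ C[y] ≤ zpowers v => by
    have := card_le f
    rw [card_zp (sq_one ab v1.1) v2] at this
    nlinarith
  obtain ⟨n, n1, f⟩ := tr v v1.1 w w1.1 v2 fun f => w2 (f ▸ one_mem _)
  have o := tr.orb inf_le_right v1.1 v2
  have c5 := card_inf_mul_relIndex C[v] (K ⊓ N(D))
  have e1 := eq_of_le_of_card_eq (le_inf (ab_cent1 ab v1.1) hN.le) (by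
    rw [show C[v].relIndex (K ⊓ N(D)) = 7 by omega] at c5; omega)
  have m : n⁻¹ * (y * n * y⁻¹) ∈ D := e1.ge ⟨cent_of_conj (by
    rw [show n⁻¹ * (y * n * y⁻¹) * v * (n⁻¹ * (y * n * y⁻¹))⁻¹ = n⁻¹ * (y * (n * (y⁻¹ * v * y⁻¹⁻¹) * n⁻¹) * y⁻¹) * n
      by group, conj_of_cent (inv_mem (mem_cent1_symm.1 v1.2) : y⁻¹ ∈ C[v]), f, conj_of_cent (mem_cent1_symm.1 w1.2), ← f]
    group), (K ⊓ N(D)).mul_mem (inv_mem n1) (conj_mem_of_norm (norms_inf nK (norms_norm nD) yT) n1)⟩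
  have n2 : n ∈ N(D ⊓ C[y]) := mem_norm_of_cj_le fun x hx => by
    obtain ⟨x, x1, rfl⟩ := mem_cj'.1 hx
    refine ⟨conj_mem_of_norm n1.2 x1.1, mem_cent1_symm.1 (cent_of_conj ?_)⟩
    rw [show y * (n * x * n⁻¹) * y⁻¹ = n * (n⁻¹ * (y * n * y⁻¹) * (y * x * y⁻¹) * (n⁻¹ * (y * n * y⁻¹))⁻¹) * n⁻¹
      by group, conj_of_cent (mem_cent1_symm.1 x1.2), conj_of_cent (ab_cent1 ab x1.1 m)]
  have i7 : D.relIndex (K ⊓ N(D)) = 7 := by have := hN.card_mul; rw [c] at this; omega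
  rcases eq_of_prime_index le_sup_left (sup_le hN.le (zpowers_le' n1)) (i7 ▸ hp) with g | g
  · exact w2 (by rw [← f, conj_of_cent (ab_cent1 ab v1.1 (g.le (mem_sup_right (mem_zpowers n))))]; exact mem_zpowers v)
  · exact y2 ⟨yT, le_cent1_iff.1 ((tr.irr inf_le_left (ne_bot_of_mem v1 v2) (g.ge.trans (sup_le
      (norms_of_comm ab.1 le_rfl inf_le_left) (zpowers_le' n2)))).trans inf_le_right)⟩

/-- the component has abelian Sylow subgroups -/
theorem abl (c : #D = 4 ∨ #D = 8) : False := by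
  have hD : Syl 2 D K := e ▸ h.hT.inf_normal hK
  have l : D ≤ T := e ▸ inf_le_left
  have nK := h.hT.le.trans hK.norm
  have nD : T ≤ N(D) := e ▸ norms_inf le_normalizer nK
  have tR : t ∈ T ⊓ C(K) := ⟨h.toCF.tT, le_cent1_iff.1 hK.le⟩
  have tD : t ∉ D := fun q => h.t1 (dj.le ⟨q, tR.2⟩)
  have nR : T ≤ N(T ⊓ C(K)) := norms_inf le_normalizer (norms_cent nK)
  have d1 := h.disj inf_le_left nR (qs_nsol qs) (cents_symm inf_le_right)
  have cD : T ⊓ C(K) ≤ C(D) := inf_le_right.trans (cent_mono hD.le)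
  have eA : T ⊓ C(D) = D ⊔ T ⊓ C(K) := le_antisymm (zk qs hD ab.1 h.hT.pi nK e)
    (sup_le (le_inf l (ab_cent ab)) (le_inf inf_le_left cD))
  have cA := card_sup_of_disjoint (cD.trans (cent_le_norm D))
    (le_bot_iff.1 ((inf_le_inf_left D inf_le_right).trans dj.le))
  obtain ⟨p, ρ, hp, p2, -, r1, r2, r3⟩ := tr.rho inf_le_right c
  have rR : T ⊓ C(K) ≤ C[ρ] := inf_le_right.trans (cent_le_cent1 r1.1)
  have fx := r3.fix rR (cD.trans (cent_le_norm D))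
  have lR : T ⊓ C(K) ≤ T := inf_le_left
  generalize T ⊓ C(K) = R at *
  have r0 := r3.ne_one fun f => by simp [f] at c
  have rA : ρ ∈ N(D ⊔ R) := norms_sup (zpowers_le' r1.2) (zpowers_le' (cent_le_norm R (le_cent1_iff.1 rR)))
    (mem_zpowers ρ)
  have sR : s ∉ N((D ⊔ R) ⊓ C[ρ]) := fx.symm ▸ fun f => h.t1 (d1.le ⟨tR, (cj_of_mem_norm f).ge tR⟩)
  have lR' := cj_le_of_mem_norm h.sn lR
  have cR := cents_of_norms_disjoint (lR'.trans nR) (lR.trans (h.nrm nR)) d1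
  have c2 := card_le (sup_le lR lR')
  rw [card_sup_of_disjoint (lR'.trans nR) d1, card_cj] at c2
  have lA : D ⊔ R ≤ T := sup_le l lR
  have cT : #T ≤ 32 := by
    obtain ⟨j, q⟩ := h.hT.pi.exists_card
    refine q ▸ Nat.pow_le_pow_right (n := 2) (j := 5) two_pos (by_contra fun f => h.n8 ?_)
    have := Nat.pow_le_pow_right two_pos (show 6 ≤ j by omega)
    exact c.elim (fun c => h.up (n := 4) hK e (lr4 (qs_nsol qs)) (by omega))
      fun c => h.up (n := 3) hK e (lr5' (qs_nsol qs) hD (by omega)) (by omega)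
  have R2 : #R = 2 ∨ #R = 4 := by
    have := ne_bot_iff_one_lt_card.1 (ne_bot_of_mem tR h.t1)
    rcases pg_card_cases (h.hT.pi.of_le lR) with q | q | q | q
    · omega
    · exact .inl q
    · exact .inr q
    · nlinarith
  have fin : #R = 4 → s ∈ N(D ⊔ R) → #T = 32 → False := fun q a b => by
    have := h.toCF.hyp.card
    have nA := norms_sup nD nR
    have pA := h.hT.pi.of_le lA
    have : 16 ≤ #(D ⊔ R) := by rw [cA, q]; omega
    exact sR ((ea h.hG pA (comm_sup ab.1 (ab_four q) (cents_symm cD)) this (h.sol pA (fun f => by simp [f] at this)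
      nA h.sS h.st a) hp p2 r2 r0 rA (hpg h.toCF.hyp h.hT.pi) (sup_le nA (zpowers_le' a)) (by omega)).2 a)
  have c3 := card_le lA
  rcases c with c | c
  swap
  · have eT : D ⊔ R = T := eA ▸ inf_eq_left.2 (h.f0 hK qs e ab tr dj c)
    rcases R2 with q | q
    · exact h.e8 ab c tD (eq_zp h.t2 h.t1 tR q ▸ eT) (inf_le_inf_right _ hK.le) tr
    · exact fin q (eT ▸ h.sn) (by rw [← eT, cA, c, q])
  have hV : El 2 2 D ⊤ := ⟨Nat.prime_two, le_top, ab, c⟩
  have y0 : D ⊔ R ≠ T → Hyp (D ⊔ R) T := fun q => by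
    have i := H18.index_cent_abelem2_dvd hV nD
    rw [← inf_relIndex_left, eA] at i
    have := Nat.le_of_dvd (by norm_num) i
    have := relIndex_ne_one (lt_of_le_of_ne lA q)
    exact ⟨lA, by rcases relIndex_cases h.hT.pi (D ⊔ R) with q | q | q | q <;> simp_all <;> omega⟩
  rcases R2 with q | q
  · obtain rfl := eq_zp h.t2 h.t1 tR q
    by_cases f : D ⊔ zpowers t = T
    · exact h.toCF.cf8 h.hG hV l tD (hK.le r1.1) r1.2 r3 f
    · exact h.toCF.cf2 h.hG hV l tD (hK.le r1.1) r1.2 r3 nD (y0 f) fun g => f (eA ▸ inf_eq_left.2 g)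
  rw [c, q] at cA
  by_cases f : D ⊔ R = T
  · exact sR (f.symm ▸ h.e16 (f ▸ comm_sup ab.1 (ab_four q) (cents_symm cD)) (f ▸ cA) lR q d1 hp p2 r2 r0 (f ▸ rA))
  have y := y0 f
  have l2 : cj s R ≤ D ⊔ R := by_contra fun g => g (eA ▸ le_inf lR' (le_trans ?_ (cent_mono l)))
  · have e2 : R ⊔ cj s R = D ⊔ R := eq_of_le_of_card_eq (sup_le le_sup_right l2) (by
      rw [card_sup_of_disjoint (lR'.trans nR) d1, card_cj, cA, q])
    exact fin q (e2 ▸ mem_norm_iff_cj.2 (by rw [cj_sup, h.cj2 nR, sup_comm])) (by rw [y.card, cA])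
  rw [← cj_of_mem_norm h.sn, ← cj_cent]
  exact cj_mono s (cents_symm ((y.sup_eq lR' g).ge.trans (sup_le (sup_le (cents_symm cD)
    (comm_iff_le_cent.1 (ab_four q))) (cents_symm cR))))

end CM

end H6.CL
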