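/-
Simple groups of small chain length, part 8: non-solvable centralizers of involutions.
-/
import Cfsg.Agent.H6.CL7
import Cfsg.Agent.H17.GS16

set_option autoImplicit false
set_option linter.unusedSectionVars false

namespace H6.CL
open Cfsg Subgroup H17.GS
open H19 hiding eq_bot_mono

universe u
variable {G : Type u} [Group G] [Finite G] {A B D E H K L M N P Q R S T U V W X Y : Subgroup G} {m n p : ℕ}
  {a b c d g r s t v w x y z ρ : G}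

/-- one class of involutions; the Sylow subgroup `S` is elementary of order `4` or `8` or dihedral -/
def Ty (L S : Subgroup G) : Prop :=
  (∀ x ∈ S, ∀ y ∈ S, orderOf x = 2 → orderOf y = 2 → ∃ g ∈ L, g * x * g⁻¹ = y) ∧
    ((Abelem 2 S ∧ (#S = 4 ∨ #S = 8)) ∨ ∃ d c a, Dd d c a S ∧ c ≠ d)

theorem zd (qs : IsQuasisimple K) (hD : Syl 2 D K) : D ⊓ C(K) ≤ ⁅D, D⁆ := fun z hz => by
  have h1 := H3.inf_commutator_inf_center_le (H := D.subgroupOf K)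
    (by rw [card_subgroupOf' hD.le]; exact hD.coprime)
  have h2 : (⟨z, hD.le hz.1⟩ : K) ∈ ⁅D.subgroupOf K, D.subgroupOf K⁆ := h1 ⟨⟨hz.1, by
    rw [qs.1.commutator_eq_top]; trivial⟩, mem_center_iff.2 fun g => Subtype.ext (mem_cent.1 hz.2 g g.2)⟩
  have h3 := mem_map_of_mem K.subtype h2
  rwa [map_commutator, map_subgroupOf_eq_of_le hD.le] at h3

theorem lift {X : Type u} [Group X] [Finite X] (f : K →* X) (hf : ∀ x : K, f x = 1 ↔ (x : G) ∈ C(K))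
    (qs : IsQuasisimple K) (hD : Syl 2 D K) (ty : Ty (im f K) (im f D)) (hx : x ∈ D) (x2 : x * x = 1)
    (xc : x ∉ C(K)) : D ⊓ C(K) = ⊥ ∧ Ty K D := by
  have o : ∀ a (ha : a ∈ D), a * a ∈ C(K) → a ∉ C(K) → orderOf (f ⟨a, hD.le ha⟩) = 2 := fun a ha p q =>
    ord2_of (by rw [← map_mul]; exact (hf _).2 p) (mt (hf _).1 q)
  have L0 : ∀ x ∈ D, x * x = 1 → x ∉ C(K) → ∀ a ∈ D, a * a ∈ C(K) → a ∉ C(K) →
      ∃ g ∈ K, g * x * g⁻¹ ∈ D ∧ g * x * g⁻¹ * a⁻¹ ∈ C(K) := fun x hx x2 xc a ha p q => by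
    obtain ⟨_, ⟨g, hg, rfl⟩, e⟩ := ty.1 _ (mem_im_of (f := f) (x := ⟨x, hD.le hx⟩) hx) _
      (mem_im_of (f := f) (x := ⟨a, hD.le ha⟩) ha) (o x hx (x2 ▸ one_mem _) xc) (o a ha p q)
    have c : g * x * g⁻¹ * a⁻¹ ∈ C(K) := (hf (g * ⟨x, hD.le hx⟩ * g⁻¹ * (⟨a, hD.le ha⟩ : K)⁻¹)).1 (by
      simp only [map_mul, map_inv, e, mul_inv_cancel])
    refine ⟨g, hg, hD.mem_of_norm (mul_mem (mul_mem hg (hD.le hx)) (inv_mem hg))
      (piG_zpowers.1 (pg_zpowers (conj_sq x2 _))) ?_, c⟩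
    simpa using mul_mem (cent_le_norm D (cent_mono hD.le c)) (le_normalizer ha)
  have z := zd qs hD
  have fin : D ⊓ C(K) = ⊥ → ∀ x ∈ D, ∀ y ∈ D, orderOf x = 2 → orderOf y = 2 → ∃ g ∈ K, g * x * g⁻¹ = y :=
    fun e x a y b c d => by
      have k : ∀ x ∈ D, orderOf x = 2 → x ∉ C(K) := fun x a c q => ne_one_of_ord2 c (e.le ⟨a, q⟩)
      obtain ⟨g, g1, g2, g3⟩ := L0 x a (mul_self_of_ord2 c) (k x a c) y b (mul_self_of_ord2 d ▸ one_mem _) (k y b d)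
      exact ⟨g, g1, mul_inv_eq_one.1 (e.le ⟨D.mul_mem g2 (inv_mem b), g3⟩)⟩
  have L1 : ∀ a ∈ D, a * a ∈ C(K) → ∃ i ∈ D, ∃ w ∈ D ⊓ C(K), i * i = 1 ∧ a = w * i ∧ a * a = w * w := fun a ha p => by
    by_cases q : a ∈ C(K)
    · exact ⟨1, one_mem _, a, ⟨ha, q⟩, one_mul 1, (mul_one a).symm, rfl⟩
    obtain ⟨g, g1, g2, g3⟩ := L0 x hx x2 xc a ha p q
    have := conj_sq x2 g
    generalize g * x * g⁻¹ = i at *
    have e : a = (i * a⁻¹)⁻¹ * i := by group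
    have m : (i * a⁻¹)⁻¹ ∈ D ⊓ C(K) := inv_mem (mem_inf.2 ⟨mul_mem g2 (inv_mem ha), g3⟩)
    generalize (i * a⁻¹)⁻¹ = w at e m
    exact ⟨i, g2, w, m, this, e, by
      rw [e, mul_assoc, ← mul_assoc i, mem_cent.1 m.2 i (hD.le g2), mul_assoc, this, mul_one]⟩
  rcases ty.2 with ⟨ab, c⟩ | ⟨d, c, a, k, hc⟩
  · have sq : ∀ a ∈ D, a * a ∈ C(K) := fun a ha => (hf (⟨a, hD.le ha⟩ * ⟨a, hD.le ha⟩)).1 (by
      rw [map_mul]; exact sq_one ab (mem_im_of ha))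
    have e : D ⊓ C(K) = ⊥ := by_contra fun e => by
      obtain ⟨B, b, -⟩ := exists_hyp (hD.pi.infl _) (bot_lt_iff_ne_bot.2 e)
      refine b.ne (le_antisymm b.le (z.trans (commutator_le.2 fun x hx y hy => comm_of_sq (fun a ha => ?_) hx hy)))
      obtain ⟨-, -, w, w1, -, -, q⟩ := L1 a ha (sq a ha)
      exact q ▸ (b.mul_mem_iff w1 w1).2 Iff.rfl
    have s1 : ∀ a ∈ D, a * a = 1 := fun a ha => e.le ⟨D.mul_mem ha ha, sq a ha⟩
    obtain ⟨φ⟩ := im_equiv_self (f := f) hD.le fun x hx q => e.le ⟨hx, (hf _).1 q⟩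
    exact ⟨e, fin e, .inl ⟨⟨comm_iff_der.2 (le_bot_iff.1 (commutator_le.2 fun x hx y hy =>
      comm_of_sq (V := ⊥) s1 hx hy)), fun a ha => by rw [pow_two, s1 a ha]⟩, Nat.card_congr φ.toEquiv ▸ c⟩⟩
  have L2 : ∀ b ∈ im f D, b * b = 1 → ∃ i : K, (i : G) ∈ D ∧ (i : G) * i = 1 ∧ f i = b := by
    rintro _ ⟨b, hb, rfl⟩ q
    obtain ⟨i, i1, w, w1, i2, e, -⟩ := L1 b hb ((hf (b * b)).1 (by rwa [map_mul]))
    refine ⟨⟨i, hD.le i1⟩, i1, i2, ?_⟩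
    rw [show (b : K) = ⟨w, hD.le w1.1⟩ * ⟨i, hD.le i1⟩ from Subtype.ext e, map_mul, (hf ⟨w, _⟩).2 w1.2, one_mul]
  obtain ⟨i, i1, i2, i3⟩ := L2 _ (mul_mem k.cD k.aD) (k.out (mul_mem k.cD k.aD) (k.mul_out (mem_zpowers c))).aa
  obtain ⟨j, j1, j2, j3⟩ := L2 _ k.aD k.aa
  have e : f (i * j) = c := by rw [map_mul, i3, j3, mul_assoc, k.aa, mul_one]
  have n : (i : G) * j * (i * j) ∉ C(K) := fun q => k.cc hc (by rw [← e, ← map_mul]; exact (hf _).2 q)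
  have n1 : (i : G) * j * (i * j) ≠ 1 := fun q => n (q ▸ one_mem _)
  obtain ⟨δ, d1, d2⟩ := exists_inv_pg (hD.pi.of_le (zpowers_le' (mul_mem i1 j1)))
    (zpowers_ne_bot.2 fun q => n1 (by simp [q]))
  have k0 := dd_pair i2 j2 n1 hD.pi i1 j1 d2 d1
  have l0 : zpowers ((i : G) * j) ⊔ zpowers (i : G) ≤ D := sup_le (zpowers_le' (mul_mem i1 j1)) (zpowers_le' i1)
  have e0 : im f D ≤ im f (zpowers ((i : G) * j) ⊔ zpowers (i : G)) := by
    rw [← k.sup, ← j3, ← e]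
    exact sup_le (zpowers_le' (mem_im_of k0.cD)) (zpowers_le' (mem_im_of
      ((mul_mem_cancel_left k0.aD).1 k0.cD)))
  generalize zpowers ((i : G) * j) ⊔ zpowers (i : G) = D₀ at *
  have e1 : D = D₀ ⊔ D ⊓ C(K) := le_antisymm (fun y hy => by
    obtain ⟨y₀, y1, y2⟩ := mem_im.1 (e0 (mem_im_of (x := ⟨y, hD.le hy⟩) hy))
    rw [← mul_mem_cancel_left (inv_mem (mem_sup_left y1))]
    exact mem_sup_right ⟨D.mul_mem (inv_mem (l0 y1)) hy, (hf (y₀⁻¹ * ⟨y, hD.le hy⟩)).1 (by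
      rw [map_mul, map_inv, y2, inv_mul_cancel])⟩) (sup_le l0 inf_le_left)
  have c0 : D ⊓ C(K) ≤ C(D) := inf_le_right.trans (cent_mono hD.le)
  obtain rfl : D₀ = D := le_antisymm l0 (e1.le.trans (sup_le le_rfl (z.trans (by
    rw [e1, der_sup_cent (c0.trans (cent_mono l0)), commg_eq_bot.2 (c0.trans (cent_mono inf_le_left)), sup_bot_eq]
    exact der_le _))))
  have hc0 : (i : G) * j ≠ δ := fun q => n1 (q ▸ k0.dd)
  have e2 : D₀ ⊓ C(K) = ⊥ := eq_bot_iff.2 fun y hy => (k0.center hc0 hy.1 (c0 hy)).resolve_right fun q => by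
    obtain ⟨m, hm⟩ := k0.dB hc0
    have r : ((i : G) * j) ^ m * ((i : G) * j) ^ m = δ := by rw [← hm]; simp only [← zpow_two, ← zpow_mul, mul_comm]
    obtain ⟨-, -, w, w1, -, -, v⟩ := L1 _ (zpow_mem k0.cD m) (r ▸ q ▸ hy.2)
    refine k0.d1 (r ▸ v ▸ ?_)
    rcases k0.center hc0 w1.1 (c0 w1) with u | u
    · rw [u, mul_one]
    · rw [u, k0.dd]
  exact ⟨e2, fin e2, .inr ⟨_, _, _, k0, hc0⟩⟩

variable (G) in
/-- the inductive hypothesis -/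
def IH : Prop := ∀ (X : Type u) [Group X] [Finite X], Nat.card X < Nat.card G → Sim (⊤ : Subgroup X) →
  ¬ Lr 7 ⊥ (⊤ : Subgroup X) → ∀ S : Subgroup X, Syl 2 S ⊤ → Ty ⊤ S

theorem lr4z (qs : IsQuasisimple K) : Lr 4 Z(K) K := Lr.quo (center_normal K) (lr4 (qs_sim qs).nsol)

theorem comp (hG : HH G) (ih : IH G) (t2 : orderOf t = 2) (ns : ¬ Sol C[t]) : ∃ K, K ⊴ C[t] ∧ IsQuasisimple K ∧
    ∀ D x, Syl 2 D K → x ∈ D → x * x = 1 → x ∉ C(K) → D ⊓ C(K) = ⊥ ∧ Ty K D := by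
  obtain ⟨K, ⟨hK, nK⟩, mn⟩ := (wellFounded_lt (α := Subgroup G)).has_min {K | K ⊴ C[t] ∧ ¬ Sol K}
    ⟨_, .refl _, ns⟩
  have pf : ⁅K, K⁆ = K := (der_le K).eq_or_lt.resolve_right fun e => mn _ ⟨hK.der, fun s => nK
    (sol_of_quo (der_normal K).norm (sol_mono s inf_le_left) (sol_of_ab ((ab_quo_iff (der_normal K).norm).2 le_rfl)))⟩ e
  have n8 := hG.n8 (hG.sim.cent1_ne_top (ne_one_of_ord2 t2))
  have tK : zpowers t ≤ C(K) := zpowers_le' (le_cent1_iff.1 hK.le)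
  have n0 := cent1_le_norm_zpowers t
  have n1 := hK.le.trans n0
  have z1 := Lr.one (bot_lt_iff_ne_bot.2 (zpowers_ne_bot.2 (ne_one_of_ord2 t2)))
  have qs : IsQuasisimple K := H1.isQuasisimple_subgroup_iff.2 ⟨pf, fun e => nK (e ▸ inferInstance), fun N l n => by
    rcases (quo_mono (zpowers t) l).eq_or_lt with e | e
    · refine .inl (le_antisymm l (pf.ge.trans ((der_mono ((quo_le_quo_iff n1 (l.trans n1)).1 e.ge)).trans ?_)))
      rw [sup_comm, der_sup_cent (tK.trans (cent_mono l)), comm_iff_der.1 (comm_zpowers t), sup_bot_eq]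
      exact der_le N
    · have := qs6 (by rw [← quo_comm n1 n1, pf]) (fun q => n8 (z1.trans (Lr.quo ⟨zpowers_le' (mem_cent1_self t), n0⟩
        (q.up (quo_mono _ hK.le))))) e (quo_norms n)
      exact .inr (perf_cent pf (commg_comm K N ▸ ((quo_cents_iff (l.trans n1) n1).1 this).trans tK))⟩
  have nZ := (center_normal K).norm
  refine ⟨K, hK, qs, fun D x hD => lift (imHom (qmk Z(K)) nZ) (fun x => by
    rw [imHom_eq_one, qmk_eq_one]; exact and_iff_right x.2) qs hD ?_⟩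
  have e : im (imHom (qmk Z(K)) nZ) K = ⊤ := eq_top_iff.2 fun y _ =>
    let ⟨x, e⟩ := imHom_surj _ nZ y; ⟨x, x.2, e⟩
  rw [e]
  refine ih _ ((Nat.le_of_dvd (card_pos K) (card_quo_dvd _ _)).trans_lt ?_) (qs_sim qs).top (fun q => n8 ?_) _
    (e ▸ hD.im le_rfl _)
  · exact card_top (G := G) ▸ card_lt (hK.le.trans_lt (hG.sim.cent1_ne_top (ne_one_of_ord2 t2)).lt_top)
  have q' := Lr.quo (center_normal K) (q.equiv topEquiv.symm)
  by_cases m : t ∈ K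
  · exact (z1.trans (q'.down (le_inf (zpowers_le' m) tK))).up hK.le
  · exact (q'.down bot_le).succ (lt_of_le_of_ne hK.le fun e => m (e ▸ mem_cent1_self t))

/-- no elementary subgroup of order `8`, or abelian Sylow subgroups -/
def RA (S : Subgroup G) : Prop := (∀ E, ¬ El 2 3 E S) ∨ Ab S

theorem four_center (hS : PG 2 S) (l : ⁅S, S⁆ ≤ D) (c : #D = 4) (n : ¬ D ≤ C(S)) (ab : ¬ Ab S) : D ⊓ C(S) ≤ ⁅S, S⁆ := by
  have h1 := ne_bot_iff_one_lt_card.1 ((hS.of_le (der_le S)).meet_cent hS (norms_der le_normalizer)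
    (mt comm_iff_der.2 ab))
  have h2 := (Lr.one (inf_lt_left.2 n)).card
  have l1 := inf_le_inf_right C(S) l
  have := card_le l1
  exact (eq_of_le_of_card_eq l1 (by omega)).ge.trans inf_le_left

theorem top_case (hG : HH G) (ih : IH G) (t2 : orderOf t = 2) (ns : ¬ Sol C[t]) (hT : Syl 2 S C[t])
    (hS : Syl 2 S ⊤) : RA S := by
  refine or_iff_not_imp_left.2 fun hE => by_contra fun ab => ?_
  simp only [not_forall, not_not] at hE
  obtain ⟨E, hE⟩ := hE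
  have ne := hG.sim.cent1_ne_top (ne_one_of_ord2 t2)
  have n7 : ¬ Lr 7 ⊥ C[t] := fun e => by
    have := hG.big ne e hS
    have := hG.le64 hS.pi (lt_of_le_of_ne hT.le fun e => ns (e ▸ hS.pi.sol)) ne
    omega
  obtain ⟨K, hK, qs, lf⟩ := comp hG ih t2 ns
  have nK := hT.le.trans hK.norm
  have up : ∀ {P m n}, P ≤ S → Lr m ⊥ K → #(P ⊓ K) * 2 ^ n ≤ #P → Lr (m + n) ⊥ C[t] := fun l a b =>
    (a.trans (lr_top (hS.pi.of_le l) (l.trans nK) b)).up (sup_le hK.le (l.trans hT.le))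
  obtain ⟨x, x1, x2⟩ := SetLike.not_le_iff_exists.1 fun e : E ⊓ K ≤ C(K) => by
    obtain ⟨j, c⟩ := (hE.pg.infl K).exists_card
    have := card_le (inf_le_left : E ⊓ K ≤ E)
    rw [c, hE.card] at this
    have j3 := (Nat.pow_le_pow_iff_right one_lt_two).1 this
    exact n7 ((up (n := 3 - j) hE.le ((lr2 (hE.pg.infl K) c.ge).trans ((lr4z qs).down (le_inf inf_le_right e)))
      (by rw [c, hE.card, ← pow_add, Nat.add_sub_cancel' j3])).anti (by omega))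
  have hD := hT.inf_normal hK
  obtain ⟨dj, -, ty⟩ := lf _ x hD ⟨hE.le x1.1, x1.2⟩ (sq_one hE.ab x1.1) x2
  have tt := mul_self_of_ord2 t2
  have tS : t ∈ S := hT.mem_of_norm (mem_cent1_self t) (piG_zpowers.1 (pg_zpowers tt))
    (cent_le_norm S (le_cent1_iff.1 hT.le))
  have tC : t ∈ C(S) := le_cent1_iff.1 hT.le
  have nD : S ≤ N(S ⊓ K) := norms_inf le_normalizer nK
  have up' := fun m n => up (m := m) (n := n) le_rfl
  have l : S ⊓ K ≤ S := inf_le_left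
  have tD : t ∉ S ⊓ K := fun e => ne_one_of_ord2 t2 (dj.le ⟨e, le_cent1_iff.1 hK.le⟩)
  generalize S ⊓ K = D at *
  have y := hyp_zp tt tD (nD tS)
  have c1 := y.card
  have l1 : D ⊔ zpowers t ≤ S := sup_le l (zpowers_le' tS)
  have fin : ⁅S, S⁆ ≤ D → D ⊓ C(S) ≤ ⁅S, S⁆ → Z(S) ≤ D ⊔ zpowers t → False := fun a b c =>
    lt_cent hG.sim hS ⟨tS, tC⟩ tt (fun e => tD (a e)) fun x hx _ => (mem_hyp y tD (c hx)).imp
      (fun e => b ⟨e, hx.2⟩) fun e => b ⟨e, C(S).mul_mem hx.2 tC⟩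
  have aA : Ab D → Ab (D ⊔ zpowers t) := fun a => comm_sup a inferInstance
    (cents_symm (zpowers_le' (cent_mono l tC)))
  rcases l1.eq_or_lt with e | e
  · rcases ty with ⟨a, -⟩ | ⟨d, c, a, k, hc⟩
    · exact ab (e ▸ aA a.1)
    have q : ⁅S, S⁆ = ⁅D, D⁆ := by
      rw [← e, der_sup_cent (zpowers_le' (cent_mono l tC)), comm_iff_der.1 (comm_zpowers t), sup_bot_eq]
    refine fin (q.le.trans (der_le D)) (fun x hx => ?_) (inf_le_left.trans e.ge)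
    rw [q, ← k.sq_der]
    exact (k.center hc hx.1 (cent_mono l hx.2)).elim (fun e => e ▸ one_mem _) fun e => e ▸ k.dB hc
  have c2 := (Lr.one e).card
  have c4 : #D = 4 := by_contra fun c => n7 (up' 5 2 (lr5' (qs_nsol qs) hD c) (by omega))
  have y1 : Hyp (D ⊔ zpowers t) S := by
    obtain ⟨X, x1, x2⟩ := exists_up hS.pi e
    refine x2.eq_or_lt.elim (fun f => f ▸ x1) fun f => (n7 (up' 4 3 (lr4 (qs_nsol qs)) ?_)).elim
    have := x1.card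
    have := (Lr.one f).card
    omega
  have c3 := y1.card
  have d1 := der_of_four l nD (by omega)
  have k : ∀ x ∈ S, x ∉ D ⊔ zpowers t → x ∉ C(D ⊔ zpowers t) := fun x a b c => ab (y1.sup_zp a b ▸
    comm_sup (aA (ab_four c4)) inferInstance (cents_symm (zpowers_le' c)))
  refine fin d1 (four_center hS.pi d1 c4 (fun c => ?_) ab) fun x hx => by_contra fun q =>
    k x hx.1 q (cent_mono l1 hx.2)
  obtain ⟨x, a, b⟩ := hout y1
  exact k x a b (cents_symm (sup_le c (zpowers_le' tC)) a)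

theorem CM.false (h : CM S T t s) (ih : IH G) : False := by
  obtain ⟨K, hK, qs, lf⟩ := comp h.hG ih (ord2_of h.t2 h.t1) h.ns
  have hD := h.hT.inf_normal hK
  have nK := h.hT.le.trans hK.norm
  obtain ⟨x, x1, x2, x3⟩ : ∃ x ∈ T ⊓ K, x * x = 1 ∧ x ∉ C(K) := by
    by_cases e : T ⊓ K ⊓ C(K) = ⊥
    · obtain ⟨x, a, b⟩ := exists_inv_pg hD.pi fun q => qs_nsol qs (OG.sol (hD.eq_bot_iff.1 q))
      exact ⟨x, a, mul_self_of_ord2 b, fun q => ne_one_of_ord2 b (e.le ⟨a, q⟩)⟩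
    obtain ⟨z, a, b⟩ := exists_inv_pg (hD.pi.infl _) e
    have nD : T ≤ N(T ⊓ K) := norms_inf le_normalizer nK
    have l5 := (Lr.one (bot_lt_iff_ne_bot.2 (ne_bot_of_mem (H := Z(K)) ⟨a.1.2, a.2⟩ (ne_one_of_ord2 b)))).trans
      (lr4z qs)
    have d : ⁅T, T⁆ ≤ T ⊓ K := (ab_quo_iff nD).1 (ab_of_card_sq Nat.prime_two (by
      have c := card_mul_relIndex (inf_le_left : T ⊓ K ≤ T)
      rw [card_quo nD]
      rcases relIndex_cases h.hT.pi (T ⊓ K) with q | q | q | q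
      iterate 3 simp [q]
      exact (h.n8 (h.up (n := 3) hK rfl l5 (c ▸ Nat.mul_le_mul_left _ q))).elim))
    have m := conj_mem_of_norm (norms_der le_rfl h.sn) (der_mono inf_le_left (zd qs hD a))
    refine ⟨_, d m, conj_sq (mul_self_of_ord2 b) s, fun q => conj_ne_one (ne_one_of_ord2 b) s
      ((h.disj inf_le_left (norms_inf le_normalizer (norms_cent nK)) (qs_nsol qs) (cents_symm inf_le_right)).le
      ⟨⟨(d m).1, q⟩, conj_mem_cj.2 ⟨a.1.1, a.2⟩⟩)⟩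
  obtain ⟨dj, cl, ty⟩ := lf _ x hD x1 x2 x3
  rcases ty with ⟨a, c⟩ | ⟨d, c, a, k, hc⟩
  · refine h.abl hK qs rfl a (fun u hu v hv u1 v1 => ?_) dj c
    obtain ⟨g, g1, rfl⟩ := cl u hu v hv (ord2_of (sq_one a hu) u1) (ord2_of (sq_one a hv) v1)
    exact burn hD (ab_cent a hu) g1 (ab_cent a hv)
  · have := k.eight hc
    exact h.dih k hc hK rfl (fun e => h.t1 (dj.le ⟨e, le_cent1_iff.1 hK.le⟩)) (lr5' (qs_nsol qs) hD (by omega))
      fun x a b => cl x a d k.dD (ord2_of (k.out a b).aa (k.out a b).a1) k.d2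

theorem nsol_cent (hG : HH G) (hU : PG 2 U) (h0 : U ≠ ⊥) (hQ : PG 2 Q) (l : Q ≤ N(U)) (h : ¬ Sol N(U)) :
    ∃ v, orderOf v = 2 ∧ ¬ Sol C[v] ∧ Q ≤ C[v] := by
  obtain ⟨V, l1, m⟩ := H18.minnormal_exists h0 le_rfl
  have hV := hU.of_le l1
  obtain ⟨v, a, b⟩ := exists_inv_pg (hV.infl _) (hV.meet_cent hQ (l.trans m.norm) m.ne)
  exact ⟨v, b, fun e => loc m (l1.trans le_normalizer) hV h (hG.n8 (hG.nt hU h0))
    (sol_mono e (inf_le_right.trans (cent_le_cent1 a.1))), le_cent1_iff.2 a.2⟩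

theorem nsol_case (hG : HH G) (ih : IH G) (hU : PG 2 U) (h0 : U ≠ ⊥) (h : ¬ Sol N(U)) :
    ∃ S : Subgroup G, Syl 2 S ⊤ ∧ RA S := by
  obtain ⟨v, v1, v2, -⟩ := nsol_cent hG hU h0 PiN.bot bot_le h
  obtain ⟨P, hP⟩ := exists_syl 2 C[v]
  obtain ⟨T, ⟨t, t2, ns, hT⟩, mx⟩ := Set.exists_max_image {T : Subgroup G | ∃ t, orderOf t = 2 ∧ ¬ Sol C[t] ∧
    Syl 2 T C[t]} (fun T => #T) (Set.toFinite _) ⟨P, v, v1, v2, hP⟩
  obtain ⟨S, hS, l⟩ := hT.pi.exists_syl le_top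
  rcases l.eq_or_lt with rfl | e
  · exact ⟨_, hS, top_case hG ih t2 ns hT hS⟩
  obtain ⟨X, x1, x2⟩ := exists_up hS.pi e
  obtain ⟨s, s1, s2⟩ := hout x1
  refine (CM.false (t := t) (s := s) ⟨⟨hS, hT, l, mul_self_of_ord2 t2, x2 s1, hnorm x1 s1, s2, hmul x1 s1 s1 s2 s2⟩,
    hG, ns, fun U Q a b c d e => by_contra fun f => ?_⟩ ih).elim
  obtain ⟨w, w1, w2, w3⟩ := nsol_cent hG a b c d f
  obtain ⟨R, r1, r2⟩ := c.exists_syl w3
  exact (e.trans_le (card_le r2)).not_ge (mx R ⟨w, w1, w2, r1⟩)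

end H6.CL
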