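import Cfsg.Agent.H6.Zeros
import Cfsg.Agent.H24.FrobCompl

/-!
Characters of prime codegree.
-/

set_option autoImplicit false

open Cfsg H5
open scoped ComplexConjugate ComplexOrder commutatorElement

namespace H6

variable {G : Type*} [Group G]

theorem deg_sq_le_card [Finite G] {χ : G → ℂ} (hχ : IsIrrCharacter G χ) :
    charDegree χ ^ 2 ≤ Nat.card G := by
  have := hχ.apply_one_sq_le_index ⊥ bot_le
  rw [char_one_re hχ.isCharacter, Subgroup.index_bot] at this
  exact_mod_cast this

theorem deg_sq_lt_card [Finite G] [Nontrivial G] {χ : G → ℂ} (hχ : IsIrrCharacter G χ) :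
    charDegree χ ^ 2 < Nat.card G := by
  classical
  by_cases h : χ = fun _ => 1
  · rw [charDegree_eq (n := 1) (by simp [h])]
    simpa using Finite.one_lt_card
  have h1 := sum_irr_one_sq G
  rw [Finset.sum_congr rfl (g := fun ψ : IrrCharacter G => ((charDegree (ψ : G → ℂ) ^ 2 : ℕ) : ℂ))
    fun ψ _ => by rw [irr_deg ψ.2]; simp, ← Nat.cast_sum, Nat.cast_inj] at h1
  rw [← h1]
  refine Finset.single_lt_sum (f := fun ψ : IrrCharacter G => charDegree (ψ : G → ℂ) ^ 2)
    (i := ⟨χ, hχ⟩) (j := irrOne G) (fun e => h (congrArg Subtype.val e).symm)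
    (Finset.mem_univ _) (Finset.mem_univ _) (pow_pos (irr_deg_pos (irrOne G).2) _)
    fun _ _ _ => Nat.zero_le _

theorem exists_normal_of_prime_cod [Finite G] {χ : G → ℂ} (hχ : IsIrrCharacter G χ) {p : ℕ}
    (hp : p.Prime) (h : Nat.card G = p * charDegree χ) :
    charDegree χ < p ∧ ∃ P : Subgroup G, P.Normal ∧ Nat.card P = p ∧
      ∀ g : G, (∀ x ∈ P, g * x = x * g) → g ∈ P := by
  have := Fact.mk hp
  have hd := irr_deg_pos hχ
  have : Nontrivial G := Finite.one_lt_card_iff_nontrivial.1 (by
    rw [h]; exact lt_of_lt_of_le hp.one_lt (Nat.le_mul_of_pos_right _ hd))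
  have h1 : charDegree χ < p := by
    have := deg_sq_lt_card hχ
    rw [h, sq] at this
    exact lt_of_mul_lt_mul_right this (Nat.zero_le _)
  have hnd : ¬ p ∣ charDegree χ := Nat.not_dvd_of_pos_of_lt hd h1
  obtain ⟨P⟩ : Nonempty (Sylow p G) := inferInstance
  have hP : Nat.card P = p := by
    rw [P.card_eq_multiplicity, h, Nat.factorization_mul hp.ne_zero hd.ne', Finsupp.add_apply,
      hp.factorization_self, Nat.factorization_eq_zero_of_not_dvd hnd, pow_one]
  have hi : (P : Subgroup G).index = charDegree χ := by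
    have := (P : Subgroup G).card_mul_index
    rw [hP, h] at this
    exact Nat.eq_of_mul_eq_mul_left hp.pos this
  have h2 : Nat.card (Sylow p G) = 1 := by
    have h3 := card_sylow_modEq_one p G
    have h4 := Nat.le_of_dvd hd (hi ▸ P.card_dvd_index)
    rwa [Nat.ModEq, Nat.mod_eq_of_lt (h4.trans_lt h1), Nat.mod_eq_of_lt hp.one_lt] at h3
  have : Subsingleton (Sylow p G) := (Nat.card_eq_one_iff_unique.1 h2).1
  refine ⟨h1, P, P.normal_of_subsingleton, hP, fun g hg => ?_⟩
  have hc : IsCyclic P := isCyclic_of_prime_card hP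
  set A := Subgroup.closure (insert g ((P : Subgroup G) : Set G))
  have hPA : (P : Subgroup G) ≤ A := fun x hx => Subgroup.subset_closure (Or.inr hx)
  have hA : ∀ a ∈ A, ∀ b ∈ A, a * b = b * a := by
    have : IsMulCommutative A := Subgroup.isMulCommutative_closure (by
      rintro a (rfl | ha) b (rfl | hb)
      · rfl
      · exact hg b hb
      · exact (hg a ha).symm
      · exact congrArg Subtype.val (hc.isMulCommutative.is_comm.comm ⟨a, ha⟩ ⟨b, hb⟩))
    exact fun a ha b hb => congrArg Subtype.val (this.is_comm.comm ⟨a, ha⟩ ⟨b, hb⟩)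
  have h3 := degree_le_index_of_comm hχ hA (irr_deg hχ)
  have h4 : A = P := by
    refine (Subgroup.eq_of_le_of_card_ge hPA ?_).symm
    have h5 := A.card_mul_index
    rw [h, ← hP] at h5
    by_contra h6
    push Not at h6
    have := Nat.mul_lt_mul_of_lt_of_le h6 h3 (hd.trans_le h3)
    omega
  rw [← h4]
  exact Subgroup.subset_closure (Or.inl rfl)

theorem commutator_ne_top_of_prime_cod [Finite G] {χ : G → ℂ} (hχ : IsIrrCharacter G χ) {p : ℕ}
    (hp : p.Prime) (h : Nat.card G = p * charDegree χ) : commutator G ≠ ⊤ := by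
  intro hc
  obtain ⟨-, P, hn, hP, h1⟩ := exists_normal_of_prime_cod hχ hp h
  have := Fact.mk hp
  have hcy : IsCyclic P := isCyclic_of_prime_card hP
  have h2 : ∀ g : G, g ∈ P := fun g => h1 g fun x hx => by
    have h3 : commutator G ≤ (MulAut.conjNormal : G →* MulAut P).ker := by
      rw [commutator_def, Subgroup.commutator_le]
      intro a _ b _
      rw [MonoidHom.mem_ker, map_commutatorElement, commutatorElement_eq_one_iff_mul_comm]
      exact (IsCyclic.mulAutMulEquiv P).injective (by rw [map_mul, map_mul, mul_comm])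
    have h4 := congrArg (fun f : MulAut P => ((f ⟨x, hx⟩ : P) : G)) (h3 (hc ▸ Subgroup.mem_top g))
    simp only [MulAut.conjNormal_apply, MulAut.one_apply] at h4
    rw [← mul_inv_eq_iff_eq_mul, h4]
  have h3 : commutator G = ⊥ := by
    rw [commutator_def, Subgroup.commutator_eq_bot_iff_le_centralizer]
    intro a _ b _
    exact congrArg Subtype.val (hcy.isMulCommutative.is_comm.comm ⟨b, h2 b⟩ ⟨a, h2 a⟩)
  have h4 : P = ⊥ := eq_bot_iff.2 (le_top.trans (hc.symm.trans h3).le)
  rw [h4, Subgroup.card_bot] at hP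
  exact hp.one_lt.ne hP

end H6
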