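import Cfsg.Agent.H6.DA0c0
import Cfsg.Agent.H6.DA0c1
import Cfsg.Agent.H6.DHS

/-! Assembly of the certificates. -/

set_option autoImplicit false
set_option maxRecDepth 100000
set_option Elab.async false
set_option linter.all false

namespace H6.HS.A0
noncomputable section
universe u
theorem d18 : Dd.{u} p g18 := dd .nil e18
theorem d1 : Dd.{u} p g1 := dd (.cons d18 .nil) e1
theorem d2 : Dd.{u} p g2 := dd .nil e2
theorem d11 : Dd.{u} p g11 := dd .nil e11
theorem d38 : Dd.{u} p g38 := dd .nil e38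
theorem d39 : Dd.{u} p g39 := dd .nil e39
theorem d49 : Dd.{u} p g49 := dd .nil e49
theorem d50 : Dd.{u} p g50 := dd .nil e50
theorem d55 : Dd.{u} p g55 := dd .nil e55
theorem d54 : Ds.{u} p g54 := ds .nil .nil e54
theorem d51 : Dd.{u} p g51 := dn (.cons d55 .nil) (.cons d54 .nil) e51
theorem d43 : Dd.{u} p g43 := dd (.cons d49 (.cons d50 (.cons d51 .nil))) e43
theorem d40 : Dd.{u} p g40 := dd (.cons d43 .nil) e40
theorem d52 : Dd.{u} p g52 := dd .nil e52
theorem d53 : Dd.{u} p g53 := dd .nil e53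
theorem d44 : Dd.{u} p g44 := dd (.cons d52 (.cons d53 .nil)) e44
theorem d45 : Dd.{u} p g45 := dd .nil e45
theorem d46 : Dd.{u} p g46 := dd .nil e46
theorem d47 : Dd.{u} p g47 := dd .nil e47
theorem d48 : Dd.{u} p g48 := dd .nil e48
theorem d41 : Dd.{u} p g41 := dd (.cons d44 (.cons d45 (.cons d46 (.cons d47 (.cons d48 .nil))))) e41
theorem d35 : Dd.{u} p g35 := dd (.cons d38 (.cons d39 (.cons d40 (.cons d41 .nil)))) e35
theorem d19 : Dd.{u} p g19 := dd (.cons d35 .nil) e19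
theorem d20 : Dd.{u} p g20 := dd .nil e20
theorem d14 : Dd.{u} p g14 := dd .nil e14
theorem d21 : Dd.{u} p g21 := dd .nil e21
theorem d22 : Dd.{u} p g22 := dd .nil e22
theorem d23 : Dd.{u} p g23 := dd .nil e23
theorem d24 : Dd.{u} p g24 := dd .nil e24
theorem d3 : Dd.{u} p g3 := dd (.cons d11 (.cons d19 (.cons d20 (.cons d14 (.cons d21 (.cons d22 (.cons d23 (.cons d24 .nil)))))))) e3
theorem d4 : Dd.{u} p g4 := dd .nil e4
theorem d5 : Dd.{u} p g5 := dd .nil e5
theorem d25 : Dd.{u} p g25 := dd .nil e25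
theorem d12 : Dd.{u} p g12 := dd .nil e12
theorem d13 : Dd.{u} p g13 := dd .nil e13
theorem d26 : Dd.{u} p g26 := dd .nil e26
theorem d27 : Dd.{u} p g27 := dd .nil e27
theorem d6 : Dd.{u} p g6 := dd (.cons d25 (.cons d12 (.cons d13 (.cons d26 (.cons d27 (.cons d22 (.cons d23 .nil))))))) e6
theorem d28 : Dd.{u} p g28 := dd .nil e28
theorem d7 : Dd.{u} p g7 := dd (.cons d28 .nil) e7
theorem d29 : Dd.{u} p g29 := dd .nil e29
theorem d8 : Dd.{u} p g8 := dd (.cons d29 .nil) e8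
theorem d9 : Dd.{u} p g9 := dd .nil e9
theorem d10 : Dd.{u} p g10 := dd .nil e10
theorem d42 : Ds.{u} p g42 := ds .nil .nil e42
theorem d36 : Dd.{u} p g36 := dn .nil (.cons d42 .nil) e36
theorem d30 : Dd.{u} p g30 := dd (.cons d36 .nil) e30
theorem d37 : Ds.{u} p g37 := ds .nil .nil e37
theorem d31 : Dd.{u} p g31 := dn .nil (.cons d37 .nil) e31
theorem d15 : Dd.{u} p g15 := dd (.cons d30 (.cons d31 (.cons d10 (.cons d9 (.cons d19 (.cons d25 (.cons d26 (.cons d20 .nil)))))))) e15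
theorem d34 : Dd.{u} p g34 := dd .nil e34
theorem d32 : Ds.{u} p g32 := ds .nil .nil e32
theorem d33 : Ds.{u} p g33 := ds .nil .nil e33
theorem d16 : Dd.{u} p g16 := dn (.cons d34 .nil) (.cons d32 (.cons d33 .nil)) e16
theorem d17 : Dd.{u} p g17 := dd .nil e17
theorem d0 : Dd.{u} p g0 := dd (.cons d1 (.cons d2 (.cons d3 (.cons d4 (.cons d5 (.cons d6 (.cons d7 (.cons d8 (.cons d9 (.cons d10 (.cons d11 (.cons d12 (.cons d13 (.cons d14 (.cons d15 (.cons d16 (.cons d17 .nil))))))))))))))))) e0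
end
end H6.HS.A0
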