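import Cfsg.Agent.H6.DC5d0

/-! Certificates. -/

set_option autoImplicit false
set_option maxRecDepth 100000
set_option Elab.async false
set_option linter.all false

namespace H6.HS.C5
noncomputable section
def c0 : Ct := (.n (nat_lit 0x10004006004000800c008005003002c01a002000808c04a001009804c00200b005800400e009000801400a0010020011e) (.n (nat_lit 0x10004006005002800e0) (.n (nat_lit 0x200080132) (.n (nat_lit 0x8002004003802c00600100380120) (.n (nat_lit 0x2000801b2) (.n (nat_lit 0x80020040040034006001003801a0) (.n (nat_lit 0x4001002001400e00b009808e4) (.n (nat_lit 0x2000801400600b011806f6) .e .e) .e) .e) (.n (nat_lit 0x4001003001000400100200134) (.n (nat_lit 0x200080100060010010008002004001800c0040010118094006001009804c006001005802c006002000800c00800600580346) (.n (nat_lit 0) (.n (nat_lit 0x400100180144) .e .e) (.n (nat_lit 0) (.n (nat_lit 0x2000802c0060010010008002004001800c0040010118094006001009804c006001005802c006002000800c00800600580346) (.n (nat_lit 0) (.n (nat_lit 0x4001001801c4) .e .e) (.n (nat_lit 0) (.n (nat_lit 0x4001002801c4) .e .e) (.n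 (nat_lit 0) (.n (nat_lit 0x4001002001c4) .e .e) (.n (nat_lit 0) (.n (nat_lit 0x4001009800c00200200100040080030018004006007004800800200b005800c00400100980546) (.n (nat_lit 0) (.n (nat_lit 0x1000400e0030008008004001002000c008001001801c00e00200100046) .e .e) (.n (nat_lit 0) (.n (nat_lit 0x1000400c004000802000c00100200303) .e .e) .e)) .e) (.n (nat_lit 0) (.n (nat_lit 0x1000400c004000802800c00100200203) .e .e) .e))))) .e) (.n (nat_lit 0) (.n (nat_lit 0x400100200144) .e .e) (.n (nat_lit 0) (.n (nat_lit 0x800200b00180040040020008010006003000800c00a0050010008002003002001801600c00680386) (.n (nat_lit 0) (.n (nat_lit 0x4001001801c4) .e .e) (.n (nat_lit 0) (.n (nat_lit 0x100040260030008008004001002000c006001001801c01200200100046) .e .e) (.n (nat_lit 0) (.n (nat_lit 0x4001002001c4) .e .e) (.n (nat_lit 0) (.n (nat_lit 0x4001002801c4) .e .e) (.n (nat_lit 0) (.n (nat_lit 0x100040260030008008004001002000c006001001801c01200200100046) .e .e) (.n (nat_lit 0) (.n (nat_lit 0x400100280243) .e .e) (.n (nat_lit 0) (.n (nat_lit 0x4001003001c4) .e .e) .e))))))) .e) (.n (nat_lit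 0) (.n (nat_lit 0x2000801800800100200183) .e .e) .e))))) .e) .e)) .e) (.n (nat_lit 0x4001002001000400100200134) (.n (nat_lit 0x4001002000c00200200100040080030018008002023012800c002013009800c00200b005800c004001001801000a00600580346) (.n (nat_lit 0) (.n (nat_lit 0x400100180144) .e .e) (.n (nat_lit 0) (.n (nat_lit 0x400100200144) .e .e) (.n (nat_lit 0) (.n (nat_lit 0x4001005800c00200200100040080030018008002023012800c002013009800c00200b005800c004001001801000a00600580346) (.n (nat_lit 0) (.n (nat_lit 0x4001001801c4) .e .e) (.n (nat_lit 0) (.n (nat_lit 0x4001002001c4) .e .e) (.n (nat_lit 0) (.n (nat_lit 0x4001002801c4) .e .e) (.n (nat_lit 0) (.n (nat_lit 0x4001003001c4) .e .e) (.n (nat_lit 0) (.n (nat_lit 0x4001002000800200a0028010002004002001c002003009804c00200400280249) .e .e) (.n (nat_lit 0) (.n (nat_lit 0x4001002000800200a0028010002004002001c00200400280209) .e .e) .e)))))) .e) (.n (nat_lit 0) (.n (nat_lit 0x4001005800c00200200100040080030018008002023012800c002013009800c00200b005800c004001001801000a00600580346) (.n (nat_lit 0) (.n (nat_lit 0x4001001801c4)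 .e .e) (.n (nat_lit 0) (.n (nat_lit 0x4001002001c4) .e .e) (.n (nat_lit 0) (.n (nat_lit 0x4001003001c4) .e .e) (.n (nat_lit 0) (.n (nat_lit 0x4001002801c4) .e .e) (.n (nat_lit 0) (.n (nat_lit 0x4001002000800200a0028010002004002001c002003009804c00200500200209) .e .e) (.n (nat_lit 0) (.n (nat_lit 0x4001002000800200a0028010002004002001c002003009804c00200500200209) .e .e) .e)))))) .e) (.n (nat_lit 0) (.n (nat_lit 0x400100200080020040020014002003009804c00200500200189) .e .e) (.n (nat_lit 0) (.n (nat_lit 0x400100200080020040020014002003009804c00200500200189) .e .e) .e)))))) .e) .e)) .e) .e)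
theorem e0 : top rules p [] g0 c0 = true := by decide +kernel
end
end H6.HS.C5
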