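import Cfsg.Agent.H6.UT1
import Cfsg.Agent.H11.O6Minus
import Cfsg.Agent.H11.SUBasic
import Cfsg.Agent.H12.F4

/-! A model of a Sylow 2-subgroup of `U₅(2)` on the numbers below 1024. -/

set_option autoImplicit false
set_option maxRecDepth 100000

namespace H6.UU
open Subgroup H16 H12 Matrix
open H6.UT (allN anyN allL anyL allN_iff anyN_iff allL_eq anyL_eq pr mat bt bz)
open scoped commutatorElement

noncomputable def tA : ℕ := nat_lit 0xdfbb6ecd7ab4e8c78b0e0cf9b2e4f3e3dfafbf3ffeebd3bf6e3c39f2a74a8d0af5aad4bf7aedcb76acd88b123c683021c293225ca9b327ce42811a24a913a65ab17ae52a15aa6ed9ab466c98b076e9cb87ef9ebc3a70f9e3260d9a22409922a50b9616284881e3868c0e182840608080d3a35eadbb37eecb933e6c3831e2fffbefcf7ebcf8e7cb8f0efdbaf4af5aad4a74a8d0b76acd8bf7aedc83021c28b123c69b327ce93225ca46890a04e992a45eb96ac56a94a86ad1bb662c19b272e1dba7af1fbe3a70f9e3260d9a22409922a50b9616284881e3868c0e182840608080e3c39f2ebd3bf6fffbefcf7ebcf8c78b0e0cf9b2e4dbb37eed3a35ea8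b123c683021c2972a4c89f3a6ccaf5aad4a74a8d0b362ddabb72fde5eb96ac56a94a842811a24a913a67af1fbe72e1dba66c98b06ed9ab43668c983e78e9c2a50b962240992122058a1a3078e0e182840608080efdbaf4e7cb8f0f3e3dfafbf3ffecb933e6c3831e2d7ab4e8dfbb6ec83021c28b123c69f3a6cc972a4c8a74a8d0af5aad4bb72fdeb362dda5ab17ae52a15aa46890a04e992a47ef9ebc76e9cb862c19b26ad1bb63668c983e78e9c2a50b962240992122058a1a3078e0e182840608080c78b0e0cf9b2e4d3a35eadbb37eeefdbaf4e7cb8f0fbf3ffef3e3dfa9f3a6cc972a4c88b123c683021c2b76acd8bf7aedca3429d2ab52bd66ad1bb662c19b27ef9ebc76e9cb842811a24a913a656a94a85eb96ac3260d9a3a70f9e26488902e58a941a3078e122058a0e182840608080cb933e6c3831e2dfbb6ecd7ab4e8e3c39f2ebd3bf6f7ebcf8fffbefc972a4c89f3a6cc83021c28b123c6bf7aedcb76acd8ab52bd6a3429d26ed9ab466c98b07af1fbe72e1dba46890a04e992a452a15aa5ab17ae3260d9a3a70f9e26488902e58a941a3078e122058a0e182840608080f3e3dfafbf3ffee3c39f2ebd3bf6d3a35eadbb37eec3831e2cb933e6b76acd8bf7aedca74a8d0af5aad4972a4c89f3a6cc870a0c08f1a2c47af1fbe72e1dba6ad1bb662c19b25ab17ae52a15aa4a913a642811a23e78e9c3668c982e58a9426488901e3868c16284880e182840608080fffbefcf7ebcf8efdbaf4e7cb8f0dfbb6ecd7ab4e8cf9b2e4c78b0e0bf7aedcb76acd8af5aad4a74a8d09f3a6cc972a4c88f1a2c4870a0c07ef9ebc76e9cb86ed9ab466c98b05eb96ac56a94a84e992a446890a03e78e9c3668c982e58a9426488901e3868c16284880e182840608080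
noncomputable def tB : ℕ := nat_lit 0xa5a55a5aa5a55a5aa5a5a5a55a5a5a5a5a5aa5a5a5a55a5a5a5a5a5a5a5a5a5aaa5555aaaa5555aaaa55aa5555aa55aa55aaaa55aa5555aa55aa55aa55aa55aa5aa5a55a5aa5a55a5aa55aa5a55aa55aa55a5aa55aa5a55aa55aa55aa55aa55a5555aaaa5555aaaa55555555aaaaaaaaaaaa55555555aaaaaaaaaaaaaaaaaaaac3c33c3cc3c33c3cc3c3c3c33c3c3c3c3c3cc3c3c3c33c3c3c3c3c3c3c3c3c3ccc3333cccc3333cccc33cc3333cc33cc33cccc33cc3333cc33cc33cc33cc33cc3cc3c33c3cc3c33c3cc33cc3c33cc33cc33c3cc33cc3c33cc33cc33cc33cc33c3333cccc3333cccc33333333cccccccccccc33333333cccccccccccccccccccc69699696696996966969696996969696969669696969969696969696969696966699996666999966669966999966996699666699669999669966996699669966966969969669699696699669699669966996966996696996699669966996699699996666999966669999999966666666666699999999666666666666666666660f0ff0f00f0ff0f00f0f0f0ff0f0f0f0f0f00f0f0f0ff0f0f0f0f0f0f0f0f0f000ffff0000ffff0000ff00ffff00ff00ff0000ff00ffff00ff00ff00ff00ff00f00f0ff0f00f0ff0f00ff00f0ff00ff00ff0f00ff00f0ff00ff00ff00ff00ff0ffff0000ffff0000ffffffff000000000000ffffffff00000000000000000000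
noncomputable def tE : ℕ := nat_lit 0x213b3705a97e688de54c1fac97e213b3705ade54c1fac688
noncomputable def tI : ℕ := nat_lit 0xda369daf6adb76cdbb6fd9365d9f66d8760d8b63dfb7fdf77cdef7ade379dcf72dc371ddb77dd774d5f56d5355d4f52d4351d6f5ad6359d7f5ed735dd0740d0b43d1744d1b47d334dd3f4ed2349d2f4ac8f22c8720c9b27c9325cbf2ecb72ccab2bca329cd734cdf36cc331ccb33ce339ceb3bcf73ccff3ec731dc7b1fc6319c6b1bc4311c4b13c5315c5b17c2b0bc2309c3b0fc330dc1f06c1704c0f02c0700fbbeffb7ecfafeafa3e9f8be3f87e0f9fe6f93e5fe3f9feffaff7fcffbfffd7f4fdbf7fc3f1fcff2f4fd2f43d1f5fd6f53d5f7fdef73ddf6fdaf63d9f17c4f1bc7f07c0f0bc3f23c9f2fcaf33cdf3fcee87a0e8fa2e93a5e9ba7eb7acebfaeea3a9eababedfb6ed7b4ecbb3ec3b1eebbbee3b9effbeef7bce739de7b9fe6399e6b9be4391e4b93e5395e5b97e2b8be2389e3b8fe338de1f86e1784e0f82e07809da779d6749ce729c2719e2799ee7a9f67c9fa7f9926599e669866098a639ae6a9a2699ba6f9b66c9064090a439164491a4793e4e9324d92e4a9224994e529425195e56952559725d97e5e9625996e5a8b62c8be2e8a2298aa2b8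8e228862089a27892258fe3e8f63c8ea3b8e2398c2318ca338d6348de3686a1b8621987a1f8721d8521585a178421184a138220982a0b8320d83a0f81e068160480e0280600bc2f1bcef2bd6f4bdaf7bfaffbf6fcbeefabe2f9b8ae3b86e0b9ee6b92e5bb6ecbbaefba2e9baeeab16c4b1ac7b06c0b0ac3b2ecab22c9b3eceb32cdb5ed6b52d5b4ed2b42d1b62d9b6edab72ddb7edeabeaeab6acaaaabaa2a9a86a0a8ea2a92a5a9aa7af6bcafebeae2b9aeabbacab3ac2b1adeb6ad6b4a6a9ba6299a7a9fa729da5295a5a97a4291a4a93a2289a2a8ba328da3a8fa1e86a1684a0e82a06805916559d6658560589635b96f5b56c5ad6a5a1695c1715cd725d5745d9775ed7a5e1795f97f5f57c52d4a5214953d4e5314d5054050943515445194757d5e5715d56d5a561595515555d565415154d524dd364d5344c9334c1314f53c4fd3e4e1394e93b48d224852049927491254a1294a92b4b52c4bd2e461194691b4711d4791f449134411145917451154310d4390f421094290b41d064150440d0240500789e3785e079de6791e57a1e97adea7b5ec7b9ef7d9f77d5f47cdf27c1f17f5fc7f9ff7e1f97edfa73dce731cd72dca721c9715c4719c7705c0709c376dda761d977dde771dd741d174dd2751d575dd66d5b46dd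b66c1b16c9b36fdbe6f5bc6e9bb6e1b9685a068da2691a5699a76a9ab6a1a96bdae6b5ac661996699b6719d6799f649936419165997651956318d6398f621896298b61d866158460d82605803e0f93ecfa3f4fc3f8ff3c0f13ccf23d4f43d8f73a0e93acea3b4ec3b8ef384e0388e3390e539ce636cda360d937cde370dd34cd2340d135cd6350d532cca320c933cce330cd308c3304c0318c7314c42f4bc2fcbe2e0b92e8bb2d4b42dcb62c0b12c8b32b4ac2bcae2a0a92a8ab290a5298a7284a028ca22789f2709d2689b26099258972509524893240912388f2308d2288b2208921c862148420c82204801f87f1f47c1ec7a1e0791d8771d4741cc721c0711b86f1b46c1ac6a1a06919c6619065188631846017c5e1705d16c5a1605915c561505514c521405113c4e1304d12c4a12049118471144410843104400fc3e0f43c0e83b0e0390dc360d4340c8330c0310bc2e0b42c0a82b0a029098270902508c22084200781f0701d0681b06019058170501504813040110380f0300d0280b0200901c060140400c0200400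
noncomputable def tQ : ℕ := nat_lit 0xa7c0fa7c0ea781da781ca301fa301ea340da340ca7c8ba7c8aa7899a7898a309ba309aa3489a348886c8f86c8e8689d8689c8209f8209e8248d8248c8680b8680a86c1986c188241b8241a8200982008a7a07a7a06a7e15a7e14a3217a3216a3605a3604a7a83a7a82a7e91a7e90a3293a3292a3681a368086a8786a8686e9586e948229782296826858268486e0386e0286a1186a108261382612822018220025a0f25a0e25a1d25a1c2161f2161e2160d2160c25a8b25a8a25a9925a982169b2169a216892168804a8f04a8e04a9d04a9c0069f0069e0068d0068c04e0b04e0a04e1904e180021b0021a002090020825c0725c0625c1525c142141721416214052140425c8325c8225c9125c902149321492214812148004c8704c8604c9504c94004970049600485004840480304802048110481000013000120000100000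
noncomputable def tC : ℕ := nat_lit 0x5806058040581205810008160081400002000000

noncomputable def tb (t w m i : ℕ) : ℕ := Nat.land (Nat.shiftRight t (Nat.mul w i)) m

noncomputable def act (e q : ℕ) : ℕ := tb tA (nat_lit 7) (nat_lit 127) (Nat.add (Nat.mul (nat_lit 128) e) q)

noncomputable def muQ (a b : ℕ) : ℕ := Nat.xor (Nat.xor a b) (Nat.land (Nat.shiftRight tB
  (Nat.add (Nat.mul (nat_lit 64) (Nat.div a (nat_lit 2))) (Nat.div b (nat_lit 2)))) (nat_lit 1))

noncomputable def muE (a b : ℕ) : ℕ := tb tE (nat_lit 3) (nat_lit 7) (Nat.add (Nat.mul (nat_lit 8) a) b)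

noncomputable def mu (a b : ℕ) : ℕ := force a fun a => force b fun b =>
  force (act (Nat.div a (nat_lit 128)) (Nat.mod b (nat_lit 128))) fun q =>
    Nat.add (muQ (Nat.mod a (nat_lit 128)) q)
      (Nat.mul (nat_lit 128) (muE (Nat.div a (nat_lit 128)) (Nat.div b (nat_lit 128))))

noncomputable def iv (a : ℕ) : ℕ := tb tI (nat_lit 10) (nat_lit 1023) a

/-- the product of unitriangular matrices over the field with four elements -/
noncomputable def m4 (c d : ℕ) : ℕ := force (Nat.mod c (nat_lit 1024)) fun a0 => force (Nat.div c (nat_lit 1024))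
  fun a1 => force (Nat.mod d (nat_lit 1024)) fun b0 => force (Nat.div d (nat_lit 1024)) fun b1 =>
    force (pr a1 b1) fun p => Nat.add (Nat.xor (Nat.xor (Nat.xor a0 b0) (pr a0 b0)) p) (Nat.mul (nat_lit 1024)
      (Nat.xor (Nat.xor (Nat.xor (Nat.xor a1 b1) (pr a0 b1)) (pr a1 b0)) p))

noncomputable def cQ (a : ℕ) : ℕ := tb tQ (nat_lit 20) (nat_lit 1048575) a
noncomputable def cE (a : ℕ) : ℕ := tb tC (nat_lit 20) (nat_lit 1048575) a
noncomputable def cc (a : ℕ) : ℕ := m4 (cQ (a % 128)) (cE (a / 128))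

def dec (c : ℕ) : ℕ := c % 2 + 2 * ((c / 16 + c / 16384) % 2) + 4 * (c / 16384 % 2) +
  8 * ((c / 128 + c / 131072) % 2) + 16 * (c / 131072 % 2) + 32 * (c / 8 % 2) + 64 * (c / 8192 % 2) +
  128 * (c / 32 % 2) + 256 * (c / 64 % 2) + 512 * (c / 65536 % 2)

theorem tb_le (t w m i : ℕ) : tb t w m i ≤ m := Nat.and_le_right

def om : F4 := ⟨0, 1⟩

noncomputable def Nn (v : ℕ) : Matrix (Fin 5) (Fin 5) F4 := (mat v - 1).map (algebraMap (ZMod 2) F4)

noncomputable def M (c : ℕ) : Matrix (Fin 5) (Fin 5) F4 := 1 + Nn (c % 1024) + om • Nn (c / 1024)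

theorem mat_xor (a b : ℕ) : mat (Nat.xor a b) - 1 = (mat a - 1) + (mat b - 1) := by
  have k : ∀ i, bt (a ^^^ b) i = bt a i + bt b i := fun i => by
    rw [bt, bt, bt, ← H6.UT.bz_xor, ← Nat.testBit_xor]
  ext i j
  fin_cases i <;> fin_cases j <;> simp [mat, k]

theorem xlt {a b : ℕ} (ha : a < 1024) (hb : b < 1024) : Nat.xor a b < 1024 := Nat.xor_lt_two_pow (n := 10) ha hb

theorem umu (a b : ℕ) : H6.UT.mu a b = Nat.xor (Nat.xor a b) (pr a b) := by
  rw [H6.UT.mu, force_eq, force_eq]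

theorem pr_lt {a b : ℕ} (ha : a < 1024) (hb : b < 1024) : pr a b < 1024 := by
  have := xlt (xlt ha hb) (H6.UT.mu_lt ha hb)
  rwa [umu, show ∀ x y, Nat.xor x (Nat.xor x y) = y from Nat.xor_xor_cancel_left] at this

theorem Nn_xor (a b : ℕ) : Nn (Nat.xor a b) = Nn a + Nn b := by
  rw [Nn, mat_xor, Matrix.map_add _ (map_add _)]; rfl

theorem Nn_pr {a b : ℕ} (ha : a < 1024) (hb : b < 1024) : Nn (pr a b) = Nn a * Nn b := by
  have k := mat_xor (Nat.xor a b) (pr a b)
  rw [← umu, H6.UT.mat_mu ha hb, mat_xor] at k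
  rw [Nn, Nn, Nn, ← Matrix.map_mul]
  congr 1
  rw [← sub_eq_iff_eq_add'] at k
  rw [← k]; noncomm_ring

theorem m4_eq (c d : ℕ) : m4 c d = Nat.xor (Nat.xor (Nat.xor (c % 1024) (d % 1024)) (pr (c % 1024) (d % 1024)))
    (pr (c / 1024) (d / 1024)) + 1024 * Nat.xor (Nat.xor (Nat.xor (Nat.xor (c / 1024) (d / 1024))
      (pr (c % 1024) (d / 1024))) (pr (c / 1024) (d % 1024))) (pr (c / 1024) (d / 1024)) := by
  simp only [m4, force_eq]; rfl

theorem M_m4 {c d : ℕ} (hc : c ≤ 1048575) (hd : d ≤ 1048575) : m4 c d ≤ 1048575 ∧ M (m4 c d) = M c * M d := by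
  have a0 : c % 1024 < 1024 := by omega
  have a1 : c / 1024 < 1024 := by omega
  have b0 : d % 1024 < 1024 := by omega
  have b1 : d / 1024 < 1024 := by omega
  have k0 := xlt (xlt (xlt a0 b0) (pr_lt a0 b0)) (pr_lt a1 b1)
  have k1 := xlt (xlt (xlt (xlt a1 b1) (pr_lt a0 b1)) (pr_lt a1 b0)) (pr_lt a1 b1)
  rw [m4_eq]
  refine ⟨by omega, ?_⟩
  rw [M, Nat.add_mul_mod_self_left, Nat.mod_eq_of_lt k0, Nat.add_mul_div_left _ _ (by norm_num),
    Nat.div_eq_of_lt k0, zero_add]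
  simp only [Nn_xor, Nn_pr a0 b0, Nn_pr a0 b1, Nn_pr a1 b0, Nn_pr a1 b1, M, add_mul, mul_add, one_mul, mul_one,
    smul_add, smul_mul_assoc, mul_smul_comm, smul_smul, show om * om = 1 + om by decide, add_smul, one_smul]
  abel

theorem M_inj {c d : ℕ} (hc : c ≤ 1048575) (hd : d ≤ 1048575) (h : M c = M d) : c = d := by
  have k : ∀ x a b a' b' : ZMod 2, algebraMap (ZMod 2) F4 x + algebraMap (ZMod 2) F4 a + om * algebraMap (ZMod 2) F4 b =
      algebraMap (ZMod 2) F4 x + algebraMap (ZMod 2) F4 a' + om * algebraMap (ZMod 2) F4 b' → a = a' ∧ b = b' := by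
    decide +kernel
  have j : ∀ i j, (mat (c % 1024) - 1) i j = (mat (d % 1024) - 1) i j ∧
      (mat (c / 1024) - 1) i j = (mat (d / 1024) - 1) i j := fun i j => k ((1 : Matrix _ _ (ZMod 2)) i j) _ _ _ _ (by
    have := congrFun₂ h i j
    rwa [M, M, ← Matrix.map_one (algebraMap (ZMod 2) F4) (map_zero _) (map_one _)] at this)
  have h0 := H6.UT.mat_inj (a := c % 1024) (b := d % 1024) (by omega) (by omega)
    (sub_left_injective (Matrix.ext fun i l => (j i l).1))
  have h1 := H6.UT.mat_inj (a := c / 1024) (b := d / 1024) (by omega) (by omega)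
    (sub_left_injective (Matrix.ext fun i l => (j i l).2))
  omega

theorem chk1 : allN (fun a => allN (fun b => and (Nat.blt (muQ a b) 128)
    (Nat.beq (cQ (muQ a b)) (m4 (cQ a) (cQ b)))) 128) 128 = true := by decide +kernel

theorem chk2 : ∀ e < 8, (∀ q < 128, m4 (cE e) (cQ q) = m4 (cQ (act e q)) (cE e)) ∧
    ∀ f < 8, cE (muE e f) = m4 (cE e) (cE f) := by decide +kernel

theorem chk3 : allN (fun a => and (Nat.beq (dec (cc a)) a) (Nat.beq (mu (iv a) a) 0)) 1024 = true := by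
  decide +kernel

theorem cc_le (a : ℕ) : cc a ≤ 1048575 := (M_m4 (tb_le ..) (tb_le ..)).1

theorem cc_mu {a b : ℕ} (ha : a < 1024) (hb : b < 1024) : mu a b < 1024 ∧ M (cc (mu a b)) = M (cc a) * M (cc b) := by
  have e : mu a b = muQ (a % 128) (act (a / 128) (b % 128)) + 128 * muE (a / 128) (b / 128) := by
    simp only [mu, force_eq]; rfl
  have h1 : act (a / 128) (b % 128) ≤ 127 := tb_le ..
  have h2 : muE (a / 128) (b / 128) ≤ 7 := tb_le ..
  have k := allN_iff.1 (allN_iff.1 chk1 (a % 128) (by omega)) _ (Nat.lt_succ_of_le h1)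
  rw [Bool.and_eq_true, Nat.blt_eq, Nat.beq_eq] at k
  obtain ⟨k2, k3⟩ := chk2 (a / 128) (by omega)
  have l1 : ∀ a, cQ a ≤ 1048575 := fun _ => tb_le ..
  have l2 : ∀ a, cE a ≤ 1048575 := fun _ => tb_le ..
  refine ⟨by omega, ?_⟩
  have k4 := congrArg M (k2 (b % 128) (by omega))
  rw [e, cc, Nat.add_mul_mod_self_left, Nat.mod_eq_of_lt k.1, Nat.add_mul_div_left _ _ (by norm_num),
    Nat.div_eq_of_lt k.1, zero_add, k.2, k3 _ (by omega),
    (M_m4 (M_m4 (l1 _) (l1 _)).1 (M_m4 (l2 _) (l2 _)).1).2]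
  simp only [cc, (M_m4 (l1 _) (l1 _)).2, (M_m4 (l2 _) (l2 _)).2, (M_m4 (l1 _) (l2 _)).2,
    (M_m4 (l2 _) (l1 _)).2] at k4 ⊢
  rw [mul_assoc, mul_assoc, ← mul_assoc (M (cQ (act _ _))), ← k4, mul_assoc]

theorem cc_inj {a b : ℕ} (ha : a < 1024) (hb : b < 1024) (h : M (cc a) = M (cc b)) : a = b := by
  have k := fun a ha => Nat.eq_of_beq_eq_true ((Bool.and_eq_true _ _).mp (allN_iff.1 chk3 a ha)).1
  rw [← k a ha, M_inj (cc_le a) (cc_le b) h, k b hb]

theorem M0 : M (cc 0) = 1 := by decide +kernel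

/-- the model -/
@[ext] structure T where
  v : ℕ
  lt : v < 1024

/-- the element with number `n` -/
def mk (n : ℕ) : T := ⟨Nat.mod n (nat_lit 1024), Nat.mod_lt _ (by norm_num)⟩

theorem mk_v (x : T) : mk x.v = x := T.ext (Nat.mod_eq_of_lt x.lt)

noncomputable instance : Group T where
  mul x y := ⟨mu x.v y.v, (cc_mu x.lt y.lt).1⟩
  one := ⟨nat_lit 0, by norm_num⟩
  inv x := ⟨iv x.v, Nat.lt_succ_of_le (tb_le ..)⟩
  mul_assoc x y z := T.ext (cc_inj (cc_mu (cc_mu x.lt y.lt).1 z.lt).1 (cc_mu x.lt (cc_mu y.lt z.lt).1).1 (by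
    change M (cc (mu (mu x.v y.v) z.v)) = M (cc (mu x.v (mu y.v z.v)))
    rw [(cc_mu (cc_mu x.lt y.lt).1 z.lt).2, (cc_mu x.lt (cc_mu y.lt z.lt).1).2, (cc_mu x.lt y.lt).2,
      (cc_mu y.lt z.lt).2, mul_assoc]))
  one_mul x := T.ext (cc_inj (cc_mu (a := 0) (by norm_num) x.lt).1 x.lt (by
    change M (cc (mu 0 x.v)) = _
    rw [(cc_mu (by norm_num) x.lt).2, M0, one_mul]))
  mul_one x := T.ext (cc_inj (cc_mu (b := 0) x.lt (by norm_num)).1 x.lt (by
    change M (cc (mu x.v 0)) = _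
    rw [(cc_mu x.lt (by norm_num)).2, M0, mul_one]))
  inv_mul_cancel x := T.ext (Nat.eq_of_beq_eq_true ((Bool.and_eq_true _ _).mp (allN_iff.1 chk3 _ x.lt)).2)

def equivFin : T ≃ Fin 1024 := ⟨fun x => ⟨x.v, x.lt⟩, fun i => ⟨i.1, i.2⟩, fun _ => rfl, fun _ => rfl⟩

instance : Finite T := Finite.of_equiv _ equivFin.symm

theorem card_T : Nat.card T = 1024 := (Nat.card_congr equivFin).trans (Nat.card_fin _)

instance : DecidableEq T := fun x y => decidable_of_iff (x.v = y.v) T.ext_iff.symm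

noncomputable instance (priority := high) decAll (p : T → Prop) [DecidablePred p] : Decidable (∀ x, p x) :=
  decidable_of_iff (allN (fun k => decide (p (mk k))) (nat_lit 1024) = true) (by
    rw [allN_iff]
    exact ⟨fun h x => by simpa [mk_v] using h x.v x.lt, fun h k _ => decide_eq_true (h _)⟩)

noncomputable instance (priority := high) decEx (p : T → Prop) [DecidablePred p] : Decidable (∃ x, p x) :=
  decidable_of_iff (anyN (fun k => decide (p (mk k))) (nat_lit 1024) = true) (by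
    rw [anyN_iff]
    exact ⟨fun ⟨k, _, h⟩ => ⟨_, of_decide_eq_true h⟩, fun ⟨x, h⟩ => ⟨x.v, x.lt, by simpa [mk_v] using h⟩⟩)

/-- the number of elements with a property -/
noncomputable def cnt (p : T → Prop) [DecidablePred p] (n : ℕ) : ℕ :=
  Nat.rec (nat_lit 0) (fun k ih => bif decide (p (mk k)) then Nat.succ ih else ih) n

theorem card_cnt (p : T → Prop) [DecidablePred p] : {x | p x}.ncard = cnt p (nat_lit 1024) := by
  have k : ∀ n, cnt p n = Nat.count (fun k => p (mk k)) n := fun n => by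
    induction n with
    | zero => rfl
    | succ n ih =>
      change (bif decide (p (mk n)) then Nat.succ (cnt p n) else cnt p n) = _
      rw [Nat.count_succ, ih]
      by_cases h : p (mk n) <;> simp [h]
  rw [k, Nat.count_eq_card_filter_range, ← Set.ncard_coe_finset,
    ← Set.ncard_image_of_injective _ (f := T.v) fun _ _ => T.ext]
  congr 1
  ext n
  simp only [Finset.coe_filter, Finset.mem_range, Set.mem_ofPred_eq, Set.mem_image]
  exact ⟨fun ⟨x, h, e⟩ => e ▸ ⟨x.lt, by rwa [mk_v]⟩, fun ⟨h, h'⟩ => ⟨mk n, h', Nat.mod_eq_of_lt h⟩⟩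

/-- the entries marked by `m` vanish -/
def Mk (m : ℕ) (x : T) : Prop := Nat.land x.v m = nat_lit 0

instance (m : ℕ) (x : T) : Decidable (Mk m x) := Nat.decEq _ _

/-- the list of the elements -/
class En (m : ℕ) where
  l : List ℕ
  ok : ∀ x, Mk m x ↔ x ∈ l.map mk

noncomputable instance (priority := high) decAllM (m : ℕ) [h : En m] (p : T → Prop) [DecidablePred p] :
    Decidable (∀ x, Mk m x → p x) :=
  decidable_of_iff (allL (fun k => decide (p (mk k))) h.l = true) (by simp [allL_eq, h.ok])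

noncomputable instance (priority := high) decExM (m : ℕ) [h : En m] (p : T → Prop) [DecidablePred p] :
    Decidable (∃ x, Mk m x ∧ p x) :=
  decidable_of_iff (anyL (fun k => decide (p (mk k))) h.l = true) (by simp [anyL_eq, h.ok])

def sub (p : T → Prop) (h1 : p 1) (h2 : ∀ x, p x → ∀ y, p y → p (x * y)) (h3 : ∀ x, p x → p x⁻¹) :
    Subgroup T where
  carrier := {x | p x}
  one_mem' := h1
  mul_mem' := fun {x y} a b => h2 x a y b
  inv_mem' := fun {x} => h3 x

theorem en_ok {m : ℕ} {l : List ℕ}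
    (h1 : allN (fun k => bif Nat.beq (Nat.land k m) 0 then anyL (Nat.beq k) l else true) 1024 = true)
    (h2 : allL (fun k => Nat.beq (Nat.land (Nat.mod k 1024) m) 0) l = true) (x : T) :
    Mk m x ↔ x ∈ l.map mk := by
  rw [List.mem_map]
  refine ⟨fun h => ⟨_, ?_, mk_v x⟩, fun ⟨n, h, e⟩ => e ▸ ?_⟩
  · have := allN_iff.1 h1 x.v x.lt
    rw [Nat.beq_eq.mpr h, cond_true, anyL_eq] at this
    simpa using this
  · exact Nat.beq_eq.mp (List.all_eq_true.1 (allL_eq _ l ▸ h2) n h)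

instance : En 896 := ⟨[0, 1, 2, 3, 4, 5, 6, 7, 8, 9, 10, 11, 12, 13, 14, 15, 16, 17, 18, 19, 20, 21, 22, 23, 24,
  25, 26, 27, 28, 29, 30, 31, 32, 33, 34, 35, 36, 37, 38, 39, 40, 41, 42, 43, 44, 45, 46, 47, 48, 49, 50, 51, 52,
  53, 54, 55, 56, 57, 58, 59, 60, 61, 62, 63, 64, 65, 66, 67, 68, 69, 70, 71, 72, 73, 74, 75, 76, 77, 78, 79, 80,
  81, 82, 83, 84, 85, 86, 87, 88, 89, 90, 91, 92, 93, 94, 95, 96, 97, 98, 99, 100, 101, 102, 103, 104, 105, 106,
  107, 108, 109, 110, 111, 112, 113, 114, 115, 116, 117, 118, 119, 120, 121, 122, 123, 124, 125, 126, 127],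
  en_ok (by decide +kernel) (by decide +kernel)⟩
instance : En 888 := ⟨[0, 1, 2, 3, 4, 5, 6, 7, 128, 129, 130, 131, 132, 133, 134, 135],
  en_ok (by decide +kernel) (by decide +kernel)⟩
instance : En 96 := ⟨[0, 1, 2, 3, 4, 5, 6, 7, 8, 9, 10, 11, 12, 13, 14, 15, 16, 17, 18, 19, 20, 21, 22, 23, 24, 25,
  26, 27, 28, 29, 30, 31, 128, 129, 130, 131, 132, 133, 134, 135, 136, 137, 138, 139, 140, 141, 142, 143, 144, 145,
  146, 147, 148, 149, 150, 151, 152, 153, 154, 155, 156, 157, 158, 159, 256, 257, 258, 259, 260, 261, 262, 263,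
  264, 265, 266, 267, 268, 269, 270, 271, 272, 273, 274, 275, 276, 277, 278, 279, 280, 281, 282, 283, 284, 285,
  286, 287, 384, 385, 386, 387, 388, 389, 390, 391, 392, 393, 394, 395, 396, 397, 398, 399, 400, 401, 402, 403,
  404, 405, 406, 407, 408, 409, 410, 411, 412, 413, 414, 415, 512, 513, 514, 515, 516, 517, 518, 519, 520, 521,
  522, 523, 524, 525, 526, 527, 528, 529, 530, 531, 532, 533, 534, 535, 536, 537, 538, 539, 540, 541, 542, 543,
  640, 641, 642, 643, 644, 645, 646, 647, 648, 649, 650, 651, 652, 653, 654, 655, 656, 657, 658, 659, 660, 661,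
  662, 663, 664, 665, 666, 667, 668, 669, 670, 671, 768, 769, 770, 771, 772, 773, 774, 775, 776, 777, 778, 779,
  780, 781, 782, 783, 784, 785, 786, 787, 788, 789, 790, 791, 792, 793, 794, 795, 796, 797, 798, 799, 896, 897,
  898, 899, 900, 901, 902, 903, 904, 905, 906, 907, 908, 909, 910, 911, 912, 913, 914, 915, 916, 917, 918, 919,
  920, 921, 922, 923, 924, 925, 926, 927],
  en_ok (by decide +kernel) (by decide +kernel)⟩
instance : En 1016 := ⟨[0, 1, 2, 3, 4, 5, 6, 7],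
  en_ok (by decide +kernel) (by decide +kernel)⟩
instance : En 992 := ⟨[0, 1, 2, 3, 4, 5, 6, 7, 8, 9, 10, 11, 12, 13, 14, 15, 16, 17, 18, 19, 20, 21, 22, 23, 24,
  25, 26, 27, 28, 29, 30, 31],
  en_ok (by decide +kernel) (by decide +kernel)⟩
instance : En 864 := ⟨[0, 1, 2, 3, 4, 5, 6, 7, 8, 9, 10, 11, 12, 13, 14, 15, 16, 17, 18, 19, 20, 21, 22, 23, 24,
  25, 26, 27, 28, 29, 30, 31, 128, 129, 130, 131, 132, 133, 134, 135, 136, 137, 138, 139, 140, 141, 142, 143, 144,
  145, 146, 147, 148, 149, 150, 151, 152, 153, 154, 155, 156, 157, 158, 159],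
  en_ok (by decide +kernel) (by decide +kernel)⟩
instance : En 1020 := ⟨[0, 1, 2, 3],
  en_ok (by decide +kernel) (by decide +kernel)⟩
instance : En 894 := ⟨[0, 1, 128, 129],
  en_ok (by decide +kernel) (by decide +kernel)⟩

def Q0 : Subgroup T := sub (Mk 896) rfl (by decide +kernel) (by decide +kernel)
def A0 : Subgroup T := sub (Mk 888) rfl (by decide +kernel) (by decide +kernel)
def R0 : Subgroup T := sub (Mk 96) rfl (by decide +kernel) (by decide +kernel)
def XZ : Subgroup T := sub (Mk 1016) rfl (by decide +kernel) (by decide +kernel)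
def U0 : Subgroup T := sub (Mk 992) rfl (by decide +kernel) (by decide +kernel)
def RZ : Subgroup T := sub (Mk 864) rfl (by decide +kernel) (by decide +kernel)
def V0 : Subgroup T := sub (Mk 1020) rfl (by decide +kernel) (by decide +kernel)
def V1 : Subgroup T := sub (Mk 894) rfl (by decide +kernel) (by decide +kernel)

instance (x : T) : Decidable (x ∈ Q0) := Nat.decEq _ _
noncomputable instance (priority := high) (p : T → Prop) [DecidablePred p] : Decidable (∀ x ∈ Q0, p x) :=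
  decAllM 896 p
noncomputable instance (priority := high) (p : T → Prop) [DecidablePred p] : Decidable (∃ x ∈ Q0, p x) :=
  decExM 896 p
instance (x : T) : Decidable (x ∈ A0) := Nat.decEq _ _
noncomputable instance (priority := high) (p : T → Prop) [DecidablePred p] : Decidable (∀ x ∈ A0, p x) :=
  decAllM 888 p
noncomputable instance (priority := high) (p : T → Prop) [DecidablePred p] : Decidable (∃ x ∈ A0, p x) :=
  decExM 888 p
instance (x : T) : Decidable (x ∈ R0) := Nat.decEq _ _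
noncomputable instance (priority := high) (p : T → Prop) [DecidablePred p] : Decidable (∀ x ∈ R0, p x) :=
  decAllM 96 p
noncomputable instance (priority := high) (p : T → Prop) [DecidablePred p] : Decidable (∃ x ∈ R0, p x) :=
  decExM 96 p
instance (x : T) : Decidable (x ∈ XZ) := Nat.decEq _ _
noncomputable instance (priority := high) (p : T → Prop) [DecidablePred p] : Decidable (∀ x ∈ XZ, p x) :=
  decAllM 1016 p
noncomputable instance (priority := high) (p : T → Prop) [DecidablePred p] : Decidable (∃ x ∈ XZ, p x) :=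
  decExM 1016 p
instance (x : T) : Decidable (x ∈ U0) := Nat.decEq _ _
noncomputable instance (priority := high) (p : T → Prop) [DecidablePred p] : Decidable (∀ x ∈ U0, p x) :=
  decAllM 992 p
noncomputable instance (priority := high) (p : T → Prop) [DecidablePred p] : Decidable (∃ x ∈ U0, p x) :=
  decExM 992 p
instance (x : T) : Decidable (x ∈ RZ) := Nat.decEq _ _
noncomputable instance (priority := high) (p : T → Prop) [DecidablePred p] : Decidable (∀ x ∈ RZ, p x) :=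
  decAllM 864 p
noncomputable instance (priority := high) (p : T → Prop) [DecidablePred p] : Decidable (∃ x ∈ RZ, p x) :=
  decExM 864 p
instance (x : T) : Decidable (x ∈ V0) := Nat.decEq _ _
noncomputable instance (priority := high) (p : T → Prop) [DecidablePred p] : Decidable (∀ x ∈ V0, p x) :=
  decAllM 1020 p
noncomputable instance (priority := high) (p : T → Prop) [DecidablePred p] : Decidable (∃ x ∈ V0, p x) :=
  decExM 1020 p
instance (x : T) : Decidable (x ∈ V1) := Nat.decEq _ _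
noncomputable instance (priority := high) (p : T → Prop) [DecidablePred p] : Decidable (∀ x ∈ V1, p x) :=
  decAllM 894 p
noncomputable instance (priority := high) (p : T → Prop) [DecidablePred p] : Decidable (∃ x ∈ V1, p x) :=
  decExM 894 p

theorem card_sub (B : Subgroup T) [DecidablePred (· ∈ B)] : Nat.card B = cnt (· ∈ B) (nat_lit 1024) :=
  (Nat.card_coe_set_eq (B : Set T)).trans (card_cnt (· ∈ B))

theorem card_cen (a : T) : Nat.card (centralizer {a}) = cnt (fun x => x * a = a * x) (nat_lit 1024) := by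
  rw [← card_cnt, ← Nat.card_coe_set_eq]
  exact Nat.card_congr (Equiv.subtypeEquivRight fun _ => mem_centralizer_singleton_iff)

theorem cardA : Nat.card A0 = 16 := by rw [card_sub]; decide +kernel
theorem cardR : Nat.card R0 = 256 := by rw [card_sub]; decide +kernel
theorem cardV : Nat.card V0 = 4 := by rw [card_sub]; decide +kernel

theorem ind {p : T → Prop} (h1 : p 1) (h : ∀ x, p x → ∀ k < 10, p (x * mk (2 ^ k))) (y : T) : p y := by
  have k : ∀ y : T, y = 1 ∨ ∃ k < 10, (y * (mk (2 ^ k))⁻¹).v < y.v := by decide +kernel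
  induction hn : y.v using Nat.strong_induction_on generalizing y with
  | _ n ih =>
    obtain rfl | ⟨k, hk, h2⟩ := k y
    · exact h1
    · exact inv_mul_cancel_right y (mk (2 ^ k)) ▸ h _ (ih _ (hn ▸ h2) _ rfl) k hk

theorem gen {B : Subgroup T} (h : ∀ k < 10, mk (2 ^ k) ∈ B) (y : T) : y ∈ B :=
  ind (one_mem B) (fun _ hx k hk => mul_mem hx (h k hk)) y

noncomputable def homOf (f : T → T) (h1 : f 1 = 1) (h : ∀ x, ∀ k < 10, f (x * mk (2 ^ k)) = f x * f (mk (2 ^ k))) :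
    T →* T := MonoidHom.mk' f fun x y => ind (p := fun y => f (x * y) = f x * f y) (by rw [mul_one, h1, mul_one])
      (fun y ih k hk => by rw [← mul_assoc, h _ k hk, ih, h _ k hk, mul_assoc]) y

theorem nrm_of {A : Subgroup T} (h : ∀ k < 10, ∀ x ∈ A, mk (2 ^ k) * x * (mk (2 ^ k))⁻¹ ∈ A) (w : T) :
    ∀ x ∈ A, w * x * w⁻¹ ∈ A :=
  ind (p := fun w => ∀ x ∈ A, w * x * w⁻¹ ∈ A) (by simp) (fun w ih k hk x hx => by
    simpa only [_root_.mul_inv_rev, mul_assoc] using ih _ (h k hk x hx)) w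

def P5 : Matrix (Fin 5) (Fin 5) F4 :=
  !![1, om, 0, 0, 0; 1, 1 + om, 0, 0, 0; 0, 0, 1, 0, om; 0, 0, 0, 1, 0; 0, 0, 1, 0, 1 + om]
def P5' : Matrix (Fin 5) (Fin 5) F4 :=
  !![1 + om, om, 0, 0, 0; 1, 1, 0, 0, 0; 0, 0, 1 + om, 0, om; 0, 0, 0, 1, 0; 0, 0, 1, 0, 1]

theorem PP : P5' * P5 = 1 ∧ P5 * P5' = 1 := by decide +kernel

noncomputable def f0 : T →* Matrix (Fin 5) (Fin 5) F4 where
  toFun x := P5 * M (cc x.v) * P5'
  map_one' := by
    change P5 * M (cc 0) * P5' = 1
    rw [M0, mul_one, PP.2]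
  map_mul' x y := by
    change P5 * M (cc (mu x.v y.v)) * P5' = _
    rw [(cc_mu x.lt y.lt).2, mul_assoc _ P5', ← mul_assoc P5', ← mul_assoc P5', PP.1, one_mul]
    simp only [mul_assoc]

noncomputable def f1 : T →* SpecialLinearGroup (Fin 5) F4 := MonoidHom.mk' (fun x => ⟨f0 x, by
    have k : ∀ a : F4, a ^ 8 = 1 → a = 1 := by decide +kernel
    refine k _ ?_
    rw [← det_pow, ← map_pow, (by decide +kernel : ∀ x : T, x ^ 8 = 1) x, map_one, det_one]⟩)
  fun x y => Subtype.ext (map_mul f0 x y)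

theorem f1_mem (x : T) : f1 x ∈ Cfsg.SU 5 F4 2 := gen (B := (Cfsg.SU 5 F4 2).comap f1) (fun k hk =>
  (H11.mem_SU_iff_matrix (q := 2) F4.card _).2 ((by decide +kernel : ∀ k < 10,
    (f0 (mk (2 ^ k)))ᵀ * (f0 (mk (2 ^ k))).map (· ^ 2) = 1) k hk)) x

noncomputable def f5 : T →* Cfsg.PSU 5 F4 2 := (QuotientGroup.mk' _).comp (f1.codRestrict _ f1_mem)

theorem f5_inj : Function.Injective f5 := (injective_iff_map_eq_one _).2 fun x h => by
  have k := (QuotientGroup.eq_one_iff _).1 h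
  rw [card_eq_one.1 (H11.card_center_SU (n := 5) (q := 2) F4.card (by norm_num) : Nat.card (center _) = 1),
    mem_bot] at k
  have j : P5 * M (cc x.v) * P5' = 1 := congrArg (fun g : Cfsg.SU 5 F4 2 => g.1.1) k
  refine T.ext (cc_inj x.lt (b := 0) (by norm_num) ?_)
  rw [M0, ← PP.1, ← mul_one P5', ← j, ← mul_assoc, ← mul_assoc, PP.1, one_mul, mul_assoc, PP.1, mul_one]

end H6.UU
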