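import Cfsg.Agent.H6.Real2
import Cfsg.Agent.H24.ClassSize

/-! Gagola characters: irreducible characters vanishing on all but two classes. -/

set_option autoImplicit false
set_option linter.unusedSectionVars false

open Cfsg Subgroup

namespace H6

open H20 H19 H18
open scoped ComplexConjugate Classical

universe u

variable {Γ : Type u} [Group Γ] [Finite Γ] {A B K T C D E G H J L M N P Q S U V W X Y Z : Subgroup Γ}
  {θ χ ψ φ α β γ ξ η ν l : Γ → ℂ} {s t g x y k : Γ} {p n m b : ℕ} {π : Set ℕ}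

theorem CInv.isConj (h : CInv ⊤ φ) (e : IsConj x y) : φ y = φ x := by
  obtain ⟨c, rfl⟩ := isConj_iff.1 e
  exact h.top c x

/-- `χ` vanishes off `N` and `N` is the union of two classes -/
structure Gag (χ : Γ → ℂ) (N : Subgroup Γ) : Prop where
  irr : χ ∈ Irr ⊤
  ne : N ≠ ⊥
  mem : ∀ g, g ∈ N ↔ χ g ≠ 0
  cls : ∀ x ∈ N, ∀ y ∈ N, x ≠ 1 → y ≠ 1 → IsConj x y
  ker : ∀ ψ ∈ Irr ⊤, ψ ≠ χ → N ≤ cker ψ
  ne_triv : χ ≠ triv ⊤

theorem exists_two_cls (hχ : χ 1 ≠ 0)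
    (h : Nat.card {C : ConjClasses Γ // ∃ g ∈ C.carrier, χ g ≠ 0} = 2) :
    ∃ g, g ≠ 1 ∧ χ g ≠ 0 ∧ ∀ x, χ x ≠ 0 → x = 1 ∨ IsConj g x := by
  obtain ⟨⟨C, g, hg, h1⟩, h2, h3⟩ := (Nat.card_eq_two_iff'
    (⟨ConjClasses.mk 1, 1, ConjClasses.mem_carrier_mk, hχ⟩ :
      {C : ConjClasses Γ // ∃ g ∈ C.carrier, χ g ≠ 0})).1 h
  obtain rfl := ConjClasses.mem_carrier_iff_mk_eq.1 hg
  refine ⟨g, fun e => h2 (by subst e; rfl), h1, fun x hx => ?_⟩
  by_cases e : x = 1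
  · exact .inl e
  · refine .inr (ConjClasses.mk_eq_mk_iff_isConj.1 (congrArg Subtype.val
      (h3 ⟨ConjClasses.mk x, x, ConjClasses.mem_carrier_mk, hx⟩ fun e' => e ?_)).symm)
    exact isConj_one_left.1 (ConjClasses.mk_eq_mk_iff_isConj.1 (congrArg Subtype.val e'))

theorem sum_two_cls (hg : g ≠ 1) (hφ : CInv ⊤ φ) (h : ∀ x, φ x ≠ 0 → x = 1 ∨ IsConj g x) :
    ∑ x ∈ fin ((⊤ : Subgroup Γ) : Set Γ), φ x = φ 1 + H24.cs g * φ g := by
  rw [← sum_fin_subset (A := {1} ∪ {y | IsConj g y}) (B := ((⊤ : Subgroup Γ) : Set Γ))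
    (fun _ _ => trivial) φ
    fun x _ hx => by_contra fun e => hx (h x e), sum_fin_union (A := {1}) (B := {y | IsConj g y})
      (Set.disjoint_singleton_left.2 fun e => hg (isConj_one_left.1 e)), sum_fin_congr (g := fun _ => φ 1) (by simp),
    sum_fin_congr (A := {y | IsConj g y}) (g := fun _ => φ g) fun x hx => CInv.isConj hφ hx,
    sum_fin_const, sum_fin_const, H24.ncard_isConj]
  simp

theorem sum_col (hy : y ≠ 1) : ∑ ψ ∈ Irr (⊤ : Subgroup Γ), ψ y * deg ψ = 0 := by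
  have := sum_irr_mul_conj' (L := ⊤) (x := y) (y := 1) trivial trivial
  rw [if_neg fun ⟨g, _, e⟩ => hy (conj_eq_one_iff'.1 e)] at this
  rw [← this]
  exact Finset.sum_congr rfl fun ψ h => by rw [H20.irr_deg h, map_natCast]

theorem re_neg_of_ker (hχ : χ ∈ Irr ⊤) (h1 : χ ≠ triv ⊤) (hy : y ≠ 1)
    (h : ∀ ψ ∈ Irr ⊤, ψ ≠ χ → y ∈ cker ψ) : (χ y).re < 0 := by
  have e := sum_col hy
  rw [← Finset.add_sum_erase _ _ hχ, Finset.sum_congr rfl (g := fun ψ => ((deg ψ * deg ψ : ℕ) : ℂ))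
    fun ψ hψ => by
      rw [cker_apply (h ψ (Finset.mem_of_mem_erase hψ) (Finset.ne_of_mem_erase hψ)),
        H20.irr_deg (Finset.mem_of_mem_erase hψ)]; simp, ← Nat.cast_sum] at e
  have h2 : 0 < ∑ ψ ∈ (Irr (⊤ : Subgroup Γ)).erase χ, deg ψ * deg ψ :=
    Finset.sum_pos' (fun _ _ => Nat.zero_le _)
      ⟨triv ⊤, Finset.mem_erase.2 ⟨h1.symm, triv_mem_Irr _⟩, by simp⟩
  have h3 := congrArg Complex.re e
  simp only [Complex.add_re, Complex.mul_re, Complex.natCast_re, Complex.natCast_im, mul_zero,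
    sub_zero, Complex.zero_re] at h3
  have h4 : (0 : ℝ) < deg χ := by exact_mod_cast H20.irr_deg_pos hχ
  have h5 : (0 : ℝ) < (∑ ψ ∈ (Irr (⊤ : Subgroup Γ)).erase χ, deg ψ * deg ψ : ℕ) := by
    exact_mod_cast h2
  by_contra hc
  nlinarith [mul_nonneg (not_lt.1 hc) h4.le]

theorem exists_gag (hG : 2 < Nat.card Γ) (hχ : χ ∈ Irr ⊤)
    (h : Nat.card {C : ConjClasses Γ // ∃ g ∈ C.carrier, χ g ≠ 0} = 2) : ∃ N, Gag χ N := by
  obtain ⟨g, hg, h1, h2⟩ := exists_two_cls (irr_one_ne hχ) h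
  have h3 : χ ≠ triv ⊤ := by
    rintro rfl
    have e := sum_two_cls hg (cinv_triv_top ⊤) h2
    simp only [triv_top_apply, Finset.sum_const, card_fin_sub, card_top, nsmul_eq_mul, mul_one] at e
    have e' : Nat.card Γ = 1 + H24.cs g := by exact_mod_cast e
    have h4 := H24.cs_dvd_card g
    rw [e', Nat.dvd_add_left dvd_rfl, Nat.dvd_one] at h4
    omega
  have key : ∀ ψ ∈ Irr ⊤, ψ ≠ χ → ψ 1 * conj (χ 1) + H24.cs g * (ψ g * conj (χ g)) = 0 :=
    fun ψ hψ e => by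
      have := card_mul_dot ⊤ ψ χ
      rw [irr_dot_ne hψ hχ e, mul_zero] at this
      exact (sum_two_cls (φ := ψ * star χ) hg ((irr_cinv hψ).mul (irr_cinv hχ).star)
        fun x hx => h2 x fun e => hx (by simp [e])).symm.trans this.symm
  have h4 : ∀ ψ ∈ Irr ⊤, ψ ≠ χ → g ∈ cker ψ := fun ψ hψ e => by
    have a := key ψ hψ e
    have b := key _ (triv_mem_Irr _) h3.symm
    simp only [triv_top_apply, one_mul] at b
    have c : (ψ 1 - ψ g) * conj (χ 1) = 0 := by linear_combination a - ψ g * b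
    rw [chr_mem_cker (irr_chr hψ) trivial]
    exact (sub_eq_zero.1 ((mul_eq_zero.1 c).resolve_right
      ((map_ne_zero _).2 (irr_one_ne hχ)))).symm
  have h5 : ∀ y, y ∈ (⨅ ψ ∈ (Irr ⊤).erase χ, cker ψ : Subgroup Γ) ↔ χ y ≠ 0 := fun y => by
    simp only [mem_iInf, Finset.mem_erase, and_imp]
    refine ⟨fun hy e => ?_, fun hy ψ e hψ => ?_⟩
    · by_cases e' : y = 1
      · exact irr_one_ne hχ (e' ▸ e)
      · have := re_neg_of_ker hχ h3 e' fun ψ a b => hy ψ b a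
        simp [e] at this
    · obtain rfl | hy := h2 y hy
      · exact one_mem _
      · obtain ⟨c, rfl⟩ := isConj_iff.1 hy
        exact (cker_normal hψ).conj_mem trivial (h4 ψ hψ e)
  refine ⟨_, hχ, ne_bot_of_mem ((h5 g).2 h1) hg, h5, fun x hx y hy a b => ?_, fun ψ a b => ?_, h3⟩
  · exact ((h2 x ((h5 x).1 hx)).resolve_left a).symm.trans ((h2 y ((h5 y).1 hy)).resolve_left b)
  · exact biInf_le _ (Finset.mem_erase.2 ⟨b, a⟩)

theorem gag_of_mem (hG : 2 < Nat.card Γ) (hχ : χ ∈ Irr ⊤)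
    (h : Nat.card {C : ConjClasses Γ // ∃ g ∈ C.carrier, χ g ≠ 0} = 2)
    (hN : ∀ g, g ∈ N ↔ χ g ≠ 0) : Gag χ N := by
  obtain ⟨M, hM⟩ := exists_gag hG hχ h
  rwa [show N = M from Subgroup.ext fun g => (hN g).trans (hM.mem g).symm]

namespace Gag

variable (h : Gag χ N)
include h

theorem normal : N ⊴ ⊤ := ⟨le_top, fun g _ => mem_norm_of_cj_le (cj_le_iff.2 fun x hx =>
  mem_cj_inv.2 ((h.mem _).2 ((irr_cinv h.irr).top g x ▸ (h.mem x).1 hx)))⟩

theorem zero (hx : x ∉ N) : χ x = 0 := by_contra fun e => hx ((h.mem x).2 e)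

theorem faith (e : χ x = χ 1) : x = 1 := by_contra fun hx => by
  have := re_neg_of_ker h.irr h.ne_triv hx fun ψ a b =>
    h.ker ψ a b ((h.mem x).2 (e ▸ irr_one_ne h.irr))
  rw [e, chr_one_re (irr_chr h.irr)] at this
  exact absurd this (not_lt.2 (Nat.cast_nonneg _))

theorem cker_eq : cker χ = ⊥ := eq_bot_iff.2 fun _ hx => h.faith (cker_apply hx)

theorem eq_of_faith (hψ : ψ ∈ Irr ⊤) (e : ¬ N ≤ cker ψ) : ψ = χ :=
  by_contra fun e' => e (h.ker ψ hψ e')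

theorem min (hK : K ⊴ ⊤) (h1 : K ≠ ⊥) : N ≤ K :=
  le_of_forall_cker hK le_top fun ψ hψ e => h.ker ψ hψ fun e' =>
    h1 (eq_bot_iff.2 (h.cker_eq ▸ e' ▸ e))

theorem exists_pg : ∃ p, p.Prime ∧ PG p N := by
  obtain ⟨p, hp, hd⟩ := exists_prime_dvd_card h.ne
  obtain ⟨x, hx, e⟩ := exists_orderOf_eq_prime hp hd
  refine ⟨p, hp, PiN.of_elt fun y hy => ?_⟩
  by_cases hy1 : y = 1
  · exact hy1 ▸ PiN.e_one
  · obtain ⟨c, rfl⟩ := isConj_iff.1 (h.cls x hx y hy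
      (fun e' => hp.ne_one (by rw [← e, e', orderOf_one])) hy1)
    exact PiN.e_conj ((piN_prime (e ▸ hp)).2 e) c

theorem abelem (hN : PG p N) : Abelem p N := by
  obtain ⟨q, hq, h1⟩ := minnormal_abelem (M := ⊤) ⟨h.ne, h.normal.norm, fun W h1 h2 =>
    or_iff_not_imp_left.2 fun e => le_antisymm h1 (h.min ⟨le_top, h2⟩ e)⟩ hN.sol
  rwa [show p = q from (hN.mem_of_ne_bot h.ne (H19.abelem_pg hq h1))]

theorem cs_eq (hx : x ∈ N) (h1 : x ≠ 1) : H24.cs x + 1 = #N := by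
  rw [← H24.ncard_isConj, show {y | IsConj x y} = nt N from Set.ext fun y => ⟨fun e => by
    obtain ⟨c, rfl⟩ := isConj_iff.1 e
    exact conj_mem_nt (h.normal.norm trivial) ⟨hx, h1⟩, fun e => h.cls x hx y e.1 h1 e.2⟩, ncard_nt]
  exact Nat.sub_add_cancel (card_pos N)

theorem mem_ovr_top (hl : l ∈ Irr N) (h1 : l ≠ triv N) : ψ ∈ ovr ⊤ N l ↔ ψ = χ := by
  have key : ∀ ψ ∈ ovr ⊤ N l, ψ = χ := fun ψ hψ => h.eq_of_faith (mem_ovr.1 hψ).1 fun e =>
    h1 ((irr_le_cker_iff hl).1 (le_cker_of_below (irr_chr (mem_ovr.1 hψ).1) le_top hl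
      (mem_ovr.1 hψ).2 le_rfl e))
  refine ⟨key ψ, fun e => ?_⟩
  obtain ⟨φ, hφ⟩ := exists_ovr (G := ⊤) le_top hl
  rwa [e, ← key φ hφ]

theorem orb_eq (hl : l ∈ Irr N) (h1 : l ≠ triv N) : orb ⊤ l = (Irr N).erase (triv N) := by
  ext φ
  rw [Finset.mem_erase]
  refine ⟨fun e => ⟨fun e' => h1 ?_, orb_irr hl h.normal.norm e⟩, fun e => ?_⟩
  · have := orb_symm e
    rwa [e', orb_of_cinv (cinv_triv h.normal.norm), Finset.mem_singleton] at this
  · exact H20.clifford_conj h.normal h.irr hl e.2 (mem_ovr.1 ((h.mem_ovr_top hl h1).2 rfl)).2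
      (mem_ovr.1 ((h.mem_ovr_top e.2 e.1).2 rfl)).2

theorem idx_inertia (hN : PG p N) (hl : l ∈ Irr N) (h1 : l ≠ triv N) :
    (H20.inertia ⊤ l).relIndex ⊤ + 1 = #N := by
  rw [← card_orb, h.orb_eq hl h1, Finset.card_erase_add_one (triv_mem_Irr N),
    Irr_eq_image_ch (h.abelem hN).1, Finset.card_image_of_injective _ Ch.fn_injective,
    Finset.card_univ, card_Ch (h.abelem hN).1]

theorem not_dvd (hN : PG p N) (e : n + 1 = #N) : ¬ p ∣ n := fun hd =>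
  (hN.prime_of_ne_bot h.ne).ne_one
    (Nat.dvd_one.1 ((Nat.dvd_add_right hd).1 (e ▸ hN.dvd_of_ne_bot h.ne)))

theorem pg_inertia (hN : PG p N) (hl : l ∈ Irr N) (h1 : l ≠ triv N) : PG p (H20.inertia ⊤ l) := by
  have hχ := (h.mem_ovr_top hl h1).2 rfl
  have hNT : N ≤ H20.inertia ⊤ l := H20.le_inertia (irr_cinv hl) le_top
  obtain ⟨e, he, hd⟩ := clifford_nat le_top (irr_chr h.irr) (irr_chr hl) (mem_ovr.1 hχ).2
  have hs : N.relIndex (H20.inertia ⊤ l) = e * e := by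
    have a := dot_Ind_self h.normal hl
    rw [Ind_eq_sum_ovr le_top (irr_zirr hl), show ovr ⊤ N l = {χ} from Finset.ext fun ψ => by
      rw [h.mem_ovr_top hl h1, Finset.mem_singleton], Finset.sum_singleton, hd, dot_smul_left,
      dot_smul_right, irr_dot_self h.irr, map_natCast, mul_one] at a
    exact_mod_cast a.symm
  refine PiN.of_relIndex' hNT hN fun q hq hqd => by_contra fun hqp => ?_
  obtain ⟨Q, hQ⟩ := exists_syl q (H20.inertia ⊤ l)
  have hc : (#N).Coprime #Q := hN.coprime (hQ.pi.sing_ne hqp)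
  have hn : Q ≤ N(N) := le_top.trans h.normal.norm
  have sd := sdprod_sup hn (inf_eq_bot_of_cop hc)
  obtain ⟨μ, hμ, hr⟩ := exists_ext_of_coprime sd.normal hl
    ((cinv_inertia ⊤ l).mono (sup_le hNT hQ.le)) (sd.relIndex_left ▸ hc)
  obtain ⟨k, hk⟩ := chr_dot_nat (chr_Res (irr_chr h.irr) (le_top (a := N ⊔ Q))) (irr_chr hμ)
  have a := relIndex_mul_dot_of_supp (φ := χ) (ψ := μ) sd.left_le fun x _ hx => .inl (h.zero hx)
  rw [dot_Res_left] at hk
  rw [hk, ← dot_Res_right, hr, hd, sd.relIndex_left] at a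
  have b : e = #Q * k := by exact_mod_cast a.symm
  have c : #Q * #Q ∣ #Q := hQ.dvd (hQ.pi.mul hQ.pi) (by
    rw [← card_mul_relIndex hNT, hs, b]
    exact Dvd.dvd.mul_left (mul_dvd_mul (dvd_mul_right _ _) (dvd_mul_right _ _)) _)
  have d : #Q = 1 := Nat.dvd_one.1 (Nat.dvd_of_mul_dvd_mul_left (card_pos Q) (by rwa [mul_one]))
  exact hq.ne_one (Nat.dvd_one.1 (d ▸ hQ.sdvd_card hq (hqd.trans (relIndex_dvd_card _ _))))

theorem syl_inertia (hN : PG p N) (hl : l ∈ Irr N) (h1 : l ≠ triv N) :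
    Syl p (H20.inertia ⊤ l) ⊤ :=
  syl_mk le_top (h.pg_inertia hN hl h1) (h.not_dvd hN (h.idx_inertia hN hl h1))

theorem syl_cent (hN : PG p N) (hx : x ∈ N) (h1 : x ≠ 1) : Syl p C[x] ⊤ := by
  obtain ⟨i, hi⟩ := exists_ch_ne_one (h.abelem hN).1 h.ne
  have h2 : i.fn ≠ triv N := fun e => hi (Ch.fn_injective (e.trans Ch.fn_one.symm))
  have a := h.syl_inertia hN i.irr h2
  refine a.of_card le_top (Nat.eq_of_mul_eq_mul_left (H24.cs_pos x) ?_)
  have b : H24.cs x = (H20.inertia ⊤ i.fn).relIndex ⊤ := by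
    have := h.idx_inertia hN i.irr h2
    have := h.cs_eq hx h1
    omega
  rw [H24.cs_mul_card, b, mul_comm, a.card_mul, card_top]

theorem card_cent [N.Normal] (hx : x ∉ N) : #C[x] = #C[(x : Γ ⧸ N)] := by
  have a := sum_irr_norm_sq' (L := ⊤) (x := x) trivial
  have b := sum_irr_norm_sq' (L := ⊤) (x := (x : Γ ⧸ N)) trivial
  have c := (corr_comp (f := QuotientGroup.mk' N) (X := ⊤) (by simp)).sum_eq
    (F := fun φ => ‖φ (x : Γ ⧸ N)‖ ^ 2) (G := fun φ => ‖φ x‖ ^ 2) (by rintro φ _ _ _ rfl; rfl)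
  rw [comap_top, QuotientGroup.ker_mk', b, Finset.sum_filter_of_ne fun ψ hψ e =>
    h.ker ψ hψ fun e' => e (by simp [e', h.zero hx]), a, top_inf_eq, top_inf_eq] at c
  exact_mod_cast c.symm

theorem card_cent_dvd (hx : x ∉ N) : #C[x] * #N ∣ Nat.card Γ := by
  have := h.normal.normal
  rw [h.card_cent hx, ← N.index_mul_card]
  exact Nat.mul_dvd_mul_right (card_subgroup_dvd_card _) _

theorem card_cent_syl (hN : PG p N) (hP : Syl p P ⊤) (hx : x ∉ N) : #(C[x] ⊓ P) * #N ∣ #P :=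
  hP.dvd ((hP.pi.infr _).mul hN) (by
    rw [card_top]
    exact (Nat.mul_dvd_mul_right (card_dvd inf_le_left) _).trans (h.card_cent_dvd hx))

theorem center_le (hN : PG p N) (hP : Syl p P ⊤) : Z(P) ≤ N := fun x hx => by_contra fun e => by
  have := h.card_cent_syl hN hP e
  rw [inf_eq_right.2 (le_cent1_iff.2 hx.2)] at this
  exact h.ne (card_eq_one.1 (Nat.dvd_one.1 (Nat.dvd_of_mul_dvd_mul_left (card_pos P)
    (by rwa [mul_one]))))

theorem le_syl (hN : PG p N) (hP : Syl p P ⊤) : N ≤ P :=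
  hP.le_of_norm' le_top hN (le_top.trans h.normal.norm)

theorem pg_cent (hN : PG p N) : PG p C(N) := by
  obtain ⟨x, hx, h1⟩ := exists_ne_one h.ne
  exact (h.syl_cent hN hx h1).pi.of_le (cent_le_cent1 hx)

theorem center_eq_iff (hN : PG p N) (hP : Syl p P ⊤) : Z(P) = N ↔ P ⊴ ⊤ := by
  refine ⟨fun e => ?_, fun e => le_antisymm (h.center_le hN hP) (h.min
    ⟨le_top, norms_inf e.norm (norms_cent e.norm)⟩
      (hP.pi.center_ne_bot (ne_bot_mono (h.le_syl hN hP) h.ne)))⟩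
  rw [← hP.max (cents_symm (e ▸ inf_le_right)) le_top (h.pg_cent hN)]
  exact ⟨le_top, norms_cent h.normal.norm⟩

/-- the `P`-class of `x ∉ N` has at least `|N|` elements -/
theorem le_cs (hN : PG p N) (hP : Syl p P ⊤) (x : P) (hx : (x : Γ) ∉ N) : #N ≤ H24.cs x := by
  have := h.card_cent_syl hN hP hx
  rw [← card_inf_mul_relIndex C[(x : Γ)] P, ← H24.cs_subgroup] at this
  exact Nat.le_of_dvd (H24.cs_pos x) (Nat.dvd_of_mul_dvd_mul_left (card_pos _) this)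

theorem exists_ucn (hN : PG p N) (hP : Syl p P ⊤) :
    ∃ i, Subgroup.upperCentralSeries P i = N.subgroupOf P := by
  have := hP.pi.nil
  by_contra hc
  have key : ∀ i, Subgroup.upperCentralSeries P i ≤ N.subgroupOf P := fun i => by
    induction i with
    | zero => simp
    | succ i ih =>
      intro x hx
      by_contra e
      refine hc ⟨i, eq_of_le_of_card_ge ih ?_⟩
      rw [card_subgroupOf' (h.le_syl hN hP)]
      refine (h.le_cs hN hP x e).trans ?_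
      rw [← H24.ncard_isConj, ← ncard_sub]
      refine Set.ncard_le_ncard_of_injOn (fun y => x * y⁻¹) (fun y hy => ?_) fun a _ b _ e => by
        simpa using e
      obtain ⟨c, rfl⟩ := isConj_iff.1 hy
      simpa [mul_assoc, commutatorElement_def] using Subgroup.mem_upperCentralSeries_succ_iff.1 hx c
  obtain ⟨n, hn⟩ := Group.IsNilpotent.nilpotent (G := P)
  exact hc ⟨n, le_antisymm (key n) (hn ▸ le_top)⟩

end Gag

end H6
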