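import Cfsg.Agent.H6.Real2
import Cfsg.Agent.H6.Dade
import Cfsg.Agent.H24.ClassCount
import Cfsg.Agent.H18.Top

/-! Tools for the `k(GV)` problem: class counts, values at `p`-elements, Knörr's form. -/

set_option autoImplicit false
set_option linter.unusedSectionVars false

open Cfsg Subgroup

namespace H6

open H20 H19 H18
open scoped ComplexConjugate Classical commutatorElement

universe u

variable {Γ : Type u} [Group Γ] [Finite Γ] {A B K T C D E G H J L M N P Q S U V W X Y Z : Subgroup Γ}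
  {θ χ ψ φ α β γ ξ η ν l f : Γ → ℂ} {s t g h x y k v : Γ} {p n m b : ℕ} {π : Set ℕ}

theorem chr_ne_zero (hp : p.Prime) (hχ : χ ∈ Chr ⊤) (hd : ¬ p ∣ deg χ) (hx : PiE {p} x) :
    χ x ≠ 0 := fun e => by
  obtain ⟨j, hj⟩ := hx.exists_pow (orderOf_pos x).ne'
  obtain ⟨r, hr⟩ := chr_pow_cong hp hχ x j
  rw [e, ← hj, pow_orderOf_eq_one, zero_pow (orderOf_pos x).ne', chr_deg hχ] at hr
  refine hd (H5.nat_dvd_of_isIntegral_div hp.ne_zero ?_)
  rw [show (deg χ : ℂ) / p = -r by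
    rw [div_eq_iff (Nat.cast_ne_zero.2 hp.ne_zero)]; linear_combination -hr]
  exact r.2.neg

theorem card_Irr_top : (Irr (⊤ : Subgroup Γ)).card = Nat.card (ConjClasses Γ) := by
  rw [← H5.card_irr, ← card_top_irr (q := fun _ => True) subset_rfl
    fun χ => by simp [coe_mem_Irr_top]]
  exact Nat.card_congr (Equiv.subtypeUnivEquiv fun _ => trivial)

theorem card_Irr_ker (h : Sdprod V G X) :
    ((Irr X).filter fun χ => V ≤ cker χ).card = (Irr G).card := by
  have := (corr_Res h.norm (triv_mem_Irr V) (cinv_triv h.norm)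
    (by rw [Res_triv inf_le_left]; exact triv_mem_Irr _)).card_eq
  rw [Res_triv inf_le_left, h.sup, h.inf] at this
  convert this using 2 <;> ext χ
  · rw [mem_ovr_triv h.normal, Finset.mem_filter]
  · simp [mem_ovr_triv (NormalIn.bot G)]

/-- the generators of `⟨v⟩` -/
def gens (v : Γ) : Set Γ := {y | zpowers y = zpowers v}

theorem gens_mem (h : y ∈ gens v) : y ∈ zpowers v := (h : _ = _) ▸ mem_zpowers y

theorem gens_cent (h : y ∈ gens v) : C[y] = C[v] := by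
  rw [← cent_zpowers, (h : _ = _), cent_zpowers]

theorem gens_pos (v : Γ) : 0 < (gens v).ncard := (Set.ncard_pos (Set.toFinite _)).2 ⟨v, rfl⟩

theorem gens_ne (hθ : θ ∈ ZIrr L) (h0 : θ v ≠ 0) (h : y ∈ gens v) : θ y ≠ 0 := by
  obtain ⟨k, rfl⟩ := (mem_powers_iff_mem_zpowers.2 (gens_mem h) : y ∈ Submonoid.powers v)
  exact mt (zirr_pow_eq_zero_iff hθ (mem_zpowers_pow_iff.1 (h.ge (mem_zpowers v)))).1 h0

theorem card_gens_le (hθ : θ ∈ ZIrr L) (h0 : θ v ≠ 0) :
    ((gens v).ncard : ℝ) ≤ ∑ y ∈ fin (gens v), ‖θ y‖ ^ 2 := by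
  have hv : zpowers v ≤ L := zpowers_le.2 (by_contra fun e => h0 (hθ.2 v e))
  have := Fintype.ofFinite L
  have e : (Finset.univ.filter fun y : L => (y : Γ) ∈ gens v).map (Function.Embedding.subtype _) =
      fin (gens v) := by
    ext y
    simpa using fun h => hv (gens_mem h)
  rw [← card_fin, ← e, Finset.card_map, Finset.sum_map]
  refine H5.Cfsg.IsGeneralizedCharacter.card_le_sum_norm_sq hθ.1 _ (fun k hk g hg => ?_)
    fun g hg => gens_ne (y := (g : Γ)) hθ h0 (Finset.mem_filter.1 hg).2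
  refine Finset.mem_filter.2 ⟨Finset.mem_univ _, (le_antisymm (zpowers_le.2 (npow_mem_zpowers _ k))
    (zpowers_le.2 (mem_zpowers_pow_iff.2 ?_))).trans (Finset.mem_filter.1 hg).2⟩
  exact hk.coprime_dvd_right (orderOf_dvd_card' g.2)

/-! ### commuting pairs -/

theorem card_inf_eq_sum (L K : Subgroup Γ) :
    #(L ⊓ K) = ∑ y ∈ fin (L : Set Γ), if y ∈ K then 1 else 0 := by
  rw [← card_fin_sub, ← Finset.card_filter]
  exact congrArg _ (Finset.ext fun y => by simp)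

theorem card_Irr_cj (g : Γ) (L : Subgroup Γ) : (Irr (H19.cj g L)).card = (Irr L).card := by
  refine Nat.eq_of_mul_eq_mul_right (card_pos L) ?_
  rw [← sum_card_cent, ← card_cj g, ← sum_card_cent, ← sum_sub_cj]
  exact Finset.sum_congr rfl fun x _ => by rw [← cj_cent1, ← cj_inf, card_cj]

theorem commg_closure_le {s : Set Γ} (hU : U ≤ V) (hn : closure s ≤ N(V))
    (h : ∀ a ∈ s, ∀ v ∈ V, ⁅v, a⁆ ∈ U) : ⁅V, closure s⁆ ≤ U := by
  suffices ∀ a ∈ closure s, ∀ v ∈ V, ⁅v, a⁆ ∈ U from commutator_le.2 fun v hv a ha => this a ha v hv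
  intro a ha
  induction ha using closure_induction with
  | mem a ha => exact h a ha
  | one => simp
  | mul a b _ _ h1 h2 =>
    intro v hv
    rw [show ⁅v, a * b⁆ = ⁅v, a⁆ * (⁅⁅v, b⁆, a⁆⁻¹ * ⁅v, b⁆) by simp [commutatorElement_def, mul_assoc]]
    exact mul_mem (h1 v hv) (mul_mem (inv_mem (h1 _ (hU (h2 v hv)))) (h2 v hv))
  | inv a ha h1 =>
    intro v hv
    rw [show ⁅v, a⁻¹⁆ = ⁅a⁻¹ * v * a, a⁆⁻¹ by simp [commutatorElement_def, mul_assoc]]
    exact inv_mem (h1 _ (conj_mem_of_norm' (hn ha) hv))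

theorem card_sol [V.Normal] (hV : Ab V) (hc : (#V).Coprime #(closure {g, h})) :
    ∑ v ∈ fin (V : Set Γ), ∑ w ∈ fin (V : Set Γ),
      (if v * (g * w * g⁻¹) = w * (h * v * h⁻¹) then 1 else 0) = #V * #(V ⊓ (C[g] ⊓ C[h])) := by
  let _ : CommGroup V := { (inferInstance : Group V) with mul_comm := hV.is_comm.comm }
  let Φ : V × V →* V := (MonoidHom.id V / (MulAut.conjNormal h : MulAut V).toMonoidHom).coprod
    ((MulAut.conjNormal g : MulAut V).toMonoidHom / MonoidHom.id V)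
  have e : ∀ x, (Φ x : Γ) = ⁅(x.1 : Γ), h⁆ * ⁅(x.2 : Γ), g⁆⁻¹ := fun x => by
    simp [Φ, commutatorElement_def, div_eq_mul_inv, mul_assoc]
  have hn : closure {g, h} ≤ N(V) := le_normalizer_of_normal
  have h1 : Φ.range.map V.subtype = ⁅V, closure {g, h}⁆ := le_antisymm (by
      rintro _ ⟨_, ⟨x, rfl⟩, rfl⟩
      rw [coe_subtype, e]
      exact mul_mem (commutator_mem_commutator x.1.2 (subset_closure (by simp)))
        (inv_mem (commutator_mem_commutator x.2.2 (subset_closure (by simp)))))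
    (commg_closure_le (map_subtype_le _) hn (by
      rintro a (rfl | rfl) v hv
      · exact inv_mem_iff.1 ⟨_, ⟨(1, ⟨v, hv⟩), rfl⟩, (e _).trans (by simp)⟩
      · exact ⟨_, ⟨(⟨v, hv⟩, 1), rfl⟩, (e _).trans (by simp)⟩))
  have h2 := (ab_cent_dprod hV hn hc).card
  have h3 := Φ.ker.card_mul_index
  rw [index_ker, ← card_map_of_injective (subtype_injective V), h1, Nat.card_prod] at h3
  rw [show C(closure {g, h}) = C[g] ⊓ C[h] by
    rw [Set.insert_eq, Subgroup.closure_union, ← zpowers_eq_closure, ← zpowers_eq_closure, cent_sup, cent_zpowers,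
      cent_zpowers]] at h2
  have h4 : #Φ.ker = #V * #(V ⊓ (C[g] ⊓ C[h])) :=
    Nat.eq_of_mul_eq_mul_right (card_pos _) (by rw [h3, mul_assoc, h2])
  have := Fintype.ofFinite V
  rw [← h4, sum_sub_eq]
  simp only [sum_sub_eq]
  rw [← Fintype.sum_prod_type', ← Finset.card_filter]
  refine (Nat.subtype_card _ fun x => ?_).symm
  rw [Finset.mem_filter, MonoidHom.mem_ker, Subtype.ext_iff, e, mul_comm_of_comm hV x.2.2
    (conj_mem_of_norm (hn (subset_closure (by simp))) x.1.2), OneMemClass.coe_one, mul_inv_eq_one]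
  simp only [Finset.mem_univ, true_and, commutatorElement_def]
  have c := mul_comm_of_comm hV x.1.2 (conj_mem_of_norm (hn (subset_closure (show h ∈ _ by simp)))
    (inv_mem x.1.2))
  rw [show (x.1 : Γ) * h * (x.1 : Γ)⁻¹ * h⁻¹ = h * (x.1 : Γ)⁻¹ * h⁻¹ * x.1 by rw [← c]; group,
    show (x.2 : Γ) * g * (x.2 : Γ)⁻¹ * g⁻¹ = x.2 * (g * x.2 * g⁻¹)⁻¹ by group,
    eq_mul_inv_iff_mul_eq, show h * (x.1 : Γ)⁻¹ * h⁻¹ = (h * x.1 * h⁻¹)⁻¹ by group,
    mul_assoc (h * x.1 * h⁻¹)⁻¹, inv_mul_eq_iff_eq_mul]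

theorem sum_sdprod {F : Type*} [AddCommMonoid F] (h : Sdprod V G X) (f : Γ → F) :
    ∑ x ∈ fin (X : Set Γ), f x = ∑ v ∈ fin (V : Set Γ), ∑ g ∈ fin (G : Set Γ), f (v * g) := by
  rw [sum_sub_prod h.left_le h.right_le fun _ => h.mem, h.inf, card_bot, one_smul]

/-- `k(VG) |G| = ∑ᵥ k(Gᵥ) |Gᵥ|` for coprime action on an abelian group -/
theorem card_Irr_sdprod (hV : Ab V) (hs : Sdprod V G ⊤) (hc : (#V).Coprime #G) :
    (Irr (⊤ : Subgroup Γ)).card * #G =
      ∑ v ∈ fin (V : Set Γ), (Irr (G ⊓ C[v])).card * #(G ⊓ C[v]) := by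
  have := hs.normal.normal
  have key : ∀ g ∈ G, ∀ h ∈ G, ∑ v ∈ fin (V : Set Γ), ∑ w ∈ fin (V : Set Γ),
      (if w * h ∈ C[v * g] then 1 else 0) =
        #V * ∑ v ∈ fin (V : Set Γ), if g ∈ C[v] then if h ∈ C[v] ⊓ C[g] then 1 else 0 else 0 :=
    fun g hg h hh => by
      by_cases e : h * g = g * h
      · simp only [← ite_and]
        rw [show ∑ v ∈ fin (V : Set Γ), (if g ∈ C[v] ∧ h ∈ C[v] ⊓ C[g] then 1 else 0) =
          #(V ⊓ (C[g] ⊓ C[h])) from ?_, ← card_sol hV (hc.coprime_dvd_right (card_dvd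
            ((closure_le G).2 (by rintro _ (rfl | rfl) <;> assumption))))]
        · refine Finset.sum_congr rfl fun v _ => Finset.sum_congr rfl fun w _ => if_congr ?_ rfl rfl
          rw [mem_cent1, show w * h * (v * g) = w * (h * v * h⁻¹) * (h * g) by group, e,
            show v * g * (w * h) = v * (g * w * g⁻¹) * (g * h) by group, mul_left_inj, eq_comm]
        · rw [card_inf_eq_sum]
          exact Finset.sum_congr rfl fun v _ => if_congr (by
            simp [mem_cent1_symm (x := v), mem_cent1.2 e]) rfl rfl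
      · rw [Finset.sum_eq_zero fun v hv => Finset.sum_eq_zero fun w hw => if_neg fun e' => e ?_,
          Finset.sum_eq_zero fun v _ => by simp [mem_cent1, e], mul_zero]
        have a : (g * h) * (h * g)⁻¹ ∈ V ⊓ G := ⟨by
          rw [show g * h * (h * g)⁻¹ = (v * (g * w * g⁻¹))⁻¹ * (v * g * (w * h)) * (h * g)⁻¹ by group,
            ← mem_cent1.1 e', show (v * (g * w * g⁻¹))⁻¹ * (w * h * (v * g)) * (h * g)⁻¹ =
              (v * (g * w * g⁻¹))⁻¹ * (w * (h * v * h⁻¹)) by group]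
          exact V.mul_mem (V.inv_mem (V.mul_mem (mem_fin.1 hv) (conj_mem_of_norm (hs.norm hg)
            (mem_fin.1 hw)))) (V.mul_mem (mem_fin.1 hw) (conj_mem_of_norm (hs.norm hh) (mem_fin.1 hv))),
          G.mul_mem (G.mul_mem hg hh) (G.inv_mem (G.mul_mem hh hg))⟩
        rw [hs.inf, mem_bot, mul_inv_eq_one] at a
        exact a.symm
  refine Nat.eq_of_mul_eq_mul_left (card_pos V) ?_
  rw [mul_left_comm, hs.card, ← sum_card_cent, sum_sdprod hs, Finset.sum_comm]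
  simp only [card_inf_eq_sum ⊤, sum_sdprod hs]
  rw [sum_fin_congr fun g hg => Finset.sum_comm.trans ((Finset.sum_congr rfl fun _ _ =>
    Finset.sum_comm).trans (Finset.sum_comm.trans (sum_fin_congr fun h hh =>
      Finset.sum_comm.trans (key g hg h hh))))]
  simp only [← Finset.mul_sum]
  congr 1
  rw [Finset.sum_congr rfl fun _ _ => Finset.sum_comm, Finset.sum_comm]
  refine Finset.sum_congr rfl fun v _ => ?_
  rw [← sum_card_cent, ← sum_sub_of_le (H := G ⊓ C[v]) inf_le_left _ fun g hg e => by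
    simp [show g ∉ C[v] from fun e' => e ⟨hg, e'⟩]]
  exact sum_fin_congr fun g hg => by simp only [if_pos (show g ∈ C[v] from hg.2), inf_assoc, card_inf_eq_sum G]

/-! ### Knörr's form -/

theorem exists_lin_agree (hC : Ab C) (hK : K ≤ C) (hL : L ≤ C) (hν : Lin C ν)
    (h : K ⊓ L ≤ cker ν) : ∃ μ, Lin C μ ∧ L ≤ cker μ ∧ ∀ x ∈ K, μ x = ν x := by
  have hn : K ≤ N(L) := norms_of_comm hC hK hL
  obtain ⟨χ, h1, h2⟩ := (corr_Res hn (triv_mem_Irr L) (cinv_triv hn)
    (by rw [Res_triv inf_le_left]; exact triv_mem_Irr _)).surj (Res K ν) (by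
      rw [Res_triv inf_le_left, mem_ovr_triv (inf_normal_of_norm hn)]
      exact ⟨(hν.Res hK).irr, le_cker_Res inf_le_right (inf_comm K L ▸ h)⟩)
  rw [mem_ovr_triv (left_normal_sup hn)] at h1
  obtain ⟨μ, h3, h4⟩ := exists_lin_ext_der (sup_le hL hK)
    (irr_lin_of_ab h1.1 (comm_mono hC (sup_le hL hK))) (by rw [comm_iff_der.1 hC]; simp)
  refine ⟨μ, h3, (le_cker_of_Res h3.chr (sup_le hL hK) le_sup_left).1 (h4 ▸ h1.2), fun x hx => ?_⟩
  rw [← Res_of_mem ν hx, ← h2, ← h4, Res_Res le_sup_right, Res_of_mem μ hx]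

/-- support of the Fourier transform of `c ↦ f (v c)`, saturated for agreement on `K` -/
noncomputable def ksat (C K : Subgroup Γ) (v : Γ) (f : Γ → ℂ) : Finset (Γ → ℂ) :=
  (Irr C).filter fun a => ∃ s ∈ Irr C, dot C (tr v f) s ≠ 0 ∧ ∀ x ∈ K, a x = s x

theorem mem_ksat : α ∈ ksat C K v f ↔
    α ∈ Irr C ∧ ∃ s ∈ Irr C, dot C (tr v f) s ≠ 0 ∧ ∀ x ∈ K, α x = s x := Finset.mem_filter

/-- Knörr's form -/
noncomputable def kQ (C : Subgroup Γ) (v : Γ) (δ : Γ → ℝ) (f : Γ → ℂ) : ℝ :=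
  ∑ z ∈ fin (gens v), ∑ c ∈ fin (C : Set Γ), δ c * ‖f (z * c)‖ ^ 2

/-- the lower bound for Knörr's form -/
def KB (C W : Subgroup Γ) (v : Γ) (δ : Γ → ℝ) (K : Subgroup Γ) : Prop :=
  ∀ f ∈ ZIrr W, ((gens v).ncard * #C : ℝ) * (ksat C K v f).card ≤ kQ C v δ f

theorem dprod_lin (h : Dprod A B W) (hl : Lin A l) :
    ∃ μ, Lin W μ ∧ ∀ a ∈ A, ∀ b ∈ B, μ (a * b) = l a := by
  obtain ⟨μ, h1, h2, h3⟩ := exists_ext_lin h.sd hl (cinv_of_cent (cents_symm h.cent) hl.chr.2)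
  exact ⟨μ, h1, fun a ha b hb => by
    rw [h1.map_mul (h.left_le ha) (h.right_le hb), cker_apply (h3 hb), h1.one, mul_one, ← h2,
      Res_of_mem μ ha]⟩

theorem zirr_coeff (h : Dprod Z C W) (hZ : Ab Z) (hf : f ∈ ZIrr W) (hα : Lin C α) :
    Res Z (fun z => dot C (tr z f) α) ∈ ZIrr Z := by
  refine zirr_of_dot (Res_mem_CF_ab hZ _) fun β hβ => ?_
  obtain ⟨μ, h1, h2⟩ := dprod_lin h (irr_lin_of_ab hβ hZ)
  obtain ⟨ν, h3, h4⟩ := dprod_lin h.symm hα
  obtain ⟨n, hn⟩ := zirr_dot_int hf (chr_zirr (h1.mul h3).chr)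
  refine ⟨n, ?_⟩
  rw [← hn, dot_Res_left, dot_def, dot_def W, sum_dprod h, ← h.card, Nat.cast_mul, mul_inv, mul_assoc]
  refine congrArg _ ?_
  rw [Finset.mul_sum]
  refine sum_fin_congr fun z hz => ?_
  rw [dot_def, mul_assoc, Finset.sum_mul]
  refine congrArg _ (sum_fin_congr fun c hc => ?_)
  rw [Pi.mul_apply, h2 z hz c hc, mem_cent.1 (h.cent hz) c hc |>.symm.trans rfl |> congrArg ν,
    h4 c hc z hz, map_mul, tr_apply]
  ring

theorem kb_one (h : Dprod (zpowers v) C W) (hC : Ab C) : KB C W v 1 C := fun f hf => by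
  have e : kQ C v 1 f = #C * ∑ a ∈ Irr C, ∑ z ∈ fin (gens v), ‖dot C (tr z f) a‖ ^ 2 := by
    rw [Finset.sum_comm, Finset.mul_sum]
    refine Finset.sum_congr rfl fun z _ => ?_
    have := nrm_eq_sum_irr (Res_mem_CF_ab hC (tr z f)).1
    simp only [dot_Res_left] at this
    rw [← this, card_mul_nrm]
    exact sum_fin_congr fun c hc => by simp [Res_of_mem _ hc]
  rw [e, mul_comm _ (#C : ℝ), mul_assoc, mul_comm (_ : ℝ) (Finset.card _ : ℝ),
    ← nsmul_eq_mul (Finset.card _), ← Finset.sum_const]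
  refine mul_le_mul_of_nonneg_left ((Finset.sum_le_sum fun a ha => ?_).trans
    (Finset.sum_le_sum_of_subset_of_nonneg (Finset.filter_subset _ _) fun _ _ _ => by positivity))
    (by positivity)
  obtain ⟨h1, s, h2, h3, h4⟩ := mem_ksat.1 ha
  obtain rfl := CF_ext (H20.irr_cf h1) (H20.irr_cf h2) h4
  refine (card_gens_le (zirr_coeff h inferInstance hf (irr_lin_of_ab h1 hC))
    (by rwa [Res_of_mem _ (mem_zpowers v)])).trans_eq (sum_fin_congr fun z hz => ?_)
  rw [Res_of_mem _ (gens_mem hz)]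

theorem sum_norm_one_sub (hC : Ab C) (hL : L ≤ C) (hx : x ∈ C) :
    ∑ μ ∈ (Irr C).filter (fun μ => L ≤ cker μ), ‖1 - μ x‖ ^ 2 =
      if x ∈ L then 0 else 2 * (L.relIndex C : ℝ) := by
  have a := sum_irr_ker (normal_of_ab hC hL)
  rw [Finset.sum_congr rfl (g := id) fun μ h => by
    rw [(irr_lin_of_ab (Finset.mem_filter.1 h).1 hC).one, one_smul, id]] at a
  have b := congrArg Complex.re (congrFun a x)
  have c := congrArg Complex.re (congrFun a 1)
  simp only [Finset.sum_apply, id, Complex.re_sum] at b c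
  rw [Finset.sum_congr rfl (g := fun μ => 2 * (μ 1).re - 2 * (μ x).re) fun μ h => by
    have d := irr_lin_of_ab (Finset.mem_filter.1 h).1 hC
    have e := d.norm hx
    rw [← Complex.normSq_eq_norm_sq, Complex.normSq_sub, Complex.normSq_eq_norm_sq (μ x), e, d.one]
    simp; ring, Finset.sum_sub_distrib, ← Finset.mul_sum, ← Finset.mul_sum, b, c]
  split_ifs with h <;> simp [triv_apply, h]

theorem ksat_step (hμ : Lin C l) (h : ∀ c ∈ C, ν (v * c) = l c) :
    2 * ((ksat C K v f).image (l * ·) \ ksat C K v f).card ≤ (ksat C K v (f - ν * f)).card := by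
  have e : ∀ s, dot C (tr v (f - ν * f)) s = dot C (tr v f) s - dot C (tr v f) (star l * s) :=
    fun s => by
      rw [← dot_mul_left, ← dot_sub_left]
      exact dot_congr_left fun c hc _ => by simp [h c hc, mul_comm]
  have e1 : ∀ s ∈ Irr C, star l * (l * s) = s := fun s hs => by
    rw [← mul_assoc, mul_comm (star l), hμ.mul_star, triv_mul, Res_eq_self (H20.irr_cf hs).2]
  have e2 : ∀ s ∈ Irr C, l * (star l * s) = s := fun s hs => by rw [mul_left_comm, e1 s hs]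
  have hc : ((ksat C K v f).image (l * ·)).card = (ksat C K v f).card :=
    Finset.card_image_of_injOn fun a ha b hb e => by
      rw [← e1 a (mem_ksat.1 ha).1, show l * a = l * b from e, e1 b (mem_ksat.1 hb).1]
  rw [two_mul]
  nth_rewrite 1 [Finset.card_sdiff_comm hc]
  rw [← Finset.card_union_of_disjoint disjoint_sdiff_sdiff]
  refine Finset.card_le_card fun a ha => ?_
  simp only [Finset.mem_union, Finset.mem_sdiff, Finset.mem_image] at ha
  obtain ⟨h1, h2⟩ | ⟨⟨b, h1, rfl⟩, h2⟩ := ha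
  · obtain ⟨h3, s, h4, h5, h6⟩ := mem_ksat.1 h1
    refine mem_ksat.2 ⟨h3, s, h4, ?_, h6⟩
    rwa [e, show dot C (tr v f) (star l * s) = 0 from by_contra fun e' => h2 ⟨star l * a,
      mem_ksat.2 ⟨irr_mul_lin h3 hμ.star, _, irr_mul_lin h4 hμ.star, e', fun x hx => by
        simp [h6 x hx]⟩, e2 a h3⟩, sub_zero]
  · obtain ⟨h3, s, h4, h5, h6⟩ := mem_ksat.1 h1
    have h7 : ∀ x ∈ K, (l * b) x = (l * s) x := fun x hx => by simp [h6 x hx]
    refine mem_ksat.2 ⟨irr_mul_lin h3 hμ, _, irr_mul_lin h4 hμ, ?_, h7⟩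
    rwa [e, show dot C (tr v f) (l * s) = 0 from by_contra fun e' => h2
      (mem_ksat.2 ⟨irr_mul_lin h3 hμ, _, irr_mul_lin h4 hμ, e', h7⟩), e1 s h4, zero_sub, neg_ne_zero]

theorem ksat_inf (hC : Ab C) (hK : K ≤ C) (hL : L ≤ C) : (ksat C (K ⊓ L) v f).card ≤
    (ksat C K v f).card + ∑ μ ∈ (Irr C).filter (fun μ => L ≤ cker μ),
      ((ksat C K v f).image (μ * ·) \ ksat C K v f).card := by
  refine le_trans (Finset.card_le_card fun a ha => ?_) ((Finset.card_union_le _ _).trans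
    (Nat.add_le_add_left Finset.card_biUnion_le _))
  obtain ⟨h1, s, h2, h3, h4⟩ := mem_ksat.1 ha
  have a1 := irr_lin_of_ab h1 hC
  have s1 := irr_lin_of_ab h2 hC
  obtain ⟨μ, h5, h6, h7⟩ := exists_lin_agree hC hK hL (a1.mul s1.star)
    ((lin_eq_on a1 s1 (inf_le_left.trans hK)).2 h4)
  rw [Finset.mem_union, or_iff_not_imp_left]
  refine fun h8 => Finset.mem_biUnion.2 ⟨μ, Finset.mem_filter.2 ⟨h5.irr, h6⟩, Finset.mem_sdiff.2
    ⟨Finset.mem_image.2 ⟨star μ * a, mem_ksat.2 ⟨irr_mul_lin h1 h5.star, s, h2, h3, fun x hx => ?_⟩,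
      ?_⟩, h8⟩⟩
  · simp only [Pi.mul_apply, star_apply', h7 x hx, map_mul, Complex.conj_conj]
    linear_combination s x * a1.mul_conj (hK hx)
  · rw [← mul_assoc, h5.mul_star, triv_mul, Res_eq_self (H20.irr_cf h1).2]

theorem KB.step {δ : Γ → ℝ} (hb : KB C W v δ K) (h : Dprod (zpowers v) C W) (hC : Ab C) (hK : K ≤ C)
    (hL : L ≤ C) : KB C W v (fun c => δ c * if c ∈ L then 1 else (L.relIndex C : ℝ) + 1) (K ⊓ L) :=
  fun f hf => by
  choose! ν h1 h2 using fun μ (hμ : μ ∈ (Irr C).filter fun μ => L ≤ cker μ) =>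
    dprod_lin h.symm (irr_lin_of_ab (Finset.mem_filter.1 hμ).1 hC)
  replace h2 : ∀ μ ∈ (Irr C).filter fun μ => L ≤ cker μ, ∀ z ∈ zpowers v, ∀ c ∈ C,
      ν μ (z * c) = μ c := fun μ hμ z hz c hc => by
    rw [← mem_cent.1 (h.cent hz) c hc, h2 μ hμ c hc z hz]
  have e : kQ C v (fun c => δ c * if c ∈ L then 1 else (L.relIndex C : ℝ) + 1) f = kQ C v δ f +
      2⁻¹ * ∑ μ ∈ (Irr C).filter (fun μ => L ≤ cker μ), kQ C v δ (f - ν μ * f) := by
    simp only [kQ]
    rw [Finset.sum_comm (s := Finset.filter _ _), Finset.mul_sum, ← Finset.sum_add_distrib]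
    refine sum_fin_congr fun z hz => ?_
    rw [Finset.sum_comm (s := Finset.filter _ _), Finset.mul_sum, ← Finset.sum_add_distrib]
    refine sum_fin_congr fun c hc => ?_
    rw [Finset.sum_congr rfl (g := fun μ => δ c * ‖f (z * c)‖ ^ 2 * ‖1 - μ c‖ ^ 2) fun μ hμ => by
      rw [Pi.sub_apply, Pi.mul_apply, h2 μ hμ z (gens_mem hz) c hc, ← one_sub_mul, norm_mul]; ring,
      ← Finset.mul_sum, sum_norm_one_sub hC hL hc]
    split_ifs <;> ring
  rw [e]
  refine (mul_le_mul_of_nonneg_left (Nat.cast_le.2 (ksat_inf hC hK hL)) (by positivity)).trans ?_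
  rw [Nat.cast_add, mul_add, Nat.cast_sum, Finset.mul_sum, Finset.mul_sum]
  refine add_le_add (hb f hf) (Finset.sum_le_sum fun μ hμ => ?_)
  have a := hb _ (sub_mem hf (zirr_mul (chr_zirr (h1 μ hμ).chr) hf))
  have b := (Nat.cast_le (α := ℝ)).2 (ksat_step (K := K) (f := f)
    (irr_lin_of_ab (Finset.mem_filter.1 hμ).1 hC) (h2 μ hμ v (mem_zpowers v)))
  rw [Nat.cast_mul, Nat.cast_two] at b
  nlinarith [mul_le_mul_of_nonneg_left b (show (0 : ℝ) ≤ (gens v).ncard * #C by positivity)]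

theorem minNormal_cent (hC : Ab C) (h : MinNormal M C) (hx : x ∈ C) (e : x ∉ C(M)) :
    M ⊓ C[x] = ⊥ := (h.min _ inf_le_left (norms_inf h.norm (norms_of_le (le_cent1_iff.2
      (comm_iff_le_cent.1 hC hx))))).resolve_right fun e' => e (le_cent1_iff.1 (e' ▸ inf_le_right))

theorem minNormal_idx (hC : Ab C) (h : MinNormal M C) : (C ⊓ C(M)).relIndex C + 1 ≤ #M := by
  obtain ⟨m, hm, h1⟩ := exists_ne_one h.ne
  have e : C ⊓ C(M) = C ⊓ C[m] := le_antisymm (inf_le_inf_left _ (cent_le_cent1 hm)) fun x hx =>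
    ⟨hx.1, by_contra fun e => h1 (mem_bot.1
      (minNormal_cent hC h hx.1 e ▸ ⟨hm, mem_cent1_symm.1 hx.2⟩))⟩
  rw [e, inf_relIndex_left, ← H24.card_conj_orbit, ← Nat.sub_add_cancel (card_pos M), ← ncard_nt]
  refine Nat.succ_le_succ (Set.ncard_le_ncard (s := {y | ∃ x ∈ C, x * m * x⁻¹ = y}) ?_)
  rintro _ ⟨x, hx, rfl⟩
  exact conj_mem_nt (h.norm hx) ⟨hm, h1⟩

theorem exists_kb (hp : p.Prime) (h : Dprod (zpowers v) C W) (hC : Ab C) (hc : PiG {p}ᶜ C)
    (hU : Abelem p U) (hn : C ≤ N(U)) : ∃ δ : Γ → ℝ, (∀ c, 0 ≤ δ c) ∧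
      (∀ c ∈ C, δ c * #(U ⊓ C[c]) ≤ #U) ∧ KB C W v δ (C ⊓ C(U)) := by
  induction hk : #U using Nat.strong_induction_on generalizing U with
  | _ k ih =>
  subst hk
  by_cases h0 : U = ⊥
  · subst h0
    exact ⟨1, fun _ => zero_le_one, fun c _ => by simp, by simpa using kb_one h hC⟩
  obtain ⟨M, h1, h2⟩ := minnormal_exists h0 hn
  obtain ⟨Y, h3, h4⟩ := Maschke_abelem hp hU hc h1 hn h2.norm
  obtain ⟨δ, a, b, c⟩ := ih #Y (card_lt (lt_of_le_of_ne h3.right_le fun e =>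
    h2.ne (by rw [← h3.inf, e, inf_eq_left.2 h1]))) (H9.IsElementaryAbelian.of_le hU h3.right_le)
    h4 rfl
  have c' := c.step h hC inf_le_left (inf_le_left (b := C(M)))
  rw [← inf_inf_distrib_left, ← cent_sup, h3.symm.sup] at c'
  refine ⟨_, fun c => mul_nonneg (a c) ?_, fun x hx => ?_, c'⟩
  · split_ifs <;> positivity
  have hz := zpowers_le.2 hx
  have e := sup_inf_cent_of_disjoint (hz.trans h2.norm) (hz.trans h4) h3.sd.norm h3.inf
  rw [h3.sup, cent_zpowers] at e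
  rw [e, card_sup_of_disjoint (norms_of_cents (cents_mono h3.symm.cent inf_le_left inf_le_left))
    (H19.eq_bot_mono (inf_le_inf inf_le_left inf_le_left) h3.inf), ← h3.card]
  have d : (if x ∈ C ⊓ C(M) then 1 else (C ⊓ C(M)).relIndex C + 1 : ℝ) * #(M ⊓ C[x]) ≤ #M := by
    split_ifs with h5
    · rw [one_mul]; exact_mod_cast card_le inf_le_left
    · rw [minNormal_cent hC h2 hx fun e => h5 ⟨hx, e⟩, card_bot, Nat.cast_one, mul_one]
      exact_mod_cast minNormal_idx hC h2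
  push_cast
  calc _ = _ * #(M ⊓ C[x]) * (δ x * #(Y ⊓ C[x])) := by ring
    _ ≤ _ := mul_le_mul d (b x hx) (mul_nonneg (a x) (by positivity)) (by positivity)

end H6
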