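import Cfsg.Agent.H6.NT1

/-! Finite checks in `SL₃(2)`. -/

set_option autoImplicit false
set_option linter.unusedVariables false
set_option synthInstance.maxSize 2000

namespace H6.NT
open Subgroup
open scoped MatrixGroups

section
variable {K : Type*} [Group K]

/-- a list closed under division -/
def Cl (l : List K) : Prop := 1 ∈ l ∧ ∀ a ∈ l, ∀ b ∈ l, a * b⁻¹ ∈ l
instance Cl.dec [DecidableEq K] (l : List K) : Decidable (Cl l) := by unfold Cl; infer_instance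

/-- the subgroup with the listed elements -/
def ls (l : List K) (h : Cl l) : Subgroup K := ofDiv {x | x ∈ l} ⟨1, h.1⟩ h.2

theorem card_ls {l : List K} {h} (n : l.Nodup) : Nat.card (ls l h) = l.length := by
  classical
  rw [← List.toFinset_card_of_nodup n, ← Nat.card_eq_finsetCard]
  exact Nat.card_congr (Equiv.subtypeEquivRight fun _ => List.mem_toFinset.symm)

/-- the finite check for a node -/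
def Nc (T F : List K) (y : K) : Prop := Cl F ∧ (∀ r ∈ F, r ∈ T) ∧ (∀ a ∈ T, ∀ b ∈ T, a ∉ F → b ∉ F → a * b ∈ F) ∧
  (∃ t ∈ T, t ∉ F) ∧ (∀ r ∈ F, y * r * y⁻¹ ∈ F) ∧ y ^ 3 ∈ F ∧ y ∉ T ∧ ∀ t ∈ T, t ∉ F → t * y * (t * y) ∈ F
instance Nc.dec [DecidableEq K] (T F : List K) (y : K) : Decidable (Nc T F y) := by unfold Nc; infer_instance

theorem Nc.sn [Finite K] {T F : List K} {y : K} (hT : Cl T) (h : Nc T F y) : H13.NT.SN (ls T hT) (ls F h.1) y :=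
  let ⟨_, h1, h2, ⟨t, h3, h4⟩, h5, h6, h7, h8⟩ := h
  ⟨h1, h2, fun e => h4 (e h3), H19.mem_norm_of_cj_le fun x hx => let ⟨r, hr, e⟩ := H19.mem_cj'.1 hx; e ▸ h5 r hr, h6, h7, h8⟩
end

abbrev L3 := SL(3, ZMod 2)
def m3 (a b c d e f g h i : ZMod 2) (k : Matrix.det !![a, b, c; d, e, f; g, h, i] = 1 := by decide) : L3 := ⟨_, k⟩
def a3 : L3 := m3 1 0 1 0 1 0 0 0 1
def b3 : L3 := m3 1 1 0 0 1 0 0 0 1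
def c3 : L3 := m3 1 0 0 0 1 1 0 0 1
def d3 : L3 := m3 1 0 0 0 0 1 0 1 1
def e3 : L3 := m3 0 1 0 1 1 0 0 0 1
def T8 : List L3 := [1, a3, b3, c3, m3 1 1 1 0 1 0 0 0 1, m3 1 0 1 0 1 1 0 0 1, m3 1 1 1 0 1 1 0 0 1, m3 1 1 0 0 1 1 0 0 1]
def F1 : List L3 := [1, a3, b3, a3 * b3]
def F2 : List L3 := [1, a3, c3, a3 * c3]
def R6 : List L3 := [1, d3, e3, m3 0 1 0 0 0 1 1 1 1, m3 0 0 1 1 0 1 0 1 1, m3 0 0 1 0 1 1 1 1 0]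

theorem br : ∀ g : L3, ∃ u ∈ T8, ∃ v ∈ T8, u * g * v ∈ R6 := by decide +kernel
theorem br2 : ∀ w ∈ R6, w ∈ [1, d3, e3] ∨ (∃ u ∈ T8, ∃ v ∈ T8, u * w * v * w⁻¹ = d3) ∧ (w = d3 * e3 ∨ w = d3 * e3 * d3) ∨
    (∃ u ∈ T8, ∃ v ∈ T8, u * w * v * w⁻¹ = e3) ∧ w = e3 * d3 := by decide +kernel
theorem br3 : ∀ w ∈ R6, w ∈ [1, d3, e3, d3 * e3, e3 * d3, d3 * e3 * d3] := by decide +kernel
theorem t8 : Cl T8 ∧ T8.Nodup ∧ Nc T8 F1 d3 ∧ Nc T8 F2 e3 := by decide +kernel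
theorem t7 : (∀ r ∈ F1, r ^ 2 = 1 ∧ ∀ s ∈ F1, r * s = s * r) ∧ (∀ r ∈ F2, r ^ 2 = 1 ∧ ∀ s ∈ F2, r * s = s * r) ∧
    (∀ t ∈ T8, t * a3 = a3 * t) ∧ ∀ t ∈ T8, t ∈ [1, a3, b3, c3, a3 * b3, a3 * c3, b3 * c3, c3 * b3] := by decide +kernel
theorem t9 : a3 * d3 ≠ d3 * a3 ∧ a3 * e3 ≠ e3 * a3 ∧ b3 ∉ F2 ∧ c3 ∉ F1 ∧ c3 * c3 = 1 ∧ b3 * c3 ≠ c3 * b3 ∧
    a3 = b3 * c3 * (b3 * c3) := by decide +kernel
theorem t6 : d3 * a3 * d3⁻¹ ∈ T8 ∧ e3 * a3 * e3⁻¹ ∈ T8 := by decide +kernel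
theorem t10 : ∀ b ∈ F1, ∀ c ∈ T8, c ∉ F1 → c * c = 1 → b * c ≠ c * b → ∃ u ∈ T8, b = u * b3 * u⁻¹ ∧ c = u * c3 * u⁻¹ := by
  decide +kernel
theorem t11 : (c3 * d3) ^ 2 = 1 ∧ (b3 * e3) ^ 2 = 1 ∧ d3 ^ 3 = 1 ∧ e3 ^ 3 = 1 ∧ (d3 * e3) ^ 4 = 1 ∧
    ∀ q ∈ T8, (c3 * (d3 * q)) ^ 2 = 1 → (d3 * q) ^ 3 = 1 → ∀ r ∈ T8, (b3 * (e3 * r)) ^ 2 = 1 → (e3 * r) ^ 3 = 1 →
      (d3 * q * (e3 * r)) ^ 4 = 1 → ∃ v ∈ [1, a3], d3 * q = v * d3 * v⁻¹ ∧ e3 * r = v * e3 * v⁻¹ := by decide +kernel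

end H6.NT
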