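import Cfsg.Agent.H10.PR.A0

/-! S4881: idempotents of linear characters; Blichfeldt's arc theorem for quasi-primitive groups. -/

set_option autoImplicit false
set_option linter.unusedSectionVars false
set_option linter.style.haveILetI false
set_option linter.unusedSimpArgs false
set_option linter.unusedVariables false

namespace H6.PR
open _root_.Cfsg Subgroup H19 H20 H6 H10.PR
open scoped Classical commutatorElement

universe u
variable {G : Type u} [Group G] [Finite G]

section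
variable {R A : Type*} [CommRing R] [Ring A] [Algebra R A]

/-- the idempotent of a linear character -/
noncomputable def idm (r : R) (W : Subgroup G) (i : G → R) (ρ : G →* A) : A := r • ∑ x ∈ fin (W : Set G), i x⁻¹ • ρ x

variable {r : R} {W : Subgroup G} {i : G → R} (ρ : G →* A) (hi : ∀ x ∈ W, ∀ y ∈ W, i (x * y) = i x * i y)
include hi

theorem mul_idm {y : G} (hy : y ∈ W) : ρ y * idm r W i ρ = i y • idm r W i ρ := by
  rw [idm, mul_smul_comm, smul_comm (i y), Finset.mul_sum, Finset.smul_sum (r := i y), ← sum_sub_mul_left hy fun x => i y • i x⁻¹ • ρ x]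
  refine congrArg _ (sum_fin_congr fun x hx => ?_)
  rw [mul_smul_comm, ← map_mul, smul_smul, ← hi y hy _ (inv_mem (mul_mem hy hx)), mul_inv_rev]
  have : i (y * (x⁻¹ * y⁻¹)) = i x⁻¹ := by
    have h1 := hi y hy _ (mul_mem (inv_mem hx) (inv_mem hy))
    have h2 := hi _ (mul_mem (inv_mem hx) (inv_mem hy)) y hy
    rw [h1, mul_comm, ← h2, inv_mul_cancel_right]
  rw [this]

theorem idm_sq (hr : r * #W = 1) (h1 : i 1 = 1) : idm r W i ρ * idm r W i ρ = idm r W i ρ := by
  nth_rw 1 [idm]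
  rw [smul_mul_assoc, Finset.sum_mul, sum_fin_congr (g := fun _ => idm r W i ρ) fun x hx => by
    rw [smul_mul_assoc, mul_idm ρ hi hx, smul_smul, ← hi _ (inv_mem hx) x hx, inv_mul_cancel, h1, one_smul], sum_sub_const,
    ← Nat.cast_smul_eq_nsmul R, smul_smul, hr, one_smul]

theorem idm_fix {M : Type*} [AddCommGroup M] [Module R M] [Module A M] [IsScalarTower R A M] (hr : r * #W = 1) (h1 : i 1 = 1) {v : M}
    (hv : ∀ x ∈ W, ρ x • v = i x • v) : idm r W i ρ • v = v := by
  rw [idm, smul_assoc, Finset.sum_smul, sum_fin_congr (g := fun _ => v) fun x hx => by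
    rw [smul_assoc, hv x hx, smul_smul, ← hi _ (inv_mem hx) x hx, inv_mul_cancel, h1, one_smul], sum_sub_const,
    ← Nat.cast_smul_eq_nsmul R, smul_smul, hr, one_smul]
end

section
variable {E : Type*} [AddCommGroup E] [Module ℂ E] [FiniteDimensional ℂ E] {ρ : G →* Module.End ℂ E} {χ : G → ℂ}
  (h : ∀ g, LinearMap.trace ℂ E (ρ g) = χ g) {W : Subgroup G}
include h

theorem tr_idm (i : Ch W) : LinearMap.trace ℂ E (idm (#W : ℂ)⁻¹ W i.fn ρ) = dot W χ i.fn := by
  rw [idm, map_smul, map_sum, dot_def, smul_eq_mul]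
  exact congrArg _ (sum_fin_congr fun x _ => by rw [map_smul, h, chr_inv i.lin.chr, smul_eq_mul, mul_comm])

theorem dot_of_eig (i : Ch W) {v : E} (h0 : v ≠ 0) (hv : ∀ x ∈ W, ρ x v = i.fn x • v) : dot W χ i.fn ≠ 0 := fun e => by
  have hr : (#W : ℂ)⁻¹ * #W = 1 := inv_mul_cancel₀ (Nat.cast_ne_zero.2 Nat.card_pos.ne')
  have := idm_fix ρ (fun x hx y hy => i.fn_map_mul hx hy) hr i.fn_apply_one hv
  rw [LinearMap.IsIdempotentElem.eq_zero_of_trace_eq_zero (idm_sq ρ (fun x hx y hy => i.fn_map_mul hx hy) hr i.fn_apply_one)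
    ((tr_idm h i).trans e), zero_smul] at this
  exact h0 this.symm

theorem spec_eig {g : G} {s : Multiset ℂ} (hs : Spec χ g s) (h1 : ∀ z ∈ s, z ^ orderOf g = 1) {c : ℂ} (hc : c ∈ s) :
    ∃ v, v ≠ 0 ∧ ρ g v = c • v := by
  have c0 : c ≠ 0 := fun e => by simpa [e, (orderOf_pos g).ne'] using h1 c hc
  set x := c⁻¹ • ρ g
  have h7 : ∀ k : ℕ, x ^ k = c⁻¹ ^ k • ρ (g ^ k) := fun k => by rw [smul_pow, map_pow]
  set S := ∑ k ∈ Finset.range (orderOf g), x ^ k with hS
  have h8 : x * S = S := by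
    have := mul_geom_sum x (orderOf g)
    rwa [h7 (orderOf g), pow_orderOf_eq_one, inv_pow, h1 c hc, map_one, inv_one, one_smul, sub_self,
      sub_mul, one_mul, sub_eq_zero] at this
  have : S ≠ 0 := fun e => by
    have := congrArg (LinearMap.trace ℂ E) e
    rw [hS, map_sum, Finset.sum_congr rfl fun k _ => by
      rw [h7, map_smul, h, hs, smul_eq_mul, ← Multiset.sum_map_mul_left], ← Multiset.sum_map_sum, map_zero,
      Multiset.map_congr rfl (g := fun z => ((if z = c then orderOf g else 0 : ℕ) : ℂ)) fun z a => by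
        split_ifs with e
        · simp [e, ← mul_pow, c0]
        have := mul_geom_sum (c⁻¹ * z) (orderOf g)
        rw [mul_pow, h1 z a, inv_pow, h1 c hc, inv_one, mul_one, sub_self, mul_eq_zero, sub_eq_zero, inv_mul_eq_one₀ c0] at this
        simpa only [mul_pow, Nat.cast_zero] using this.resolve_left (Ne.symm e), ← Function.comp_def Nat.cast, ← Multiset.map_map,
      ← Nat.cast_multiset_sum, Nat.cast_eq_zero, Multiset.sum_eq_zero_iff] at this
    exact (orderOf_pos g).ne' (by simpa using this _ (Multiset.mem_map_of_mem _ hc))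
  obtain ⟨v, hv⟩ := DFunLike.ne_iff.1 this
  exact ⟨S v, hv, by rw [← inv_smul_eq_iff₀ c0]; exact congr($h8 v)⟩
end

theorem qp_ab {χ : G → ℂ} (h : QP χ) {B : Subgroup G} (hB : B ⊴ ⊤) (ha : Ab B) : B ≤ center G := by
  obtain ⟨θ, h1, h2⟩ := chr_exists_constituent (chr_Res (irr_chr h.1) (le_top : B ≤ ⊤)) fun e =>
    irr_one_ne h.1 (by simpa [Res_of_mem _ B.one_mem] using congrFun e 1)
  rw [dot_Res_left] at h2
  have := comm_le_cker_of_inv hB h.1 (irr_lin_of_ab h1 ha) (h.2.2 B hB θ h1 h2) h2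
  rw [h.2.1, commutator_le] at this
  exact fun b hb => mem_center_iff.2 fun g => commutatorElement_eq_one_iff_mul_comm.1 (this g trivial b hb)

theorem arc : ARC.{u} := fun G _ _ χ y s c hq hs h1 hc h2 => by
  have hχ' := mem_Chr_top.1 (irr_chr hq.1)
  obtain ⟨E, _, _, _, _, τ, h⟩ := exists_unitary hχ'
  have : Nontrivial E := not_subsingleton_iff_nontrivial.1 fun _ => irr_one_ne hq.1 (by
    rw [← h, Subsingleton.elim ((τ 1).1 : E →ₗ[ℂ] E) 0, map_zero])
  let ρ : G →* Module.End ℂ E := ContinuousLinearMap.toLinearMapRingHom.toMonoidHom.comp ((unitary _).subtype.comp τ)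
  have h4 := @Spec.mem G _ _ χ E _ _ _ ρ h
  obtain ⟨v, a1, a2⟩ := spec_eig (ρ := ρ) h hs h1 hc
  have b4 : ∀ g z, IsConj y z → IsConj y (g * z * g⁻¹) := fun g z e => e.trans (isConj_iff.2 ⟨g, rfl⟩)
  obtain ⟨w, c1, ⟨z, c2, c3⟩, c4⟩ := blich_unit τ (S := {z | IsConj y z}) (c := c)
    (Complex.norm_eq_one_of_pow_eq_one (h1 c hc) (orderOf_pos y).ne') (fun g z e => by simpa using b4 g⁻¹ z e) (fun z e => by
      obtain ⟨g, rfl⟩ := isConj_iff.1 e
      obtain ⟨ν, u, c1, c2, c3⟩ := exists_eig_norm (τ (g * y * g⁻¹)) c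
      exact c3 ▸ h2 ν (h4 (hs.conj hχ' g) (by simpa only [orderOf_conj'] using h1) c1 c2)) (fun z e => by
      obtain ⟨g, rfl⟩ := isConj_iff.1 e
      exact (orderOf_conj' g y).symm ▸ h1 c hc) (IsConj.refl y) a1 a2
  set D := {z | IsConj y z ∧ ρ z w = c • w}
  set M := normalClosure {y}
  have c5 : M ≤ normalizer D := (Subgroup.closure_le _).2 fun g e => mem_set_norm fun z e' => ⟨b4 g z e'.1,
    c4 g (by simpa [Group.mem_conjugatesOfSet_iff] using e) z e'.1 e'.2⟩
  have hM : M ⊴ ⊤ := ⟨le_top, (normalizer_eq_top M).ge⟩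
  have KM : closure D ≤ M := (Subgroup.closure_le _).2 fun z e => subset_closure (by simpa [Group.mem_conjugatesOfSet_iff] using e.1)
  have nK : closure D ⊴ M := ⟨KM, fun g hg => mem_norm_of_cj_le (by
    rw [cj_le_iff, closure_le]; exact fun x hx => mem_cj_inv.2 (subset_closure ((c5 hg x).1 hx)))⟩
  have iv : ∀ g u, ρ g (ρ g⁻¹ u) = u := fun g u => by rw [← Module.End.mul_apply, ← map_mul, mul_inv_cancel, map_one]; rfl
  have sc : ∀ k : closure D, ∃ a : ℂ, ∀ m ∈ M, ρ (m * k * m⁻¹) w = a • w := fun ⟨k, hk⟩ => by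
    induction hk using closure_induction with
    | mem x e => exact ⟨c, fun m hm => ((c5 hm x).1 e).2⟩
    | one => exact ⟨1, by simp⟩
    | mul a b _ _ e e' =>
      obtain ⟨α, e⟩ := e; obtain ⟨β, e'⟩ := e'
      exact ⟨β * α, fun m hm => by rw [← conj_mul, map_mul, Module.End.mul_apply, e' m hm, map_smul, e m hm, smul_smul]⟩
    | inv a _ e =>
      obtain ⟨α, e⟩ := e
      refine ⟨α⁻¹, fun m hm => ?_⟩
      have := iv (m * a * m⁻¹)⁻¹ w
      rw [inv_inv, e m hm, map_smul, conj_inv] at this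
      rw [eq_inv_smul_iff₀ (by rintro rfl; exact c1 (by simpa using this.symm)), this]
  choose a ha using sc
  have a1 : ∀ k : closure D, ρ k w = a k • w := fun k => by simpa using ha k 1 (one_mem _)
  let i : Ch (closure D) := MonoidHom.toHomUnits (M := ℂ) ⟨⟨a, smul_left_injective ℂ c1 (by simp [← a1])⟩, fun k l =>
    smul_left_injective ℂ c1 (by simp only [← a1, mul_comm (a k), mul_smul, ← map_smul]; simp)⟩
  have i1 : ∀ x (hx : x ∈ closure D), i.fn x = a ⟨x, hx⟩ := fun x hx => i.fn_of_mem hx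
  have i2 : CInv M i.fn := fun m hm x => by
    by_cases hx : x ∈ closure D
    · rw [i1 _ hx, i1 _ ((nK.2 hm x).1 hx)]
      exact smul_left_injective ℂ c1 ((a1 _).symm.trans (ha ⟨x, hx⟩ m hm))
    · rw [i.fn_of_not_mem hx, i.fn_of_not_mem fun e => hx ((nK.2 hm x).2 e)]
  have d1 := dot_of_eig (ρ := ρ) h i c1 fun x hx => by rw [i1 x hx]; exact a1 ⟨x, hx⟩
  obtain ⟨θ, h5, h6⟩ := chr_exists_constituent (chr_Res (irr_chr hq.1) (le_top : M ≤ ⊤)) fun e =>
    irr_one_ne hq.1 (by simpa [Res_of_mem _ M.one_mem] using congrFun e 1)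
  rw [dot_Res_left] at h6
  have h7 := clifford_inv hM hq.1 h5 (hq.2.2 M hM θ h5 h6) h6
  have h8 : ⁅M, closure D⁆ ≤ cker χ := (le_cker_of_Res (irr_chr hq.1) le_top ((commutator_mono le_rfl KM).trans (der_le M))).1 (h7 ▸
    (comm_le_cker_of_inv nK h5 i.lin i2 fun e => d1 (by rw [← dot_Res_of_le KM, h7, dot_smul_left, e, mul_zero])).trans (cker_le_smul _ _))
  rw [hq.2.1, le_bot_iff, commutator_eq_bot_iff_le_centralizer, le_centralizer_iff] at h8
  have := qp_ab hq (hM.inf ⟨le_top, norms_cent hM.2⟩) (comm_iff_le_cent.2 (inf_le_right.trans (centralizer_le inf_le_left))) ⟨KM (subset_closure ⟨c2, c3⟩), h8 (subset_closure ⟨c2, c3⟩)⟩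
  obtain ⟨g, rfl⟩ := isConj_iff.1 c2.symm
  rwa [mem_center_iff.1 this g, mul_inv_cancel_right]

end H6.PR
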