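import Cfsg.Agent.H6.PR1

/-! S4881: the Brauer lift with eigenvalue information (`LF1`). -/

set_option autoImplicit false
set_option linter.unusedSectionVars false
set_option linter.style.haveILetI false
set_option linter.unusedSimpArgs false
set_option linter.unusedVariables false

namespace H6.PR
open _root_.Cfsg Subgroup H19 H20 H6 H10.PR Matrix
open scoped Classical

universe u
variable {G : Type u} [Group G] [Finite G] {n : Type} [Fintype n] [DecidableEq n] {O k : Type*} [CommRing O] {W : Subgroup G}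

theorem idm_map [CommRing k] (π : O →+* k) (r : O) (i : G → O) (ρ : G →* Matrix n n O) :
    (idm r W i ρ).map π = idm (π r) W (π ∘ i) (π.mapMatrix.toMonoidHom.comp ρ) := by
  ext a b; simp [idm, Matrix.sum_apply]

theorem idm_congr {A : Type*} [Ring A] [Algebra O A] (r : O) {i j : G → O} (ρ : G →* A) (h : ∀ x ∈ W, i x = j x) :
    idm r W i ρ = idm r W j ρ := congrArg _ (sum_fin_congr fun x hx => by rw [h _ (inv_mem hx)])

theorem mem_range_idm [Field k] {r : k} {i : G → k} (ρ : G →* Matrix n n k) (hi : ∀ x ∈ W, ∀ y ∈ W, i (x * y) = i x * i y)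
    (hr : r * #W = 1) (h1 : i 1 = 1) (v : n → k) : v ∈ LinearMap.range (idm r W i ρ).toLin' ↔ ∀ x ∈ W, ρ x *ᵥ v = i x • v := by
  refine ⟨?_, fun hv => ⟨v, ?_⟩⟩
  · rintro ⟨w, rfl⟩ x hx
    rw [toLin'_apply, mulVec_mulVec, mul_idm ρ hi hx, smul_mulVec]
  · rw [toLin'_apply, idm, smul_mulVec, sum_mulVec, sum_fin_congr (g := fun _ => v) fun x hx => by
      rw [smul_mulVec, hv x hx, smul_smul, ← hi _ (inv_mem hx) x hx, inv_mul_cancel, h1, one_smul], sum_sub_const,
      ← Nat.cast_smul_eq_nsmul k, smul_smul, hr, one_smul]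

theorem rank_dot [Field k] (j : O →+* ℂ) (hj : Function.Injective j) (π : O →+* k) {ρ : G →* Matrix n n O} {χ : G → ℂ}
    (hχ : ∀ g, χ g = ((ρ g).map j).trace) {r : O} (hr : r * #W = 1) (i : Ch W) {l : G → O} (hl : ∀ x ∈ W, j (l x) = i.fn x) :
    dot W χ i.fn = Module.finrank k (LinearMap.range (idm (π r) W (π ∘ l) (π.mapMatrix.toMonoidHom.comp ρ)).toLin') := by
  have := congrArg j hr
  rw [map_mul, map_natCast, map_one] at this
  rw [← idm_map, ← H0.trace_idem_eq j hj π _ (idm_sq ρ (fun x hx y hy => hj (by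
    rw [map_mul, hl x hx, hl y hy, hl _ (mul_mem hx hy), i.fn_map_mul hx hy])) hr (hj (by rw [hl 1 W.one_mem, map_one, i.fn_apply_one]))),
    idm_map, idm, trace_smul, trace_sum, dot_def, eq_inv_of_mul_eq_one_left this, smul_eq_mul]
  exact congrArg _ (sum_fin_congr fun x hx => by
    rw [trace_smul, Function.comp, hl _ (inv_mem hx), chr_inv i.lin.chr, smul_eq_mul, mul_comm, hχ]; rfl)

variable {p : ℕ} [Fact p.Prime]

theorem ex_inv (hp : ¬ p ∣ Nat.card G) (W : Subgroup G) : ∃ r : ℤ_[p], r * #W = 1 := by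
  have : IsUnit ((#W : ℕ) : ℤ_[p]) := by
    rw [PadicInt.isUnit_iff, PadicInt.norm_natCast_eq_one_iff]
    exact (Nat.Prime.coprime_iff_not_dvd Fact.out).2 fun h => hp (h.trans W.card_subgroup_dvd_card)
  exact this.exists_left_inv

theorem frob_inv (hp : ¬ p ∣ Nat.card G) (ι : ℤ_[p] →+* ℂ) (hι : Function.Injective ι) {ρ : G →* Matrix n n ℤ_[p]} {χ : G → ℂ}
    (hχ : ∀ g, χ g = ((ρ g).map ι).trace) (g : G) : χ (g ^ p) = χ g := by
  letI := ι.toAlgebra
  let O := integralClosure ℤ_[p] ℂ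
  obtain ⟨Q, hQ, e⟩ := Ideal.exists_ideal_over_maximal_of_isIntegral (S := O) (IsLocalRing.maximalIdeal ℤ_[p]) (by
    rw [(RingHom.injective_iff_ker_eq_bot _).1 fun a b e => hι (congrArg Subtype.val e)]; exact bot_le)
  letI := Ideal.Quotient.field Q
  let π := Ideal.Quotient.mk Q
  let a := algebraMap ℤ_[p] O
  have m : ∀ x : ℤ_[p], PadicInt.toZMod x = 0 → π (a x) = 0 := fun x h =>
    Ideal.Quotient.eq_zero_iff_mem.2 (Ideal.mem_comap.1 (by rw [e, ← PadicInt.ker_toZMod]; exact h))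
  haveI : CharP (O ⧸ Q) p := (CharP.charP_iff_prime_eq_zero Fact.out).2 (by simpa using m p (by simp))
  have fx : ∀ x : ℤ_[p], frobenius (O ⧸ Q) p (π (a x)) = π (a x) := fun x => by
    rw [frobenius_def, ← map_pow, ← map_pow, ← sub_eq_zero, ← map_sub, ← map_sub]
    exact m _ (by rw [map_sub, map_pow, ZMod.pow_card, sub_self])
  set W := zpowers g
  obtain ⟨r, hr⟩ := ex_inv hp W
  have hr' : a r * #W = 1 := by simpa using congrArg a hr
  have key : ∀ i : Ch W, dot W χ (i ^ p).fn = dot W χ i.fn := fun i => by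
    have : ∀ x, ∃ z : O, x ∈ W → z.1 = i.fn x := fun x => by
      by_cases hx : x ∈ W
      · exact ⟨⟨i.fn x, IsIntegral.of_pow (orderOf_pos i) (by rw [i.fn_pow_orderOf hx]; exact isIntegral_one)⟩, fun _ => rfl⟩
      · exact ⟨0, fun h => absurd h hx⟩
    choose l hl using this
    have hχ' : ∀ g, χ g = (((a.mapMatrix.toMonoidHom.comp ρ) g).map O.val.toRingHom).trace := hχ
    rw [rank_dot O.val.toRingHom Subtype.val_injective ((frobenius _ p).comp π) hχ' hr' i hl,
      rank_dot O.val.toRingHom Subtype.val_injective π hχ' hr' (i ^ p) (l := fun x => l x ^ p) fun x hx => by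
        rw [map_pow, i.fn_pow_apply _ hx, ← hl x hx]; rfl]
    rw [show ((frobenius _ p).comp π) (a r) = π (a r) from fx r, show ((frobenius _ p).comp π).mapMatrix.toMonoidHom.comp
      (a.mapMatrix.toMonoidHom.comp ρ) = π.mapMatrix.toMonoidHom.comp (a.mapMatrix.toMonoidHom.comp ρ) from
        MonoidHom.ext fun x => Matrix.ext fun s t => fx _, show (π ∘ fun x => l x ^ p) = ((frobenius _ p).comp π) ∘ l from
        funext fun x => map_pow π _ _]
  have ab : Ab W := inferInstance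
  have bj : Function.Bijective fun i : Ch W => i ^ p := Finite.injective_iff_bijective.1 ((injective_iff_map_eq_one (powMonoidHom p : Ch W →* Ch W)).2
    fun i e => orderOf_eq_one_iff.1 (Nat.eq_one_of_dvd_coprimes ((Nat.Prime.coprime_iff_not_dvd Fact.out).2 hp)
      (orderOf_dvd_of_pow_eq_one e) (orderOf_dvd_of_pow_eq_one (MonoidHom.ext fun x => by
        change i.hom x ^ _ = 1
        rw [← map_pow]; exact (congrArg _ (Subtype.ext pow_card_eq_one')).trans (map_one _)))))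
  rw [apply_eq_sum_ch ab χ (pow_mem (mem_zpowers g) p), apply_eq_sum_ch ab χ (mem_zpowers g),
    ← bj.sum_comp fun i => dot W χ i.fn * i.fn g]
  refine Finset.sum_congr rfl fun i _ => ?_
  rw [key, i.fn_pow_apply _ (mem_zpowers g), i.fn_of_mem (mem_zpowers g), i.fn_of_mem (pow_mem (mem_zpowers g) p), ← Units.val_pow_eq_pow_val,
    ← map_pow]; rfl

theorem teich : ∃ t : (ZMod p)ˣ →* ℤ_[p], ∀ ω, PadicInt.toZMod (t ω) = ω := by
  obtain ⟨ρ, h⟩ := H0.exists_padic_lift (M := (ZMod p)ˣ) (p := p) (n := Unit) (by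
    rw [Nat.card_eq_fintype_card, ZMod.card_units]
    exact (Nat.coprime_self_sub_left (Nat.Prime.one_le Fact.out)).2 (Nat.coprime_one_left _))
    ((scalar Unit).toMonoidHom.comp (Units.coeHom _))
  exact ⟨detMonoidHom.comp ρ, fun ω => by simpa using congrFun (congrFun (h ω) ()) ()⟩

theorem lf_mat (hp : ¬ p ∣ Nat.card G) (σ : G →* Matrix n n (ZMod p)) : ∃ χ ∈ Chr (⊤ : Subgroup G), (∀ g, χ (g ^ p) = χ g) ∧
    (∀ B : Subgroup G, ∃ f : ℕ, dot B χ (triv B) = f ∧ Nat.card {v : n → ZMod p // ∀ h ∈ B, σ h *ᵥ v = v} = p ^ f) ∧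
    ∀ (h : G) (ω : (ZMod p)ˣ) (v : n → ZMod p), v ≠ 0 → σ h *ᵥ v = (ω : ZMod p) • v →
      ∃ i : Ch (zpowers h), dot (zpowers h) χ i.fn ≠ 0 ∧ orderOf i = orderOf ω := by
  obtain ⟨ι, hι⟩ := H0.exists_padic_embedding p
  obtain ⟨ρ, hρ⟩ := H0.exists_padic_lift ((Nat.Prime.coprime_iff_not_dvd Fact.out).2 hp).symm σ
  let τ : Representation ℂ G (n → ℂ) := (toLinAlgEquiv' (R := ℂ) (n := n)).toMonoidHom.comp (ι.mapMatrix.toMonoidHom.comp ρ)
  have hτ : ∀ g, τ.character g = ((ρ g).map ι).trace := fun g => trace_toLin'_eq _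
  have e : PadicInt.toZMod.mapMatrix.toMonoidHom.comp ρ = σ := MonoidHom.ext hρ
  have hr : ∀ {W : Subgroup G} {r : ℤ_[p]}, r * #W = 1 → PadicInt.toZMod r * #W = 1 := fun h => by simpa using congrArg PadicInt.toZMod h
  refine ⟨τ.character, mem_Chr_top.2 (H5.isCharacter_character τ), frob_inv hp ι hι hτ, fun B => ?_, fun h ω v v0 hv => ?_⟩
  · obtain ⟨r, h⟩ := ex_inv hp B
    refine ⟨_, Ch.fn_one (W := B) ▸ rank_dot ι hι PadicInt.toZMod hτ h 1 (l := 1) fun x hx => by simp [triv_of_mem hx], ?_⟩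
    rw [e]
    refine Eq.trans ?_ ((Module.natCard_eq_pow_finrank (K := ZMod p)).trans (by rw [Nat.card_zmod]))
    exact Nat.card_congr (Equiv.subtypeEquivRight fun v => by rw [mem_range_idm σ (by simp) (hr h) (by simp)]; simp)
  obtain ⟨t, ht⟩ := teich (p := p)
  have : ∀ x : zpowers h, ∃ m : ℕ, σ x *ᵥ v = ((ω ^ m : (ZMod p)ˣ) : ZMod p) • v := fun ⟨x, hx⟩ => by
    obtain ⟨m, rfl⟩ := mem_powers_iff_mem_zpowers.2 hx
    refine ⟨m, ?_⟩
    induction m with
    | zero => simp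
    | succ m ih => simp only [pow_succ', map_mul, ← mulVec_mulVec, ih (pow_mem (mem_zpowers h) m), mulVec_smul, hv, smul_smul,
        Units.val_mul, mul_comm]
  choose m hm using this
  let l : zpowers h →* (ZMod p)ˣ := MonoidHom.mk' (fun x => ω ^ m x) fun x y => Units.ext (smul_left_injective _ v0 (by
    simp only [← hm, Units.val_mul, mul_comm (ω ^ m x).1, mul_smul, ← mulVec_smul, mulVec_mulVec, Subgroup.coe_mul, map_mul]))
  let i : Ch (zpowers h) := MonoidHom.toHomUnits (ι.toMonoidHom.comp (t.comp l))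
  have l1 : l ⟨h, mem_zpowers h⟩ = ω := Units.ext (smul_left_injective _ v0 ((hm _).symm.trans hv))
  obtain ⟨r, h1⟩ := ex_inv hp (zpowers h)
  refine ⟨i, ?_, orderOf_eq_orderOf_iff.2 fun j => ⟨fun c => Units.ext ?_, fun c => MonoidHom.ext fun x => Units.ext ?_⟩⟩
  · rw [rank_dot ι hι PadicInt.toZMod hτ h1 i (l := fun x => if c : x ∈ zpowers h then t (l ⟨x, c⟩) else 0) fun x hx => by
      rw [dif_pos hx, i.fn_of_mem hx]; rfl, e, Nat.cast_ne_zero, Ne, Submodule.finrank_eq_zero, Submodule.eq_bot_iff]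
    refine fun c => v0 (c v ((mem_range_idm σ (fun x hx y hy => ?_) (hr h1) ?_ v).2 fun x hx => ?_))
    · simp only [Function.comp, dif_pos hx, dif_pos hy, dif_pos (mul_mem hx hy), ← map_mul]; rfl
    · simp only [Function.comp, dif_pos (one_mem _)]; rw [← map_one PadicInt.toZMod, ← map_one t, ← map_one l]; rfl
    · simp only [Function.comp, dif_pos hx, ht]; exact hm ⟨x, hx⟩
  · have : ι (t (l ⟨h, mem_zpowers h⟩)) ^ j = 1 := congrArg (fun f : Ch (zpowers h) => (f.hom ⟨h, mem_zpowers h⟩).1) c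
    rw [l1, ← map_pow, ← map_pow, ← map_one ι, hι.eq_iff] at this
    rw [← ht, this, map_one, Units.val_one]
  · change ι (t (ω ^ m x)) ^ j = 1
    rw [← map_pow, ← map_pow, ← pow_mul, mul_comm, pow_mul, c, one_pow, map_one, map_one]

theorem lf1 : LF1.{u} := fun G V _ _ p _ _ _ _ ρ hp => by
  let b := Module.finBasis (ZMod p) V
  obtain ⟨χ, h1, h2, h3, h4⟩ := lf_mat hp ((LinearMap.toMatrixAlgEquiv b).toMonoidHom.comp (H24.NF.R ρ))
  have e : ∀ g v, ((LinearMap.toMatrixAlgEquiv b).toMonoidHom.comp (H24.NF.R ρ)) g *ᵥ b.equivFun v = b.equivFun (ρ g v) := fun g v =>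
    LinearMap.toMatrix_mulVec_repr b b _ v
  refine ⟨χ, h1, h2, fun B => ?_, fun h ω v v0 hv => h4 h ω (b.equivFun v) (by simpa using v0) (by rw [e, hv, map_smul])⟩
  obtain ⟨f, a, c⟩ := h3 B
  exact ⟨f, a, c ▸ Nat.card_congr (Equiv.subtypeEquiv b.equivFun.toEquiv fun v => forall₂_congr fun g _ => by
    rw [LinearEquiv.coe_toEquiv, e, b.equivFun.injective.eq_iff])⟩

end H6.PR
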