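import Cfsg.Agent.H6.PR2
import Cfsg.Agent.S4473

/-! S4881: chunks `LF2` and `D2`. -/

set_option autoImplicit false
set_option linter.unusedSectionVars false
set_option linter.style.haveILetI false
set_option linter.unusedSimpArgs false
set_option linter.unusedVariables false

namespace H6.PR
open _root_.Cfsg Subgroup H5 H19 H20 H6 H10.PR H24.NF MulAction
open scoped Classical commutatorElement

universe u
variable {G : Type u} [Group G] [Finite G]

theorem fix_le {X : Type*} [MulAction G X] (h : G) (u : X) : {x ∈ orbit G u | h • x = x}.ncard ≤ #C[h] := by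
  have : ∀ x : {x ∈ orbit G u | h • x = x}, ∃ g : G, g • u = x := fun x => x.2.1
  choose g hg using this
  have : ∀ t : G, ∃ r : G, ∀ a : G, a⁻¹ * h * a = t → a * r⁻¹ ∈ C[h] := fun t => by
    by_cases c : ∃ r : G, r⁻¹ * h * r = t
    · obtain ⟨r, rfl⟩ := c
      exact ⟨r, fun a e => mem_centralizer_singleton_iff.2 (by
        rw [show a * r⁻¹ * h = a * (r⁻¹ * h * r) * r⁻¹ by group, ← e]; group)⟩
    · exact ⟨1, fun a e => absurd ⟨a, e⟩ c⟩
  choose r hr using this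
  refine Nat.le_of_mul_le_mul_right ?_ (Nat.card_pos (α := stabilizer G u))
  rw [← Nat.card_coe_set_eq, ← Nat.card_prod, ← Nat.card_prod]
  refine Nat.card_le_card_of_injective (fun y => (⟨g y.1 * y.2 * (r _)⁻¹, hr _ _ rfl⟩, ⟨(g y.1 * y.2)⁻¹ * h * (g y.1 * y.2), ?_⟩))
    fun y z e => ?_
  · rw [mem_stabilizer_iff, mul_smul, mul_smul, mul_smul, y.2.2, hg, y.1.2.2, inv_smul_eq_iff, mul_smul, y.2.2, hg]
  · simp only [Prod.mk.injEq, Subtype.mk.injEq] at e
    obtain ⟨e1, e2⟩ := e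
    rw [e2, mul_left_inj] at e1
    have : y.1 = z.1 := Subtype.ext (by
      have := congrArg (· • u) e1
      simpa only [mul_smul, mem_stabilizer_iff.1 y.2.2, mem_stabilizer_iff.1 z.2.2, hg] using this)
    exact Prod.ext this (Subtype.ext (by rwa [this, mul_right_inj] at e1))

section
variable {V : Type u} {p n : ℕ} [Fact p.Prime] [AddCommGroup V] [Module (ZMod p) V] [Finite V] {ρ : G →* (V ≃ₗ[ZMod p] V)} {u w : V}

theorem two_symm (h : Two ρ n u w) : Two ρ n w u :=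
  ⟨h.inj, h.cop, h.card, h.w0, h.u0, fun g e => h.ne g⁻¹ (by rw [← e, map_inv]; exact (ρ g).symm_apply_apply _), fun v e => (h.all v e).symm⟩

theorem idx_eq (u : V) : (St ρ u).index = {v | ∃ g, ρ g u = v}.ncard := by
  letI := MulAction.compHom V ρ
  exact index_stabilizer G u

theorem o_ne (h : u ≠ 0) : 0 ∉ {v | ∃ g, ρ g u = v} := fun ⟨g, e⟩ => h ((ρ g).map_eq_zero_iff.1 e)

theorem two_sum (h : Two ρ n u w) : (St ρ u).index + (St ρ w).index + 1 = p ^ n := by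
  rw [idx_eq, idx_eq, ← h.card, ← Set.ncard_union_eq (Set.disjoint_left.2 ?_), ← Set.ncard_insert_of_notMem (a := (0 : V))
    (fun c => c.elim (o_ne h.u0) (o_ne h.w0)), ← Set.ncard_univ]
  · exact congrArg _ (Set.eq_univ_of_forall fun v => (em (v = 0)).imp_right (h.all v))
  · rintro _ ⟨g, rfl⟩ ⟨k, e⟩
    exact h.ne (k⁻¹ * g) (by rw [map_mul, LinearEquiv.mul_apply, ← e, map_inv]; exact (ρ k).symm_apply_apply _)

theorem two_nor (h : Two ρ n u w) {K : Subgroup G} (hK : K.Normal) {f : ℕ} (f0 : f ≠ 0)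
    (hf : Nat.card {v : V // ∀ k ∈ K, ρ k v = v} = p ^ f) (hu : ∀ k ∈ K, ρ k u = u) : K = ⊥ := by
  have m : ∀ g v, (∀ k ∈ K, ρ k v = v) → ∀ k ∈ K, ρ k (ρ g v) = ρ g v := fun g v e k hk => by
    rw [← LinearEquiv.mul_apply, ← map_mul, show k * g = g * (g⁻¹ * k * g) by group, map_mul, LinearEquiv.mul_apply,
      e _ (hK.conj_mem' k hk g)]
  by_cases c : ∀ k ∈ K, ρ k w = w
  · refine eq_bot_iff.2 fun k hk => h.inj ((LinearEquiv.ext fun v => ?_).trans ρ.map_one.symm)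
    by_cases v0 : v = 0
    · simp [v0]
    · rcases h.all v v0 with ⟨g, rfl⟩ | ⟨g, rfl⟩
      exacts [m g u hu k hk, m g w c k hk]
  have : {v : V | ∀ k ∈ K, ρ k v = v} = insert 0 {v | ∃ g, ρ g u = v} := Set.ext fun v => ⟨fun e => (em (v = 0)).imp_right fun v0 =>
    (h.all v v0).resolve_right fun ⟨g, e'⟩ => c (by
      have := m g⁻¹ v e
      rwa [← e', ← LinearEquiv.mul_apply, ← map_mul, inv_mul_cancel, map_one, LinearEquiv.coe_one, id] at this), by
    rintro (rfl | ⟨g, rfl⟩)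
    exacts [fun k _ => map_zero _, m g u hu]⟩
  have e : (St ρ u).index + 1 = p ^ f := by rw [idx_eq, ← Set.ncard_insert_of_notMem (o_ne h.u0), ← this, ← hf]; rfl
  have s := two_sum h
  have n0 : n ≠ 0 := by rintro rfl; have := Nat.one_lt_pow f0 (Fact.out : p.Prime).one_lt; rw [pow_zero] at s; omega
  refine absurd (((Nat.dvd_add_right (dvd_pow_self p f0)).1 ?_).trans (index_dvd_card (St ρ w))) h.cop
  exact (show p ^ n = p ^ f + (St ρ w).index by omega) ▸ dvd_pow_self p n0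
end

theorem lf2 : LF2.{u} := fun G V _ _ p n _ _ _ _ ρ u w χ h hχ fr hB => by
  have hp : p.Prime := Fact.out
  have h3 : ∀ H ≤ cker χ, Nat.card {v : V // ∀ h ∈ H, ρ h v = v} = p ^ deg χ := fun H e => by
    obtain ⟨d, b, a⟩ := hB H
    rw [a, deg, ← dot_triv_of_le_cker e, b]; simp
  have h4 : p ^ deg χ = Nat.card V := (h3 ⊥ bot_le).symm.trans
    (Nat.card_congr (Equiv.subtypeUnivEquiv fun v h e => by simp [mem_bot.1 e]))
  have ex : ∀ B : Subgroup G, dot B χ (triv B) ≠ 0 → ∃ f ≠ 0, Nat.card {v : V // ∀ h ∈ B, ρ h v = v} = p ^ f ∧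
      ∃ v ≠ 0, ∀ h ∈ B, ρ h v = v := fun B e => by
    obtain ⟨f, a, b⟩ := hB B
    have f0 : f ≠ 0 := by rintro rfl; exact e (by simpa using a)
    haveI := Finite.one_lt_card_iff_nontrivial.1 (b ▸ Nat.one_lt_pow f0 hp.one_lt)
    obtain ⟨v, hv⟩ := exists_ne (⟨0, fun _ _ => map_zero _⟩ : {v : V // ∀ h ∈ B, ρ h v = v})
    exact ⟨f, f0, b, v, fun c => hv (Subtype.ext c), v.2⟩
  letI := MulAction.compHom V ρ
  have ix : ∀ (B : Subgroup G) g x, (∀ h ∈ B, ρ h (ρ g x) = ρ g x) → (St ρ x).index ∣ B.index := fun B g x e => by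
    have : (stabilizer G x).index = (stabilizer G (g • x)).index := by rw [index_stabilizer, index_stabilizer, orbit_smul]
    exact (show (St ρ x).index = _ from this) ▸ index_dvd_of_le e
  refine ⟨⟨hp, h.cop, hχ, eq_bot_iff.2 fun g hg => h.inj (LinearEquiv.ext fun v => ?_),
    Nat.pow_right_injective hp.two_le (h4.trans h.card), fr⟩, two_sum h, index_dvd_card _, index_dvd_card _, fun B e => ?_,
    fun K hK e => ?_, fun x f e => ?_⟩
  · obtain ⟨w, rfl⟩ := ((Nat.bijective_iff_injective_and_card _).2 ⟨Subtype.val_injective, (h3 _ le_rfl).trans h4⟩).2 v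
    simpa using w.2 g hg
  · obtain ⟨-, -, -, v, v0, e⟩ := ex B e
    exact (h.all v v0).imp (fun ⟨g, c⟩ => ix B g u (c ▸ e)) fun ⟨g, c⟩ => ix B g w (c ▸ e)
  · obtain ⟨f, f0, b, v, v0, e⟩ := ex K e
    have m : ∀ g x, ρ g x = v → ∀ k ∈ K, ρ k x = x := fun g x c k hk => (ρ g).injective (by
      rw [← LinearEquiv.mul_apply, ← map_mul, show g * k = g * k * g⁻¹ * g by group, map_mul, LinearEquiv.mul_apply, c,
        e _ (hK.normal.conj_mem k hk g)])
    exact (h.all v v0).elim (fun ⟨g, c⟩ => two_nor h hK.normal f0 b (m g u c)) fun ⟨g, c⟩ => two_nor (two_symm h) hK.normal f0 b (m g w c)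
  · obtain ⟨d, a, b⟩ := hB (zpowers x)
    rw [← Nat.cast_injective (a.symm.trans e), ← b]
    refine le_trans (Set.ncard_le_ncard (s := {v : V | ∀ h ∈ zpowers x, ρ h v = v})
      (t := insert 0 ({v ∈ orbit G u | x • v = v} ∪ {v ∈ orbit G w | x • v = v})) fun v c => (em (v = 0)).imp_right fun v0 =>
        (h.all v v0).imp (⟨·, c x (mem_zpowers x)⟩) (⟨·, c x (mem_zpowers x)⟩)) ((Set.ncard_insert_le ..).trans ?_)
    have := Set.ncard_union_le {v ∈ orbit G u | x • v = v} {v ∈ orbit G w | x • v = v}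
    have := fix_le x u
    have := fix_le x w
    omega

theorem d2_faith {χ : G → ℂ} (h : IsIrrCharacter G χ) (hf : ∀ g, χ g = χ 1 → g = 1) (h2 : deg χ = 2) :
    ∃ A : Subgroup G, A.index ≤ 2 ∧ (∀ a ∈ A, ∀ b ∈ A, ⁅a, b⁆ = 1) ∨ A.index ≤ 60 ∧ ∀ a ∈ A, ∀ b : G, ⁅a, b⁆ = 1 := by
  haveI := Fintype.ofFinite G
  by_cases c : ∀ H : Subgroup G, H ≠ ⊤ → ∀ θ : H → ℂ, IsCharacter H θ → χ ≠ indFun H θ
  · have := Cfsg.Agent.S4473.result ⟨χ, h⟩ hf h2 c
    exact ⟨center G, .inr ⟨by omega, fun a ha b => commutatorElement_eq_one_iff_mul_comm.2 (mem_center_iff.1 ha b).symm⟩⟩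
  push Not at c
  obtain ⟨H, h1, θ, h3, e⟩ := c
  have h4 := ext_mem_Chr.2 h3
  rw [← rs_ext H θ, ← Ind_top_eq_indFun] at e
  rw [e, deg_Ind h4 le_top, relIndex_top_right] at h2
  have h5 : H.index = 2 := ((Nat.dvd_prime Nat.prime_two).1 ⟨_, h2.symm⟩).resolve_left fun c => h1 (index_eq_one.1 c)
  haveI := normal_of_index_eq_two h5
  have := le_cker_Ind (L := ⊤) (normalizer_eq_top ⁅H, H⁆).ge (der_le H) (lin_of_deg h4 (by rw [h5] at h2; omega)).der_le
  exact ⟨H, .inl ⟨h5.le, fun a ha b hb => hf _ (cker_apply (e ▸ this (commutator_mem_commutator ha hb)))⟩⟩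

theorem d2 : D2.{u} := fun G _ _ T θ h hd => by
  by_cases c : deg θ = 1
  · exact ⟨T, le_rfl, .inl ⟨by simp, (der_le_cker h).2 c⟩⟩
  haveI := (irr_chr h).1.charKer_normal
  obtain ⟨χ, h1, h2⟩ := (irr_rs h).exists_quotient _ le_rfl
  have e1 : χ 1 = θ 1 := h2 1
  obtain ⟨A, hA⟩ := d2_faith h1 (fun g e => by
    obtain ⟨g, rfl⟩ := QuotientGroup.mk_surjective g
    exact (QuotientGroup.eq_one_iff g).2 ((irr_chr h).1.mem_charKer_iff.2 ((h2 g).symm.trans (e.trans e1))))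
    (by have := H20.irr_deg_pos h; rw [deg, e1, ← deg]; omega)
  have k : ∀ a b : T, ⁅(QuotientGroup.mk' _ a : T ⧸ H5.charKer (rs T θ)), QuotientGroup.mk' _ b⁆ = 1 → ⁅a.1, b.1⁆ ∈ cker θ := fun a b e =>
    (chr_mem_cker (irr_chr h) ⁅a, b⁆.2).2 ((h2 ⁅a, b⁆).symm.trans ((congrArg χ ((map_commutatorElement (QuotientGroup.mk' _) a b).trans e)).trans e1))
  have i : ((A.comap (QuotientGroup.mk' _)).map T.subtype).relIndex T = A.index := by
    rw [relIndex, subgroupOf, comap_map_eq_self_of_injective T.subtype_injective, index_comap_of_surjective _ (QuotientGroup.mk'_surjective _)]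
  refine ⟨(A.comap (QuotientGroup.mk' _)).map T.subtype, map_subtype_le _, hA.imp (fun c => ⟨i ▸ c.1, commutator_le.2 ?_⟩)
    fun c => ⟨i ▸ c.1, commutator_le.2 ?_⟩⟩
  · rintro _ ⟨a, ha, rfl⟩ _ ⟨b, hb, rfl⟩; exact k a b (c.2 _ ha _ hb)
  · rintro _ ⟨a, ha, rfl⟩ b hb; exact k a ⟨b, hb⟩ (c.2 _ ha _)

end H6.PR
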