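import Cfsg.Agent.H6.PR3
import Cfsg.Agent.H10.PR.K1

/-! S4881: chunk `I4` (dimension four, not quasi-primitive). -/

set_option autoImplicit false
set_option linter.unusedSectionVars false
set_option linter.style.haveILetI false
set_option linter.unusedSimpArgs false
set_option linter.unusedVariables false

namespace H6.PR
open _root_.Cfsg Subgroup H5 H19 H20 H6 H10.PR H5.TP H24 H24.NF MulAction
open scoped Classical commutatorElement

universe u
variable {G : Type u} [Group G] [Finite G]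

theorem d2x_faith {χ : G → ℂ} (h : IsIrrCharacter G χ) (hf : ∀ g, χ g = χ 1 → g = 1) (h2 : deg χ = 2) :
    (∃ A : Subgroup G, A.index ≤ 2 ∧ ∀ a ∈ A, ∀ b ∈ A, ⁅a, b⁆ = 1) ∨ (center G).index ≤ 24 ∨ (center G).index = 60 := by
  haveI := Fintype.ofFinite G
  by_cases c : ∀ H : Subgroup G, H ≠ ⊤ → ∀ θ : H → ℂ, IsCharacter H θ → χ ≠ indFun H θ
  · have := Cfsg.Agent.S4473.result ⟨χ, h⟩ hf h2 c
    exact .inr (by omega)
  push Not at c
  obtain ⟨H, h1, θ, h3, e⟩ := c
  have h4 := ext_mem_Chr.2 h3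
  rw [← rs_ext H θ, ← Ind_top_eq_indFun] at e
  rw [e, deg_Ind h4 le_top, relIndex_top_right] at h2
  have h5 : H.index = 2 := ((Nat.dvd_prime Nat.prime_two).1 ⟨_, h2.symm⟩).resolve_left fun c => h1 (index_eq_one.1 c)
  haveI := normal_of_index_eq_two h5
  have := le_cker_Ind (L := ⊤) (normalizer_eq_top ⁅H, H⁆).ge (der_le H) (lin_of_deg h4 (by rw [h5] at h2; omega)).der_le
  exact .inl ⟨H, h5.le, fun a ha b hb => hf _ (cker_apply (e ▸ this (commutator_mem_commutator ha hb)))⟩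

theorem d2x {T : Subgroup G} {θ : G → ℂ} (h : θ ∈ Irr T) (hd : deg θ = 2) : (∃ B ≤ T, B.relIndex T ≤ 2 ∧ ⁅B, B⁆ ≤ cker θ) ∨
    ∃ B, B ⊴ T ∧ (B.relIndex T ≤ 24 ∨ B.relIndex T = 60) ∧ ⁅B, T⁆ ≤ cker θ := by
  haveI := (irr_chr h).1.charKer_normal
  obtain ⟨χ, h1, h2⟩ := (irr_rs h).exists_quotient _ le_rfl
  have e1 : χ 1 = θ 1 := h2 1
  have hA := d2x_faith h1 (fun g e => by
    obtain ⟨g, rfl⟩ := QuotientGroup.mk_surjective g
    exact (QuotientGroup.eq_one_iff g).2 ((irr_chr h).1.mem_charKer_iff.2 ((h2 g).symm.trans (e.trans e1))))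
    (by rw [deg, e1, ← deg, hd])
  have k : ∀ a b : T, ⁅(QuotientGroup.mk' _ a : T ⧸ H5.charKer (rs T θ)), QuotientGroup.mk' _ b⁆ = 1 → ⁅a.1, b.1⁆ ∈ cker θ := fun a b e =>
    (chr_mem_cker (irr_chr h) ⁅a, b⁆.2).2 ((h2 ⁅a, b⁆).symm.trans ((congrArg χ ((map_commutatorElement (QuotientGroup.mk' _) a b).trans e)).trans e1))
  have i : ∀ A : Subgroup (T ⧸ H5.charKer (rs T θ)), ((A.comap (QuotientGroup.mk' _)).map T.subtype).relIndex T = A.index := fun A => by
    rw [relIndex, subgroupOf, comap_map_eq_self_of_injective T.subtype_injective, index_comap_of_surjective _ (QuotientGroup.mk'_surjective _)]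
  refine hA.imp (fun ⟨A, c⟩ => ⟨_, map_subtype_le _, (i A).symm ▸ c.1, commutator_le.2 ?_⟩) fun c =>
    ⟨_, ⟨map_subtype_le _, fun t ht => mem_norm_of_cj_le fun _ j => ?_⟩, (i _).symm ▸ c, commutator_le.2 ?_⟩
  · obtain ⟨_, ⟨x, hx, rfl⟩, rfl⟩ := mem_cj'.1 j
    exact ⟨_, (Normal.comap inferInstance _).conj_mem x hx ⟨t, ht⟩, rfl⟩
  · rintro _ ⟨a, ha, rfl⟩ b hb
    exact k a ⟨b, hb⟩ (commutatorElement_eq_one_iff_mul_comm.2 (mem_center_iff.1 ha _).symm)
  · rintro _ ⟨a, ha, rfl⟩ _ ⟨b, hb, rfl⟩; exact k a b (c.2 _ ha _ hb)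

theorem core_le (B : Subgroup G) : B.normalCore.index ≤ B.index.factorial := by
  haveI := Fintype.ofFinite (G ⧸ B)
  rw [normalCore_eq_ker, index_ker, index, Nat.card_eq_fintype_card (α := G ⧸ B), ← Fintype.card_perm, ← Nat.card_eq_fintype_card]
  exact card_le_card_group _

theorem i4_num : ∀ p ∈ [17, 19, 23], ∀ z < p - 2, ∀ j < 3, 0 < z → j ∣ 7200 * z → 7200 * z / j < p ^ 4 - 1 →
    ¬ p ^ 4 - 1 - 7200 * z / j ∣ 7200 * z := by decide +kernel

theorem i4_ar {p z a b : ℕ} (hp : p.Prime) (h17 : 17 ≤ p) (z0 : 0 < z) (hz : z + 3 ≤ p) (ha : a ∣ 7200 * z) (hb : b ∣ 7200 * z)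
    (s : a + b + 1 = p ^ 4) : False := by
  wlog c : a ≤ b generalizing a b
  · exact this hb ha (by omega) (by omega)
  have b1 := Nat.le_of_dvd (by omega) hb
  have a0 := Nat.pos_of_dvd_of_pos ha (by omega)
  have p1 : p < 25 := lt_of_not_ge fun e => by
    have := Nat.pow_le_pow_left e 3
    have : 25 ^ 3 * p ≤ p ^ 4 := by rw [pow_succ p 3]; exact Nat.mul_le_mul_right _ this
    omega
  have p2 : p ∈ [17, 19, 23] := by interval_cases p <;> first | decide | exact absurd hp (by decide)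
  obtain ⟨j, e⟩ := hb
  have j0 : 0 < j := Nat.pos_of_ne_zero (by rintro rfl; omega)
  have e2 : 7200 * z / j = b := by rw [e, Nat.mul_div_cancel _ j0]
  refine i4_num p p2 z (by omega) j (lt_of_not_ge fun j3 => ?_) z0 ⟨b, e.trans (mul_comm ..)⟩ (by omega)
    (by rw [e2, show p ^ 4 - 1 - b = a by omega]; exact ha)
  have := Nat.mul_le_mul_left b j3
  simp only [List.mem_cons, List.not_mem_nil, or_false] at p2
  rcases p2 with rfl | rfl | rfl <;> omega

theorem i4 : I4.{u} := fun G _ _ χ p a b h nq h17 => by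
  by_contra! hk
  have bd : ∀ c ≤ 4913, Nat.card G ≤ c * kc G → False := fun c hc e => by
    have := Nat.le_of_dvd Nat.card_pos h.da
    have := Nat.le_of_dvd Nat.card_pos h.db
    have := h.sum
    have h2 : 17 ^ 3 * (2 * kc G + 1) ≤ p ^ 3 * p := Nat.mul_le_mul (Nat.pow_le_pow_left h17 3) hk
    have := Nat.mul_le_mul_right (kc G) hc
    rw [← pow_succ, show (3 : ℕ) + 1 = 4 from rfl] at h2; omega
  have c0 : χ ≠ 0 := fun e => by have := h.dg; rw [e] at this; simp [deg] at this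
  by_cases hi : χ ∉ Irr (⊤ : Subgroup G)
  · obtain ⟨θ, h1, h2, h3⟩ : ∃ θ ∈ Irr (⊤ : Subgroup G), dot ⊤ χ θ ≠ 0 ∧ deg θ ≤ 2 := by
      obtain ⟨θ, h1, h2⟩ := chr_exists_constituent h.chr c0
      have h3 := chr_sub_irr h.chr h1 h2
      obtain ⟨φ, h4, h5⟩ := chr_exists_constituent h3 fun e => hi (sub_eq_zero.1 e ▸ h1)
      have := deg_add' h3 (irr_chr h1)
      rw [sub_add_cancel, h.dg] at this
      have := deg_le_of_dot h3 h4 h5
      by_cases c : deg θ ≤ 2
      exacts [⟨θ, h1, h2, c⟩, ⟨φ, h4, dot_ne_of_sub (by simpa using irr_chr h1) h3 le_rfl (irr_chr h4) h5, by omega⟩]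
    have k := h.nor _ (cker_normal h1) (dot_ne_trans h.chr h1 le_top (lin_triv _).chr h2 (by
      rw [dot_triv_of_le_cker le_rfl]; exact irr_one_ne h1))
    obtain ⟨B, -, ⟨e1, e2⟩ | ⟨e1, e2⟩⟩ := d2 G ⊤ θ h1 h3 <;> rw [relIndex_top_right] at e1 <;> rw [k, le_bot_iff] at e2
    · exact bd 4 (by omega) ((kc_ge_sq (comm_iff_der.2 e2)).trans (Nat.mul_le_mul_right _ (Nat.pow_le_pow_left e1 2)))
    · have := kc_ge_cent (commutator_eq_bot_iff_le_centralizer.1 e2)
      rw [index_top, one_mul] at this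
      exact bd 60 (by omega) (by rw [← B.card_mul_index, mul_comm]; exact Nat.mul_le_mul e1 this)
  push Not at hi
  obtain ⟨T, ψ, h1, h2, e⟩ : ∃ (T : Subgroup G) (ψ : G → ℂ), T ≠ ⊤ ∧ ψ ∈ H20.Irr T ∧ χ = Ind ⊤ T ψ := by
    simp only [QP, hi, h.fai, true_and, not_forall] at nq
    obtain ⟨M, hM, θ, h1, h2, h3⟩ := nq
    obtain ⟨ψ, h4, -, e⟩ := corr_surj hM h1 hi h2
    exact ⟨_, ψ, fun c => h3 (c ▸ cinv_inertia ⊤ θ), h4, e⟩
  have dg := h.dg
  rw [e, deg_Ind (irr_chr h2) le_top, relIndex_top_right] at dg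
  have tr : ∀ X : Subgroup G, X.Normal → X ≤ T → X ≤ cker ψ → X = ⊥ := fun X n c1 c2 =>
    le_bot_iff.1 (h.fai ▸ e ▸ le_cker_Ind (normalizer_eq_top X).ge c1 c2)
  have c1 : ∀ B ≤ T, B.index ≤ 4 → ⁅B, B⁆ ≤ cker ψ → False := fun B l i c => by
    have := kc_ge_sq (comm_iff_der.2 (tr ⁅B.normalCore, B.normalCore⁆ inferInstance ((der_le _).trans (B.normalCore_le.trans l))
      ((commutator_mono B.normalCore_le B.normalCore_le).trans c)))
    exact bd 576 (by omega) (this.trans (Nat.mul_le_mul_right _ (Nat.pow_le_pow_left ((core_le B).trans (Nat.factorial_le i)) 2)))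
  have i1 : T.index ≠ 1 := fun c => h1 (index_eq_one.1 c)
  by_cases c : deg ψ = 1
  · exact c1 T le_rfl (by rw [c] at dg; omega) ((der_le_cker h2).2 c)
  obtain ⟨i2, d2⟩ : T.index = 2 ∧ deg ψ = 2 := by
    have := Nat.le_of_dvd (by omega) (Dvd.intro _ dg)
    interval_cases T.index <;> omega
  rcases d2x h2 d2 with ⟨B, l, e1, e2⟩ | ⟨B, l, e1, e2⟩
  · exact c1 B l (by rw [← relIndex_mul_index l, i2]; omega) e2
  haveI := normal_of_index_eq_two i2
  obtain ⟨g, hg⟩ : ∃ g, g ∉ T := by simpa [eq_top_iff'] using h1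
  have nT : H19.cj g T = T := cj_of_mem_norm ((normalizer_eq_top T).ge (mem_top g))
  have eC : B.normalCore = H19.cj g B ⊓ B := le_antisymm (le_inf (fun x hx => mem_cj'.2 ⟨_, by simpa using hx g⁻¹, by group⟩) B.normalCore_le)
    fun x hx y => by
      by_cases c : y ∈ T
      · exact l.conj_mem c hx.2
      · obtain ⟨x, h3, rfl⟩ := mem_cj'.1 hx.1
        rw [show y * (g * x * g⁻¹) * y⁻¹ = y * g * x * (y * g)⁻¹ by group]
        exact l.conj_mem ((mul_mem_iff_of_index_two i2).2 (iff_of_false c hg)) h3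
  have cC : B.normalCore ≤ C(T) := commutator_eq_bot_iff_le_centralizer.1 (tr _ inferInstance (commutator_le_right _ _)
    ((commutator_mono B.normalCore_le le_rfl).trans e2))
  have iC : B.normalCore.index ∣ B.relIndex T * B.relIndex T * 2 := by
    rw [← relIndex_mul_index (B.normalCore_le.trans l.le), i2, ← relIndex_mul_relIndex _ B T B.normalCore_le l.le, eC, inf_relIndex_right]
    refine Nat.mul_dvd_mul_right (Nat.mul_dvd_mul_right ?_ _) _
    have := relIndex_dvd_of_norm (l.le.trans (nT ▸ (l.J g).norm)) (nT ▸ (l.J g).le) l.le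
    rwa [← nT, relIndex_cj] at this
  have z1 : #B.normalCore ≤ 2 * cls (B.normalCore : Set G) := card_le_cls fun x a => (Set.ncard_le_ncard (fun y e => e.2)
    (Set.toFinite _)).trans ((ncard_isConj x).trans_le (Nat.le_of_dvd two_pos (i2 ▸ index_dvd_of_le (le_cent1_iff.2 (cC a)))))
  have z2 : cls (B.normalCore : Set G) < kc G := Set.ncard_lt_card fun c => by
    obtain ⟨x, hx, e⟩ := Set.eq_univ_iff_forall.1 c (ConjClasses.mk g)
    obtain ⟨y, rfl⟩ := isConj_iff.1 (ConjClasses.mk_eq_mk_iff_isConj.1 e)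
    exact hg (‹T.Normal›.conj_mem _ (l.le (B.normalCore_le hx)) y)
  have r0 : 0 < B.relIndex T := Nat.pos_of_ne_zero FiniteIndex.index_ne_zero
  rcases e1 with e1 | e1
  · refine bd 2304 (by omega) ?_
    have := Nat.mul_le_mul ((Nat.le_of_dvd (by positivity) iC).trans (Nat.mul_le_mul_right 2 (Nat.mul_le_mul e1 e1)))
      (z1.trans (Nat.mul_le_mul_left 2 z2.le))
    rw [← B.normalCore.card_mul_index, mul_comm]; omega
  have : Nat.card G ∣ 7200 * #B.normalCore := by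
    rw [← B.normalCore.card_mul_index, mul_comm]; exact Nat.mul_dvd_mul_right (by rwa [e1] at iC) _
  exact i4_ar h.pp h17 Nat.card_pos (by omega) (h.da.trans this) (h.db.trans this) h.sum

end H6.PR
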