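/-
The Praeger-Saxl bound: assembly.
-/
import Cfsg.Agent.H6.PS0
import Cfsg.Agent.H17.Jordan
import Cfsg.Agent.S3681
import Cfsg.Agent.S4220

set_option autoImplicit false
open MulAction Finset

namespace H6.PS
universe u

theorem three_iff {Ω : Type*} [Fintype Ω] [DecidableEq Ω] (f : Equiv.Perm Ω) :
    f.IsThreeCycle ↔ {x : Ω | f x ≠ x}.ncard = 3 := by
  rw [← card_support_eq_three_iff, ← Set.ncard_coe_finset]
  congr! 2
  ext x; simp

theorem alt_of {G Ω : Type*} [Group G] [MulAction G Ω] [Fintype Ω] [DecidableEq Ω]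
    [IsPreprimitive G Ω] (h : ¬ N3 G Ω) : alternatingGroup Ω ≤ (toPermHom G Ω).range := by
  simp only [N3, not_forall, not_not] at h
  obtain ⟨f, hf⟩ := h
  exact Equiv.Perm.alternatingGroup_le_of_isPreprimitive_of_isThreeCycle_mem H17.range_prim
    ((three_iff (toPermHom G Ω f)).2 hf) ⟨f, rfl⟩

theorem not_alt {G Ω : Type*} [Group G] [MulAction G Ω] [Fintype Ω] [DecidableEq Ω]
    (h : N3 G Ω) (hn : 3 ≤ Nat.card Ω) : ¬ alternatingGroup Ω ≤ (toPermHom G Ω).range := fun e => by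
  rw [Nat.card_eq_fintype_card] at hn
  obtain ⟨a, b, c, h1, h2, h3⟩ := Fintype.two_lt_card_iff.1 (show 2 < Fintype.card Ω from hn)
  have hc := Equiv.Perm.isThreeCycle_swap_mul_swap_same h1 h2 h3
  obtain ⟨f, hf⟩ := e hc.mem_alternatingGroup
  exact h f ((three_iff (toPermHom G Ω f)).1 (hf ▸ hc))

/-- the induction hypothesis -/
def IH (n : ℕ) : Prop := ∀ (G Λ : Type u) [Group G] [Finite G] [MulAction G Λ] [FaithfulSMul G Λ]
  [Fintype Λ], Nat.card Λ < n → IsPreprimitive G Λ → N3 G Λ → Nat.card G ≤ 4 ^ Nat.card Λ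

theorem two_pow_le (m : ℕ) : ((2 : ℝ) ^ (2 + 577 * m / 200 : ℕ)) ≤ (2 * Real.exp m) ^ 2 := by
  have h1 : ((577 * m / 200 : ℕ) : ℝ) ≤ 577 * m / 200 := by
    have := Nat.cast_div_le (α := ℝ) (m := 577 * m) (n := 200)
    simpa using this
  have h2 : (2 : ℝ) ^ (577 * m / 200 : ℕ) ≤ Real.exp (2 * m) := by
    refine le_trans (le_of_eq ?_) (Real.exp_le_exp.2 (show (577 * m / 200 : ℕ) * Real.log 2 ≤ _ from ?_))
    · rw [Real.exp_nat_mul, Real.exp_log (by norm_num)]
    have h3 := Real.log_two_lt_d9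
    have h4 := Real.log_pos (show (1 : ℝ) < 2 by norm_num)
    have h5 : (0 : ℝ) ≤ m := Nat.cast_nonneg m
    nlinarith
  rw [pow_add, mul_pow, ← Real.exp_nat_mul]
  push_cast
  linarith

theorem im (sq : SQ.{u}) (bl : BL.{u}) (al : AL.{u}) (rd : RD.{u}) (na : NA) {K Ω : Type u}
    [Group K] [Finite K] [MulAction K Ω] [FaithfulSMul K Ω] [Fintype Ω] (α : Ω) (h2 : T2 K Ω)
    (h3 : N3 K Ω) (hn : 21 ≤ Nat.card Ω)
    (hp : ¬ IsPreprimitive (stabilizer K α) (SubMulAction.ofStabilizer K α))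
    (ih : IH.{u} (Nat.card Ω)) :
    (Nat.card (stabilizer K α) : ℝ) ≤ 2 * Real.exp ((Nat.card Ω - 1 : ℕ) : ℝ) := by
  classical
  obtain ⟨Λ, _, s, b, hΛ, ⟨B⟩⟩ := bl K Ω α h2 (by omega) hp
  have hs := B.hs
  have hb := B.hb
  have : Finite Λ := Nat.finite_of_card_ne_zero (by rw [B.cs]; omega)
  have := Fintype.ofFinite Λ
  set φ := toPermHom (stabilizer K α) Λ
  have q1 : Nat.card φ.range ≤ s.factorial := by
    rw [← B.cs, ← Nat.card_perm]; exact Subgroup.card_le_card_group _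
  have q2 : Nat.card φ.range ≤ 4 ^ s ∨ s + 6 ≤ 9 * b := by
    by_cases h : N3 (stabilizer K α) Λ
    · left
      rw [← B.cs]
      refine ih φ.range Λ (by rw [B.cs, B.cn]; nlinarith) H17.range_prim ?_
      rintro ⟨_, f, rfl⟩
      exact h f
    · exact .inr (al K Ω Λ α s b h2 h3 B (alt_of h))
  obtain ⟨j, hj⟩ := na s b _ hs hb (by have := B.cn; omega) q1 q2
  obtain ⟨r1, r2⟩ := rd K Ω Λ α s b h2 B
  have it : ∀ j, ∃ Y ≤ LL K α Λ, Nat.card (LL K α Λ) ^ 2 ≤ (b ^ 2 * aa s b) ^ j * Nat.card Y ^ 2 ∧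
      E Ω Y ≤ ej s b j := fun j => by
    induction j with
    | zero => exact ⟨_, le_rfl, by simp, r1⟩
    | succ j ih =>
      obtain ⟨X, x1, x2, x3⟩ := ih
      obtain ⟨Y, y1, A, y2, y3, y4⟩ := r2 X x1
      refine ⟨Y, y1.trans x1, x2.trans ?_, ?_⟩
      · rw [pow_succ _ j, mul_assoc]
        refine Nat.mul_le_mul_left _ ((Nat.pow_le_pow_left y2 2).trans ?_)
        rw [mul_pow, mul_pow]
        exact Nat.mul_le_mul_right _ (Nat.mul_le_mul_left _ y3)
      · exact (Nat.le_div_iff_mul_le (by positivity)).2 (y4.trans (Nat.mul_le_mul_right _ x3))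
  obtain ⟨Y, -, y2, y3⟩ := it j
  have y4 := sq K Ω Y
  rw [(MonoidHom.ker_eq_bot_iff _).2 toPerm_injective, Subgroup.relIndex_bot_left] at y4
  have c1 : Nat.card (stabilizer K α) = Nat.card φ.range * Nat.card (LL K α Λ) := by
    rw [LL, Subgroup.card_map_of_injective (Subgroup.subtype_injective _), ← Subgroup.index_ker,
      Subgroup.index_mul_card]
  have c2 : Nat.card (stabilizer K α) ^ 2 ≤ 2 ^ (2 + 577 * (s * b) / 200) := by
    refine le_trans ?_ hj
    rw [c1, mul_pow, mul_assoc]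
    exact Nat.mul_le_mul_left _ (y2.trans (Nat.mul_le_mul_left _
      (y4.trans (Nat.pow_le_pow_right (by norm_num) y3))))
  rw [B.cn, Nat.add_sub_cancel]
  refine (pow_le_pow_iff_left₀ (by positivity) (by positivity) two_ne_zero).1 ?_
  exact le_trans (by exact_mod_cast c2) (two_pow_le (s * b))

theorem exp_le_desc {n t : ℕ} (h : t + 2 ≤ n) :
    Real.exp n ≤ (n.descFactorial t : ℝ) * Real.exp ((n - t : ℕ) : ℝ) := by
  have h1 : 3 ^ t ≤ n.descFactorial t :=
    (Nat.pow_le_pow_left (by omega) t).trans (Nat.pow_sub_le_descFactorial n t)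
  have h2 : Real.exp t ≤ 3 ^ t := by
    rw [← mul_one (t : ℝ), Real.exp_nat_mul]
    exact pow_le_pow_left₀ (Real.exp_pos 1).le (Real.exp_one_lt_d9.le.trans (by norm_num)) t
  have h3 : (n : ℝ) = t + ((n - t : ℕ) : ℝ) := by
    rw [Nat.cast_sub (by omega)]; ring
  rw [h3, Real.exp_add]
  refine mul_le_mul_of_nonneg_right (h2.trans ?_) (Real.exp_pos _).le
  exact_mod_cast h1

theorem n3_stab {G Ω : Type*} [Group G] [MulAction G Ω] (h : N3 G Ω) (α : Ω) :
    N3 (stabilizer G α) (SubMulAction.ofStabilizer G α) := fun f e => by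
  refine h f (Eq.trans ?_ e)
  rw [← Set.ncard_image_of_injective _ Subtype.val_injective]
  congr 1
  ext x
  constructor
  · intro hx
    have : x ≠ α := fun e => hx (by rw [e]; exact f.2)
    exact ⟨⟨x, this⟩, fun e => hx (congrArg Subtype.val e), rfl⟩
  · rintro ⟨y, hy, rfl⟩
    exact fun e => hy (Subtype.ext e)

theorem uni (db : DB.{u}) (un : UN.{u}) {G Ω : Type u} [Group G] [Finite G] [MulAction G Ω]
    [FaithfulSMul G Ω] [Fintype Ω] [IsPreprimitive G Ω] (h : ¬ T2 G Ω) (hn : 12 ≤ Nat.card Ω) :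
    (Nat.card G : ℝ) ≤ Real.exp (Nat.card Ω) := by
  classical
  have : Nontrivial Ω := Finite.one_lt_card_iff_nontrivial.1 (by omega)
  obtain ⟨a, b, hab⟩ := exists_pair_ne Ω
  obtain ⟨p, p1, p2⟩ := exists_min_image ((univ : Finset (Ω × Ω)).filter fun p => p.1 ≠ p.2)
    (fun p => D G p.1 p.2) ⟨(a, b), by simpa using hab⟩
  obtain ⟨d1, d2⟩ := db G Ω h hn p.1 p.2 (mem_filter.1 p1).2
  exact un G Ω _ d2 d1 fun a b hab => p2 (a, b) (by simpa using hab)

theorem tt (sq : SQ.{u}) (db : DB.{u}) (un : UN.{u}) (bl : BL.{u}) (al : AL.{u}) (rd : RD.{u})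
    (na : NA) (N : ℕ) (ih : IH.{u} N) (t : ℕ) : ∀ (G Ω : Type u) [Group G] [Finite G]
    [MulAction G Ω] [FaithfulSMul G Ω] [Fintype Ω] [IsPreprimitive G Ω], N3 G Ω →
    ¬ IsMultiplyPretransitive G Ω (t + 2) → t + 20 ≤ Nat.card Ω → Nat.card Ω ≤ N →
    (Nat.card G : ℝ) ≤ ((Nat.card Ω).descFactorial t : ℝ) *
      (2 * Real.exp ((Nat.card Ω - t : ℕ) : ℝ)) := by
  have k : ∀ (t : ℕ) (G Ω : Type u) [Group G] [Finite G] [MulAction G Ω] [FaithfulSMul G Ω]
      [Fintype Ω] [IsPreprimitive G Ω], ¬ T2 G Ω → t + 20 ≤ Nat.card Ω → (Nat.card G : ℝ) ≤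
      ((Nat.card Ω).descFactorial t : ℝ) * (2 * Real.exp ((Nat.card Ω - t : ℕ) : ℝ)) := by
    intro t G Ω _ _ _ _ _ _ h hn
    refine (uni db un h (by omega)).trans ((exp_le_desc (t := t) (by omega)).trans ?_)
    exact mul_le_mul_of_nonneg_left (by linarith [Real.exp_pos ((Nat.card Ω - t : ℕ) : ℝ)])
      (Nat.cast_nonneg _)
  induction t with
  | zero =>
    intro G Ω _ _ _ _ _ _ _ h hn _
    exact k 0 G Ω (fun e => h (is_two_pretransitive_iff.2 fun h1 h2 => e _ _ _ _ h1 h2)) hn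
  | succ t iht =>
    intro G Ω _ _ _ _ _ _ h3 h hn hN
    classical
    by_cases h2 : T2 G Ω
    swap
    · exact k _ G Ω h2 hn
    have : Nonempty Ω := (Nat.card_pos_iff.1 (by omega)).1
    obtain ⟨α⟩ := this
    have c1 : Nat.card G = Nat.card Ω * Nat.card (stabilizer G α) := by
      rw [← index_stabilizer_of_transitive G α, Subgroup.index_mul_card]
    obtain ⟨m, hm⟩ : ∃ m, Nat.card Ω = m + 1 := ⟨Nat.card Ω - 1, by omega⟩
    have c2 : Nat.card (SubMulAction.ofStabilizer G α) = m := by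
      rw [SubMulAction.nat_card_ofStabilizer_eq, hm]; rfl
    have key : (Nat.card (stabilizer G α) : ℝ) ≤
        (m.descFactorial t : ℝ) * (2 * Real.exp ((m - t : ℕ) : ℝ)) := by
      by_cases hp : IsPreprimitive (stabilizer G α) (SubMulAction.ofStabilizer G α)
      · have := H17.faithful_stab (G := G) α
        have := Fintype.ofFinite (SubMulAction.ofStabilizer G α)
        rw [← c2]
        exact iht _ _ (n3_stab h3 α)
          (fun e => h (SubMulAction.ofStabilizer.isMultiplyPretransitive.2 e)) (by omega) (by omega)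
      · have := im sq bl al rd na α h2 h3 (by omega) hp
          fun G Λ _ _ _ _ _ e => ih G Λ (e.trans_le hN)
        rw [hm, Nat.add_sub_cancel] at this
        have h4 := exp_le_desc (n := m) (t := t) (by omega)
        linarith
    rw [c1, hm, Nat.succ_descFactorial_succ, Nat.add_sub_add_right]
    push_cast
    rw [mul_assoc]
    exact mul_le_mul_of_nonneg_left key (by positivity)

theorem small : ∀ n < 22, 3 ≤ n → n.factorial ≤ 4 ^ n * ((n + 1) / 2).factorial := by decide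

theorem main (sq : SQ.{u}) (db : DB.{u}) (un : UN.{u}) (bl : BL.{u}) (al : AL.{u}) (rd : RD.{u})
    (na : NA) (nb : NB) (N : ℕ) : IH.{u} N := by
  induction N with
  | zero => intro G Λ _ _ _ _ _ h; omega
  | succ N ih =>
  intro G Ω _ _ _ _ _ hN hp h3
  classical
  have c0 : Nat.card G ≤ (Nat.card Ω).factorial := by
    rw [← H17.card_range (G := G) (α := Ω), ← Nat.card_perm]; exact Subgroup.card_le_card_group _
  by_cases h1 : Nat.card Ω < 3
  · refine c0.trans ?_
    generalize Nat.card Ω = n at h1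
    interval_cases n <;> decide
  have hA := not_alt h3 (not_lt.1 h1)
  by_cases h2 : Nat.card Ω < 22
  · have e1 := Cfsg.Agent.S3681.result hp hA
    rw [← Nat.card_eq_fintype_card] at e1
    exact Nat.le_of_mul_le_mul_right (e1.trans (small _ h2 (not_lt.1 h1))) (Nat.factorial_pos _)
  obtain ⟨k, p, r, a1, a2, a3, a4, a5, a6, a7, a8⟩ := nb _ (not_lt.1 h2)
  have e1 : ¬ IsMultiplyPretransitive G Ω (r - 1 + 2) := fun e => hA
    (Cfsg.Agent.S4220.result _ a1 (by rw [← Nat.card_eq_fintype_card, a2]) a3 a4 a5 a6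
      (H17.range_mt_iff.2 (by rwa [show r + 1 = r - 1 + 2 by omega])))
  have e2 := tt sq db un bl al rd na (Nat.card Ω) (fun G Λ _ _ _ _ _ e => ih G Λ (by omega))
    (r - 1) G Ω h3 e1 (by omega) le_rfl
  rw [show Nat.card Ω - (r - 1) = Nat.card Ω + 1 - r by omega] at e2
  exact_mod_cast e2.trans a8

theorem fin (sq : SQ.{u}) (db : DB.{u}) (un : UN.{u}) (bl : BL.{u}) (al : AL.{u}) (rd : RD.{u})
    (na : NA) (nb : NB) {α : Type u} [Fintype α] [DecidableEq α] (G : Subgroup (Equiv.Perm α))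
    (hG : IsPreprimitive G α) (hA : ¬ alternatingGroup α ≤ G) :
    Nat.card G ≤ 4 ^ Fintype.card α := by
  rw [← Nat.card_eq_fintype_card]
  refine main sq db un bl al rd na nb (Nat.card α + 1) G α (by omega) hG fun f e => hA ?_
  exact Equiv.Perm.alternatingGroup_le_of_isPreprimitive_of_isThreeCycle_mem hG
    ((three_iff f.1).2 e) f.2

end H6.PS
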