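import Cfsg.Agent.H6.Sing
import Cfsg.Agent.H6.KGV

/-! Relative M-groups. -/

set_option autoImplicit false
set_option linter.unusedSectionVars false

open Cfsg Subgroup

namespace H6

open H20 H19 H18
open scoped ComplexConjugate Classical commutatorElement

universe u

variable {Γ : Type u} [Group Γ] [Finite Γ] {A B K T C D E G H J L M N P Q S U V W X Y Z : Subgroup Γ}
  {θ χ ψ φ α β γ ξ η ν l : Γ → ℂ} {s t g x y k : Γ} {p n m b : ℕ} {π : Set ℕ}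

/-- every irreducible character is induced from a relatively quasi-primitive one -/
theorem exists_qprim (hχ : χ ∈ Irr G) (hN : N ≤ G) : ∃ H, N ≤ H ∧ H ≤ G ∧ ∃ ψ ∈ Irr H,
    Ind G H ψ = χ ∧ ∀ M, M ⊴ H → N ≤ M → ∀ η ∈ Irr M, dot M ψ η ≠ 0 → CInv H η := by
  obtain ⟨H, h1, ⟨h2, ψ, h3, h4⟩, h5⟩ := exists_min_sub
    (fun H => N ≤ H ∧ ∃ ψ ∈ Irr H, Ind G H ψ = χ) ⟨hN, χ, hχ, Ind_self' (H20.irr_cf hχ)⟩
  refine ⟨H, h2, h1, ψ, h3, h4, fun M a b η c d => ?_⟩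
  obtain ⟨φ, e1, -, e2⟩ := corr_surj a c h3 d
  exact h5 _ ⟨b.trans (H20.le_inertia (irr_cinv c) a.le), φ, e1, by
    rw [← Ind_Ind (inertia_le _ _) h1, ← e2, h4]⟩ (inertia_le _ _) ▸ cinv_inertia H η

theorem Res_irr_of_qprim (hN : N ⊴ H) (hs : Sol (quo N H)) (hψ : ψ ∈ Irr H)
    (hq : ∀ M, M ⊴ H → N ≤ M → ∀ η ∈ Irr M, dot M ψ η ≠ 0 → CInv H η)
    (h : ∀ L K, N ≤ L → Chief H L K → ¬ IsSquare (L.relIndex K)) : Res N ψ ∈ Irr N := by
  obtain ⟨K, -, ⟨h1, h2, h3⟩, h4⟩ := exists_min_sub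
    (fun K => N ≤ K ∧ K ⊴ H ∧ Res K ψ ∈ Irr K) (A := H)
    ⟨hN.le, .refl H, by rwa [Res_eq_self (H20.irr_cf hψ).2]⟩
  obtain rfl | e := h1.eq_or_lt
  · exact h3
  obtain ⟨L, h5, h6⟩ := chief_exists_below hN h2 e
  obtain ⟨q, -, h7, -⟩ := chief_quo h6 (sol_quo_of_le (hN.norms h2.le) (h6.normV.norms h2.le)
    (inf_le_left.trans h5) (sol_mono hs (quo_mono N h2.le)))
  have h8 := h6.normV.of_le h6.lt.le h2.le
  obtain ⟨φ, h9, h10⟩ := irr_exists_below h3 h8.le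
  have h11 := hq L h6.normV h5 φ h9 (by rwa [dot_Res_of_le h8.le] at h10)
  rcases going_down' h8 h7 h6.normV.norm h2.norm h6.min h3 ((irr_cinv hψ).Res h2.norm) h9 h10
    with a | a | ⟨-, e, -, a, -⟩
  · exact absurd (h4 L ⟨h5, h6.normV, by rw [← Res_Res h8.le, a]; exact h9⟩ h8.le) h6.lt.ne
  · exact absurd ((Ind_irr_iff' h8 h9).1 (a ▸ h3)) ((inertia_eq_self (h11.mono h2.le)).trans_ne h6.lt.ne')
  · exact absurd ⟨e, by rw [← a, sq]⟩ (h L K h5 h6)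

theorem le_of_Res_Ind (hW : W ≤ H) (hη : η ∈ Chr W) (h : Res W (Ind H W η) ∈ Irr W) : H ≤ W := by
  have h1 := irr_of_Res_irr (chr_Ind hη hW) hW h
  have h2 := irr_of_Ind_irr hη hW h1
  have h3 := congrArg deg (irr_eq_of_dot h h2 (by
    rw [dot_Res_left, ← dot_Ind_right hW η (irr_cinv h1), irr_dot_self h1]; exact one_ne_zero))
  rwa [deg_Res, deg_Ind hη hW, mul_eq_right₀ (H20.irr_deg_pos h2).ne', relIndex_eq_one] at h3

theorem le_sup_of_Res_Ind (hN : N ≤ H) (hU : U ≤ H) (hθ : θ ∈ Chr U)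
    (h : Res N (Ind H U θ) ∈ Irr N) : H ≤ N ⊔ U :=
  le_of_Res_Ind (sup_le hN hU) (chr_Ind hθ le_sup_right) (by
    rw [Ind_Ind le_sup_right (sup_le hN hU)]
    exact irr_of_Res_irr (chr_Res (chr_Ind hθ hU) (sup_le hN hU)) le_sup_left
      (by rwa [Res_Res le_sup_left]))

theorem ab_of_nil' (hn : Nil X) (h : ∀ l, l.Prime → Ab (Oc {l} X)) : Ab X :=
  comm_iff_le_cent.2 (le_of_syl fun l P hl hP => cents_symm (by
    rw [nil_hall_eq hn hP]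
    exact (nil_dprod hn {l}).sup.ge.trans (sup_le (comm_iff_le_cent.1 (h l hl))
      (cents_symm (nil_dprod hn {l}).cent))))

theorem lin_of_qprim (hM : M ⊴ U) (hs : Sol M) (hab : ∀ p P, PG p P → P ≤ M → Ab P)
    (hθ : θ ∈ Irr U) (hq : ∀ B, B ⊴ U → ∀ η ∈ Irr B, dot B θ η ≠ 0 → CInv U η) :
    ⁅M, M⁆ ≤ cker θ := by
  have h1 := cker_normal hθ
  have h2 := h1.norms hM.le
  have h3 : Ab (Fit (quo (cker θ) M)) := ab_of_nil' (Fit_nil _) fun q _ => by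
    obtain ⟨P, a⟩ := exists_syl q M
    exact comm_mono (ab_quo (hab q P a.pi a.le) _) ((Oc_le_Oc (Fit_normal _)).trans
      (Oc_le_hall (a.quo h2)))
  have h4 := qpre_normal h1 ((hM.quo (cker θ)).Fit)
  obtain ⟨η, h5, h6⟩ := irr_exists_below hθ h4.le
  have h7 : ⁅qpre (cker θ) (Fit (quo (cker θ) M)), qpre (cker θ) (Fit (quo (cker θ) M))⁆ ≤ cker θ :=
    (ab_quo_iff (qpre_le_norm _)).1 (by rwa [quo_qpre])
  have h8 := comm_le_cker_of_inv h4 hθ ((irr_lin_iff h5).2 (le_cker_of_below (irr_chr hθ) h4.le h5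
    h6 (der_le _) h7)) (hq _ h4 η h5 h6) h6
  rw [← quo_cents_iff h1.norm (qpre_le_norm _), quo_qpre] at h8
  exact (ab_quo_iff h2).1 (comm_mono h3 ((le_inf le_rfl ((quo_mono _ hM.le).trans h8)).trans
    (cent_Fit_le (sol_quo hs _))))

end H6
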