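import Cfsg.Agent.H6.Dade
import Cfsg.Agent.H6.LinG2
import Cfsg.Agent.H6.CD4
import Cfsg.Agent.H6.Gagola

/-! Characters of degree divisible by `p`. -/

set_option autoImplicit false
set_option linter.unusedSectionVars false

open Cfsg Subgroup

namespace H6

open H20 H19 H18
open scoped ComplexConjugate Classical commutatorElement

universe u

variable {Γ : Type u} [Group Γ] [Finite Γ] {A B K T C D E G H J L M N P Q S U V W X Y Z : Subgroup Γ}
  {θ χ ψ φ α β γ ξ η ν l : Γ → ℂ} {s t g x y k : Γ} {p n m b : ℕ} {π : Set ℕ}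

theorem sing_iff (hp : p.Prime) (hP : Syl p P G) (hn : P ⊴ G) (hχ : χ ∈ Irr G) :
    p ∣ deg χ ↔ ¬ ⁅P, P⁆ ≤ cker χ := by
  refine ⟨fun a b => (hP.idx.dvd (deg_dvd_of_ab hn hχ b)).not_dvd hp rfl a, fun a => ?_⟩
  by_contra b
  refine a ((le_cker_of_Res (irr_chr hχ) hn.le (der_le P)).1 (le_cker_of_constituents
    (chr_Res (irr_chr hχ) hn.le) fun θ c d => (der_le_cker c).2 (by_contra fun e => b ?_)))
  exact (dvd_deg_of_pg hP.pi c e).trans
    (deg_dvd_of_ovr hn c (mem_ovr.2 ⟨hχ, by rwa [dot_Res_left] at d⟩))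

theorem psol_quo_bot [Fact p.Prime] (h : IsPSolvable p G) : IsPSolvable p (quo ⊥ G) :=
  let ⟨e⟩ := quo_equiv (NormalIn.bot G).norm (bot_inf_eq G)
  (H1.isPSolvable_congr e).1 h

/-- Itô's theorem for a `p`-solvable quotient -/
theorem der_le_of_dg [hp : Fact p.Prime] (hK : K ⊴ T) (hs : IsPSolvable p (quo K T))
    (h : Dg T K fun d => ¬ p ∣ d) (hP : Syl p P T) : ⁅P, P⁆ ≤ K := by
  have h1 := (dg_quo hK).2 h
  have h2 := hP.quo hK.norm
  exact (ab_quo_iff (hK.norms hP.le)).1 (ab_of_pg h2.pi (h1.normal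
    (ito_psol (psol_quo_bot hs) h1 h2) fun a b c d e => d (e.trans c)))

theorem lin_ext_of_cop (hN : N ⊴ T) (hl : Lin N l) (hi : CInv T l) (hψ : ψ ∈ ovr T N l)
    (h : ∀ z ∈ N, l z ^ m = 1) (hc : m.Coprime (deg ψ)) : Ext T N l := by
  obtain ⟨h1, h2⟩ := mem_ovr.1 hψ
  have h3 := clifford_inv hN h1 hl.irr hi h2
  have h4 : dot N ψ l = ψ 1 := by simpa [hl.one] using (congrFun h3 1).symm
  obtain ⟨i, h5⟩ := exists_det (irr_chr h1)
  obtain ⟨μ, h6, h7⟩ := exists_lin_ext_der hN.le hl fun z hz => by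
    rw [chr_mem_cker hl.chr hz.2, hl.one]
    refine pow_eq_one_iff_of_coprime hc |>.1 ⟨h z hz.2, ?_⟩
    rw [← h5 N hN.le l hl (h4 ▸ h3) z hz.2, cker_apply (i.lin.der_le hz.1), i.lin.one]
  exact ⟨μ, h6.irr, h7⟩

/-- irreducible characters over `K` of degree divisible by `p` -/
noncomputable def sg (p : ℕ) (G K : Subgroup Γ) : Finset (Γ → ℂ) :=
  (Irr G).filter fun χ => K ≤ cker χ ∧ p ∣ deg χ

theorem mem_sg : χ ∈ sg p G K ↔ χ ∈ Irr G ∧ K ≤ cker χ ∧ p ∣ deg χ := Finset.mem_filter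

theorem sg_mono (h : K ≤ L) : sg p G L ⊆ sg p G K := fun _ a =>
  mem_sg.2 ⟨(mem_sg.1 a).1, h.trans (mem_sg.1 a).2.1, (mem_sg.1 a).2.2⟩

theorem der_le_of_layer [hp : Fact p.Prime] (hL : L ⊴ G) (hN : N ⊴ G) (h : L < N)
    (hd : ⁅N, N⁆ ≤ L) (hi : PiN {p} (L.relIndex N)) (hs : IsPSolvable p (quo L G))
    (hP : Syl p P G) (e : ∀ χ ∈ sg p G L, N ≤ cker χ) : ⁅P, P⁆ ≤ N := by
  have h1 := hL.norms hP.le
  have h2 := hL.norms hN.le
  have h3 : ¬ N ≤ L ⊔ ⁅N, P⁆ := fun c => h.not_ge ((quo_eq_bot_iff h2).1 (by_contra fun d =>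
    (PiN.commg_lt ((piG_quo_iff h2).2 hi) (hP.pi.quo L) (quo_norms (hN.norms hP.le)) d).not_ge (by
      rw [← quo_comm h2 h1, ← quo_sup_left (hL.norms ((hN.commg_le hP.le).trans hN.le))]
      exact quo_mono L c)))
  obtain ⟨l, h4⟩ := IrrK_nonempty (NormalIn.refl N) (H := N) (M := L ⊔ ⁅N, P⁆)
    ⟨sup_le h.le (hN.commg_le hP.le), norms_of_der_le (hd.trans le_sup_left)
      (sup_le h.le (hN.commg_le hP.le))⟩ h3
  obtain ⟨h5, h6, h7⟩ := mem_IrrK.1 h4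
  have h8 := (irr_lin_iff h5).2 (hd.trans (le_sup_left.trans h6))
  have h9 : P ≤ H20.inertia G l := fun x hx => (mem_inertia_ab hN h8 (hP.le hx)).2
    ((commutator_mono le_rfl (zpowers_le.2 hx)).trans (le_sup_right.trans h6))
  have h10 : N ⊴ H20.inertia G l := hN.of_le (H20.le_inertia (irr_cinv h5) hN.le) (inertia_le _ _)
  have h11 : ∀ χ ∈ ovr G N l, ¬ p ∣ deg χ := fun χ a b => h7 (le_cker_of_below
    (irr_chr (mem_ovr.1 a).1) hN.le h5 (mem_ovr.1 a).2 le_rfl (e χ (mem_sg.2 ⟨(mem_ovr.1 a).1,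
      le_cker_of_above (mem_ovr.1 a).1 hN.le h8.chr (mem_ovr.1 a).2 hL.norm h.le
        (le_sup_left.trans h6), b⟩)))
  obtain ⟨ψ, h12⟩ := exists_ovr h10.le h5
  have h13 : Ext (H20.inertia G l) N l := lin_ext_of_cop (m := L.relIndex N) h10 h8
    (cinv_inertia _ _) h12 (fun z hz => by
      rw [← h8.map_pow hz, cker_apply ((le_sup_left.trans h6) (pow_relIndex_mem'
        (hL.of_le h.le hN.le) hz)), h8.one])
    (hi.coprime (.of_not_dvd fun c => h11 _ (Ind_mem_ovr hN h5 h12) (by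
      rw [deg_Ind (irr_chr (mem_ovr.1 h12).1) (inertia_le _ _)]; exact c.mul_left _)))
  refine der_le_of_dg h10 (psol_quo_mono hs hL.norm h10.norm (inertia_le _ _) h.le)
    (fun β a b c => ?_) (hP.of_le h9 (inertia_le _ _))
  obtain ⟨χ, d, f⟩ := exists_deg_of_ext hN h5 h13 a b
  exact h11 χ d (f ▸ (c.mul_right _).mul_left _)

theorem dser_sing [hp : Fact p.Prime] (hs : IsPSolvable p (quo ⊥ G)) (hP : Syl p P G) :
    dser ((sg p G ⊥).card + 1) P = ⊥ := by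
  by_contra hc
  obtain ⟨L, -, ⟨h1, h2⟩, h3⟩ := exists_max_sub
    (fun L => L ⊴ G ∧ ¬ dser ((sg p G L).card + 1) P ≤ L) ⟨.bot G, by rwa [le_bot_iff]⟩
  have hs' := psol_quo_mono hs (NormalIn.bot G).norm h1.norm le_rfl bot_le
  obtain ⟨K, h4, h5, h6⟩ := exists_p_layer h1 hs'
    (fun e => h2 ((dser_normal _ P).le.trans (hP.le.trans e.ge)))
  obtain ⟨N, h7, h8⟩ := chief_exists_above h1 h4 h5
  have h9 : dser ((sg p G N).card + 1) P ≤ N :=
    not_not.1 fun e => h8.lt.ne' (h3 N ⟨h8.normU, e⟩ h8.lt.le)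
  have h10 := Finset.card_le_card (sg_mono (p := p) (G := G) h8.lt.le)
  have h11 := h1.norms h8.normU.le
  rcases h6 with h6 | h6
  · replace h6 := h6.dvd (relIndex_dvd_right h8.lt.le h7)
    obtain ⟨q, -, h12, -⟩ := chief_quo h8 (PiN.sol ((piG_quo_iff h11).2 h6))
    rcases h10.lt_or_eq with c | c
    · exact h2 ((dser_anti P (by omega : (sg p G N).card + 1 + 1 ≤ _)).trans
        (dser_succ _ P ▸ (commutator_mono h9 h9).trans h12))
    rcases Nat.eq_zero_or_pos (sg p G L).card with d | d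
    · exact h2 (d ▸ der_le_of_dg h1 hs' (fun χ a b c => Finset.notMem_empty χ
        (Finset.card_eq_zero.1 d ▸ mem_sg.2 ⟨a, b, c⟩)) hP)
    have := der_le_of_layer h1 h8.normU h8.lt h12 h6 hs' hP fun χ a =>
      (mem_sg.1 (Finset.eq_of_subset_of_card_le (sg_mono h8.lt.le) c.ge ▸ a)).2.1
    exact h2 ((dser_anti P (by omega : 2 ≤ _)).trans ((commutator_mono this this).trans h12))
  · refine h2 ((dser_anti P (by omega)).trans (quo_eq_bot_of_pi (π := {p}) (h11.trans' h9)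
      (hP.pi.of_le (dser_normal _ P).le) (PiN.of_le ((piG_quo_iff (h1.norms h4.le)).2 h6)
        (quo_mono L (h9.trans h7)))))

theorem dser_map (n : ℕ) (H : Subgroup Γ) : (derivedSeries H n).map H.subtype = dser n H := by
  induction n with
  | zero => exact (H.subtype.range_eq_map ▸ H.range_subtype :)
  | succ n ih => rw [derivedSeries_succ, map_commutator, ih, dser_succ]

theorem card_sg_top : (sg p (⊤ : Subgroup Γ) ⊥).card =
    Nat.card {χ : IrrCharacter Γ // p ∣ charDegree (χ : Γ → ℂ)} :=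
  (card_top_irr (Finset.filter_subset _ _) fun χ =>
    mem_sg.trans ⟨fun h => h.2.2, fun h => ⟨coe_mem_Irr_top χ, bot_le, h⟩⟩).symm

theorem sg_eq_IrrK (hp : p.Prime) (hP : Syl p P G) (hn : P ⊴ G) : sg p G ⊥ = IrrK G ⁅P, P⁆ ⊥ :=
  Finset.ext fun _ => mem_sg.trans ((and_congr_right fun h => and_congr_right fun _ =>
    sing_iff hp hP hn h).trans mem_IrrK.symm)

theorem uniq_IrrK (hN : N ⊴ G) (h : IrrK G N ⊥ = {χ}) :
    (∀ x, x ∉ N → χ x = 0) ∧ (∀ x ∈ N, x ≠ 1 → χ 1 * χ x = -N.relIndex G) ∧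
      deg χ ^ 2 + N.relIndex G = #G := by
  have h1 := sum_IrrK hN (NormalIn.bot G)
  have h2 := sum_IrrK_deg hN (NormalIn.bot G)
  rw [h, Finset.sum_singleton, sup_bot_eq] at h1 h2
  have h3 := irr_one_ne (irrK_irr (h ▸ Finset.mem_singleton_self χ))
  refine ⟨fun x a => ?_, fun x a b => ?_, by rwa [relIndex_bot_left] at h2⟩
  · simpa [triv_of_not_mem a, triv_of_not_mem (mt (bot_le (a := N) ·) a), h3] using congrFun h1 x
  · simpa [triv_of_mem a, triv_of_not_mem (mt mem_bot.1 b)] using congrFun h1 x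

theorem card_dvd_deg_of_vanish (hχ : χ ∈ Chr G) (hQ : Q ≤ G) (h : ∀ x ∈ Q, x ≠ 1 → χ x = 0) :
    #Q ∣ deg χ := by
  obtain ⟨n, e⟩ := exists_dot_nat hχ hQ (irr_chr (triv_mem_Irr Q))
  rw [dot_triv_right, Finset.sum_eq_single_of_mem 1 (mem_fin.2 Q.one_mem) fun x a =>
    h x (mem_fin.1 a), inv_mul_eq_iff_eq_mul₀ (Nat.cast_ne_zero.2 (card_ne_zero Q)), chr_deg hχ] at e
  exact ⟨n, by exact_mod_cast e⟩

/-- classes of `p'`-size when `N(P) = C(P)` -/
theorem card_cls_cop (hp : p.Prime) (hP : Syl p P ⊤) (h : N(P) ≤ C(P)) :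
    Nat.card {c : ConjClasses Γ // ¬ p ∣ Nat.card c.carrier} = Nat.card (ConjClasses C(P)) := by
  have h0 : ∀ c : ConjClasses C(P), ¬ p ∣ Nat.card (ConjClasses.map C(P).subtype c).carrier := by
    intro c
    obtain ⟨x, rfl⟩ := ConjClasses.mk_surjective c
    exact fun e => hP.idx.not_dvd hp rfl ((H24.card_carrier_mk (x : Γ) ▸ e).trans
      (relIndex_top_right P ▸ index_dvd_of_le (le_cent1_iff.2 x.2)))
  refine (Nat.card_eq_of_bijective (fun c => (⟨_, h0 c⟩ : {c : ConjClasses Γ //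
    ¬ p ∣ Nat.card c.carrier})) ⟨?_, ?_⟩).symm
  · intro c d e
    obtain ⟨x, rfl⟩ := ConjClasses.mk_surjective c
    obtain ⟨y, rfl⟩ := ConjClasses.mk_surjective d
    obtain ⟨g, e⟩ := isConj_iff.1 (ConjClasses.mk_eq_mk_iff_isConj.1 (congrArg Subtype.val e))
    replace e : g * x * g⁻¹ = y := e
    obtain ⟨k, a, b⟩ := ((hP.Jtop g).of_le (e ▸ cj_cent1 g x ▸ cj_mono g (le_cent1_iff.2 x.2))
      le_top).sconj (hP.of_le (le_cent1_iff.2 y.2) le_top)
    refine ConjClasses.mk_eq_mk_iff_isConj.2 (isConj_iff.2 ⟨⟨k * g, h (mem_norm_iff_cj.2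
      (by rw [H19.cj_mul, b]))⟩, Subtype.ext ?_⟩)
    rw [← H24.mem_cent_iff_conj.1 a, ← e]
    simp [mul_assoc]
  · rintro ⟨c, e⟩
    obtain ⟨x, rfl⟩ := ConjClasses.mk_surjective c
    obtain ⟨Q, a⟩ := exists_syl p C[x]
    obtain ⟨g, -, b⟩ := (a.of_idx le_top (.of_not_dvd (by
      rwa [relIndex_top_right, ← H24.cs, ← H24.card_carrier_mk]))).sconj hP
    exact ⟨ConjClasses.mk ⟨g * x * g⁻¹, le_cent1_iff.1 (b ▸ cj_cent1 g x ▸ cj_mono g a.le)⟩,
      Subtype.ext (ConjClasses.mk_eq_mk_iff_isConj.2 (isConj_iff.2 ⟨g, rfl⟩).symm)⟩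

end H6
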