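import Cfsg.Agent.H6.Tu5

/-!
Fitting height and fixed points of an automorphism of prime order, VI: admissible families and
kernels on a critical section.
-/

set_option autoImplicit false

namespace H6.Tu
open Cfsg Subgroup H19 H18 H10.HH Module Polynomial H1
open scoped commutatorElement

section rep
variable {F : Type*} [Field F] {X : Type*} [Group X] {U : Type*} [AddCommGroup U]
  [Module F U] {ρ : X →* End F U} {A B D E G K L M P Q R T Z : Subgroup X} {H S Y : Submodule F U}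
  {t y : X} {l : X → F} {m n p q u : ℕ}

theorem stab_of_ne (hS : S ≤ ws ρ A l) (h0 : S ≠ ⊥) (hB : B ≤ A) (e : B ≤ stabS ρ S) :
    B ≤ stabS ρ (ws ρ A l) := fun z hz v hv => by
  obtain ⟨w, hw, hw0⟩ := (Submodule.ne_bot_iff _).1 h0
  rw [hv z (hB hz), smul_left_injective F hw0 ((hS hw z (hB hz)).symm.trans
    ((e hz w hw).trans (one_smul F w).symm)), one_smul]

variable [Finite X]

theorem le_stab_of_ker (hK : (#K : F) ≠ 0) (hS : RInv ρ K S)
    (h : S ⊓ LinearMap.ker (avg ρ K) = ⊥) : K ≤ stabS ρ S :=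
  le_fix_iff.1 (by_contra fun e => ker_avg_ne_bot hK hS e h)

variable [IsAlgClosed F] [FiniteDimensional F U]

theorem Tw.beta (h : Tw G R M Q P T q u) (hm : Md ρ G R p) (hY : Adm ρ G R Y) (hK : K ≤ Kr ρ G R Y)
    (hKP : K ≤ P) (hl : Wt (P ⊓ C(M)) l) : ⁅Q, ⁅P, R⁆⁆ ≤ stabS ρ (ws ρ (P ⊓ C(M)) l) ∨
      ⁅Q, K⁆ ≤ stabS ρ (ws ρ (P ⊓ C(M)) l) := by
  have := h.nP
  have := h.nQ
  have := h.nJ
  have cP := h.castP hm
  have cK := cast_card_ne_zero_of_le cP hKP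
  have iQ : RInv ρ Q (ws ρ (P ⊓ C(M)) l) := inv_ws.mono (cent_le_St (cents_symm h.J_centQ))
  have iK := iQ.mono (hKP.trans h.PQ)
  have nQ := norm_stabS iQ
  by_cases hst : R ≤ St (P ⊓ C(M)) l
  swap
  · exact Or.inr ((commutator_mono le_rfl (hY.mv hm.prime hm.castR (inf_le_left.trans h.PG) nn
      (hm.cop' (inf_le_left.trans h.PG)) h.J_ab (cast_card_ne_zero_of_le cP inf_le_left) hK cK
      (hKP.trans (cents_symm h.J_cent)) hl hst)).trans (commg_le_right nQ))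
  have iR : RInv ρ R (ws ρ (P ⊓ C(M)) l) := inv_ws.mono hst
  have a0 := hK.trans (Kr_le.trans inf_le_right)
  have a1 : ⁅Q, K⁆ ≤ P ⊓ C(M) := (commutator_mono le_rfl hKP).trans (commutator_comm P Q ▸ h.commQ)
  have a2 : ⁅⁅Q, R⁆, K⁆ ≤ stabS ρ (ws ρ (P ⊓ C(M)) l) := three_subgroups' nQ (norm_stabS iR)
    (norm_stabS iK) (by rw [commg_eq_bot.2 (cents_symm a0), commutator_bot_left]; exact bot_le)
    ((commutator_mono (commutator_comm Q K ▸ a1) le_rfl).trans (comm_le_stabS hl hst))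
  have hle : ⁅Q, R⁆ ≤ Q := commg_le_left nn
  have cQ := hm.cop' (h.QM.trans h.MG)
  refine or_iff_not_imp_right.2 fun h0 => ?_
  by_cases h1 : ws ρ (P ⊓ C(M)) l ⊓ fix ρ ⁅Q, R⁆ = ⊥
  swap
  · exact stab_of_ne inf_le_left h1 ((commutator_mono le_rfl (commg_le_left nn)).trans
      (commutator_comm P Q ▸ h.commQ)) ((commutator_mono le_rfl ((commutator_mono h.PQ le_rfl).trans
        (le_fix_iff.1 inf_le_right))).trans (commg_le_right (norm_stabS (iQ.inf
          (inv_fix (commg_norml _ _))))))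
  have a3 := hY.kl (S := ws ρ (P ⊓ C(M)) l ⊓ LinearMap.ker (avg ρ K)) hm.prime hm.castR
    (hle.trans (h.QM.trans h.MG)) (commg_normr _ _) (cQ.coprime_dvd_left (card_dvd hle))
    (commg_commg nn cQ) (h.pg.of_le hle).nil (cast_card_ne_zero_of_le (h.castQ hm) hle)
    (fun b hb v hv => ⟨iQ b (hle hb) v hv.1, by
      have : avg ρ K v = 0 := hv.2
      rw [SetLike.mem_coe, LinearMap.mem_ker, ← map_zero (ρ b), ← this, pr_apply, pr_apply, map_smul,
        map_sum]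
      exact congrArg _ (Finset.sum_congr rfl fun a _ => by
        rw [map_smul, (comm_mem_stabS iQ (hle hb) (h.PQ (hKP a.2))).1
          (a2 (commutator_mem_commutator hb a.2)) v hv.1])⟩)
    (iR.inf (inv_ker_avg (norms_of_cents (cents_symm a0))))
    (fun v hv => (Submodule.mem_bot F).1 (h1.le ⟨pr_mem (iQ.mono hle) hv.1, avg_mem_fix v⟩))
    fun v hv => mem_of_Kr hK cK hv.2 hv.1.2
  refine (commutator_mono le_rfl (h.ex hm.toCop cP hm.castR hl hst (by_contra fun h2 => h0 ?_))).trans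
    (commg_le_right nQ)
  rw [← commg_sup_cent nn cQ (Or.inl (sol_of_prime hm.prime))]
  exact commg_sup_left_le a2 (stab_of_ne inf_le_left h2 ((commutator_mono inf_le_left le_rfl).trans a1)
    ((commutator_mono le_rfl (le_stab_of_ker cK (iK.inf (inv_fix (norms_of_cents a0)))
      (by rwa [inf_right_comm]))).trans (commg_le_right (norm_stabS ((iQ.mono inf_le_left).inf
        (inv_fix (norms_of_cents inf_le_right))))))) (hle.trans nQ) (inf_le_left.trans nQ)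

theorem Tw.fam (h : Tw G R M Q P T q u) (hm : Md ρ G R p) (hY : Adm ρ G R Y) (hK : K ≤ Kr ρ G R Y)
    (hKP : K ≤ P) (hy : y ∈ P) (hy' : y ∉ P ⊓ C(M)) : ∃ H, P ⊓ C(M) ≤ H ∧ y ∉ H ∧
      ∀ g, cj g ⁅P, R⁆ ≤ H ∨ cj g K ≤ H := by
  have := h.nP
  have := h.nQ
  have := h.nJ
  have cP := h.castP hm
  have hy1 := zpowers_le.2 hy
  have key : ∀ (A : Subgroup X) [A.Normal] (l : X → F) (g : X) (B : Subgroup X),
      B ≤ stabS ρ (ws ρ A fun a => l (g⁻¹⁻¹ * a * g⁻¹)) → cj g B ≤ stabS ρ (ws ρ A l) :=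
    fun A _ l g B e => cj_le_iff.2 (e.trans (stabS_conj (nn (mem_top _))))
  by_cases h1 : P ≤ C(Q)
  · have hab := comm_iff_le_cent.2 (h1.trans (cent_mono h.PQ))
    obtain ⟨l, hl, e⟩ : ∃ l, Wt P l ∧ ¬ zpowers y ≤ stabS ρ (ws ρ P l) := by
      by_contra e
      push Not at e
      exact hy' (zpowers_le.1 ((eq_bot_of_ws hm.ker (cast_card_ne_zero_of_le cP hy1) hab
        (norms_of_comm hab le_rfl hy1) e).le.trans bot_le))
    refine ⟨_, h.alpha h1 ▸ bot_le, fun e' => e (zpowers_le.2 e'), fun g => ?_⟩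
    have hl' := hl.conj (nn (mem_top g⁻¹))
    by_cases hst : R ≤ St P fun a => l (g⁻¹⁻¹ * a * g⁻¹)
    exacts [Or.inl (key _ _ _ _ (comm_le_stabS hl' hst)), Or.inr (key _ _ _ _ (hY.mv hm.prime hm.castR
      h.PG nn (hm.cop' h.PG) hab cP hK (cast_card_ne_zero_of_le cP hKP)
        (cents_of_comm hab hKP le_rfl) hl' hst))]
  have a1 : ⁅Q, zpowers y⁆ ≤ P ⊓ C(M) :=
    (commutator_mono le_rfl hy1).trans (commutator_comm P Q ▸ h.commQ)
  obtain ⟨l, hl, e⟩ : ∃ l, Wt (P ⊓ C(M)) l ∧ ¬ ⁅Q, zpowers y⁆ ≤ stabS ρ (ws ρ (P ⊓ C(M)) l) := by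
    by_contra e
    push Not at e
    exact hy' (h.le_J (D := P ⊓ C(Q)) inferInstance (inf_lt_left.2 h1) ⟨hy, zpowers_le.1 (cents_symm
      (commg_eq_bot.1 (eq_bot_of_ws hm.ker (cast_card_ne_zero_of_le cP (a1.trans inf_le_left))
        h.J_ab (norms_of_comm h.J_ab le_rfl a1) e)))⟩)
  refine ⟨CQ Q (stabS ρ (ws ρ (P ⊓ C(M)) l)), le_CQ.2 ⟨nn, by
    rw [commg_eq_bot.2 (cents_symm h.J_centQ)]; exact bot_le⟩, fun e' => e (mem_CQ.1 e').2, fun g => ?_⟩
  refine (h.beta hm hY hK hKP (hl.conj (nn (mem_top g⁻¹)))).imp (fun e => le_CQ.2 ⟨nn, ?_⟩)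
    fun e => le_CQ.2 ⟨nn, ?_⟩ <;>
  · have := key _ _ _ _ e
    rwa [cj_comm, cj_of_mem_norm (nn (mem_top g))] at this

end rep

end H6.Tu
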