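import Cfsg.Agent.H6.Tu6

/-!
Fitting height and fixed points of an automorphism of prime order, VII: kernels on a critical
section.
-/

set_option autoImplicit false

namespace H6.Tu
open Cfsg Subgroup H19 H18 H10.HH Module Polynomial H1
open scoped commutatorElement

section group
variable {X : Type*} [Group X] [Finite X] {B D P S : Subgroup X} {x : X} {p q k : ℕ}

theorem le_of_elts (h : ∀ u : ℕ, u.Prime → u ∣ #B → ∀ x ∈ B, ∀ n, x ^ u ^ n = 1 → x ∈ D) : B ≤ D :=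
  le_of_exists_syl fun u hu hd => by
    obtain ⟨S, hS⟩ := exists_syl u B
    obtain ⟨k, hk⟩ := hS.pi.exists_card
    exact ⟨S, hS, fun x hx => h u hu hd x (hS.le hx) k (hk ▸ pow_card_eq_one' hx)⟩

omit [Finite X] in
theorem mem_of_pow (hp : p.Prime) (hB : ¬ p ∣ #B) (hx : x ∈ B) (h : x ^ p ^ k ∈ D) : x ∈ D :=
  zpowers_le.2 h (mem_zpowers_pow_iff.2 (Nat.Coprime.pow_left _
    ((Nat.Prime.coprime_iff_not_dvd hp).2 fun e => hB (e.trans (orderOf_dvd_card' hx)))))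

theorem le_of_pg (hP : PG q P) (hS : PG q S) (h1 : S ≤ N(P)) (h2 : S ≤ N(D)) (h3 : P ≤ N(D))
    (h : P ≤ ⁅P, S⁆ ⊔ D) : P ≤ D := by
  have := quo_mono D h
  rw [quo_sup_right ((commg_le_left h1).trans h3), quo_comm h3 h2] at this
  exact (quo_eq_bot_iff h3).1 (nil_eq_bot_of_commg ((hP.quo D).sup (hS.quo D) (quo_norms h1)).nil
    le_sup_left le_sup_right (quo_norms h1) this)

end group

section rep
variable {F : Type*} [Field F] {X : Type*} [Group X] [Finite X] {U : Type*} [AddCommGroup U]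
  [Module F U] {ρ : X →* End F U} {A B D E G K L M P Q R T Z : Subgroup X} {H S Y : Submodule F U}
  {t y : X} {l : X → F} {m n p q u : ℕ}

theorem mv2 (hc : Cop G R) (hF : (#R : F) ≠ 0) (hA : (#A : F) ≠ 0) (hl : Wt A l) (hn : R ≤ N(A))
    (hm : ¬ R ≤ St A l) (hK : Kr ρ G R Y ≤ N(A)) (h0 : Y ⊓ LinearMap.ker (avg ρ ⁅A, R⁆) = ⊥) :
    Kr ρ G R Y ≤ stabS ρ (ws ρ A l) := fun k hk v hv => by
  have h1 := pr_mem (l := fun _ => 1) (inv_ker_avg (commg_normr A R))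
    (ws_le_ker hl (commg_le_left hn) (moved hl hn hm) hv)
  exact step3 hc.prime hF hA hl hn hm (hK hk) hk.1.2 hc.cop (pow_card_eq_one' hk.1.1) hv
    (sub_eq_zero.1 ((Submodule.mem_bot F).1 (h0.le ⟨hk.2 _ (avg_mem_fix v), sub_mem (inv_ker_avg
      (norms_comm hK (norms_of_cents (Kr_le.trans inf_le_right))) k hk _ h1) h1⟩)))

theorem Md.bot_of_Kr (hm : Md ρ G R p) (hnd : ¬ fix ρ R ≤ Y) (hD : D.Normal) (h1 : D ≤ Kr ρ G R Y)
    (h2 : (#D : F) ≠ 0) : D = ⊥ := by_contra fun e =>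
  hnd fun _ hv => mem_of_Kr h1 h2 hv ((hm.ker_top hD e le_rfl).ge trivial)

theorem Tw.LK (h : Tw G R M Q P T q u) (hm : Md ρ G R p)
    (hL' : ∀ x ∈ L, ∃ k, x ^ p ^ k ∈ Kr ρ G R Y) : L ⊓ P ≤ Kr ρ G R Y := fun x hx =>
  haveI := h.nP
  (hL' x hx.1).elim fun _ => mem_of_pow hm.pp (hm.not_dvd ⟨h.PG, nn⟩ h.pgP.nil) hx.2

variable [IsAlgClosed F] [FiniteDimensional F U]

theorem Md.ab (hm : Md ρ G R p) (hY : Adm ρ G R Y) (hA : A.Normal) (h1 : A ≤ G) (hab : Ab A)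
    (h0 : ⁅A, R⁆ ≠ ⊥) : ∃ l, ¬ ⁅A, R⁆ ≤ stabS ρ (ws ρ A l) ∧ Kr ρ G R Y ≤ stabS ρ (ws ρ A l) := by
  have a1 := hm.castN ⟨h1, nn⟩ (nil_of_ab hab)
  have a2 : ⁅A, R⁆ ≤ A := commg_le_left nn
  have a3 := cast_card_ne_zero_of_le a1 a2
  obtain ⟨l, hl, e⟩ : ∃ l, Wt A l ∧ ¬ ⁅A, R⁆ ≤ stabS ρ (ws ρ A l) := by
    by_contra e
    push Not at e
    exact h0 (eq_bot_of_ws hm.ker a3 hab (commg_norml _ _) e)
  exact ⟨l, e, mv2 hm.toCop hm.castR a1 hl nn (fun e' => e (comm_le_stabS hl e')) nn (hY.ab hm.prime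
    (a2.trans h1) (commg_normr _ _) (hm.cop' (a2.trans h1)) (commg_commg nn (hm.cop' h1))
    (comm_mono hab a2) a3)⟩

theorem Tw.hand (h : Tw G R M Q P T q u) (hm : Md ρ G R p) (hY : Adm ρ G R Y) (hnd : ¬ fix ρ R ≤ Y)
    (hL : L ⊴ G ⊓ C(R)) (hL' : ∀ x ∈ L, ∃ k, x ^ p ^ k ∈ Kr ρ G R Y)
    (hc : ⁅P, R⁆ ≤ P ⊓ C(M) ∨ P ⊓ C(R) ≤ P ⊓ C(M)) : ∃ (u : ℕ) (K : Subgroup X), u.Prime ∧
      K ⊴ G ⊓ C(R) ∧ ¬ P ≤ ⁅P, K⁆ ⊔ P ⊓ C(M) ∧ ∀ x ∈ L, ∃ k, x ^ u ^ k ∈ K := by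
  have := h.nP
  have := h.nJ
  have cP := h.castP hm
  have cc := hm.cop' h.PG
  have kr : ¬ P ≤ ⁅P, Kr ρ G R Y⁆ ⊔ P ⊓ C(M) → ∃ (u : ℕ) (K : Subgroup X), u.Prime ∧
      K ⊴ G ⊓ C(R) ∧ ¬ P ≤ ⁅P, K⁆ ⊔ P ⊓ C(M) ∧ ∀ x ∈ L, ∃ k, x ^ u ^ k ∈ K :=
    fun e => ⟨p, _, hm.pp, ⟨Kr_le, hY.norm_Kr⟩, e, hL'⟩
  by_cases h1 : ⁅P ⊓ C(M), R⁆ = ⊥
  swap
  · obtain ⟨l, a1, a2⟩ := hm.ab hY h.nJ (inf_le_left.trans h.PG) h.J_ab h1
    have a3 := norm_stabS (inv_ws.mono (cent_le_St (cents_symm (inf_le_right (a := P) (b := C(M)))) :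
      M ≤ St _ l) : RInv ρ _ _)
    have a4 := (commutator_mono le_rfl a2).trans (commg_le_right (h.PM.trans a3))
    refine kr fun e => a1 ((commg_le_left nn).trans (inf_le_left.trans (h.comm.ge.trans
      ((commutator_mono e le_rfl).trans ?_))))
    rw [commg_sup_cent_left inf_le_right (inf_le_left.trans (commg_norml _ _))]
    exact (commutator_mono a4 le_rfl).trans (commg_le_left a3)
  replace h1 := commg_eq_bot.1 h1
  by_cases h2 : ⁅P, R⁆ ≤ P ⊓ C(M)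
  · have a1 := cents_of_commg_le_cent nn cc (h2.trans h1)
    have a2 := hm.bot_of_Kr hnd (hm.normal_of_le a1 inf_le_right (norms_inf hL.norm nn)) (h.LK hm hL')
      (cast_card_ne_zero_of_le cP inf_le_right)
    refine ⟨p, L, hm.pp, hL, fun e => h.not_le ?_, fun x hx => ⟨0, by simpa using hx⟩⟩
    rwa [commutator_comm, H19.eq_bot_mono (commg_le_inf (hL.norms (le_inf h.PG (cents_symm a1))) nn) a2,
      bot_sup_eq] at e
  replace hc := hc.resolve_left h2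
  have kR : R ≤ N(Kr ρ G R Y) := norms_of_cents (cents_symm (Kr_le.trans inf_le_right))
  have b0 : P ≤ ⁅P, Kr ρ G R Y⁆ ⊔ P ⊓ C(M) → ⁅P, R⁆ ≤ ⁅P, Kr ρ G R Y⁆ := fun e => by
    refine (commutator_mono e le_rfl).trans ?_
    rw [commg_sup_cent_left h1 (inf_le_left.trans (commg_norml _ _))]
    exact commg_le_left (norms_comm nn kR)
  by_cases hab : Ab P
  · obtain ⟨l, a1, a2⟩ := hm.ab hY h.nP h.PG hab fun e => h2 (e ▸ bot_le)
    exact kr fun e => a1 ((b0 e).trans ((commutator_mono le_rfl a2).trans (commg_le_right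
      (norm_stabS (inv_ws.mono (cent_le_St (comm_iff_le_cent.1 hab)))))))
  have b1 := le_inf (inf_le_left.trans h.PG) h1
  have b2 := hm.bot_of_Kr hnd (hm.normal_of_le (cents_symm h1) inf_le_left (norms_inf nn hY.norm_Kr))
    inf_le_right (cast_card_ne_zero_of_le cP (inf_le_left.trans inf_le_left))
  have b3 := cents_of_norms_disjoint nn (b1.trans hY.norm_Kr) b2
  have b4 := cents_of_norms_disjoint nn (hL.norms b1) (H19.eq_bot_mono (le_inf inf_le_left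
    ((le_inf inf_le_right (inf_le_left.trans inf_le_left)).trans (h.LK hm hL'))) b2)
  have b5 : ⁅P, P⁆ ≠ ⊥ := fun e => hab (comm_iff_der.2 e)
  have hle : ⁅P, R⁆ ≤ P := commg_le_left nn
  by_cases hY0 : Y = ⊥
  swap
  · have a1 := (commg_sup_cent nn cc (Or.inl (sol_of_prime hm.prime))).ge.trans (sup_le_sup_left hc _)
    refine kr fun e => hY.cov hm.prime hm.castR (hle.trans h.PG) hm.cop (commg_normr _ _)
      (commg_commg nn cc) (h.pgP.of_le hle).nil (cast_card_ne_zero_of_le cP hle)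
      (norms_comm nn (norms_of_cents (Kr_le.trans inf_le_right))) ?_
      ((b0 e).trans (le_sup_of_le_left ((commutator_mono a1 le_rfl).trans
        (commg_sup_cent_left b3 (inf_le_left.trans (commg_norml _ _))).le)))
    rwa [hm.ker_top inferInstance b5 ((der_mono a1).trans ?_), inf_top_eq]
    rw [der_sup_cent (h.J_cent.trans (cent_mono hle)), comm_iff_der.1 h.J_ab, sup_bot_eq]
    exact der_le _
  obtain ⟨l, hl, c1⟩ := exists_wt (inv_fix (ρ := ρ) (norms_of_cents h1)) (fun e => hnd (e ▸ bot_le))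
    ((comm_iff_der.1 h.J_ab).le.trans bot_le)
  have c0 : ws ρ (P ⊓ C(M)) l ≠ ⊥ := fun e => c1 (by rw [e, inf_bot_eq])
  have w := h.toWS cP hl c0
  have c2 : ¬ P ≤ w.R := fun e => c0 (le_bot_iff.1 ((le_fix_iff.2 ((commutator_mono e le_rfl).trans
    w.der_R')).trans (hm.fix_bot inferInstance b5).le))
  have c3 : R ≤ St _ l := cent_le_St (cents_symm h1)
  have c4 : Kr ρ G R Y ≤ St _ l := cent_le_St (cents_symm b3)
  have c5 := w.st_norm_R nn c3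
  have c6 := w.st_norm_R nn c4
  have cR := cast_card_ne_zero_of_le cP (rad_le w.invW)
  by_cases h3 : ⁅w.R, R⁆ ≤ stabS ρ (⊤ ⊓ ws ρ (P ⊓ C(M)) l)
  swap
  · obtain ⟨l', d1, d2, b, d3, d4⟩ := exists_wt_not (cast_card_ne_zero_of_le cR (commg_le_left c5))
      (commg_le_left c5) (commg_norml _ _) (w.invW.mono (rad_le _))
      ((commutator_mono le_rfl (rad_le _)).trans w.der_R) h3
    have d5 := mv2 hm.toCop hm.castR cR d1 c5 (fun e => d4 (wt_comm' d1 e b d3)) c6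
      (by rw [hY0, bot_inf_eq])
    have d6 : P ≤ St w.R l' := fun g hg => mem_St d2 (w.invW g hg) (w.norm_R hg) fun a ha =>
      (comm_mem_stabS w.invW (rad_le _ ha) hg).1 (w.der_R (commutator_mem_commutator ha hg))
    refine kr fun e => d4 ((wt_congr (ρ := ρ) (S := ws ρ w.R l') (fun e => d2 (by
      rw [inf_idem] at e; rw [e, inf_bot_eq])) (commg_le_left c5 d3) (one_mem _)
        fun v hv => ?_).trans d1.one)
    rw [map_one]
    exact ((commutator_mono (rad_le _) le_rfl).trans ((b0 e).trans ((commutator_mono le_rfl d5).trans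
      (commg_le_right (norm_stabS (inv_ws.mono d6)))))) d3 v hv
  have wr : WR ρ P _ R ⊤ l := ⟨w, hm.prime, hm.castR, nn, c3, RInv.top, cc, hc, h3⟩
  have ne : ∀ {u : ℕ} {B}, u.Prime → B ≤ G → u ∣ #B → u ≠ #R := fun hu hB hd e =>
    hu.one_lt.ne' (Nat.eq_one_of_dvd_coprimes (hm.cop' hB) hd e.dvd)
  by_cases h4 : ∀ u : ℕ, u.Prime → u ∣ #(Kr ρ G R Y) → u ≠ q → ∀ x ∈ Kr ρ G R Y, ∀ n, x ^ u ^ n = 1 →
      x ∈ CQ P w.R
  · obtain ⟨S, hS⟩ := exists_syl q (Kr ρ G R Y)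
    refine kr fun e => c2 (le_of_pg h.pgP hS.pi nn (hS.le.trans c6) w.norm_R (e.trans (sup_le (le_CQ.1
      (le_of_exists_syl fun u hu hd => ?_)).2 (w.le_R.trans le_sup_right))))
    by_cases e' : u = q
    · exact ⟨S, e' ▸ hS, le_CQ.2 ⟨nn, le_sup_left⟩⟩
    obtain ⟨S', hS'⟩ := exists_syl u (Kr ρ G R Y)
    obtain ⟨k, hk⟩ := hS'.pi.exists_card
    exact ⟨S', hS', le_CQ.2 ⟨nn, (le_CQ.1 fun x hx => h4 u hu hd e' x (hS'.le hx) k
      (hk ▸ pow_card_eq_one' hx)).2.trans le_sup_right⟩⟩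
  push Not at h4
  obtain ⟨u, d1, d2, d3, t, d4, n, d5, d6⟩ := h4
  have d7 := ne d1 (Kr_le.trans inf_le_left) d2
  have d8 := h.pgP.not_dvd' d1 d3
  obtain ⟨rfl, d9, -⟩ := (wr.hf (nn (mem_top t)) (c4 d4) d4.1.2 (fun _ _ => trivial) d1 d8 d7 d5
    fun v hv => sub_eq_zero.1 ((Submodule.mem_bot F).1 (hY0.le (d4.2 v hv.2)))).resolve_left d6
  refine ⟨2, core (G ⊓ C(R)) (L ⊓ CQ P w.R), d1, ⟨core_le.trans (inf_le_left.trans hL.le), norm_core⟩,
    fun e => c2 (e.trans (sup_le (le_CQ.1 (core_le.trans inf_le_right)).2 w.le_R)), fun x hx => ?_⟩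
  obtain ⟨k, m, e1, e2⟩ := Nat.exists_eq_two_pow_mul_odd (orderOf_pos x).ne'
  refine ⟨k, zpowers_le.1 (le_core.2 fun b hb => le_cj_iff.2 ?_)⟩
  have e3 := cj_le_of_mem_norm (hL.norm (inv_mem hb)) (zpowers_le.2 (pow_mem hx (2 ^ k)))
  refine le_inf e3 (le_of_elts fun u hu hd y hy n hn => wr.hf2
    (Nat.not_even_iff_odd.1 (mt even_iff_two_dvd.1 d8)) (hm.prime.odd_of_ne_two d7.symm) d9
    (nn (mem_top y)) (cent_le_St (cents_symm b4) (e3 hy)) (hL.le (e3 hy)).2 (fun _ _ => trivial) hu ?_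
    (ne hu (e3.trans (hL.le.trans inf_le_left)) hd) hn)
  rintro rfl
  rw [card_cj, Nat.card_zpowers] at hd
  exact e1.not_two_dvd_nat (hd.trans (orderOf_dvd_of_pow_eq_one (by
    rw [← pow_mul, ← e2, pow_orderOf_eq_one])))

end rep

end H6.Tu
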