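import Cfsg.Agent.H6.Tu7

/-!
Fitting height and fixed points of an automorphism of prime order, VIII: from chief factors to
modules.
-/

set_option autoImplicit false

namespace H6.Tu
open Cfsg Subgroup H19 H18 H10.HH Module Polynomial H1
open scoped commutatorElement TensorProduct

universe u

section eqv
variable {F : Type*} [Field F] {X : Type*} [Group X] {U : Type*} [AddCommGroup U] [Module F U]
  {σ : X →* End F U} {V H : Subgroup X} {c : U → X}

/-- equivariant additive maps into `V` -/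
structure Eqv (σ : X →* End F U) (V : Subgroup X) (c : U → X) : Prop where
  mem : ∀ u, c u ∈ V
  add : ∀ u w, c (u + w) = c u * c w
  eqv : ∀ g u, c (σ g u) = g * c u * g⁻¹

theorem Eqv.zero (h : Eqv σ V c) : c 0 = 1 := by simpa using h.add 0 0

theorem Eqv.sub (h : Eqv σ V c) (u w : U) : c (u - w) = c u * (c w)⁻¹ := by
  rw [eq_mul_inv_iff_mul_eq, ← h.add, sub_add_cancel]

theorem Eqv.comm (h : Eqv σ V c) (g : X) (u : U) : c (σ g u - u) = ⁅g, c u⁆ := by
  rw [h.sub, h.eqv, commutatorElement_def]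

theorem Eqv.smul (h : Eqv σ V c) (a : F) : Eqv σ V fun u => c (a • u) :=
  ⟨fun _ => h.mem _, fun u w => by rw [smul_add, h.add], fun g u => by rw [← map_smul, h.eqv]⟩

theorem Eqv.surj (h : Eqv σ V c) (hm : ∀ D : Subgroup X, D.Normal → D ≤ V → D = ⊥ ∨ D = V) {w : U}
    (hw : c w ≠ 1) : ∀ v ∈ V, ∃ u, c u = v := by
  let D : Subgroup X :=
    { carrier := Set.range c
      one_mem' := ⟨0, h.zero⟩
      mul_mem' := by rintro _ _ ⟨a, rfl⟩ ⟨b, rfl⟩; exact ⟨_, h.add a b⟩
      inv_mem' := by rintro _ ⟨a, rfl⟩; exact ⟨0 - a, by rw [h.sub, h.zero, one_mul]⟩ }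
  exact ((hm D ⟨by rintro _ ⟨a, rfl⟩ g; exact ⟨_, h.eqv g a⟩⟩ (by
    rintro _ ⟨a, rfl⟩; exact h.mem a)).resolve_left fun e => hw (mem_bot.1 (e.le ⟨w, rfl⟩))).ge

/-- the vectors all of whose coordinates lie in `H` -/
def pre (σ : X →* End F U) (V H : Subgroup X) : Submodule F U where
  carrier := {u | ∀ c, Eqv σ V c → c u ∈ H}
  zero_mem' := fun _ hc => hc.zero ▸ one_mem H
  add_mem' := fun ha hb c hc => hc.add _ _ ▸ mul_mem (ha c hc) (hb c hc)
  smul_mem' := fun a _ hu _ hc => hu _ (hc.smul a)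

end eqv

theorem exists_bc {X : Type u} [Group X] [Finite X] {V : Subgroup X} {q : ℕ} (hq : q.Prime)
    (hV : Abelem q V) [V.Normal] (h0 : V ≠ ⊥) (hm : ∀ D : Subgroup X, D.Normal → D ≤ V → D = ⊥ ∨ D = V) :
    ∃ (X' : Type u) (_ : Group X') (_ : Finite X') (π : X →* X') (F : Type) (_ : Field F)
      (_ : IsAlgClosed F) (U : Type u) (_ : AddCommGroup U) (_ : Module F U)
      (_ : FiniteDimensional F U) (σ : X' →* End F U), Function.Surjective π ∧ π.ker = C(V) ∧
      σ.ker = ⊥ ∧ RIrr σ ⊤ ⊤ ∧ (∀ m : ℕ, ¬ q ∣ m → (m : F) ≠ 0) ∧ pre (σ.comp π) V ⊥ = ⊥ := by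
  classical
  have := Fact.mk hq
  let ρ := (H9.EA.rep hV (nn (H := ⊤))).comp topEquiv.symm.toMonoidHom
  obtain ⟨T, -, hT⟩ := exists_irr (RInv.top (ρ := bc ρ) (H := ⊤)) (by
    obtain ⟨v, hv, h1⟩ := exists_ne_one h0
    exact (Submodule.ne_bot_iff _).2 ⟨1 ⊗ₜ H9.EA.mk hV v hv, trivial, fun e => h1 (H9.EA.val_eq_one.2
      ((Module.FaithfullyFlat.one_tmul_eq_zero_iff _ _ _).1 e))⟩)
  let σ := (sub hT.inv).comp topEquiv.symm.toMonoidHom
  have h1 : pre (U := T) σ V ⊥ = ⊥ := by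
    refine eq_bot_iff.2 fun u hu => ?_
    rw [Submodule.mem_bot, ← Submodule.coe_eq_zero, ← (TensorProduct.equivFinsuppOfBasisLeft
      (Basis.ofVectorSpace (ZMod q) (AlgebraicClosure (ZMod q)))).map_eq_zero_iff]
    ext1 i
    rw [TensorProduct.equivFinsuppOfBasisLeft_apply]
    generalize (Basis.ofVectorSpace (ZMod q) (AlgebraicClosure (ZMod q))).coord i = φ
    refine H9.EA.val_eq_one.1 (hu (fun u => (TensorProduct.lid _ _ (φ.rTensor _ u.1)).val)
      ⟨fun u => H9.EA.val_mem _, fun u w => by simp, fun g u => ?_⟩)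
    have : ∀ x, TensorProduct.lid _ _ (φ.rTensor _ (bc ρ g x)) =
        ρ g (TensorProduct.lid _ _ (φ.rTensor _ x)) := fun x => by
      induction x <;> simp_all [bc_apply, End.baseChangeHom, LinearMap.baseChangeHom]
    exact congrArg H9.EA.val (this u)
  have h2 : σ.ker = C(V) := by
    refine le_antisymm (fun g hg v hv => ?_) fun g hg => LinearMap.ext fun u => sub_eq_zero.1
      ((Submodule.mem_bot _).1 (h1.le fun c hc => ?_))
    · obtain ⟨w, -, hw⟩ := (Submodule.ne_bot_iff _).1 (sub_irr hT).ne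
      obtain ⟨c, hc, e⟩ : ∃ c, Eqv (U := T) σ V c ∧ c w ≠ 1 := by
        by_contra e
        push Not at e
        exact hw ((Submodule.mem_bot _).1 (h1.le e))
      obtain ⟨u, rfl⟩ := hc.surj hm e v hv
      have := hc.eqv g u
      rw [MonoidHom.mem_ker.1 hg, End.one_apply] at this
      exact eq_mul_inv_iff_mul_eq.1 this
    · rw [End.one_apply, hc.comm, mem_bot, commutatorElement_eq_one_iff_mul_comm]
      exact (hg _ (hc.mem u)).symm
  refine ⟨X ⧸ σ.ker, inferInstance, inferInstance, QuotientGroup.mk' _, _, inferInstance, inferInstance,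
    T, inferInstance, inferInstance, inferInstance, QuotientGroup.lift _ σ le_rfl,
    QuotientGroup.mk'_surjective _, (QuotientGroup.ker_mk' _).trans h2,
    (QuotientGroup.ker_lift _ σ le_rfl).trans (QuotientGroup.map_mk'_self _),
    ⟨(sub_irr hT).ne, RInv.top, fun S e hS => (sub_irr hT).min S e fun g _ => hS (g : X) trivial⟩,
    fun m => (CharP.cast_eq_zero_iff _ q m).not.2, h1⟩

end H6.Tu
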