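import Cfsg.Agent.H6.Tu8

/-!
Fitting height and fixed points of an automorphism of prime order, IX: the induction.
-/

set_option autoImplicit false

namespace H6.Tu
open Cfsg Subgroup H19 H18 H10.HH Module Polynomial H1
open scoped commutatorElement

universe u

section group
variable {X X' : Type*} [Group X] [Group X'] {A B E G K L N R : Subgroup X} {π : X →* X'} {n u : ℕ}

theorem le_nres (h1 : E ≤ N) (h2 : A ≤ N) (h : E ≤ ⁅E, A⁆) : E ≤ nres N := le_iInf fun k => by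
  induction k with
  | zero => exact h1
  | succ k ih => exact h.trans (commutator_mono ih h2)

theorem map_normalIn (h : K ⊴ A) (π : X →* X') : K.map π ⊴ A.map π :=
  ⟨map_mono h.le, (map_mono h.norm).trans (le_normalizer_map π)⟩

theorem map_cent_le (π : X →* X') : (A ⊓ C(R)).map π ≤ A.map π ⊓ C(R.map π) :=
  le_inf (map_mono inf_le_left) (by
    rintro _ ⟨x, hx, rfl⟩ _ ⟨y, hy, rfl⟩
    rw [← map_mul, hx.2 y hy, map_mul])

theorem map_cj (π : X →* X') (g : X) (A : Subgroup X) : cj (π g) (A.map π) = (cj g A).map π := by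
  rw [cj_def, cj_def, Subgroup.map_map, Subgroup.map_map]
  congr 1
  ext x
  simp

variable [Finite X] [Finite X']

omit [Finite X] in
theorem pg_map (hu : u.Prime) (h : ∀ x ∈ L, ∃ k, x ^ u ^ k ∈ K) (hK : K ≤ π.ker) : PG u (L.map π) :=
  PiN.of_elt (by
    rintro _ ⟨x, hx, rfl⟩
    obtain ⟨k, hk⟩ := h x hx
    exact (PiN.prime_pow hu k).dvd (orderOf_dvd_of_pow_eq_one (by rw [← map_pow]; exact hK hk)))

theorem Cop.endg (h : Cop G R) (hn : Nil (⁅G.map π, R.map π⁆ ⊔ (nres^[n] (G ⊓ C(R))).map π)) :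
    nres^[n + 1] G ≤ π.ker := by
  have := h.comm_normal
  rw [← map_commutator, ← Subgroup.map_sup] at hn
  rw [← Subgroup.map_eq_bot_iff, Function.iterate_succ_apply', map_nres, nres_eq_bot]
  exact nil_mono hn (map_mono (nresn_le_sup h.sup_cent.ge))

end group

/-- the statement proved by induction -/
def SS (n : ℕ) : Prop := ∀ (X : Type u) [Group X] [Finite X] (F : Type) [Field F] [IsAlgClosed F]
  (U : Type u) [AddCommGroup U] [Module F U] [FiniteDimensional F U] (ρ : X →* End F U)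
  (G R : Subgroup X) (p : ℕ) (Y : Submodule F U), Md ρ G R p → Adm ρ G R Y → ¬ fix ρ R ≤ Y →
  (∀ x ∈ nres^[n] (G ⊓ C(R)), ∃ k, x ^ p ^ k ∈ Kr ρ G R Y) → nres^[n + 2] G = ⊥

variable {X : Type u} [Group X] [Finite X] {G M P Q R T V : Subgroup X} {n q u : ℕ}

theorem step (IH : ∀ m, n = m + 1 → SS.{u} m) (hc : Cop G R) (hq : q.Prime) (hV : Abelem q V)
    [V.Normal] (hVG : V ≤ G) (h0 : V ≠ ⊥) (hm : ∀ D : Subgroup X, D.Normal → D ≤ V → D = ⊥ ∨ D = V)
    (adm : ∀ y ∈ nres^[n] (G ⊓ C(R)) ⊓ V, y ≠ 1 → ∃ H, y ∉ H ∧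
      ∀ g, cj g ⁅V, R⁆ ≤ H ∨ cj g (nres^[n] (G ⊓ C(R)) ⊓ V) ≤ H)
    (hand : ⁅V, R⁆ = ⊥ ∨ V ⊓ C(R) = ⊥ → ∃ (u : ℕ) (K : Subgroup X), u.Prime ∧ K ⊴ G ⊓ C(R) ∧
      ¬ V ≤ ⁅V, K⁆ ∧ ∀ x ∈ nres^[n] (G ⊓ C(R)), ∃ k, x ^ u ^ k ∈ K) :
    nres^[n + 1] G ≤ C(V) := by
  obtain ⟨X', _, _, π, F, _, _, U, _, _, _, σ, hπ, h1, h2, h3, h4, h5⟩ := exists_bc hq hV h0 hm
  have hL := nresn_normal n (G ⊓ C(R))
  have pV := H19.abelem_pg hq hV
  have cV := hc.cop' hVG
  by_cases hR : R ≤ C(V)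
  · obtain ⟨u, K, a1, a2, a3, a4⟩ := hand (Or.inl (commg_eq_bot.2 (cents_symm hR)))
    refine h1 ▸ hc.endg ?_
    rw [(Subgroup.map_eq_bot_iff R).2 (h1 ▸ hR), commutator_bot_right, bot_sup_eq]
    exact (pg_map a1 a4 (h1 ▸ cents_symm (commg_eq_bot.1 ((hm _ (hc.normal_of_le hR (commg_le_left nn)
      (norms_comm nn a2.norm)) (commg_le_left nn)).resolve_right fun e => a3 e.ge)))).nil
  have hc' := hc.map hπ (h1 ▸ hR)
  have b1 : ∀ D : Subgroup X', D.Normal → D ≠ ⊥ → V ≤ ⁅V, D.comap π⁆ := fun D _ d2 =>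
    ((hm _ inferInstance (commg_le_left nn)).resolve_left fun e => d2 (by
      rw [← map_comap_eq_self_of_surjective hπ D, Subgroup.map_eq_bot_iff, h1]
      exact cents_symm (commg_eq_bot.1 e))).ge
  have b2 : ∀ K, ⁅V, K ⊔ π.ker⁆ ≤ ⁅V, K⁆ := fun K => (le_CQ.1 (sup_le (le_CQ.2 ⟨nn, le_rfl⟩)
    (le_CQ.2 ⟨nn, by rw [h1, commg_eq_bot.2 (cents_symm le_rfl)]; exact bot_le⟩))).2
  have hM : Md σ (G.map π) (R.map π) q := ⟨hc', h2, h3, hq, h4, by
    by_contra e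
    obtain ⟨S, hS⟩ := exists_syl q ((Oc {q} (G.map π)).comap π)
    have := hS.sup_eq (ker_le_comap π _) (by
      rw [relIndex_ker, map_comap_eq_self_of_surjective hπ]; exact Oc_pi _ _)
    exact (pV.commg_lt hS.pi nn h0).not_ge ((b1 _ (normal_of_top (norms_Oc _ hc'.norm)) e).trans
      (by rw [← this, sup_comm]; exact b2 S)), h4 _ fun e => hq.one_lt.ne'
      (Nat.eq_one_of_dvd_coprimes cV (pV.dvd_of_ne_bot h0) (e.trans (card_map_dvd _ _)))⟩
  have b3 : ∀ {v w : U}, (∀ c, Eqv (σ.comp π) V c → c (v - w) = 1) → v = w := fun e =>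
    sub_eq_zero.1 ((Submodule.mem_bot F).1 (h5.le e))
  have b4 : ∀ v ∈ fix σ (R.map π), ∀ c, Eqv (σ.comp π) V c → c v ∈ V ⊓ C(R) := fun v hv c e =>
    ⟨e.mem v, fun r hr => by
      have := e.eqv r v
      rw [MonoidHom.comp_apply, hv _ (mem_map_of_mem π hr)] at this
      exact (eq_mul_inv_iff_mul_eq.1 this).symm⟩
  have b5 : ∀ {v : U}, v ≠ 0 → ∃ c, Eqv (σ.comp π) V c ∧ c v ≠ 1 := fun hv => by
    by_contra e
    push Not at e
    exact hv ((Submodule.mem_bot F).1 (h5.le e))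
  have hY : Adm σ (G.map π) (R.map π) (pre (σ.comp π) V (nres^[n] (G ⊓ C(R)))) := by
    refine ⟨?_, ?_, fun v hv v0 => ?_⟩
    · rintro v hv _ ⟨r, hr, rfl⟩
      exact b3 fun c e => (e.comm r v).trans (commutatorElement_eq_one_iff_mul_comm.2
        ((hL.le (hv c e)).2 r hr))
    · rw [hc.map_cent]
      rintro _ ⟨g, hg, rfl⟩ v hv c e
      exact (e.eqv g v).symm ▸ hL.conj_mem hg (hv c e)
    obtain ⟨c, e, e1⟩ := b5 v0
    obtain ⟨H, e2, e3⟩ := adm _ ⟨hv c e, e.mem v⟩ e1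
    refine ⟨pre (σ.comp π) V H, fun e' => e2 (e' c e), ?_⟩
    rintro _ ⟨g, -, rfl⟩
    refine (e3 g).imp (fun e4 => ?_) fun e4 w hw c e => ?_
    · rw [map_cj]
      rintro _ ⟨r, hr, rfl⟩ w c e
      rw [cj_comm, cj_of_mem_norm (nn (mem_top g)), commutator_comm] at e4
      exact (e.comm r w).symm ▸ e4 (commutator_mem_commutator hr (e.mem w))
    · exact (e.eqv g w).symm ▸ e4 (conj_mem_cj.2 ⟨hw c e, e.mem w⟩)
  by_cases hd : fix σ (R.map π) ≤ pre (σ.comp π) V (nres^[n] (G ⊓ C(R)))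
  · have d1 := hM.degen hY hd
    obtain ⟨u, K, a1, a2, a3, a4⟩ := hand (Or.inr (H19.eq_bot_mono (inf_le_inf_right _ fun v hv => by
      obtain ⟨w, -, hw⟩ := (Submodule.ne_bot_iff _).1 h3.ne
      obtain ⟨c, e, e1⟩ := b5 hw
      obtain ⟨w, rfl⟩ := e.surj hm e1 v hv
      have := avg_sub_mem (ρ := σ) (H := pre (σ.comp π) V ⁅V, R⁆) (u := w) hM.castR (by
        rintro _ ⟨r, hr, rfl⟩ c e
        rw [commutator_comm]
        exact (e.comm r w).symm ▸ commutator_mem_commutator hr (e.mem w))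
      rw [(Submodule.mem_bot F).1 (d1.le (avg_mem_fix w)), zero_sub, neg_mem_iff] at this
      exact this c e) (ab_commg_inf_cent hV.1 nn cV)))
    have d2 := hM.nil_comm d1
    have d3 := hM.castN ⟨commg_le_left hc'.norm, commg_norml _ _⟩ d2
    refine h1 ▸ hc.endg (f0 hc' h2 d1 hM.castR d3 d2 (pg_map a1 a4 ((Subgroup.map_eq_bot_iff _).1
      (by_contra fun e => ?_))) (hc.map_cent π ▸ map_normalIn hL π))
    obtain ⟨D, e1, e2, e3⟩ := fin hc' h2 d1 hM.castR d3 d2 (hc.map_cent π ▸ map_normalIn a2 π) e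
    exact a3 ((b1 D e3 e2).trans ((commutator_mono le_rfl ((comap_mono e1).trans
      (comap_map_eq _ _).le)).trans (b2 K)))
  rcases n with _ | m
  · exact absurd (fun v hv c e => inf_le_inf_right _ hVG (b4 v hv c e)) hd
  rw [← h1, ← Subgroup.map_eq_bot_iff, map_nresn]
  refine IH m rfl X' F U σ _ _ q _ hM hY hd ?_
  rw [hc.map_cent, ← map_nresn]
  rintro _ ⟨x, hx, rfl⟩
  obtain ⟨k, r, e1, e2⟩ := Nat.exists_eq_pow_mul_and_not_dvd (orderOf_pos x).ne' q hq.ne_one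
  have hN := nresn_normal m (G ⊓ C(R))
  have e3 := zpowers_le.2 (pow_mem hx (q ^ k))
  have e4 : zpowers (x ^ q ^ k) ≤ N(V ⊓ C(R)) :=
    norms_inf nn (norms_cent (norms_of_cents (e3.trans (hN.le.trans inf_le_right))))
  refine ⟨k, map_pow π x _ ▸ ⟨hc.map_cent π ▸ mem_map_of_mem π (hN.le (pow_mem hx _)),
    fun v hv c e => ?_⟩⟩
  rw [show σ (π (x ^ q ^ k)) = σ.comp π (x ^ q ^ k) from rfl, e.comm, Function.iterate_succ_apply']
  refine le_nres ((commutator_mono le_rfl e3).trans (hN.commg_le' (inf_le_inf_right _ hVG))) e3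
    (commg_commg e4 ((pV.infl _).coprime (PiN.of_not_dvd fun e => e1 (e.trans ?_)))).ge
    ((commutator_comm _ _).le (commutator_mem_commutator (mem_zpowers _) (b4 v hv c e)))
  rw [Nat.card_zpowers]
  exact orderOf_dvd_of_pow_eq_one (by rw [← pow_mul, ← e2, pow_orderOf_eq_one])

theorem Tw.false (IH : ∀ m, n = m + 1 → SS.{u} m) (hc : Cop G R) (h : Tw G R M Q P T q u)
    (hM : M ≤ nres^[n + 1] G)
    (fam : ∀ y ∈ nres^[n] (G ⊓ C(R)) ⊓ P, y ∉ P ⊓ C(M) → ∃ H, P ⊓ C(M) ≤ H ∧ y ∉ H ∧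
      ∀ g, cj g ⁅P, R⁆ ≤ H ∨ cj g (nres^[n] (G ⊓ C(R)) ⊓ P) ≤ H)
    (hand : ⁅P, R⁆ ≤ P ⊓ C(M) ∨ P ⊓ C(R) ≤ P ⊓ C(M) → ∃ (u : ℕ) (K : Subgroup X), u.Prime ∧
      K ⊴ G ⊓ C(R) ∧ ¬ P ≤ ⁅P, K⁆ ⊔ P ⊓ C(M) ∧ ∀ x ∈ nres^[n] (G ⊓ C(R)), ∃ k, x ^ u ^ k ∈ K) :
    False := by
  have := h.nP
  have := h.nJ
  have hπ := QuotientGroup.mk'_surjective (P ⊓ C(M))
  have hk := QuotientGroup.ker_mk' (P ⊓ C(M))
  generalize QuotientGroup.mk' (P ⊓ C(M)) = π at hπ hk
  have := h.nP.map π hπ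
  have a1 := (abelem_quo_iff nn).1 (h.abelem le_rfl nn)
  have a2 : ∀ A : Subgroup X, A.map π = ⊥ ↔ A ≤ P ⊓ C(M) := fun A => by
    rw [Subgroup.map_eq_bot_iff, hk]
  have a3 : ∀ A : Subgroup X, A.map π ⊓ P.map π ≤ (A ⊓ P).map π := by
    rintro A _ ⟨⟨x, hx, rfl⟩, e⟩
    exact mem_map_of_mem π ⟨hx, ((comap_map_eq π P).le.trans (sup_le le_rfl
      (hk.le.trans inf_le_left))) e⟩
  have a4 := step (G := G.map π) (R := R.map π) (V := P.map π) IH (hc.map hπ fun e =>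
    ne_bot_of_prime hc.prime (H19.eq_bot_mono (le_inf (e.trans (hk.le.trans (inf_le_left.trans h.PG)))
      le_rfl) (inf_eq_bot_of_cop hc.cop))) h.prime ⟨comm_iff_der.2 (by
        rw [← map_commutator, a2]; exact a1.1), by
        rintro _ ⟨x, hx, rfl⟩
        rw [← map_pow]
        exact hk.ge (a1.2 x hx)⟩ (map_mono h.PG) (fun e => h.not_le ((a2 _).1 e))
    (fun D d1 d2 => or_iff_not_imp_right.2 fun d3 => by
      rw [← map_comap_eq_self_of_surjective hπ D] at d3 ⊢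
      exact (a2 _).2 (h.le_J inferInstance (((comap_mono d2).trans ((comap_map_eq π P).le.trans
        (sup_le le_rfl (hk.le.trans inf_le_left)))).lt_of_ne fun e => d3 (by rw [e])))) ?_ ?_
  · rw [← map_nresn] at a4
    refine h.not_le (h.comm.ge.trans ((a2 _).1 ?_))
    rw [map_commutator, commg_eq_bot]
    exact cents_symm ((map_mono hM).trans a4)
  · rw [hc.map_cent, ← map_nresn]
    intro z hz y1
    obtain ⟨y, hy, rfl⟩ := a3 _ hz
    obtain ⟨H, b1, b2, b3⟩ := fam y hy fun e => y1 (hk.ge e)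
    refine ⟨H.map π, fun e => b2 (((comap_map_eq π H).le.trans (sup_le le_rfl (hk.le.trans b1))) e),
      fun g => ?_⟩
    obtain ⟨g, rfl⟩ := hπ g
    refine (b3 g).imp (fun e => ?_) fun e => (cj_mono _ (a3 _)).trans ?_
    · rw [← map_commutator, map_cj]
      exact map_mono e
    · rw [map_cj]
      exact map_mono e
  · rw [hc.map_cent, ← map_nresn, ← map_commutator, a2]
    intro e
    obtain ⟨u, K, b1, b2, b3, b4⟩ := hand (e.imp_right fun e =>
      (a2 _).1 (H19.eq_bot_mono (map_cent_le π) e))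
    refine ⟨u, K.map π, b1, map_normalIn b2 π, fun e => b3 ?_, ?_⟩
    · rwa [← map_commutator, Subgroup.map_le_map_iff, hk] at e
    · rintro _ ⟨x, hx, rfl⟩
      exact (b4 x hx).imp fun k hk => map_pow π x _ ▸ mem_map_of_mem π hk

theorem Cop.exists_tw' (hc : Cop G R) (h : nres^[n + 2] G ≠ ⊥) :
    ∃ M Q P T q u, M ≤ nres^[n + 1] G ∧ Tw G R M Q P T q u :=
  hc.exists_tw (by
    have := hc.normal
    induction n + 1 with
    | zero => exact hc.normal
    | succ n ih =>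
      rw [Function.iterate_succ_apply']
      obtain ⟨k, hk⟩ := exists_nres (nres^[n] G)
      rw [← hk k le_rfl]
      infer_instance) (nresn_le _ G)
    (by rwa [Function.iterate_succ_apply', Ne, nres_eq_bot] at h)

theorem ss (n : ℕ) : SS.{u} n := by
  induction n using Nat.strong_induction_on with
  | _ n ih =>
  intro X _ _ F _ _ U _ _ _ ρ G R p Y hm hY hd hL
  by_contra e
  obtain ⟨M, Q, P, T, q, u, h1, h⟩ := hm.exists_tw' e
  exact h.false (fun m e => ih m (by omega)) hm.toCop h1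
    (fun y hy => h.fam hm hY (h.LK hm hL) inf_le_right hy.2)
    (h.hand hm hY hd (nresn_normal n _) hL)

/-- Turull's theorem for an automorphism of prime order -/
theorem Cop.turull (hc : Cop G R) (h0 : nres^[n] (G ⊓ C(R)) = ⊥) : nres^[n + 2] G = ⊥ := by
  by_contra e
  obtain ⟨M, Q, P, T, q, u, h1, h⟩ := hc.exists_tw' e
  refine h.false (fun m _ => ss m) hc h1 (fun y hy hy' => ?_) fun _ => ⟨q, ⊥, h.prime,
    NormalIn.bot _, by simpa using h.not_le, fun x hx => ⟨0, by simpa [h0] using hx⟩⟩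
  rw [h0, bot_inf_eq, mem_bot] at hy
  exact absurd (hy ▸ one_mem _) hy'

theorem turull {G : Type u} [Group G] [Finite G] (hG : Group.IsSolvable G) (σ : MulAut G)
    (hr : (orderOf σ).Prime) (hcop : ¬ orderOf σ ∣ Nat.card G) (C : Subgroup G)
    (hC : ∀ g : G, g ∈ C ↔ σ g = g) (hn : nres^[n] (⊤ : Subgroup C) = ⊥) :
    nres^[n + 2] (⊤ : Subgroup G) = ⊥ := by
  let φ := (zpowers σ).subtype
  have : Finite (G ⋊[φ] zpowers σ) := Finite.of_equiv _ SemidirectProduct.equivProd.symm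
  have hi := SemidirectProduct.inl_injective (φ := φ)
  have h1 : #(SemidirectProduct.inr (φ := φ)).range = orderOf σ := by
    rw [← Nat.card_zpowers]
    exact (Nat.card_congr (MonoidHom.ofInjective SemidirectProduct.inr_injective).toEquiv).symm
  have h2 := Cop.turull (n := n) (G := (SemidirectProduct.inl (φ := φ)).range)
    (R := (SemidirectProduct.inr (φ := φ)).range) ⟨by
      rw [SemidirectProduct.range_inl_eq_ker_rightHom]; infer_instance, eq_top_iff.2 fun x _ => by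
      rw [← SemidirectProduct.inl_left_mul_inr_right x]
      exact mul_mem_sup ⟨_, rfl⟩ ⟨_, rfl⟩, by
      rw [h1, ← Nat.card_congr (MonoidHom.ofInjective hi).toEquiv]
      exact ((Nat.Prime.coprime_iff_not_dvd hr).2 hcop).symm,
    Group.isSolvable_of_surjective (MonoidHom.rangeRestrict_surjective _), h1 ▸ hr⟩
    (H19.eq_bot_mono (nresn_mono n (K := (⊤ : Subgroup C).map (SemidirectProduct.inl.comp C.subtype)) (by
      rintro _ ⟨⟨g, rfl⟩, hg⟩
      refine ⟨⟨g, (hC g).2 (hi ?_)⟩, trivial, rfl⟩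
      exact (SemidirectProduct.inl_aut (φ := φ) ⟨σ, mem_zpowers σ⟩ g).trans (by
        rw [hg _ ⟨_, rfl⟩, map_inv, mul_inv_cancel_right])))
      (by rw [← map_nresn, hn, Subgroup.map_bot]))
  rwa [MonoidHom.range_eq_map, ← map_nresn, map_eq_bot_iff_of_injective _ hi] at h2

end H6.Tu
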