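import Cfsg.Agent.H6.UE1
import Cfsg.Agent.H20.US2

/-! S5855 part 4: group theory of the overgroup (chunk GR). -/

set_option autoImplicit false
set_option linter.unusedSectionVars false

namespace H6.UE
open Module Matrix Cfsg.Geo H27.Asch H20.WL

export H20.US (Θ Θ_mulVec Θ_sc)

universe u

variable {F K : Type u} [Field F] [Fintype F] [Field K] [Fintype K] [Algebra F K] {q : ℕ} {J : Subgroup (K ≃ₗ[F] K)}

section fd
variable (fd : Fd F K q)
include fd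

theorem q2 : 2 ≤ q := H11.two_le_of_card_sq fd.hF
theorem cK : Fintype.card K = (q ^ 2) ^ 11 := by rw [H13.SG.card_K (F := F), fd.hF, fd.hK]
theorem pw (x : K) : x ^ (q ^ 2) ^ 11 = x := by rw [← cK fd, FiniteField.pow_card]
theorem memF {x : K} : x ^ q ^ 2 = x ↔ ∃ s : F, algebraMap F K s = x :=
  ⟨fun h => H13.SG.mem_one.1 (H13.SG.mem_one_of (fd.hF ▸ h)), fun ⟨s, h⟩ => h ▸ fd.hF ▸ H13.SG.alg_pow_q s⟩

theorem gen (S : Subalgebra F K) {d : K} (h : d ∈ S) (k : d ^ q ^ 2 ≠ d) (x : K) : x ∈ S := by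
  have := Subalgebra.isSimpleOrder_of_finrank_prime F K (fd.hK ▸ by norm_num)
  rcases eq_bot_or_eq_top S with e | e
  · exact absurd ((memF fd).2 (Algebra.mem_bot.1 (e ▸ h))) k
  · exact e ▸ Algebra.mem_top

theorem mu_of_comm {j : K →ₗ[F] K} {d : K} (k : d ^ q ^ 2 ≠ d) (h : ∀ x, j (d * x) = d * j x) (x : K) :
    j x = j 1 * x := by
  let S : Subalgebra F K :=
    { carrier := {e | ∀ x, j (e * x) = e * j x}
      mul_mem' := fun {a b} ha hb x => by rw [mul_assoc, ha, hb, mul_assoc]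
      add_mem' := fun {a b} ha hb x => by rw [add_mul, map_add, ha, hb, add_mul]
      algebraMap_mem' := fun s x => by rw [← Algebra.smul_def, ← Algebra.smul_def, map_smul] }
  simpa [mul_comm] using gen fd S h k x 1

theorem mon_of (j : K ≃ₗ[F] K) (d d' : K) (k : d ^ q ^ 2 ≠ d) (h : ∀ x, j (d * x) = d' * j x) : Mon F q j := by
  let S : Subalgebra F K :=
    { carrier := {e | ∃ e', ∀ x, j (e * x) = e' * j x}
      mul_mem' := fun {a b} ⟨a', ha⟩ ⟨b', hb⟩ => ⟨a' * b', fun x => by rw [mul_assoc, ha, hb, mul_assoc]⟩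
      add_mem' := fun {a b} ⟨a', ha⟩ ⟨b', hb⟩ => ⟨a' + b', fun x => by rw [add_mul, map_add, ha, hb, add_mul]⟩
      algebraMap_mem' := fun s => ⟨algebraMap F K s, fun x => by rw [← Algebra.smul_def, ← Algebra.smul_def, map_smul]⟩ }
  have j0 : j 1 ≠ 0 := by simp
  have k1 : ∀ e x, j (e * x) = j e / j 1 * j x := fun e x => by
    obtain ⟨e', he⟩ := gen fd S ⟨d', h⟩ k e
    rw [he, ← mul_one e, he, mul_div_cancel_right₀ _ j0]
  let σ : K →ₐ[F] K := AlgHom.ofLinearMap ((LinearMap.mulLeft F (j 1)⁻¹).comp j.toLinearMap) (by simp [j0])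
    fun a b => by simp [k1 a b]; ring
  obtain ⟨i, hi⟩ := (FiniteField.bijective_frobeniusAlgHom_pow F K).2 σ
  refine ⟨j 1, i, fun x => ?_⟩
  have := DFunLike.congr_fun hi x
  simp only [AlgHom.coe_pow, FiniteField.coe_frobeniusAlgHom, pow_iterate, fd.hF] at this
  rw [this]; simp [σ, j0]

theorem dvK : q ^ 11 + 1 ∣ Fintype.card K - 1 := by
  rw [cK fd, ← pow_mul, mul_comm, pow_mul]
  simpa using Nat.sq_sub_sq (q ^ 11) 1 ▸ dvd_mul_right _ _

theorem mm_dvd : mm q ∣ Fintype.card K - 1 := (Dvd.intro _ (ar q (q2 fd)).1).trans (dvK fd)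

theorem cc_dvd : cc q ∣ mm q := Dvd.intro _ (ar q (q2 fd)).2.1

theorem notF {c : Kˣ} (h : c ^ cc q = 1) (c1 : c ≠ 1) : (c : K) ^ q ^ 2 ≠ c := fun e => c1 (by
  have q2 := q2 fd
  have h1 : c ^ ((q ^ 2) ^ 1 - 1) = 1 := by
    rw [← mul_left_inj c, ← pow_succ, Nat.sub_add_cancel (Nat.one_le_pow _ _ (by positivity)), pow_one, one_mul]
    exact Units.ext (by simpa using e)
  exact (pow_eq_one_iff_of_coprime ((ar q q2).2.2.2.2.2.2.2.1 1 one_pos (by norm_num))).1 ⟨h, h1⟩)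

theorem ex_r : ∃ (r : ℕ) (c : Kˣ), r.Prime ∧ 23 ≤ r ∧ orderOf c = r ∧ c ^ cc q = 1 ∧ (c : K) ^ q ^ 2 ≠ c := by
  obtain ⟨-, -, -, -, -, g, ⟨t, ht, t6⟩, -, h29⟩ := ar q (q2 fd)
  obtain ⟨r, hr, hd⟩ := Nat.exists_prime_and_dvd (show cc q ≠ 1 by omega)
  have := Fact.mk hr
  obtain ⟨c, hc⟩ := exists_prime_orderOf_dvd_card' (G := Kˣ) r (by
    rw [Nat.card_units, Nat.card_eq_fintype_card]; exact hd.trans ((cc_dvd fd).trans (mm_dvd fd)))
  have h1 : c ^ cc q = 1 := orderOf_dvd_iff_pow_eq_one.1 (hc ▸ hd)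
  exact ⟨r, c, hr, h29 r hr hd, hc, h1, notF fd h1 fun e => hr.ne_one (by rw [← hc, e, orderOf_one])⟩

theorem pow_mm {c : Kˣ} (h : c ^ cc q = 1) : c ^ mm q = 1 := by
  obtain ⟨k, hk⟩ := cc_dvd fd
  rw [hk, pow_mul, h, one_pow]

theorem inF {c : K} (h : c ^ (q + 1) = 1) : c ^ q ^ 2 = c := by
  obtain ⟨a, rfl⟩ : ∃ a, q = a + 1 := ⟨q - 1, by have := q2 fd; omega⟩
  rw [show (a + 1) ^ 2 = (a + 1 + 1) * a + 1 by ring, pow_succ, pow_mul, h, one_pow, one_mul]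

theorem irr_of {n : ℕ} (e : K ≃ₗ[F] (Fin n → F)) {G : Subgroup (GL (Fin n) F)} {c : Kˣ} (k : (c : K) ^ q ^ 2 ≠ c)
    (h : Θ e (ml F c) ∈ G) : H27.Asch.Irr G := fun W hW => by
  let S : Subalgebra F K :=
    { carrier := {d | ∀ x, e x ∈ W → e (d * x) ∈ W}
      mul_mem' := fun {a b} ha hb x hx => by rw [mul_assoc]; exact ha _ (hb _ hx)
      add_mem' := fun {a b} ha hb x hx => by rw [add_mul, map_add]; exact add_mem (ha _ hx) (hb _ hx)
      algebraMap_mem' := fun s x hx => by rw [← Algebra.smul_def, map_smul]; exact W.smul_mem _ hx }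
  refine or_iff_not_imp_left.2 fun n => eq_top_iff.2 fun v _ => ?_
  obtain ⟨w, hw, w0⟩ := (Submodule.ne_bot_iff _).1 n
  obtain ⟨x, rfl⟩ := e.surjective w
  obtain ⟨y, rfl⟩ := e.surjective v
  have := gen fd S (d := c) (fun x hx => by simpa [Θ_mulVec, ml_apply] using hW _ h _ hx) k (y / x) x hw
  rwa [div_mul_cancel₀ _ (by simpa using w0)] at this

variable (hy : Hy q J)
include hy

theorem fr_pow : ∃ φ ∈ J, ∀ (i : ℕ) x, (φ ^ i) x = x ^ (q ^ 2) ^ i := by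
  obtain ⟨f, hf, e⟩ := hy.fro
  refine ⟨f, hf, fun i => ?_⟩
  induction i with
  | zero => simp
  | succ i ih => intro x; rw [pow_succ', LinearEquiv.mul_apply, e, ih, ← pow_mul, ← pow_succ]

theorem grb : ∃ N : Subgroup (K ≃ₗ[F] K), (∀ g, g ∈ N ↔ g ∈ J ∧ Mon F q g) ∧ Nat.card N = 11 * mm q := by
  obtain ⟨-, c, -, -, -, -, k⟩ := ex_r fd
  have hN : ∀ g, g ∈ J ⊓ H12.semiStab F K K ↔ g ∈ J ∧ Mon F q g := fun g => and_congr_right fun _ =>
    ⟨fun h => let ⟨b, hb⟩ := h.1 c; mon_of fd g c b k hb, fun h => H13.SG.Mon.semi (by rwa [H13.SG.Mon, fd.hF])⟩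
  refine ⟨_, hN, ?_⟩
  obtain ⟨φ, hφ, e⟩ := fr_pow fd hy
  classical
  rw [← H11.card_pow_eq_one_units K (mm_dvd fd), ← Nat.card_fin 11, ← Nat.card_prod]
  refine (Nat.card_eq_of_bijective (fun x : Fin 11 × (powMonoidHom (mm q) : Kˣ →* Kˣ).ker =>
    (⟨ml F x.2.1 * φ ^ x.1.1, (hN _).2 ⟨mul_mem ((hy.tor _).2 x.2.2) (pow_mem hφ _),
      x.2.1, x.1, fun y => by rw [LinearEquiv.mul_apply, e, ml_apply]⟩⟩ : ↥(J ⊓ H12.semiStab F K K))) ⟨?_, ?_⟩).symm
  · rintro ⟨i, a⟩ ⟨j, b⟩ h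
    have h1 := fun x => DFunLike.congr_fun (congrArg Subtype.val h) x
    simp only [LinearEquiv.mul_apply, e, ml_apply] at h1
    have h2 : a = b := Subtype.ext (Units.ext (by simpa using h1 1))
    subst h2
    have h3 := (FiniteField.bijective_frobeniusAlgHom_pow F K).1 (a₁ := i.cast fd.hK.symm) (a₂ := j.cast fd.hK.symm)
      (AlgHom.ext fun x => by
        simp only [AlgHom.coe_pow, FiniteField.coe_frobeniusAlgHom, pow_iterate, fd.hF]
        exact mul_left_cancel₀ a.1.ne_zero (h1 x))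
    rw [Fin.cast_injective _ h3]
  · rintro ⟨g, hg⟩
    obtain ⟨h1, a, i, h2⟩ := (hN g).1 hg
    have a0 : a ≠ 0 := fun z => by simpa [z] using h2 1
    have h3 : ∀ x : K, x ^ (q ^ 2) ^ i = x ^ (q ^ 2) ^ (i % 11) := fun x => by
      conv_lhs => rw [← Nat.div_add_mod i 11, pow_add, pow_mul x]
      congr 1
      induction i / 11 with
      | zero => simp
      | succ n ih => rw [mul_add, pow_add, pow_mul x, ih, mul_one, pw fd]
    have h4 : g = ml F (Units.mk0 a a0) * φ ^ (i % 11) := LinearEquiv.ext fun x => by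
      rw [LinearEquiv.mul_apply, e, ml_apply, h2, h3]; rfl
    refine ⟨⟨⟨i % 11, Nat.mod_lt _ (by norm_num)⟩, Units.mk0 a a0, (hy.tor _).1 ?_⟩, Subtype.ext h4.symm⟩
    rw [h4] at h1
    exact (mul_mem_cancel_right (pow_mem hφ _)).1 h1

theorem grc (Y : Subgroup (K ≃ₗ[F] K)) (hn : ∀ g ∈ J, ∀ y ∈ Y, g * y * g⁻¹ ∈ Y)
    (h : ∀ c : Kˣ, ml F c ∈ Y → c ^ (q + 1) = 1) : ∀ y ∈ Y, ∃ c : F, ∀ x, y x = c • x := by
  obtain ⟨e, -⟩ := fd.md
  obtain ⟨r, c, hr, h29, hc, h1, k⟩ := ex_r fd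
  have cJ : ml F c ∈ J := (hy.tor c).2 (pow_mm fd h1)
  have := scalars_normal (ι := Fin 11) (F := F)
  have key := H4.WL.fpf (G := J.map (Θ e).toMonoidHom) (Y := Y.map (Θ e).toMonoidHom ⊔ scalars _ F) (τ := Θ e (ml F c)) hr
    ⟨by simp; omega, fun l m hl a b d => by
      obtain rfl : l = 11 := (Nat.prime_dvd_prime_iff_eq hl (by norm_num)).1 (by simpa using a)
      rw [Fintype.card_fin, Nat.pow_le_pow_iff_right (by norm_num)] at b
      by_contra n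
      obtain rfl : m = 1 := by omega
      have := (Nat.modEq_iff_dvd' (by norm_num)).1 d.symm
      replace this := hr.dvd_of_dvd_pow (n := 3) (this.trans (by norm_num : 11 ^ (2 * 1) - 1 ∣ 30 ^ 3))
      have h48 := Nat.le_of_dvd (by norm_num) this
      interval_cases r <;> first | omega | norm_num at hr⟩
    (by rw [← map_pow, ← map_pow, ← hc, pow_orderOf_eq_one, map_one, map_one]) ⟨_, cJ, rfl⟩
    (irr_of fd e k ⟨_, cJ, rfl⟩) (by
      rintro _ ⟨g, hg, rfl⟩ y hy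
      obtain ⟨_, ⟨y, hy', rfl⟩, z, hz, rfl⟩ := Subgroup.mem_sup_of_normal_right.1 hy
      rw [← mul_assoc, mul_assoc _ z, scalars_comm hz, ← mul_assoc, ← map_inv, ← map_mul, ← map_mul]
      exact Subgroup.mul_mem_sup ⟨_, hn g hg y hy', rfl⟩ hz) le_sup_right (fun y hy e' => by
      obtain ⟨_, ⟨y, hy', rfl⟩, z, hz, rfl⟩ := Subgroup.mem_sup_of_normal_right.1 hy
      refine mul_mem ?_ hz
      rw [mul_assoc, scalars_comm hz, ← mul_assoc, ← mul_assoc, mul_left_inj] at e'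
      have e2 : y * ml F c = ml F c * y := (Θ e).injective (by rw [map_mul, map_mul]; exact e')
      have e3 := mu_of_comm fd (j := y.toLinearMap) k fun x => DFunLike.congr_fun e2 x
      have y0 : y 1 ≠ 0 := by simp
      have e4 : y = ml F (Units.mk0 _ y0) := LinearEquiv.ext e3
      obtain ⟨s, hs⟩ := (memF fd).1 (inF fd (congrArg Units.val (h _ (e4 ▸ hy'))))
      have s0 : s ≠ 0 := fun z => y0 (by simpa [z] using hs.symm)
      exact ((Θ_sc e (c := Units.mk0 s s0)).2 fun x => by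
        rw [Algebra.smul_def]; exact (e3 x).trans (congrArg (· * x) hs.symm)) ▸ sc_mem _)
  intro y hy
  obtain ⟨d, hd⟩ := exists_sc (key (Subgroup.mem_sup_left ⟨y, hy, rfl⟩))
  exact ⟨d, (Θ_sc e).1 hd⟩
end fd

theorem gr : GR.{u} := fun _ _ _ _ _ _ _ _ _ fd hy => ⟨mon_of fd, grb fd hy, fun Y _ => grc fd hy Y⟩

end H6.UE
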