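import Cfsg.Agent.H6.UE8
import Cfsg.Agent.H20.US10

/-! S5855 part 4: the case `q = 2` (chunk Q2). Elements of the field with 2048 elements are handled all at once, one bit each. -/

set_option autoImplicit false
set_option linter.unusedSectionVars false

namespace H6.UQ
open H6.UE Module Finset Polynomial

universe u

/-- addition -/
def ad : List ℕ → List ℕ → List ℕ
  | [], M => M
  | a :: L, [] => a :: L
  | a :: L, b :: M => (a ^^^ b) :: ad L M
/-- multiplication by the generator -/
def mx : List ℕ → List ℕ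
  | [a0, a1, a2, a3, a4, a5, a6, a7, a8, a9, a10] => [a10, a0, a1, a2, a3, a4, a5, a6, a7, a8 ^^^ a10, a9]
  | L => 0 :: L
/-- multiplication -/
def mb : List ℕ → List ℕ → List ℕ
  | [], _ => []
  | c :: A, B => ad (B.map (c &&& ·)) (mx (mb A B))
/-- multiplication in the quadratic extension -/
def mw (x y : List ℕ × List ℕ) : List ℕ × List ℕ :=
  (ad (mb x.1 y.1) (mb x.2 y.2), ad (ad (mb x.1 y.2) (mb x.2 y.1)) (mb x.2 y.2))
/-- the norm -/
def nu : ℕ → List ℕ × List ℕ → List ℕ × List ℕ
  | 0, x => x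
  | n + 1, x => mw x (mw (mw (nu n x) (nu n x)) (mw (nu n x) (nu n x)))
/-- the trace -/
def tv : ℕ → List ℕ → List ℕ
  | 0, _ => []
  | n + 1, a => ad a (tv n (mb (mb a a) (mb a a)))
/-- the power `2 ^ (n + 1) - 1` -/
def pw : ℕ → List ℕ → List ℕ
  | 0, a => a
  | n + 1, a => mb a (pw n (mb a a))
/-- all bits -/
def OO : ℕ := 2 ^ 2048 - 1
/-- the coordinates -/
def xi (i : ℕ) : ℕ := OO / (2 ^ 2 ^ (i + 1) - 1) * ((2 ^ 2 ^ i - 1) * 2 ^ 2 ^ i)
/-- the identity -/
def XX : List ℕ := (List.range 11).map xi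
/-- constants -/
def cu (u : ℕ) : List ℕ := (List.range 11).map fun i => cond (u.testBit i) OO 0
/-- the first class -/
def m1 : ℕ := 0x4292421448552942a420261415a15110842286219219852589006462261449254a008112422a96a556094262a0515094244600a0448646296960a4101588509061589a554605a5a0052219954411a21a8416246996006121465aa1166642a545a28a858204480419929858a2522619608a240542055a9505868a9691120525946468099119a1092590a9182565208144510a14146405409861901a64a510260aa9aa581194a262a596584929551a65821096851a668611151094a051a006aa966a91699455085661295a4892115aa018a4a004920801524a0898495a41a246a52aa89568588040601914524a1520a048126516a4055540686845485086a52aa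
/-- the second class -/
def m2 : ℕ := 0x8161812884aa1681581019282a52a2204811491261264a1a460098911928861a850042218115695aa906819150a2a0681889005088498916969058202a44a06092a465aa890a5a500a11266a88225125482918966900921289a5522999815a8a51454a41088408266164a451a119269045180a810aa56a0a49456962210a1a68989406622652061a6056241a9a104288a2052828980a8064926025985a2019055655a4226851915a69a48616aa259a4120694a259949222a206850a25009556995629668aa04a99216a5846122a55024585008610402a185046486a58251895a15546a94a44080902628a1852a105084219a29580aaa8094948a84a0495a155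
/-- the class of an element -/
def cl (v : ℕ) : ℕ := cond (m1.testBit v) 1 (cond (m2.testBit v) 2 0)
/-- representatives -/
def rp (i : ℕ) : ℕ := if i = 0 then 10 else if i = 1 then 3 else 2
/-- the trace of `u v` -/
def tu (u : ℕ) : ℕ := (mb (cu u) XX).headD 0
/-- character sums over the classes -/
def AA (i u : ℕ) : ℤ := ∑ v ∈ Ico 2 2048, if cl v = i then cond ((tu u).testBit v) (-1) 1 else 0

theorem t0 : ∀ i < 11, ∀ v ∈ List.range 2048, (xi i).testBit v = v.testBit i := by decide +kernel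
theorem t1 : nu 10 (XX, [OO]) = ((OO ^^^ m1) :: List.replicate 10 0, (m1 ^^^ m2) :: List.replicate 10 0) := by decide +kernel
theorem t2 : ∀ u < 11, tv 11 (mb (cu u) XX) = tu u :: List.replicate 10 0 := by decide +kernel
theorem t3 : pw 10 XX = (OO ^^^ 1) :: List.replicate 10 0 := by decide +kernel
theorem t4 : ∀ v ∈ List.range 2048, cl v < 3 ∧ 2 ≤ rp (cl v) ∧ rp (cl v) < 2048 ∧ m1.testBit (rp (cl v)) = m1.testBit v ∧
    m2.testBit (rp (cl v)) = m2.testBit v := by decide +kernel
theorem t5 : (AA 0 2 = -30 ∧ AA 1 2 = 14 ∧ AA 2 2 = 14) ∧ (AA 0 6 = 42 ∧ AA 1 6 = -22 ∧ AA 2 6 = -22) ∧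
    (AA 0 10 = -22 ∧ AA 1 10 = 10 ∧ AA 2 10 = 10) := by decide +kernel
theorem t6 : (AA 0 1 = 0 ∧ AA 1 1 = 44 ∧ AA 2 1 = -44) ∧
    (AA 0 3 = 0 ∧ AA 1 3 = -8 ∧ AA 2 3 = 8) ∧ AA 0 7 = 0 ∧ AA 1 7 = -4 ∧ AA 2 7 = 4 := by decide +kernel
theorem t7 : ∀ u < 11, (tu u).testBit 0 = false ∧ (tu u).testBit 1 = u.testBit 0 := by decide +kernel

section
variable {R : Type*} [CommRing R] [CharP R 2] {θ ω : R} {v : ℕ}

/-- a bit -/
def bt (R : Type*) [CommRing R] (c v : ℕ) : R := if c.testBit v then 1 else 0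

/-- evaluation -/
def el (θ : R) (v : ℕ) : List ℕ → R
  | [] => 0
  | c :: L => bt R c v + θ * el θ v L

/-- the elements -/
def ev (θ : R) (a : ℕ) : R := ∑ i ∈ range 11, if a.testBit i then θ ^ i else 0

theorem bt_xor (a b : ℕ) : bt R (a ^^^ b) v = bt R a v + bt R b v := by
  rw [bt, bt, bt, Nat.testBit_xor]
  cases a.testBit v <;> cases b.testBit v <;> simp [CharTwo.add_self_eq_zero]

theorem bt_and (a b : ℕ) : bt R (a &&& b) v = bt R a v * bt R b v := by
  rw [bt, bt, bt, Nat.testBit_and]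
  cases a.testBit v <;> cases b.testBit v <;> simp

theorem bt_O (hv : v < 2048) : bt R OO v = 1 := by rw [bt, OO, Nat.testBit_two_pow_sub_one]; simp [hv]

theorem el_ad (L M : List ℕ) : el θ v (ad L M) = el θ v L + el θ v M := by
  fun_induction ad L M with
  | case1 => simp [el]
  | case2 => simp [el]
  | case3 a L b M ih => simp only [el, bt_xor, ih]; ring

theorem el_and (c : ℕ) (L : List ℕ) : el θ v (L.map (c &&& ·)) = bt R c v * el θ v L := by
  induction L with
  | nil => simp [el]
  | cons a L ih => simp only [List.map_cons, el, bt_and, ih]; ring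

theorem el_hd (c n : ℕ) : el θ v (c :: List.replicate n 0) = bt R c v := by
  have : el θ v (List.replicate n 0) = 0 := by
    induction n with
    | zero => rfl
    | succ n ih => simp [List.replicate_succ, el, ih, bt]
  simp [el, this]

theorem el_map (n : ℕ) (f : ℕ → ℕ) : el θ v ((List.range n).map f) = ∑ i ∈ range n, bt R (f i) v * θ ^ i := by
  induction n generalizing f with
  | zero => rfl
  | succ n ih =>
    rw [List.range_succ_eq_map, List.map_cons, List.map_map, el, ih, sum_range_succ', mul_sum, add_comm]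
    exact congrArg₂ _ (sum_congr rfl fun i _ => by simp only [Function.comp]; ring) (by simp)

theorem el_X (hv : v < 2048) : el θ v XX = ev θ v := by
  rw [XX, el_map]
  exact sum_congr rfl fun i hi => by rw [bt, t0 i (mem_range.1 hi) v (List.mem_range.2 hv)]; simp

theorem el_cu (hv : v < 2048) (u : ℕ) : el θ v (cu u) = ev θ u := by
  rw [cu, el_map]
  exact sum_congr rfl fun i _ => by cases u.testBit i <;> simp [bt_O hv, show bt R 0 v = 0 by simp [bt]]

theorem ev_xor (a b : ℕ) : ev θ (a ^^^ b) = ev θ a + ev θ b := by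
  rw [ev, ev, ev, ← sum_add_distrib]
  refine sum_congr rfl fun i _ => ?_
  rw [Nat.testBit_xor]
  cases a.testBit i <;> cases b.testBit i <;> simp [CharTwo.add_self_eq_zero]

theorem ev_zero : ev θ 0 = 0 := by simp [ev]
theorem ev_one : ev θ 1 = 1 := by simp [ev, Nat.testBit_one_eq_true_iff_self_eq_zero]
theorem ev_two : ev θ 2 = θ := by
  rw [ev, sum_eq_single 1 (fun i _ n => if_neg (by rw [show 2 = 2 ^ 1 from rfl, Nat.testBit_two_pow]; simpa using n.symm)) (by simp)]
  simp [show Nat.testBit 2 1 = true from rfl]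

variable (h : θ ^ 11 = θ ^ 9 + 1)
include h

theorem el_mx (L : List ℕ) : el θ v (mx L) = θ * el θ v L := by
  unfold mx
  split
  · rename_i a10
    simp only [el, bt_xor]
    linear_combination -bt R a10 v * h
  · simp [el, bt]

theorem el_mb (A B : List ℕ) : el θ v (mb A B) = el θ v A * el θ v B := by
  induction A with
  | nil => simp [mb, el]
  | cons c A ih => rw [mb, el_ad, el_and, el_mx h, ih, el]; ring

theorem el_tv (n : ℕ) (a : List ℕ) : el θ v (tv n a) = ∑ i ∈ range n, el θ v a ^ (2 ^ 2) ^ i := by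
  induction n generalizing a with
  | zero => simp [tv, el]
  | succ n ih =>
    rw [tv, el_ad, ih, sum_range_succ', add_comm, el_mb h, el_mb h]
    congr 1
    · exact sum_congr rfl fun i _ => by ring
    · simp

theorem el_mw (hω : ω ^ 2 = ω + 1) (x y : List ℕ × List ℕ) :
    el θ v (mw x y).1 + el θ v (mw x y).2 * ω = (el θ v x.1 + el θ v x.2 * ω) * (el θ v y.1 + el θ v y.2 * ω) := by
  simp only [mw, el_ad, el_mb h]
  linear_combination -el θ v x.2 * el θ v y.2 * hω

theorem el_nu (hω : ω ^ 2 = ω + 1) (n : ℕ) (x : List ℕ × List ℕ) :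
    el θ v (nu n x).1 + el θ v (nu n x).2 * ω = (el θ v x.1 + el θ v x.2 * ω) ^ ∑ i ∈ range (n + 1), 4 ^ i := by
  induction n with
  | zero => simp [nu]
  | succ n ih =>
    rw [nu, el_mw h hω, el_mw h hω, el_mw h hω, ih, sum_range_succ' _ (n + 1)]
    simp only [pow_succ 4, ← sum_mul]
    ring

theorem ev_pw (hv : v < 2048) (v0 : v ≠ 0) : ev θ v ^ 2047 = 1 := by
  have := congrArg (el θ v) t3
  simp only [pw, el_mb h, el_X hv, el_hd, bt_xor, bt_O hv] at this
  rw [show bt R 1 v = 0 by simp [bt, Nat.testBit_one_eq_true_iff_self_eq_zero, v0], add_zero] at this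
  rw [← this]; ring

theorem p2048 : θ ^ 2 ^ 11 = θ := by
  have := ev_pw h (v := 2) (by norm_num) two_ne_zero
  rw [ev_two] at this
  rw [show 2 ^ 11 = 2047 + 1 from rfl, pow_succ, this, one_mul]
end

theorem qq : Q2.{u} := fun F K _ _ _ _ _ ψ S fd hψ hS iv => by
  classical
  have f2 : (2 : F) = 0 := pow_eq_zero_iff two_ne_zero |>.1 (by exact_mod_cast fd.hF ▸ FiniteField.cast_card_eq_zero F)
  have : CharP F 2 := (CharP.charP_iff_prime_eq_zero Nat.prime_two).2 f2
  have := charP_of_injective_algebraMap (algebraMap F K).injective 2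
  obtain ⟨θ, h⟩ : ∃ θ : K, θ ^ 11 = θ ^ 9 + 1 := by
    have d : (X ^ 11 - (X ^ 9 + 1) : K[X]).degree = 11 := by compute_degree!
    have : Nontrivial (AdjoinRoot (X ^ 11 - (X ^ 9 + 1) : K[X])) := AdjoinRoot.nontrivial _ (by rw [d]; decide)
    have := charP_of_injective_algebraMap (algebraMap K (AdjoinRoot (X ^ 11 - (X ^ 9 + 1) : K[X]))).injective 2
    have e := p2048 (θ := AdjoinRoot.root (X ^ 11 - (X ^ 9 + 1) : K[X])) (by
      have := AdjoinRoot.mk_self (f := (X ^ 11 - (X ^ 9 + 1) : K[X]))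
      rwa [map_sub, map_add, map_pow, map_pow, map_one, AdjoinRoot.mk_X, sub_eq_zero] at this)
    obtain ⟨θ, h⟩ := ((show (X ^ Fintype.card K - X : K[X]).Splits by
      simpa using (FiniteField.isSplittingField_sub K K).splits).of_dvd (FiniteField.X_pow_card_sub_X_ne_zero K Fintype.one_lt_card)
      (AdjoinRoot.mk_eq_zero.1 (by
        rw [map_sub, map_pow, AdjoinRoot.mk_X, fd.cK', sq, pow_mul, e, e, sub_self]))).exists_eval_eq_zero (by rw [d]; decide)
    exact ⟨θ, by simpa [sub_eq_zero] using h⟩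
  obtain ⟨κ, hκ⟩ := fd.ex_k
  have hω : algebraMap F K κ ^ 2 = algebraMap F K κ + 1 := by
    rw [← map_pow, ← map_one (algebraMap F K), ← map_add]
    exact congrArg _ (mul_left_cancel₀ (sub_ne_zero.2 hκ) (by linear_combination fd.pF κ - (κ ^ 3 - κ) * f2))
  have inj : ∀ {a b}, a < 2048 → b < 2048 → ev θ a = ev θ b → a = b := fun {a b} ha hb e => by_contra fun n => by
    simpa [ev_xor, e, CharTwo.add_self_eq_zero] using ev_pw h (Nat.xor_lt_two_pow (n := 11) ha hb) (mt Nat.xor_eq_zero_iff.1 n)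
  have eE : ∀ a, fd.br (ev θ a) = ev θ a := fun a => by
    rw [ev, map_sum]; exact sum_congr rfl fun i _ => by rw [apply_ite fd.br, map_zero, map_pow, H11.frob_apply, p2048 h]
  have io : Set.InjOn (ev θ) (range 2048 : Finset ℕ) := fun a ha b hb => inj (by simpa using ha) (by simpa using hb)
  have hE : (range 2048).image (ev θ) = univ.filter fun γ => fd.br γ = γ := eq_of_subset_of_card_le (fun γ (hγ : γ ∈ image _ _) => by
    obtain ⟨a, -, rfl⟩ := mem_image.1 hγ
    simpa only [mem_filter, mem_univ, true_and] using eE a) (by rw [cE fd, card_image_of_injOn io, card_range]; norm_num)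
  have ek : ∀ {a}, 2 ≤ a → a < 2048 → Ek 2 (ev θ a) := fun {a} a2 ha => ⟨eE a, fun e => by
    rcases eq_zero_or_one_of_sq_eq_self e with e | e
    · exact absurd (inj ha (by norm_num) (e.trans ev_zero.symm)) (by omega)
    · exact absurd (inj ha (by norm_num) (e.trans ev_one.symm)) (by omega)⟩
  have sg : ∀ u < 11, ∀ v < 2048, ψ (Algebra.trace F K (ev θ v * ev θ u)) = cond ((tu u).testBit v) (-1) 1 := fun u hu v hv => by
    have e := fd.tr_eq (ev θ v * ev θ u)
    rw [mul_comm, ← el_X hv, ← el_cu hv, ← el_mb h, ← el_tv h, t2 u hu, el_hd, el_mb h, el_X hv, el_cu hv, mul_comm, bt] at e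
    cases z : (tu u).testBit v <;> rw [z] at e
    · rw [if_neg Bool.false_ne_true, map_eq_zero] at e; simp [e]
    · rw [if_pos rfl, ← map_one (algebraMap F K), (algebraMap F K).injective.eq_iff] at e
      rw [e, cond_true]
      exact (mul_self_eq_one_iff.1 (by rw [← ψ.map_add_eq_mul, one_add_one_eq_two, f2, ψ.map_zero_eq_one])).resolve_left hψ
  generalize hG : (fun γ => ∑ y ∈ S, ψ (Algebra.trace F K (γ * y))) = G at iv ⊢
  have nn : ∀ {a}, a < 2048 → (ev θ a + algebraMap F K κ) ^ NN 2 =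
      1 + bt K m1 a + (bt K m1 a + bt K m2 a) * algebraMap F K κ := fun {a} ha => by
    have := el_nu (v := a) h hω 10 (XX, [OO])
    rw [t1, el_hd, el_hd, bt_xor, bt_xor, bt_O ha, el_X ha, show el θ a [OO] = 1 from (el_hd OO 0).trans (bt_O ha), one_mul,
      show ∑ i ∈ range (10 + 1), 4 ^ i = NN 2 by decide +kernel] at this
    exact this.symm
  have gc : ∀ {a}, 2 ≤ a → a < 2048 → G (ev θ a) = G (ev θ (rp (cl a))) := fun {a} a2 ha => by
    obtain ⟨-, b, c, d, d'⟩ := t4 a (List.mem_range.2 ha)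
    refine iv κ _ _ hκ (ek a2 ha) (ek b c) (by rw [nn ha, nn c]; simp only [bt, d, d']) ?_
    rw [← pow_mul, show NN 2 * (2 + 1) = Fintype.card K - 1 by rw [fd.cK]; rfl]
    exact FiniteField.pow_card_sub_one_eq_one _ fun z => fd.Ek_F (ek a2 ha) (fd.mem_F.1 ⟨-κ, by
      rw [map_neg]; linear_combination -z⟩)
  have key : ∀ u < 11, (if ev θ u ∈ S then (2 : ℂ) ^ 11 else 0) = G (ev θ 0) + G (ev θ 1) * cond (u.testBit 0) (-1) 1 +
      (G (ev θ 10) * AA 0 u + G (ev θ 3) * AA 1 u + G (ev θ 2) * AA 2 u) := fun u hu => by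
    have e : ∑ γ with fd.br γ = γ, G γ * ψ (Algebra.trace F K (γ * ev θ u)) = if ev θ u ∈ S then (2 : ℂ) ^ 11 else 0 := by
      simp only [← hG, sum_mul, ← ψ.map_add_eq_mul, ← map_add, ← mul_add]
      rw [sum_comm, sum_congr rfl fun y hy => orth fd hψ (by rw [map_add, eE, show fd.br y = y from hS y hy])]
      simp [CharTwo.add_eq_zero]
    rw [← e, ← hE, sum_image io, range_eq_Ico, sum_eq_sum_Ico_succ_bot (by norm_num), sum_eq_sum_Ico_succ_bot (by norm_num),
      ← add_assoc, sg u hu 0 (by norm_num), sg u hu (0 + 1) (by norm_num), (t7 u hu).1, (t7 u hu).2]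
    simp only [AA, Int.cast_sum, mul_sum, ← sum_add_distrib, cond_false, mul_one]
    refine congrArg _ (sum_congr rfl fun v hv => ?_)
    obtain ⟨a, b⟩ := mem_Ico.1 hv
    have := (t4 v (List.mem_range.2 b)).1
    rw [sg u hu v b, gc a b]
    generalize cl v = i at *
    cases (tu u).testBit v <;> interval_cases i <;> simp [rp]
  obtain ⟨⟨a1, a2, a3⟩, ⟨b1, b2, b3⟩, c1, c2, c3⟩ := t5
  obtain ⟨⟨d1, d2, d3⟩, ⟨e1, e2, e3⟩, f1, f2, f3⟩ := t6
  have k1 : G (ev θ 3) - G (ev θ 2) = 0 := H20.US.tri (H := G (ev θ 0) - G (ev θ 1)) (a := 44) (b := -8) (c := -4)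
    ((key 1 (by norm_num)).trans (by rw [d1, d2, d3, show Nat.testBit 1 0 = true from rfl, cond_true]; push_cast; ring))
    ((key 3 (by norm_num)).trans (by rw [e1, e2, e3, show Nat.testBit 3 0 = true from rfl, cond_true]; push_cast; ring))
    ((key 7 (by norm_num)).trans (by rw [f1, f2, f3, show Nat.testBit 7 0 = true from rfl, cond_true]; push_cast; ring))
    (by norm_num) (by norm_num) (by norm_num)
  rw [sub_eq_zero] at k1
  have k2 : G (ev θ 10) - G (ev θ 2) = 0 := H20.US.tri (H := G (ev θ 0) + G (ev θ 1) - 2 * G (ev θ 2)) (a := -30) (b := 42) (c := -22)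
    ((key 2 (by norm_num)).trans (by rw [a1, a2, a3, k1, show Nat.testBit 2 0 = false from rfl, cond_false]; push_cast; ring))
    ((key 6 (by norm_num)).trans (by rw [b1, b2, b3, k1, show Nat.testBit 6 0 = false from rfl, cond_false]; push_cast; ring))
    ((key 10 (by norm_num)).trans (by rw [c1, c2, c3, k1, show Nat.testBit 10 0 = false from rfl, cond_false]; push_cast; ring))
    (by norm_num) (by norm_num) (by norm_num)
  have k3 : ∀ γ, Ek 2 γ → G γ = G (ev θ 2) := fun γ hγ => by
    obtain ⟨a, ha, rfl⟩ := mem_image.1 (hE.ge (mem_filter.2 ⟨mem_univ γ, hγ.1⟩))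
    have a2 : 2 ≤ a := by
      by_contra! z
      interval_cases a
      · exact hγ.2 (by simp [ev_zero])
      · exact hγ.2 (by simp [ev_one])
    have := (t4 a (List.mem_range.2 (mem_range.1 ha))).1
    rw [gc a2 (mem_range.1 ha)]
    generalize cl a = i at *
    interval_cases i
    exacts [sub_eq_zero.1 k2, k1, rfl]
  exact fun γ γ' a b => (k3 γ a).trans (k3 γ' b).symm

end H6.UQ
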