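import Cfsg.Agent.H6.UT1
import Cfsg.Agent.H12.OmegaMore
import Cfsg.Agent.H12.OmegaExt
import Cfsg.Agent.H12.ClassifyQuad

/-! The two six dimensional orthogonal spaces over the field with two elements, on the numbers below 64. -/

set_option autoImplicit false
set_option maxRecDepth 100000
set_option synthInstance.maxSize 2000

namespace H6.EX
open H16 H12 Module QuadraticMap
open H6.UT (allN anyN allN_iff anyN_iff bz bz_xor)

/-- the vectors; the bits are the coordinates `e₀ e₁ e₂ f₂ f₁ f₀` -/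
@[ext] structure V where
  v : ℕ
  lt : v < 64

def mk (n : ℕ) : V := ⟨Nat.mod n (nat_lit 64), Nat.mod_lt _ (by norm_num)⟩

theorem mk_v (x : V) : mk x.v = x := V.ext (Nat.mod_eq_of_lt x.lt)

instance : DecidableEq V := fun x y => decidable_of_iff (x.v = y.v) V.ext_iff.symm

noncomputable instance (priority := high) decAll (p : V → Prop) [DecidablePred p] : Decidable (∀ x, p x) :=
  decidable_of_iff (allN (fun k => decide (p (mk k))) (nat_lit 64) = true) (by
    rw [allN_iff]
    exact ⟨fun h x => by simpa [mk_v] using h x.v x.lt, fun h k _ => decide_eq_true (h _)⟩)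

noncomputable instance (priority := high) decEx (p : V → Prop) [DecidablePred p] : Decidable (∃ x, p x) :=
  decidable_of_iff (anyN (fun k => decide (p (mk k))) (nat_lit 64) = true) (by
    rw [anyN_iff]
    exact ⟨fun ⟨k, _, h⟩ => ⟨_, of_decide_eq_true h⟩, fun ⟨x, h⟩ => ⟨x.v, x.lt, by simpa [mk_v] using h⟩⟩)

theorem xlt {a b : ℕ} (ha : a < 64) (hb : b < 64) : Nat.xor a b < 64 := Nat.xor_lt_two_pow (n := 6) ha hb

instance : Add V := ⟨fun a b => ⟨Nat.xor a.v b.v, xlt a.lt b.lt⟩⟩
instance : Zero V := ⟨⟨nat_lit 0, by norm_num⟩⟩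
instance : Neg V := ⟨fun a => a⟩

instance : AddCommGroup V where
  add_assoc a b c := V.ext (Nat.xor_assoc _ _ _)
  zero_add a := V.ext (Nat.zero_xor _)
  add_zero a := V.ext (Nat.xor_zero _)
  nsmul := nsmulRec
  zsmul := zsmulRec
  neg_add_cancel a := V.ext (Nat.xor_self _)
  add_comm a b := V.ext (Nat.xor_comm _ _)

@[simp] theorem aa (a : V) : a + a = 0 := neg_add_cancel a
@[simp] theorem aab (a b : V) : a + (a + b) = b := neg_add_cancel_left a b
@[simp] theorem abb (a b : V) : a + b + b = a := add_neg_cancel_right a b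
@[simp] theorem neg_eq (a : V) : -a = a := rfl
theorem add0 {a b : V} : a + b = 0 ↔ a = b := add_neg_eq_zero (a := a) (b := b)

instance : Module (ZMod 2) V := AddCommGroup.zmodModule fun x => (two_nsmul x).trans (aa x)

instance : Finite V := Finite.of_injective (fun x : V => (⟨x.v, x.lt⟩ : Fin 64)) fun _ _ h =>
  V.ext (congrArg Fin.val h)

theorem card_V : Nat.card V = 64 := (Nat.card_congr
  ⟨fun x => (⟨x.v, x.lt⟩ : Fin 64), fun i => ⟨i.1, i.2⟩, fun _ => rfl, fun _ => rfl⟩).trans (Nat.card_fin _)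

theorem rk : finrank (ZMod 2) V = 6 := by
  have := Module.natCard_eq_pow_finrank (K := ZMod 2) (V := V)
  rw [card_V, Nat.card_zmod] at this
  exact Nat.pow_right_injective le_rfl this.symm

def bit (t i : ℕ) : Bool := Nat.beq (Nat.land (Nat.shiftRight t i) (nat_lit 1)) (nat_lit 1)

def tQ (e : Bool) : ℕ := bif e then nat_lit 0x96665aaa3cccf000 else nat_lit 0x9996555a333cfff0

def tB : ℕ := nat_lit 0x6996966996696996966969969669699696699669699669966996699669966996969669696969969669699696696996966969696996969696969696969696969699666699669999666699996666999966669966999966996699669966996699666666999999996666999966669999666699999999666666666666666666666666a55a5aa55aa5a55a5aa5a55a5aa5a55a5aa55aa5a55aa55aa55aa55aa55aa55a5a5aa5a5a5a55a5aa5a55a5aa5a55a5aa5a5a5a55a5a5a5a5a5a5a5a5a5a5a5a55aaaa55aa5555aaaa5555aaaa5555aaaa55aa5555aa55aa55aa55aa55aa55aaaaaa55555555aaaa5555aaaa5555aaaa55555555aaaaaaaaaaaaaaaaaaaaaaaac33c3cc33cc3c33c3cc3c33c3cc3c33c3cc33cc3c33cc33cc33cc33cc33cc33c3c3cc3c3c3c33c3cc3c33c3cc3c33c3cc3c3c3c33c3c3c3c3c3c3c3c3c3c3c3c33cccc33cc3333cccc3333cccc3333cccc33cc3333cc33cc33cc33cc33cc33cccccc33333333cccc3333cccc3333cccc33333333cccccccccccccccccccccccc0ff0f00ff00f0ff0f00f0ff0f00f0ff0f00ff00f0ff00ff00ff00ff00ff00ff0f0f00f0f0f0ff0f00f0ff0f00f0ff0f00f0f0f0ff0f0f0f0f0f0f0f0f0f0f0f0ff0000ff00ffff0000ffff0000ffff0000ff00ffff00ff00ff00ff00ff00ff000000ffffffff0000ffff0000ffff0000ffffffff000000000000000000000000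

def nbN (a b : ℕ) : Bool := bit tB (Nat.add (Nat.mul (nat_lit 64) a) b)

/-- the quadratic form, of plus type for `e = true` -/
def nq (e : Bool) (v : V) : Bool := bit (tQ e) v.v
/-- the polar form -/
def nb (u v : V) : Bool := nbN u.v v.v

def e0 : V := mk 1
def e1 : V := mk 2
def e2 : V := mk 4
def f2 : V := mk 8
def f1 : V := mk 16
def f0 : V := mk 32

theorem cd_lt {b : Bool} {x : ℕ} (h : x < 64) : cond b x 0 < 64 := by cases b; exacts [by simp, h]

noncomputable def suN (e : Bool) (p w v : ℕ) : ℕ := force p fun p => force w fun w => force v fun v =>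
  Nat.xor (Nat.xor v (cond (nbN w v) p (nat_lit 0)))
    (cond (nbN p v) (Nat.xor w (cond (bit (tQ e) w) p (nat_lit 0))) (nat_lit 0))

/-- the Siegel transformation -/
noncomputable def su (e : Bool) (p w v : V) : V := ⟨suN e p.v w.v v.v, by
  simp only [suN, force_eq]
  exact xlt (xlt v.lt (cd_lt p.lt)) (cd_lt (xlt w.lt (cd_lt p.lt)))⟩

/-- the reflection -/
noncomputable def rf (e : Bool) (d v : V) : V := ⟨force d.v fun d => force v.v fun v =>
    Nat.xor v (cond (bit (tQ e) d && nbN d v) d (nat_lit 0)), by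
  simp only [force_eq]
  exact xlt v.lt (cd_lt d.lt)⟩

/-- the linear map with given images of the basis -/
noncomputable def ap (a0 a1 a2 a3 a4 a5 v : V) : V := ⟨force v.v fun v =>
    Nat.xor (Nat.xor (Nat.xor (cond (bit v (nat_lit 0)) a0.v (nat_lit 0)) (cond (bit v (nat_lit 1)) a1.v (nat_lit 0)))
      (Nat.xor (cond (bit v (nat_lit 2)) a2.v (nat_lit 0)) (cond (bit v (nat_lit 3)) a3.v (nat_lit 0))))
      (Nat.xor (cond (bit v (nat_lit 4)) a4.v (nat_lit 0)) (cond (bit v (nat_lit 5)) a5.v (nat_lit 0))), by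
  simp only [force_eq]
  exact xlt (xlt (xlt (cd_lt a0.lt) (cd_lt a1.lt)) (xlt (cd_lt a2.lt) (cd_lt a3.lt)))
    (xlt (cd_lt a4.lt) (cd_lt a5.lt))⟩

theorem cd_v (b : Bool) (x : V) : (cond b x 0).v = cond b x.v 0 := by cases b <;> rfl

theorem su_eq (e : Bool) (p w v : V) :
    su e p w v = v + cond (nb w v) p 0 + cond (nb p v) (w + cond (nq e w) p 0) 0 := by
  ext; simp only [su, suN, force_eq]
  change _ = Nat.xor (Nat.xor _ (cond _ _ _ : V).v) (cond _ _ _ : V).v
  rw [cd_v, cd_v]
  change _ = Nat.xor _ (cond _ (Nat.xor _ (cond _ _ _ : V).v) _)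
  rw [cd_v]; rfl

theorem ap_eq (a0 a1 a2 a3 a4 a5 v : V) : ap a0 a1 a2 a3 a4 a5 v =
    cond (bit v.v 0) a0 0 + cond (bit v.v 1) a1 0 + (cond (bit v.v 2) a2 0 + cond (bit v.v 3) a3 0) +
      (cond (bit v.v 4) a4 0 + cond (bit v.v 5) a5 0) := by
  ext; simp only [ap, force_eq]
  change _ = Nat.xor (Nat.xor (Nat.xor (cond _ _ _ : V).v (cond _ _ _ : V).v)
    (Nat.xor (cond _ _ _ : V).v (cond _ _ _ : V).v)) (Nat.xor (cond _ _ _ : V).v (cond _ _ _ : V).v)
  simp only [cd_v]

theorem nq_add : ∀ e a b, nq e (a + b) = xor (xor (nq e a) (nq e b)) (nb a b) := by decide +kernel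
theorem nb_comm : ∀ a b, nb a b = nb b a := by decide +kernel
theorem nb_self : ∀ a, nb a a = false := by decide +kernel
theorem nq0 : ∀ e, nq e 0 = false := by decide +kernel
theorem nb0 : ∀ a, nb 0 a = false := by decide +kernel
theorem nb0' : ∀ a, nb a 0 = false := by decide +kernel
theorem ndg : ∀ a, (∀ b, nb a b = false) → a = 0 := by decide +kernel

theorem ap_id : ∀ v, ap e0 e1 e2 f2 f1 f0 v = v := by decide +kernel

theorem nb_add : ∀ a b c, nb (a + b) c = xor (nb a c) (nb b c) := by decide +kernel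

theorem nb_add' (a b c : V) : nb a (b + c) = xor (nb a b) (nb a c) := by
  rw [nb_comm, nb_add, nb_comm, nb_comm c]

theorem bz0 {b : Bool} : bz b = 0 ↔ b = false := by cases b <;> decide
theorem bz_inj {a b : Bool} (h : bz a = bz b) : a = b := by revert a b; decide
theorem bz_smul (b : Bool) (x : V) : bz b • x = cond b x 0 := by cases b; exacts [zero_smul _ x, one_smul _ x]

theorem pol (e : Bool) (a b : V) : polar (fun v => bz (nq e v)) a b = bz (nb a b) := by
  simp only [polar, nq_add]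
  generalize nq e a = x, nq e b = y, nb a b = w
  revert x y w; decide

theorem z2 (c : ZMod 2) : c = 0 ∨ c = 1 := by revert c; decide

/-- the form -/
noncomputable def q (e : Bool) : QuadraticForm (ZMod 2) V := QuadraticMap.ofPolar (fun v => bz (nq e v))
  (fun a x => by rcases z2 a with rfl | rfl <;> simp [nq0, bz])
  (fun x y w => by rw [pol, pol, pol, nb_add, bz_xor])
  (fun a x y => by rw [pol, pol]; rcases z2 a with rfl | rfl <;> simp [nb0, bz])

theorem q_eq (e : Bool) (v : V) : q e v = bz (nq e v) := rfl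
theorem B_eq (e : Bool) (a b : V) : polar (q e) a b = bz (nb a b) := pol e a b
theorem q0 {e : Bool} {v : V} : q e v = 0 ↔ nq e v = false := bz0
theorem B0 {e : Bool} {a b : V} : polar (q e) a b = 0 ↔ nb a b = false := by rw [B_eq, bz0]

theorem nd (e : Bool) : QNondeg (q e) := fun x h => ndg x fun b => B0.1 (h b)
theorem nx : NotExc (ZMod 2) V := .inr (by rw [rk]; decide)

/-- the orthogonal group -/
noncomputable abbrev O (e : Bool) := orth (q e)

variable {e : Bool} {g : O e} {p w : V}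

theorem nqO (g : O e) (v : V) : nq e (g • v) = nq e v := bz_inj (orth_Q g v)
theorem nbO (g : O e) (u v : V) : nb (g • u) (g • v) = nb u v :=
  bz_inj (((B_eq e _ _).symm.trans (orth_polar g u v)).trans (B_eq e _ _))
theorem nbO' (g : O e) (u v : V) : nb (g • u) v = nb u (g⁻¹ • v) := by rw [← nbO g u, smul_inv_smul]
theorem Oext {g h : O e} (k : ∀ v : V, g • v = h • v) : g = h := orth_ext k

/-- Siegel elements -/
noncomputable def ei (e : Bool) (p w : V) : O e := eich (q e) p w
/-- reflections -/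
noncomputable def re (e : Bool) (d : V) : O e := refl (q e) d

theorem ei_smul (h1 : nq e p = false) (h2 : nb p w = false) (v : V) : ei e p w • v = su e p w v := by
  refine (eich_apply (q0.2 h1) (B0.2 h2) v).trans ?_
  rw [su_eq, B_eq, B_eq, q_eq, mul_comm, mul_smul, bz_smul, bz_smul, bz_smul, bz_smul, sub_eq_add_neg,
    sub_eq_add_neg, neg_eq, neg_eq, add_assoc]
  cases nb p v <;> simp

theorem re_smul (d v : V) : re e d • v = rf e d v := by
  refine (refl_apply d v).trans ?_
  ext
  rw [B_eq, q_eq, sub_eq_add_neg, neg_eq, mul_smul, bz_smul]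
  simp only [rf, force_eq]
  change _ = Nat.xor v.v (cond (nq e d && nb d v) d.v 0)
  cases nq e d <;> cases nb d v <;> simp [bz]
  rfl

theorem ei_conj (g : O e) (h1 : nq e p = false) (h2 : nb p w = false) :
    g * ei e p w * g⁻¹ = ei e (g • p) (g • w) := eich_conj g (q0.2 h1) (B0.2 h2)

theorem ei_add {w' : V} (h1 : nq e p = false) (h2 : nb p w = false) (h3 : nb p w' = false) :
    ei e p (w + w') = ei e p w * ei e p w' := eich_add (q0.2 h1) (B0.2 h2) (B0.2 h3)

/-- the Dickson invariant -/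
noncomputable def χ (e : Bool) : O e →* ℤˣ := dickson (q e)

theorem χ_re {d : V} (h : nq e d = true) : χ e (re e d) = -1 :=
  dickson_refl (nd e) nx (by rw [Ne, q0, h]; decide)

theorem ker_χ : (χ e).ker = eichGroup (q e) := by
  rw [eichGroup_eq_commutator (nd e) nx (by rw [rk]; decide) ⟨e0, by decide, q0.2 (by revert e; decide)⟩,
    commutator_eq_ker_dickson (nd e) nx (by decide)]
  rfl

theorem χ_ei (h1 : nq e p = false) (h2 : nb p w = false) : χ e (ei e p w) = 1 :=
  (ker_χ.ge (eich_mem_eichGroup (q0.2 h1) (B0.2 h2)) :)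

theorem smul_ap (g : O e) (v : V) : g • v = ap (g • e0) (g • e1) (g • e2) (g • f2) (g • f1) (g • f0) v := by
  conv_lhs => rw [← ap_id v]
  have k : ∀ (b : Bool) (x : V), g • cond b x 0 = cond b (g • x) 0 := fun b x => by cases b <;> simp
  simp only [ap_eq, smul_add, k]

/-- the conditions on the image `b` of the basis vector `u` -/
def c1 (e : Bool) (S : V → V → Bool) (u b : V) : Bool := (nq e b == nq e u) && S u b
def c2 (T : Bool) (u b u' b' : V) : Bool := (nb b b' == nb u u') && (!T || nb b u' == nb u b')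

/-- a property of all isometries with given restrictions, `T` for involutions -/
def En (e : Bool) (S : V → V → Bool) (T : Bool) (P : (V → V) → Prop) : Prop :=
  ∀ a0, (c1 e S e0 a0) = true → ∀ a5, (c2 T f0 a5 e0 a0 && c1 e S f0 a5) = true →
  ∀ a1, (c2 T e1 a1 e0 a0 && (c2 T e1 a1 f0 a5 && c1 e S e1 a1)) = true →
  ∀ a4, (c2 T f1 a4 e0 a0 && (c2 T f1 a4 f0 a5 && (c2 T f1 a4 e1 a1 && c1 e S f1 a4))) = true →
  ∀ a2, (c2 T e2 a2 e0 a0 && (c2 T e2 a2 f0 a5 && (c2 T e2 a2 e1 a1 && (c2 T e2 a2 f1 a4 &&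
    c1 e S e2 a2)))) = true →
  ∀ a3, (c2 T f2 a3 e0 a0 && (c2 T f2 a3 f0 a5 && (c2 T f2 a3 e1 a1 && (c2 T f2 a3 f1 a4 &&
    (c2 T f2 a3 e2 a2 && c1 e S f2 a3))))) = true → P (ap a0 a1 a2 a3 a4 a5)

noncomputable instance (e : Bool) (S : V → V → Bool) (T : Bool) (P : (V → V) → Prop) [DecidablePred P] :
    Decidable (En e S T P) := by unfold En; infer_instance

theorem En.out {S : V → V → Bool} {T : Bool} {P : (V → V) → Prop} (h : En e S T P) (g : O e)
    (hS : ∀ v, S v (g • v) = true) (hT : T = true → g * g = 1) : P (g • ·) := by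
  have k1 : ∀ u, c1 e S u (g • u) = true := fun u => by simp [c1, nqO, hS]
  have k2 : ∀ u v, c2 T u (g • u) v (g • v) = true := fun u v => by
    cases T
    · simp [c2, nbO]
    · simp [c2, nbO, nbO' g u v, inv_eq_of_mul_eq_one_right (hT rfl)]
  rw [show (g • ·) = _ from funext (smul_ap g)]
  exact h _ (k1 _) _ (by simp [k1, k2]) _ (by simp [k1, k2]) _ (by simp [k1, k2]) _ (by simp [k1, k2]) _
    (by simp [k1, k2])

end H6.EX
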