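import Cfsg.Agent.H6.Y3

/-! Weakly closed involutions with large extraspecial subgroups, in any finite group. -/

set_option autoImplicit false
set_option linter.unusedSectionVars false
set_option linter.unusedVariables false

namespace H6.AS
open Cfsg Subgroup H12 H19 H0 Module QuadraticMap H6.DW
open scoped commutatorElement

universe u
variable {G : Type u} [Group G] [Finite G] {z t s g a b c d i j k p x y u : G} {D : G → Prop} {n : ℕ}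
  {X Y : G → Subgroup G} {A M : Subgroup G} {V : Type*} [AddCommGroup V] [Module (ZMod 2) V] {q : QuadraticForm (ZMod 2) V}
  {v w : V} {π : G → V}

structure Sw (D : G → Prop) (n : ℕ) : Prop where
  le : ∀ {s}, D s → LE (Qf s) s
  card : ∀ {s}, D s → #(Qf s) = 2 ^ (2 * n + 1)
  J : ∀ {s} (g : G), D s → D (g * s * g⁻¹)
  cj : ∀ {s t}, D s → D t → ∃ g, g * s * g⁻¹ = t
  n3 : 3 ≤ n
  wc : Wc D

namespace Sw
variable (S : Sw D n)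
include S

theorem es (hz : D z) : ES (Qf z) z := (S.le hz).es
theorem fam : Fam D Qf := ⟨eqQ, fun h => (S.es h).zQ, fun _ => le_rfl⟩
theorem perp (h : Fam D X) : Fam D fun s => Qf s ⊓ C(X s) :=
  ⟨eqQ.inf h.eqv.cent, fun k => ⟨(S.es k).zQ, fun x hx => (S.es k).cent x (h.le k hx)⟩, fun _ => inf_le_left⟩
theorem ea (hz : D z) (h : A ≤ Qf z) (k : ∀ x ∈ A, x * x = 1) : #A ≤ 2 ^ (n + 1) :=
  (S.es hz).card_le_of_not ((S.es hz).not_hasEA (S.card hz)) h (abelem2_iff.2 k)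
theorem ixQ (hz : D z) (hx : x ∈ Qf z) (h : M ≤ Qf z) : (C[x]).relIndex M ≤ 2 :=
  ix2' fun _ hs => (S.es hz).conj_cases (h hs) hx
theorem cc (hz : D z) (h : z ∈ A) (k : A ≤ Qf z) : #A * #(Qf z ⊓ C(A) :) = 2 ^ (n + 1) * 2 ^ (n + 1) := by
  rw [(S.es hz).card_cent h k, S.card hz]; ring
theorem small (hz : D z) (hx : x ∈ Qf z) (hy : y ∈ Qf z) : ∃ c ∈ Qf z, c ∈ C[x] ∧ c ∈ C[y] ∧ c * c ≠ 1 := by
  by_contra! k
  have h1 := (cle (M := Qf z) (K := C[x] ⊓ C[y]) le_rfl).trans (Nat.mul_le_mul (S.ea hz inf_le_left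
    fun c hc => k c hc.1 hc.2.1 hc.2.2) (relIndex_inf_le.trans (Nat.mul_le_mul (S.ixQ hz hx le_rfl) (S.ixQ hz hy le_rfl))))
  rw [S.card hz, show 2 * 2 = 2 ^ 2 from rfl, ← pow_add, Nat.pow_le_pow_iff_right (by norm_num)] at h1
  have := S.n3
  omega

theorem exinv (hz : D z) (hd : d ∈ Qf z) (h : d ∉ zpowers z) : ∃ u ∈ Qf z, u * u = 1 ∧ u ∉ C[d] := by
  obtain ⟨V, _, _, π, q, m⟩ := exCv (S.le hz)
  obtain ⟨x, hx, k⟩ := m.es.exists_not_comm hd h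
  obtain ⟨c, hc, h1, h2, h3⟩ := S.small hz hd hx
  have k : x ∉ C[d] := fun e => k (mem_cent1.1 e).symm
  by_cases j : x * x = 1
  · exact ⟨x, hx, j, k⟩
  refine ⟨x * c, mul_mem hx hc, ?_, mt (mul_mem_cancel_right h1).1 k⟩
  rw [← m.sq _ hx, ← Ne, ne0] at j
  rw [Ne, ← m.sq _ hc, ← Ne, ne0] at h3
  rw [← m.sq _ (mul_mem hx hc), m.add _ hx _ hc, qa, j, h3, (m.ct hx hc).2 h2]; rfl

theorem o2 (hu : u ∈ C[z]) (uu : u * u = 1) (h : ∀ g ∈ C[z], (u * (g * u * g⁻¹)) ^ 4 ∈ Qf z) : u ∈ Qf z := by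
  by_contra k
  obtain ⟨y, h3, h4, h5⟩ := H1.exists_odd_inverted (t := (⟨u, hu⟩ : C[z])) (Subtype.ext uu) fun e =>
    k (show u ∈ Oc {2} C[z] from pCore_map_eq Nat.prime_two C[z] ▸ mem_map_of_mem _ e)
  have := h y y.2
  rw [show u * (y * u * (y : G)⁻¹) = (u * y * u⁻¹) * (u * u) * (y : G)⁻¹ by group, uu,
    show u * y * u⁻¹ = (y : G)⁻¹ from congrArg Subtype.val h5, mul_one, ← pow_two, ← pow_mul, inv_pow, inv_mem_iff] at this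
  have j := PiN.e_eq_one ((Oc_pi _ _).elt this) (PiN.e_pow (PiN.of_not_dvd (by simpa using h4.not_two_dvd_nat)) 8)
  exact h3 (orderOf_eq_one_iff.1 ((h4.coprime_two_right.pow_right 3).eq_one_of_dvd
    (orderOf_dvd_of_pow_eq_one (x := y) (Subtype.ext j))))

end Sw

theorem Sw.pp (S : Sw D n) (h : Pp D X) : Pp D fun s => Qf s ⊓ C(X s) :=
  ⟨S.perp h.toFam, fun {s} k e => h.nt k fun x hx => ((S.es k).cent_cent (h.mem k) (h.le k)).le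
    ⟨hx, fun y hy => ((S.es k).zp_comm (e hy) hx).symm⟩,
    fun k e => h.nb k fun x hx => (S.es k).mem_zp.2 ((S.es k).ctr x (h.le k hx) fun y hy => (e hy).2 x hx)⟩

structure Nl (D : G → Prop) (n : ℕ) (z t : G) : Prop where
  S : Sw D n
  l : D z
  r : D t
  ne : t ≠ z
  c : t ∈ C[z]
  nl : ∀ x ∈ Qf z, x * t * x⁻¹ ≠ t * z
  nr : ∀ y ∈ Qf t, y * z * y⁻¹ ≠ z * t

theorem Sw.exNL (S : Sw D n) (hz : D z) (ht : D t) (hx : x ∈ Qf z) (c : t ∈ C[z])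
    (h1 : ⁅x, t⁆ ∉ zpowers z) (h2 : ⁅x, t⁆ * ⁅x, t⁆ = 1) : Nl D n t (x * t * x⁻¹) := by
  have tt := (S.es ht).zz
  have k : x * t * x⁻¹ * t = ⁅x, t⁆ := by rw [← cmt, mul_assoc, tt, mul_one]
  have m := cos (S.es (S.J x ht)).zz tt (k ▸ h2)
  have j : ¬ D ⁅x, t⁆ := fun e => h1 (S.wc z _ hz e (comm_mem_left (eqQ.norm c) hx) ▸ mem_zpowers z)
  exact ⟨S, ht, S.J x ht, fun e => h1 (by rw [← k, e, tt]; exact one_mem _), mem_cent1.2 m,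
    fun y _ e => j (k ▸ e ▸ S.J y (S.J x ht)), fun y _ e => j (k ▸ m ▸ e ▸ S.J y ht)⟩

namespace Nl
variable (h : Nl D n z t)
include h

theorem symm : Nl D n t z := ⟨h.S, h.r, h.l, h.ne.symm, mem_cent1_symm.1 h.c, h.nr, h.nl⟩
theorem el : ES (Qf z) z := h.S.es h.l
theorem er : ES (Qf t) t := h.S.es h.r
theorem tQ : t ∉ Qf z := fun k => h.ne (h.S.wc z t h.l h.r k)
theorem o1 (h1 : x = 1 ∨ x = z) (h2 : x ∈ Qf t) : x = 1 := h1.resolve_right fun k => h.symm.tQ (k ▸ h2)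
theorem II (hi : i ∈ Qf z) (hi' : i ∈ Qf t) : i * i = 1 := h.o1 (h.el.sq i hi) (mul_mem hi' hi')
theorem IA (hi : i ∈ Qf z) (hi' : i ∈ Qf t) (ha : a ∈ Qf z) (ha' : a ∈ C[t]) : a ∈ C[i] :=
  mem_cent1.2 (comm_eq_one.1 (h.o1 (h.el.comm a ha i hi) (comm_mem_right (eqQ.norm ha') hi')))
theorem cI (ha : a ∈ Qf z) (ha' : a ∈ C[t]) (hb : b ∈ Qf t) (hb' : b ∈ C[z]) : ⁅a, b⁆ ∈ Qf z ∧ ⁅a, b⁆ ∈ Qf t :=
  ⟨comm_mem_left (eqQ.norm hb') ha, comm_mem_right (eqQ.norm ha') hb⟩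

section
variable (m : Cv (Qf z) z π q)
include m

theorem cA (hx : x ∈ Qf z) : m.R t • π x = π x ↔ x ∈ C[t] :=
  ⟨fun k => ((m.fx h.c hx).1 k).elim (fun e => mem_cent1.2 (comm_eq_one.1 e)) fun e =>
    absurd (by rw [← cmt, e, mem_cent1.1 h.c]) (h.nl x hx), fun k => m.fx' h.c hx (mem_cent1_symm.1 k)⟩
theorem tt (v : V) : m.R t • m.R t • v = v := m.RR h.c (h.er.zz ▸ one_mem _) v
theorem ti : (m.R t)⁻¹ = m.R t := m.Ri h.c (h.er.zz ▸ one_mem _)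

theorem kk (hx : x ∈ Qf z) : ⁅x, t⁆ * ⁅x, t⁆ = 1 := by
  have k := mem_cent1.1 ((h.cA m (m.cQ h.c hx)).1 (by rw [m.cmm h.c hx, smul_add, h.tt m, add_comm]))
  have : ⁅x, t⁆ * t * (⁅x, t⁆ * t) = 1 := by rw [cmt, conj_mul, h.er.zz, mul_one, mul_inv_cancel]
  rwa [mul_assoc, ← mul_assoc t, ← k, mul_assoc _ t, h.er.zz, mul_one] at this

def J (_ : Nl D n z t) (π : G → V) (v : V) : Prop := ∃ i ∈ Qf z, i ∈ Qf t ∧ π i = v
def U (_ : Nl D n z t) (m : Cv (Qf z) z π q) (v : V) : Prop := ∀ w, m.R t • w = w → polar q v w = 0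

theorem Ja (h1 : h.J π v) (h2 : h.J π w) : h.J π (v + w) :=
  let ⟨x, a1, a2, a3⟩ := h1; let ⟨y, b1, b2, b3⟩ := h2
  ⟨x * y, mul_mem a1 b1, mul_mem a2 b2, by rw [m.add x a1 y b1, a3, b3]⟩
theorem JU (k : h.J π v) : h.U m v := fun w hw => by
  obtain ⟨i, a1, a2, rfl⟩ := k
  obtain ⟨x, hx, rfl⟩ := m.sur w
  exact (m.ct a1 hx).2 (h.IA a1 a2 hx ((h.cA m hx).1 hw))
theorem Ur (k : h.U m v) : ∃ w, w + m.R t • w = v :=
  m.range (Oext fun v => by rw [mul_smul, h.tt m, one_smul]) k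
theorem Ut (k : h.U m v) : m.R t • v = v ∧ q v = 0 := by
  obtain ⟨w, rfl⟩ := h.Ur m k
  obtain ⟨x, hx, rfl⟩ := m.sur w
  exact ⟨by rw [smul_add, h.tt m, add_comm], m.cmm h.c hx ▸ (m.sq _ (m.cQ h.c hx)).2 (h.kk m hx)⟩
theorem rU (v : V) : h.U m (v + m.R t • v) := fun w hw => by rw [bC, h.ti m, hw, aa, polar_zero_right]
theorem trA (hb : b ∈ Qf t) (hb' : b ∈ C[z]) (k : m.R t • v = v) : h.J π (v + m.R b • v) := by
  obtain ⟨x, hx, rfl⟩ := m.sur v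
  exact ⟨_, m.cQ hb' hx, (h.cI hx ((h.cA m hx).1 k) hb hb').2, m.cmm hb' hx⟩
theorem fxJ (hb : b ∈ Qf t) (hb' : b ∈ C[z]) (k : h.J π v) : m.R b • v = v := by
  obtain ⟨i, a1, a2, rfl⟩ := k
  exact m.fx' hb' a1 (h.symm.IA a2 a1 hb hb')
theorem pJ (hb : b ∈ Qf t) (hb' : b ∈ C[z]) (k : ∀ w, h.J π w → polar q v w = 0) : h.U m (v + m.R b • v) :=
  fun w hw => by rw [bC, ← m.R_inv hb']; exact k _ (h.trA m (inv_mem hb) (inv_mem hb') hw)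

theorem mvt (hx : x ∈ Qf z) (hi : i ∈ Qf z) (hi' : i ∈ Qf t) (i1 : i ≠ 1) (k : π x + m.R t • π x = π i) :
    x * t * x⁻¹ = i * t * z := by
  rw [← m.cmm h.c hx, m.eq (m.cQ h.c hx) hi] at k
  rw [← cmt, k.resolve_left fun e => i1 ?_, mul_assoc, mul_assoc, mem_cent1.1 h.c]
  exact mul_eq_right.1 (h.S.wc t _ h.r (e ▸ cmt t x ▸ h.S.J x h.r) (mul_mem hi' h.er.zQ))

theorem wall (hi : i ∈ Qf z) (hi' : i ∈ Qf t) (i1 : i ≠ 1) (k : v + m.R t • v = π i) (hj : j ∈ Qf z)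
    (hj' : j ∈ Qf t) (j1 : j ≠ 1) (ji : j ≠ i) : polar q v (π j) = 1 := by
  obtain ⟨x, hx, rfl⟩ := m.sur v
  obtain ⟨w, e⟩ := h.Ur m (h.JU m ⟨j, hj, hj', rfl⟩)
  obtain ⟨y, hy, rfl⟩ := m.sur w
  refine ne0.1 fun e1 => ji ?_
  have := h.S.wc t _ h.r (h.S.J (x * y) h.r)
  rw [ccj, h.mvt m hy hj hj' j1 e, ← conj_mul, ← conj_mul, h.mvt m hx hi hi' i1 k, m.gz (m.cz hx), (m.cm hx hj).1 e1,
    mul_inv_cancel_right, mul_assoc j, mul_assoc _ z, h.el.zz, mul_one, ← mul_assoc, mul_eq_right] at this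
  rw [eq_inv_of_mul_eq_one_left (this (mul_mem (mul_mem hj' hi') h.er.zQ)), inv_eq_of_mul_eq_one_right (h.II hi hi')]
end

theorem mv (hi : i ∈ Qf z) (hi' : i ∈ Qf t) (i1 : i ≠ 1) : ∃ x ∈ Qf z, x * t * x⁻¹ = i * t * z ∧ x * i * x⁻¹ = i ∧
    ∀ j ∈ Qf z, j ∈ Qf t → j ≠ 1 → j ≠ i → x * j * x⁻¹ = j * z := by
  obtain ⟨V, _, _, π, q, m⟩ := exCv (h.S.le h.l)
  obtain ⟨w, e⟩ := h.Ur m (h.JU m ⟨i, hi, hi', rfl⟩)
  obtain ⟨x, hx, rfl⟩ := m.sur w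
  exact ⟨x, hx, h.mvt m hx hi hi' i1 e, mul_inv_eq_iff_eq_mul.2 ((m.cm hx hi).1 (by
    rw [← e, bq, (h.Ut m (h.rU m _)).2])), fun j a b c d => h.el.conj_eq hx a (mt (m.cm hx a).2 (by
      simp [h.wall m hi hi' i1 e a b c d]))⟩

theorem c4 : #(Qf z ⊓ Qf t :) ≤ 4 := by
  by_cases e : Qf z ⊓ Qf t = ⊥
  · simp [e]
  obtain ⟨i, hi, i1⟩ := exists_ne_one e
  obtain ⟨x, hx, -, -, k⟩ := h.mv hi.1 hi.2 i1
  refine (cle (A := zpowers i) (K := C[x]) fun j hj => (mem_zpowers_inv (h.II hi.1 hi.2)).2 ?_).trans ?_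
  · by_contra! e
    have := k j hj.1.1 hj.1.2 e.1 e.2
    rw [← mem_cent1.1 hj.2, mul_inv_cancel_right, left_eq_mul] at this
    exact h.el.z1 this
  · rw [Nat.card_zpowers, orderOf_inv2 i1 (h.II hi.1 hi.2)]
    exact Nat.mul_le_mul_left 2 (h.S.ixQ h.l hx inf_le_left)

theorem t2 (ha : a ∈ Qf t) (ha' : a ∈ C[z]) (hb : b ∈ Qf t) (hb' : b ∈ C[z]) (e : ⁅a, b⁆ = t) : NL.T2 z t := by
  obtain ⟨V, _, _, π, q, m⟩ := exCv (h.S.le h.l)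
  have k : ∀ v, (∀ w, h.J π w → polar q v w = 0) → v + m.R t • v =
      (v + m.R b • v + m.R a • (v + m.R b • v)) + (v + m.R a • v + m.R b • (v + m.R a • v)) := fun v hv => by
    have k1 : m.R t • m.R b • m.R a • v = m.R a • m.R b • v := by
      rw [← mul_smul, ← mul_smul, ← mul_smul, ← m.R_mul h.c hb', ← m.R_mul (mul_mem h.c hb') ha', ← m.R_mul ha' hb', ← e,
        commutatorElement_def]
      congr 2; group
    have k2 := (h.Ut m (h.pJ m hb hb' hv)).1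
    have k3 := (h.Ut m (h.pJ m ha ha' hv)).1
    have k4 := (h.Ut m (h.JU m (h.trA m hb hb' k3))).1
    simp only [smul_add] at k2 k3 k4 ⊢
    linear_combination (norm := hsix) (1 : ZMod 2) • k1 + k2 + k3 + k4
  have k' : ∀ v, (∀ w, h.J π w → polar q v w = 0) → h.J π (v + m.R t • v) := fun v hv => k v hv ▸ h.Ja m
    (h.trA m ha ha' (h.Ut m (h.pJ m hb hb' hv)).1) (h.trA m hb hb' (h.Ut m (h.pJ m ha ha' hv)).1)
  have k1 : ∃ i ∈ Qf z ⊓ Qf t, ∃ j ∈ Qf z ⊓ Qf t, i ≠ 1 ∧ j ≠ 1 ∧ i ≠ j := by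
    by_contra! e
    obtain ⟨i, hi, k1⟩ : ∃ i ∈ Qf z ⊓ Qf t, ∀ j ∈ Qf z ⊓ Qf t, j = 1 ∨ j = i := by
      by_cases k : ∃ i ∈ Qf z ⊓ Qf t, i ≠ 1
      · exact k.imp fun i k => ⟨k.1, fun j hj => or_iff_not_imp_left.2 fun j1 => e j hj i k.1 j1 k.2⟩
      · exact ⟨1, one_mem _, fun j hj => .inl (by_contra fun j1 => k ⟨j, hj, j1⟩)⟩
    have k2 : ∀ v, polar q (π i) v = 0 → ∀ w, h.J π w → polar q v w = 0 := by
      rintro v hv _ ⟨j, a, b, rfl⟩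
      rcases k1 j ⟨a, b⟩ with rfl | rfl
      exacts [by rw [m.one, polar_zero_right], polar_comm q _ v ▸ hv]
    have k3 : ∀ c ∈ Qf t, c ∈ C[z] → ∀ v, polar q (π i) v = 0 → h.J π (v + m.R c • v) := fun c hc hc' v hv => by
      by_cases j : m.R t • v = v
      · exact h.trA m hc hc' j
      have u := h.pJ m hc hc' (k2 v hv)
      obtain ⟨w, e⟩ := h.Ur m u
      obtain ⟨j, a, b, l⟩ := k' v (k2 v hv)
      obtain rfl := (k1 j ⟨a, b⟩).resolve_left fun e => ‹¬ _› (add0.1 (by rw [← l, e, m.one])).symm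
      exact e ▸ k' w (k2 w (by rw [l, bC, h.ti m, e, bq, (h.Ut m u).2]))
    refine h.tQ ((m.R_one h.c).1 (m.triv ((m.sq i hi.1).2 (h.II hi.1 hi.2)) fun v hv => (add0.1 ?_).symm))
    rw [k v (k2 v hv), h.fxJ m ha ha' (k3 b hb hb' v hv), h.fxJ m hb hb' (k3 a ha ha' v hv), aa, aa, aa]
  refine ⟨k1, fun x hx c => (h.cA m hx).1 (add0.1 ?_).symm⟩
  have c' : ∀ j ∈ Qf z ⊓ Qf t, polar q (π x) (π j) = 0 := fun j hj => (m.cm hx hj.1).2 (c j hj).symm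
  obtain ⟨i, a, b, l⟩ := k' (π x) (by rintro _ ⟨j, a, b, rfl⟩; exact c' j ⟨a, b⟩)
  obtain ⟨j, hj, j', hj', j1, j2, j3⟩ := k1
  by_contra e
  have i1 : i ≠ 1 := fun i1 => e (by rw [← l, i1, m.one])
  by_cases ji : j = i
  · simpa [c' j' hj'] using h.wall m a b i1 l.symm hj'.1 hj'.2 j2 (ji ▸ j3.symm)
  · simpa [c' j hj] using h.wall m a b i1 l.symm hj.1 hj.2 j1 ji

theorem zA (k : ∀ x ∈ Qf z, x ∈ C(Qf z ⊓ Qf t) → x ∈ C[t]) (hc : c ∈ Qf z) (hc' : c ∈ C(Qf z ⊓ C[t])) :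
    c ∈ Qf z ⊓ Qf t ⊔ zpowers z :=
  (h.el.cent_cent (mem_sup_right (mem_zpowers z)) (sup_le inf_le_left h.el.zp_le)).le
    ⟨hc, fun x hx => hc' x ⟨hx.1, k x hx.1 (cent_mono le_sup_left hx.2)⟩⟩

theorem nab (k : ∀ x ∈ Qf z, x ∈ C(Qf z ⊓ Qf t) → x ∈ C[t]) :
    ∃ a ∈ Qf z ⊓ C[t], ∃ b ∈ Qf z ⊓ C[t], ⁅a, b⁆ = z := by
  by_contra! e
  have l := sup_le (inf_le_left (b := Qf t)) h.el.zp_le
  have k1 := h.S.cc h.l (mem_sup_right (mem_zpowers z)) l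
  have k2 : #(Qf z ⊓ Qf t ⊔ zpowers z :) ≤ 8 := (Nat.le_of_dvd (Nat.mul_pos (card_pos _) (card_pos _)) (card_sup_dvd
    (zn h.el inf_le_left))).trans (by rw [h.el.card_zp]; have := h.c4; omega)
  have k3 := (card_le (H := Qf z ⊓ C(Qf z ⊓ Qf t ⊔ zpowers z)) (K := Qf z ⊓ Qf t ⊔ zpowers z) fun x hx =>
    h.zA k hx.1 fun y hy => comm_eq_one.1 ((h.el.comm y hy.1 x hx.1).resolve_right (e y hy x
      ⟨hx.1, k x hx.1 (cent_mono (K := Qf z ⊓ Qf t ⊔ zpowers z) le_sup_left hx.2)⟩))).trans k2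
  have k4 := Nat.pow_le_pow_right (show 0 < 2 by norm_num) (show 4 ≤ n + 1 by have := h.S.n3; omega)
  have := k1.ge.trans (Nat.mul_le_mul k2 k3)
  nlinarith

theorem ab (h1 : ∀ a ∈ Qf z ⊓ C[t], ∀ b ∈ Qf z ⊓ C[t], ⁅a, b⁆ ≠ z) :
    Qf z ⊓ C(Qf z ⊓ C[t]) = Qf z ⊓ C[t] ∧ #(Qf z ⊓ C[t] :) = 2 ^ (n + 1) := by
  obtain ⟨V, _, _, π, q, m⟩ := exCv (h.S.le h.l)
  have : Qf z ⊓ C(Qf z ⊓ C[t]) = Qf z ⊓ C[t] := le_antisymm (fun c hc => ⟨hc.1, (h.cA m hc.1).1 (h.Ut m fun w hw => by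
    obtain ⟨x, hx, rfl⟩ := m.sur w
    exact (m.cm hc.1 hx).2 (hc.2 x ⟨hx, (h.cA m hx).1 hw⟩).symm).1⟩) fun a ha => ⟨ha.1, fun b hb =>
      comm_eq_one.1 ((h.el.comm b hb.1 a ha.1).resolve_right (h1 b hb a ha))⟩
  exact ⟨this, Nat.mul_self_inj.1 (by simpa only [this] using h.S.cc h.l (A := Qf z ⊓ C[t]) ⟨h.el.zQ, h.symm.c⟩ inf_le_left)⟩

theorem exx (h1 : ∀ a ∈ Qf z ⊓ C[t], ∀ b ∈ Qf z ⊓ C[t], ⁅a, b⁆ ≠ z) : ∃ x ∈ Qf z, x ∈ C(Qf z ⊓ Qf t) ∧ x ∉ C[t] := by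
  by_contra! e
  obtain ⟨a, ha, b, hb, e⟩ := h.nab e
  exact h1 a ha b hb e

theorem inc (h1 : ∀ a ∈ Qf z ⊓ C[t], ∀ b ∈ Qf z ⊓ C[t], ⁅a, b⁆ ≠ z) (h2 : ∀ a ∈ Qf t ⊓ C[z], ∀ b ∈ Qf t ⊓ C[z], ⁅a, b⁆ ≠ t)
    (hx : x ∈ Qf z) (c : x ∈ C(Qf z ⊓ Qf t)) (c' : x ∉ C[t]) :
    Nl D n t (x * t * x⁻¹) ∧ #(Qf z ⊓ Qf t :) < #(Qf t ⊓ Qf (x * t * x⁻¹) :) := by
  obtain ⟨V, _, _, π, q, m⟩ := exCv (h.S.le h.l)
  have cx : ∀ i ∈ Qf z ⊓ Qf t, x * i * x⁻¹ = i := fun i hi => mul_inv_eq_iff_eq_mul.2 (c i hi).symm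
  refine ⟨h.S.exNL h.l h.r hx h.c (fun e => c' ((h.cA m hx).1 ((m.fx h.c hx).2 (h.el.mem_zp.1 e)))) (h.kk m hx),
    card_lt (lt_of_le_not_ge (fun i hi => ⟨hi.2, cx i hi ▸ (eqQ.iff x).2 hi.2⟩) fun e => ?_)⟩
  have k1 := (rle (B := Qf t ⊓ C[z]) (M := Qf z ⊓ C[t] ⊓ C[x]) (P := Qf z ⊓ Qf t) (K := Qf z ⊓ Qf t) (⁅x, ·⁆)
    (fun b hb => ?_) fun a ha b hb j => ?_).1
  · have k2 := card_mul_relIndex (show Qf z ⊓ Qf t ≤ Qf t ⊓ C[z] from fun i hi => ⟨hi.2, m.cz hi.1⟩)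
    have k3 := card_mul_relIndex (show Qf z ⊓ Qf t ≤ Qf z ⊓ C[t] ⊓ C[x] from fun i hi =>
      ⟨⟨hi.1, h.er.le_cent hi.2⟩, mem_cent1.2 (c i hi)⟩)
    have k4 := card_lt (lt_of_le_not_ge (inf_le_left : Qf z ⊓ C[t] ⊓ C[x] ≤ _) fun e => c' ((h.ab h1).1.le
      ⟨hx, fun a ha => mem_cent1.1 (e ha).2⟩).2)
    rw [(h.ab h1).2, ← (h.symm.ab h2).2, ← k2, ← k3] at k4
    exact absurd (Nat.mul_le_mul_left _ k1) k4.not_ge
  · have u := h.Ut m (h.pJ m hb.1 hb.2 (v := π x) (by rintro _ ⟨j, a, b, rfl⟩; exact (m.cm hx a).2 (c j ⟨a, b⟩).symm))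
    have j := m.cQ hb.2 hx
    exact ⟨⟨j, (h.cA m j).1 (m.cmm hb.2 hx ▸ u.1)⟩, (m.ct hx j).1 (by rw [m.cmm hb.2 hx, bq, u.2])⟩
  · have i : x * (a⁻¹ * b) * x⁻¹ ∈ Qf t := by
      simpa [commutatorElement_def, mul_assoc] using mul_mem (mul_mem ((Qf t).inv_mem ha.1) j.2) hb.1
    have i' := e ⟨i, (eqQ.iff x).2 (mul_mem ((Qf t).inv_mem ha.1) hb.1)⟩
    have := cx _ i'
    rw [mul_left_inj, mul_right_inj] at this
    exact this ▸ i'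

end Nl

/-- pairs of type two -/
def TT (D : G → Prop) (n : ℕ) (z t : G) : Prop := Nl D n z t ∧ ∃ a ∈ Qf t ⊓ C[z], ∃ b ∈ Qf t ⊓ C[z], ⁅a, b⁆ = t

theorem TT.t2 (h : TT D n z t) : NL.T2 z t := let ⟨h, _, a, _, b, e⟩ := h; h.t2 a.1 a.2 b.1 b.2 e
theorem TT.symm (h : TT D n z t) : TT D n t z := ⟨h.1.symm, h.1.nab h.t2.2⟩
theorem Nl.nt (h : Nl D n z t) (k : ¬ TT D n z t) : ∀ a ∈ Qf t ⊓ C[z], ∀ b ∈ Qf t ⊓ C[z], ⁅a, b⁆ ≠ t :=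
  fun a ha b hb e => k ⟨h, a, ha, b, hb, e⟩

namespace Nl
variable (h : Nl D n z t)
include h

theorem ex2 : ∃ z t, TT D n z t := by
  have : Nonempty {p : G × G // Nl D n p.1 p.2} := ⟨⟨(z, t), h⟩⟩
  obtain ⟨⟨⟨z, t⟩, h⟩, k⟩ := Finite.exists_max fun p : {p : G × G // Nl D n p.1 p.2} => #(Qf p.1.1 ⊓ Qf p.1.2 :)
  refine ⟨z, t, by_contra fun e => ?_⟩
  have h1 := h.symm.nt (mt TT.symm e)
  obtain ⟨x, hx, c, c'⟩ := h.exx h1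
  obtain ⟨h1, h2⟩ := h.inc h1 (h.nt e) hx c c'
  exact h2.not_ge (k ⟨(t, _), h1⟩)

theorem zA' (k : NL.T2 z t) (hc : c ∈ Qf z) (hc' : c ∈ C(Qf z ⊓ C[t])) : ∃ i ∈ Qf z ⊓ Qf t, c = i ∨ c = i * z := by
  obtain ⟨i, hi, d, hd, rfl⟩ := (mem_sup_of_norm (zn h.el inf_le_left)).1
    (h.zA k.2 hc hc')
  exact ⟨i, hi, (h.el.mem_zp.1 hd).imp (fun e => by rw [e, mul_one]) fun e => by rw [e]⟩

theorem UJ (m : Cv (Qf z) z π q) (k : NL.T2 z t) (u : h.U m v) : h.J π v := by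
  obtain ⟨x, hx, rfl⟩ := m.sur v
  obtain ⟨i, hi, e⟩ := h.zA' k hx fun a ha => ((m.cm hx ha.1).1 (u _ ((h.cA m ha.1).2 ha.2))).symm
  exact ⟨i, hi.1, hi.2, ((m.eq hx hi.1).2 e).symm⟩

theorem iv (k : NL.T2 z t) (hx : x ∈ C[z]) (hx' : x ∈ C(Qf z ⊓ C[t])) : x ∈ Qf z ∨ t⁻¹ * x ∈ Qf z := by
  obtain ⟨V, _, _, π, q, m⟩ := exCv (h.S.le h.l)
  have j : ∀ v, m.R x • v = v ∨ m.R x • v = m.R t • v := fun v => by
    have u : h.U m (v + m.R x • v) := fun w hw => by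
      obtain ⟨a, ha, rfl⟩ := m.sur w
      rw [bC, ← m.R_inv hx, m.fx' (inv_mem hx) ha (inv_mem (cc1 hx' ⟨ha, (h.cA m ha).1 hw⟩)), aa,
        polar_zero_right]
    obtain ⟨j, j1, j2, e⟩ := h.UJ m k u
    obtain ⟨i, i1, i2, e'⟩ := h.UJ m k (h.rU m v)
    by_cases a : i = 1
    · obtain ⟨y, hy, rfl⟩ := m.sur v
      exact .inl (m.fx' hx hy (cc1 hx' ⟨hy, (h.cA m hy).1 (add0.1 (by rw [← e', a, m.one])).symm⟩))
    by_cases b : j = 1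
    · exact .inl (add0.1 (by rw [← e, b, m.one])).symm
    refine .inr (add_left_cancel (a := v) (by_contra fun c => ?_))
    have := h.wall m i1 i2 a e'.symm j1 j2 b fun l => c (by rw [← e, l, e'])
    rw [e, bq, (h.Ut m u).2] at this
    exact zero_ne_one this
  rw [← m.R_one hx, ← m.R_iff h.c hx]
  by_contra! e
  obtain ⟨v, hv⟩ := not_forall.1 (mt Oext e.1)
  obtain ⟨w, hw⟩ := not_forall.1 (mt Oext e.2.symm)
  have h1 := (j v).resolve_left hv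
  have h2 := (j w).resolve_right hw
  rcases j (v + w) with i | i <;> simp only [smul_add, h2, add_left_inj] at i
  · exact hv i
  · rw [h1, add_right_inj] at i; exact hw (h2.trans i)

theorem inX (k : NL.T2 z t) (k' : NL.T2 t z) (F : Pp D X) : Qf z ⊓ Qf t ≤ X z := by
  obtain ⟨V, _, _, π, q, m⟩ := exCv (h.S.le h.l)
  obtain ⟨i, hi, i0, iX⟩ : ∃ i ∈ Qf z ⊓ Qf t, i ≠ 1 ∧ i ∈ X z := by
    obtain ⟨x, hx, x0⟩ := SetLike.not_le_iff_exists.1 (F.nb h.l)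
    have hQ := F.le h.l hx
    have j : ∀ c ∈ X z, c ∉ zpowers z → h.J π (π c) → ∃ i ∈ Qf z ⊓ Qf t, i ≠ 1 ∧ i ∈ X z :=
      fun c hc c0 ⟨i, i1, i2, e⟩ => by
        have := (m.eq i1 (F.le h.l hc)).1 e
        refine ⟨i, ⟨i1, i2⟩, fun i0 => c0 (h.el.mem_zp.2 ((m.ker c (F.le h.l hc)).1 (by rw [← e, i0, m.one]))), ?_⟩
        rcases this with rfl | rfl
        exacts [hc, mul_mem hc (F.mem h.l)]
    by_cases c : x ∈ C[t]
    swap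
    · exact j _ (comm_mem_left (F.eqv.norm h.c) hx) (fun e => c ((h.cA m hQ).1 ((m.fx h.c hQ).2 (h.el.mem_zp.1 e))))
        (m.cmm h.c hQ ▸ h.UJ m k (h.rU m _))
    by_cases c' : x ∈ C(Qf t ⊓ C[z])
    · rcases h.symm.iv k' c c' with e | e
      · exact j x hx x0 ⟨x, hQ, e, rfl⟩
      · exact j x hx x0 ⟨_, mul_mem (inv_mem h.el.zQ) hQ, e, by rw [m.add _ (inv_mem h.el.zQ) _ hQ, h.el.zinv, m.pz, zero_add]⟩
    simp only [mem_cent, not_forall] at c'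
    obtain ⟨b, hb, e⟩ := c'
    exact ⟨_, h.cI hQ c hb.1 hb.2, fun l => e (comm_eq_one.1 l).symm, comm_mem_left (F.eqv.norm hb.2) hx⟩
  intro j hj
  by_contra e
  have j0 : j ≠ 1 := fun l => e (l ▸ one_mem _)
  have ij : i ≠ j := fun l => e (l ▸ iX)
  have s1 := h.II hi.1 hi.2
  have s2 := h.II hj.1 hj.2
  obtain ⟨b, b0, b1, -, b3⟩ := h.mv (mul_mem hi.1 hj.1) (mul_mem hi.2 hj.2) fun l =>
    ij ((eq_inv_of_mul_eq_one_left l).trans (inv_eq_of_mul_eq_one_right s2))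
  obtain ⟨c, c0, c1, c2, -⟩ := h.symm.mv hi.2 hi.1 i0
  obtain ⟨d, d0, d1, d2, d3⟩ := h.symm.mv hj.2 hj.1 j0
  replace b3 := b3 i hi.1 hi.2 i0 (by simpa using j0)
  replace d3 := d3 i hi.2 hi.1 i0 ij
  have b4 := m.gz (m.cz b0)
  have d4 := mul_inv_eq_iff_eq_mul.2 (h.er.cent d d0)
  have m1 : Commute j i := mem_cent1.1 (h.IA hi.1 hi.2 hj.1 (h.er.le_cent hj.2))
  have m2 : Commute t i := (h.er.cent i hi.2).symm
  have m3 : Commute z i := (h.el.cent i hi.1).symm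
  have m4 : Commute t j := (h.er.cent j hj.2).symm
  have m5 : Commute z j := (h.el.cent j hj.1).symm
  have m6 : Commute z t := (mem_cent1.1 h.c).symm
  have s : ∀ x : G, x * x = 1 → ∀ y, x * (x * y) = y := fun x k y => by rw [← mul_assoc, k, one_mul]
  have f : d * b * c * z * (d * b * c)⁻¹ = z ∧ d * b * c * i * (d * b * c)⁻¹ = i * j * z := by
    simp only [ccj, ← conj_mul, b1, b3, b4, c1, c2, d1, d2, d3, d4]
    simp only [mul_assoc, m4.eq, m6.eq, m2.left_comm, m4.left_comm, m5.left_comm,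
      m6.left_comm, h.er.zz, h.el.zz, s i s1, s j s2, s t h.er.zz, mul_one, and_self]
  have := f.2 ▸ F.eqv.nc (mem_cent1.2 (mul_inv_eq_iff_eq_mul.1 f.1)) iX
  exact e ((mul_mem_cancel_left iX).1 ((mul_mem_cancel_right (F.mem h.l)).1 this))

theorem fin (F : Pp D X) : False := by
  obtain ⟨z, t, T⟩ := h.ex2
  obtain ⟨h, k, k'⟩ := And.intro T.1 (And.intro T.t2 T.symm.t2)
  obtain ⟨V, _, _, π, q, m⟩ := exCv (h.S.le h.l)
  have k1 : ∀ g ∈ C[z], (∀ x ∈ X z, m.R (g * t * g⁻¹) • π x = π x) ∧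
      ∀ v, ∃ x ∈ X z, m.R (g * t * g⁻¹) • v = v + π x := fun g hg => by
    simp only [m.R_cj hg h.c, mul_smul]
    refine ⟨fun x hx => ?_, fun v => ?_⟩
    · have := F.eqv.nc (inv_mem hg) hx
      rw [← m.R_inv hg, ← m.cj (inv_mem hg) (F.le h.l hx), (h.cA m (F.le h.l this)).2 (k.2 _ (F.le h.l this)
        fun i hi => ((h.inX k k' (h.S.pp F) hi).2 _ this).symm), m.cj (inv_mem hg) (F.le h.l hx), m.R_inv hg, smul_inv_smul]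
    · obtain ⟨i, i1, i2, e⟩ := h.UJ m k (h.rU m ((m.R g)⁻¹ • v))
      exact ⟨_, F.eqv.nc hg (h.inX k k' F ⟨i1, i2⟩), by rw [m.cj hg i1, e, smul_add, smul_inv_smul, aab]⟩
  refine h.tQ (h.S.o2 h.c h.er.zz fun g hg => ?_)
  have c := mul_mem (mul_mem hg h.c) (inv_mem hg)
  rw [show 4 = 2 * 2 from rfl, pow_mul]
  refine pow_mem ((m.R_one (pow_mem (mul_mem h.c c) 2)).1 (Oext fun v => ?_)) 2
  have k3 : ∀ v, m.R t • m.R (g * t * g⁻¹) • v = m.R (g * t * g⁻¹) • m.R t • v := fun v => by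
    have k2 := k1 1 (one_mem _)
    rw [one_mul, inv_one, mul_one] at k2
    obtain ⟨x, hx, e⟩ := k2.2 v
    obtain ⟨y, hy, e'⟩ := (k1 g hg).2 v
    rw [e, e', smul_add, smul_add, e, e', k2.1 y hy, (k1 g hg).1 x hx, add_right_comm]
  rw [pow_two, m.R_mul (mul_mem h.c c) (mul_mem h.c c), m.R_mul h.c c, mul_smul, mul_smul, mul_smul, ← k3, h.tt m,
    m.RR c (by rw [conj_mul, h.er.zz]; simp [one_mem]), one_smul]

end Nl

theorem Sw.exNl (S : Sw D n) (hz : D z) (ht : D t) (c : t ∈ C[z]) (ne : t ≠ z) : ∃ z t, Nl D n z t := by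
  by_contra! F
  have k : ∀ {z t}, D z → D t → t ∈ C[z] → ∀ x ∈ Qf z, ⁅x, t⁆ ∉ zpowers z → ⁅x, t⁆ * ⁅x, t⁆ ≠ 1 :=
    fun hz ht c x hx h1 h2 => F _ _ (S.exNL hz ht hx c h1 h2)
  have c' := mem_cent1_symm.1 c
  have tQ : t ∉ Qf z := fun e => ne (S.wc z t hz ht e)
  have zQ : z ∉ Qf t := fun e => ne (S.wc t z ht hz e).symm
  obtain ⟨a, ha, b, hb, e⟩ : ∃ a ∈ Qf t ⊓ C[z], ∃ b ∈ Qf t ⊓ C[z], ⁅a, b⁆ = t := by
    by_contra! e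
    obtain ⟨V, _, _, π, q, m⟩ := exCv (S.le ht)
    obtain ⟨y, hy, -, -, j⟩ := m.tv c' (S.es hz).zz zQ (k ht hz c')
    have k1 := S.cc ht (A := Qf t ⊓ C[z]) ⟨m.es.zQ, c⟩ inf_le_left
    have k2 := card_le (show Qf t ⊓ C[z] ≤ Qf t ⊓ C(Qf t ⊓ C[z]) from fun a ha => ⟨ha.1, fun b hb =>
      comm_eq_one.1 ((m.es.comm b hb.1 a ha.1).resolve_right (e b hb a ha))⟩)
    have k3 := (cle (K := C[⁅y, z⁆]) le_rfl).trans (Nat.mul_le_mul ((cle (A := Qf t ⊓ C[z]) (K := C[z])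
      (inf_le_inf_right _ inf_le_left)).trans (Nat.mul_le_mul_left _ (ix2' j))) (S.ixQ ht (m.cQ c' hy) le_rfl))
    have k4 := Nat.mul_self_le_mul_self_iff.1 ((Nat.mul_le_mul_left _ k2).trans k1.le)
    have k5 := Nat.pow_le_pow_right (show 0 < 2 by norm_num) (show n + 1 + 3 ≤ 2 * n + 1 by have := S.n3; omega)
    rw [S.card ht] at k3
    rw [pow_add _ (n + 1)] at k5
    have := Nat.two_pow_pos (n + 1)
    omega
  obtain ⟨V, _, _, π, q, m⟩ := exCv (S.le hz)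
  obtain ⟨y, hy, j1, j2, j3⟩ := m.tv c (S.es ht).zz tQ (k hz ht c)
  have yQ := m.cQ c hy
  have ti := m.Ri c ((S.es ht).zz ▸ one_mem _)
  have j4 : ∀ x ∈ Qf z, m.R t • π x = π x → x ∈ C[t] ∨ x * ⁅y, t⁆ ∈ C[t] := fun x hx e =>
    or_iff_not_imp_left.2 fun i => xi2 (ix2' j3) ⟨hx, (m.ct yQ hx).1 (by
      rw [m.cmm c hy, bC, ti, e, aa, polar_zero_right])⟩ ⟨yQ, mem_cent1_self _⟩ i j1
  have o1 : ∀ x, (x = 1 ∨ x = z) → x ∈ Qf t → x = 1 := fun x h1 h2 => h1.resolve_right fun k => zQ (k ▸ h2)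
  have I1 : ∀ i ∈ Qf z, i ∈ Qf t → i = 1 := fun i hi hi' => by
    have l : ∀ a ∈ Qf z, a ∈ C[t] → polar q (π i) (π a) = 0 := fun a ha ha' => (m.cm hi ha).2
      (comm_eq_one.1 (o1 _ (m.es.comm i hi a ha) (comm_mem_left (eqQ.norm ha') hi')))
    obtain ⟨w, e⟩ := m.range (v := π i) (r := m.R t) (by nth_rw 1 [← ti]; exact inv_mul_cancel _) fun w hw => by
      obtain ⟨x, hx, rfl⟩ := m.sur w
      refine (j4 x hx hw).elim (l x hx) fun e => ?_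
      have := l _ (mul_mem hx yQ) e
      rwa [m.add _ hx _ yQ, polar_add_right, m.cmm c hy, polar_comm q _ (_ + _), bC, ti,
        m.fx' c hi (mem_cent1_symm.1 ((S.es ht).le_cent hi')), aa, polar_zero_right, add_zero] at this
    refine o1 i ((m.ker i hi).1 (by_contra fun l => ?_)) hi'
    have := (j2 w (e ▸ l)).2
    rw [e, (m.sq i hi).2 (o1 _ (m.es.sq i hi) (mul_mem hi' hi'))] at this
    exact zero_ne_one this
  have fb : ∀ b ∈ Qf t ⊓ C[z], ∀ x ∈ Qf z, ⁅t, x⁆ ∈ zpowers z → ⁅b, x⁆ ∈ zpowers z := fun b hb x hx e => by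
    have l : ∀ a ∈ Qf z, a ∈ C[t] → m.R b • π a = π a := fun a ha ha' =>
      (m.fx hb.2 ha).2 (.inl (I1 _ (m.cQ hb.2 ha) (comm_mem_right (eqQ.norm ha') hb.1)))
    rw [← commutatorElement_inv, inv_mem_iff, m.es.mem_zp] at e ⊢
    rw [← m.fx hb.2 hx]
    refine (j4 x hx ((m.fx c hx).2 e)).elim (l x hx) fun e => ?_
    have := l _ (mul_mem hx yQ) e
    have i : m.R b • π ⁅y, t⁆ = m.R b • π y + m.R t • m.R b • π y := by
      rw [m.cmm c hy, smul_add, ← mul_smul, ← mul_smul, ← m.R_mul hb.2 c, (S.es ht).cent b hb.1, m.R_mul c hb.2]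
    rwa [m.add _ hx _ yQ, smul_add, i, (j2 _ fun e => j1 ?_).1, add_left_inj] at this
    rw [← i, smul_eq_zero_iff_eq, m.ker _ yQ] at e
    rcases e with e | e <;> rw [e]
    exacts [one_mem _, c']
  exact tQ ((S.le hz).mem_of_triv c (e ▸ m.es.quad (eqQ.norm c) ((S.es ht).zz ▸ one_mem _) (eqQ.norm ha.2)
    (eqQ.norm hb.2) (fb a ha) (fb b hb)))

theorem Sw.QL (S : Sw D n) (hz : D z) (ht : D t) (c : t ∈ C[z]) (ne : t ≠ z) {L : Subgroup G} [N : L.Normal]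
    (zL : z ∈ L) : Qf z ≤ L := by
  obtain ⟨_, _, h⟩ := S.exNl hz ht c ne
  have E : Eqv fun s => Qf s ⊓ L := eqQ.inf fun g _ => mem_norm_iff_cj.1 (normalizer_eq_top L ▸ mem_top g)
  have DL : ∀ {s}, D s → s ∈ L := fun k => let ⟨g, e⟩ := S.cj hz k; e ▸ N.conj_mem z zL g
  refine by_contra fun k => h.fin ⟨⟨E, fun k => ⟨(S.es k).zQ, DL k⟩, fun _ => inf_le_left⟩, fun hs e => ?_, fun hs e => k ?_⟩
  · obtain ⟨g, rfl⟩ := S.cj hz hs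
    have c' : g * t * g⁻¹ ∈ C[g * z * g⁻¹] := cj_cent1 g z ▸ conj_mem_cj.2 c
    exact ne (by simpa using S.wc _ _ hs (S.J g ht) ((S.le hs).mem_of_triv c' fun x hx => e
      ⟨comm_mem_right (eqQ.norm c') hx, comm_mem_left (normalizer_eq_top L ▸ mem_top x) (DL (S.J g ht))⟩))
  · obtain ⟨g, rfl⟩ := S.cj hz hs
    exact fun x hx => ((E.iff g).1 (e ((eqQ.iff g).2 hx))).2

end H6.AS
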